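import Groth.Agent.FlatCx12.Tensor
import Mathlib.RingTheory.Flat.Stability

/-!
# Base change consequences
-/

universe u

set_option backward.isDefEq.respectTransparency false

namespace Groth.Agent.FlatCx12

open TensorProduct Function CategoryTheory Groth.Agent.FlatCxLib

section Lin

variable {A B : Type u} [CommRing A] [CommRing B] [Algebra A B] {Pq Pp Pr : Type u} [AddCommGroup Pq]
  [AddCommGroup Pp] [AddCommGroup Pr] [Module A Pq] [Module A Pp] [Module A Pr]
  {f : Pq →ₗ[A] Pp} {g : Pp →ₗ[A] Pr}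

variable (B) in
theorem flat_coker_baseChange_iff (g : Pp →ₗ[A] Pr) :
    Module.Flat B ((B ⊗[A] Pr) ⧸ LinearMap.range (g.baseChange B)) ↔
      Module.Flat B (B ⊗[A] (Pr ⧸ LinearMap.range g)) := by
  let π := (LinearMap.range g).mkQ.baseChange B
  have hex : Exact (g.baseChange B) π :=
    lTensor_exact B (LinearMap.exact_map_mkQ_range g) (Submodule.mkQ_surjective _)
  exact Module.Flat.equiv_iff ((Submodule.quotEquivOfEq _ _ (LinearMap.exact_iff.mp hex).symm).trans
    (π.quotKerEquivOfSurjective (LinearMap.lTensor_surjective B (Submodule.mkQ_surjective _))))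

theorem flat_baseChange_coker_step [Module.Flat A B] [Module.Flat A Pr] (hfg : g ∘ₗ f = 0)
    (h₀ : Module.Flat B (B ⊗[A] (Pr ⧸ LinearMap.range g)))
    (hH : Module.Flat B (B ⊗[A] homologyQuot f g)) :
    Module.Flat B (B ⊗[A] (Pp ⧸ LinearMap.range f)) := by
  rw [← flat_coker_baseChange_iff] at h₀ ⊢
  have hfg' : g.baseChange B ∘ₗ f.baseChange B = 0 := by
    rw [← LinearMap.baseChange_comp, hfg, LinearMap.baseChange_zero]
  rw [flat_coker_iff_flat_homology hfg']
  obtain ⟨e⟩ := nonempty_homologyQuotEquiv_of_flat hfg B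
  exact Module.Flat.of_linearEquiv e

end Lin

variable {A : Type u} [CommRing A] {P : ChainComplex (ModuleCat.{u} A) ℤ}

theorem dRank_eq_fibreRank (hP : ∀ i, Module.Flat A (P.X i)) (q p r : ℤ) (hqp : p + 1 = q)
    (hpr : r + 1 = p) [Module.Flat A (P.X r ⧸ LinearMap.range (P.d p r).hom)] (x : PrimeSpectrum A) :
    CohIII.dRank P p x = fibreRank (homologyQuot (P.d q p).hom (P.d p r).hom) x := by
  have := hP r
  rw [CohIII.dRank, finrank_bc_homology P q p r hqp hpr, fibreRank]
  obtain ⟨e⟩ := nonempty_homologyQuotEquiv_of_flat_coker (d_comp_d_hom P q p r) x.asIdeal.ResidueField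
  exact e.finrank_eq

theorem flat_baseChange_coker_upTo (hP : ∀ i, Module.Flat A (P.X i)) (i₀ : ℤ)
    (hb : ∀ i < i₀, Limits.IsZero (P.X i)) (B : Type u) [CommRing B] [Algebra A B] [Module.Flat A B]
    (N : ℤ) (hH : ∀ n ≤ N, Module.Flat B (B ⊗[A] homologyQuot (P.d (n + 1) n).hom (P.d n (n - 1)).hom))
    (n : ℤ) (hn : n ≤ N) : Module.Flat B (B ⊗[A] (P.X n ⧸ LinearMap.range (P.d (n + 1) n).hom)) := by
  suffices h : ∀ k : ℕ, ∀ n : ℤ, n < i₀ + k → n ≤ N →
      Module.Flat B (B ⊗[A] (P.X n ⧸ LinearMap.range (P.d (n + 1) n).hom)) from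
    h ((n - i₀).toNat + 1) n (by omega) hn
  intro k
  induction k with
  | zero =>
    intro n hn _
    have := ModuleCat.isZero_iff_subsingleton.mp (hb n (by omega))
    infer_instance
  | succ k ih =>
    intro n hn hnN
    have := hP (n - 1)
    have h0 := ih (n - 1) (by omega) (by omega)
    rw [sub_add_cancel] at h0
    exact flat_baseChange_coker_step (d_comp_d_hom P (n + 1) n (n - 1)) h0 (hH n hnN)

end Groth.Agent.FlatCx12
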