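import Groth.Agent.FlatCxLib.BaseChange
import Mathlib.LinearAlgebra.TensorProduct.RightExactness

/-!
# `H(P ⊗ M) = H(P) ⊗ M` when the cokernel in the degree below is flat, and half exactness
-/

universe u

set_option backward.isDefEq.respectTransparency false

namespace Groth.Agent.FlatCx12

open TensorProduct Function CategoryTheory Groth.Agent.FlatCxLib

section Lin

variable {A : Type u} [CommRing A] {Pq Pp Pr : Type u} [AddCommGroup Pq] [AddCommGroup Pp]
  [AddCommGroup Pr] [Module A Pq] [Module A Pp] [Module A Pr] {f : Pq →ₗ[A] Pp} {g : Pp →ₗ[A] Pr}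

theorem injective_ker_subtype_rTensor [Module.Flat A Pr] [Module.Flat A (Pr ⧸ LinearMap.range g)]
    (M : Type u) [AddCommGroup M] [Module A M] : Injective ((LinearMap.ker g).subtype.rTensor M) := by
  have := flat_range g
  have hex : Exact (LinearMap.ker g).subtype g.rangeRestrict := by
    rw [LinearMap.exact_iff, LinearMap.ker_rangeRestrict, Submodule.range_subtype]
  exact (LinearMap.lTensor_inj_iff_rTensor_inj M _).mp
    (LinearMap.lTensor_injective_of_exact_of_flat _ g.surjective_rangeRestrict _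
      Subtype.val_injective hex M)

theorem injective_ker_subtype_lTensor [Module.Flat A Pr] [Module.Flat A (Pr ⧸ LinearMap.range g)]
    (M : Type u) [AddCommGroup M] [Module A M] : Injective ((LinearMap.ker g).subtype.lTensor M) :=
  (LinearMap.lTensor_inj_iff_rTensor_inj M _).mpr (injective_ker_subtype_rTensor M)

theorem ker_lTensor_le [Module.Flat A (Pr ⧸ LinearMap.range g)] (M : Type u) [AddCommGroup M]
    [Module A M] :
    LinearMap.ker (g.lTensor M) ≤ LinearMap.range ((LinearMap.ker g).subtype.lTensor M) := by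
  intro z hz
  have h1 : TensorProduct.comm A M Pp z ∈ LinearMap.ker (g.rTensor M) := by
    rw [LinearMap.mem_ker, LinearMap.rTensor, TensorProduct.map_comm]
    exact (congrArg (TensorProduct.comm A M Pr) hz).trans (map_zero _)
  rw [ker_rTensor_eq] at h1
  obtain ⟨w, hw⟩ := h1
  refine ⟨(TensorProduct.comm A M _).symm w, (TensorProduct.comm A M Pp).injective ?_⟩
  rw [← hw, LinearMap.lTensor, ← TensorProduct.map_comm, LinearEquiv.apply_symm_apply]
  rfl

theorem exact_codRestrict_mkQ (hfg : g ∘ₗ f = 0) :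
    Exact (f.codRestrict (LinearMap.ker g) fun a => LinearMap.congr_fun hfg a)
      ((LinearMap.range f).comap (LinearMap.ker g).subtype).mkQ := by
  rw [LinearMap.exact_iff, Submodule.ker_mkQ]
  exact (LinearMap.range_codRestrict (LinearMap.ker g) f _).symm

/-- Base change of `ker/im` when tensoring with `B` preserves cycles. -/
theorem nonempty_homologyQuotEquiv (hfg : g ∘ₗ f = 0) (B : Type u) [CommRing B] [Algebra A B]
    (hinj : Injective ((LinearMap.ker g).subtype.lTensor B))
    (hker : LinearMap.ker (g.lTensor B) ≤ LinearMap.range ((LinearMap.ker g).subtype.lTensor B)) :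
    Nonempty (homologyQuot (f.baseChange B) (g.baseChange B) ≃ₗ[B] B ⊗[A] homologyQuot f g) := by
  let i := (LinearMap.ker g).subtype
  have hz : ∀ z, g.baseChange B (i.baseChange B z) = 0 := fun z => by
    rw [← LinearMap.comp_apply, ← LinearMap.baseChange_comp, g.exact_subtype_ker_map.linearMap_comp_eq_zero,
      LinearMap.baseChange_zero, LinearMap.zero_apply]
  let β : B ⊗[A] LinearMap.ker g →ₗ[B] LinearMap.ker (g.baseChange B) :=
    (i.baseChange B).codRestrict _ hz
  have hβ : Bijective β := by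
    refine ⟨fun x y h => hinj (congrArg Subtype.val h), ?_⟩
    rintro ⟨z, hz'⟩
    obtain ⟨w, hw⟩ := hker (x := z) hz'
    exact ⟨w, Subtype.ext hw⟩
  let e := LinearEquiv.ofBijective β hβ
  let mk := ((LinearMap.range f).comap i).mkQ
  let π := mk.baseChange B ∘ₗ e.symm.toLinearMap
  have hπ : Surjective π :=
    (LinearMap.lTensor_surjective B (Submodule.mkQ_surjective _)).comp e.symm.surjective
  have hπk : (LinearMap.range (f.baseChange B)).comap (LinearMap.ker (g.baseChange B)).subtype =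
      LinearMap.ker π := by
    let f' : Pq →ₗ[A] LinearMap.ker g := f.codRestrict _ fun a => LinearMap.congr_fun hfg a
    have hex : Exact f' mk := exact_codRestrict_mkQ hfg
    ext z
    obtain ⟨w, rfl⟩ := e.surjective z
    rw [LinearMap.mem_ker, Submodule.mem_comap, LinearMap.comp_apply]
    simp only [LinearEquiv.coe_coe, LinearEquiv.symm_apply_apply]
    refine Iff.trans ?_ ((lTensor_exact B hex (Submodule.mkQ_surjective _) w).symm)
    constructor
    · rintro ⟨x, hx⟩
      refine ⟨x, hinj ?_⟩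
      rw [← LinearMap.comp_apply, ← LinearMap.lTensor_comp]
      exact hx
    · rintro ⟨x, rfl⟩
      refine ⟨x, ?_⟩
      show f.lTensor B x = i.lTensor B (f'.lTensor B x)
      rw [← LinearMap.comp_apply, ← LinearMap.lTensor_comp]
      rfl
  exact ⟨(Submodule.quotEquivOfEq _ _ hπk).trans (π.quotKerEquivOfSurjective hπ)⟩

theorem nonempty_homologyQuotEquiv_of_flat_coker (hfg : g ∘ₗ f = 0) (B : Type u) [CommRing B]
    [Algebra A B] [Module.Flat A Pr] [Module.Flat A (Pr ⧸ LinearMap.range g)] :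
    Nonempty (homologyQuot (f.baseChange B) (g.baseChange B) ≃ₗ[B] B ⊗[A] homologyQuot f g) :=
  nonempty_homologyQuotEquiv hfg B (injective_ker_subtype_lTensor B) (ker_lTensor_le B)

theorem nonempty_homologyQuotEquiv_of_flat (hfg : g ∘ₗ f = 0) (B : Type u) [CommRing B]
    [Algebra A B] [Module.Flat A B] :
    Nonempty (homologyQuot (f.baseChange B) (g.baseChange B) ≃ₗ[B] B ⊗[A] homologyQuot f g) :=
  nonempty_homologyQuotEquiv hfg B
    (Module.Flat.lTensor_preserves_injective_linearMap _ Subtype.val_injective)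
    (fun z hz => (Module.Flat.lTensor_exact B g.exact_subtype_ker_map z).mp hz)

end Lin

section Cx

variable {A : Type u} [CommRing A] (P : ChainComplex (ModuleCat.{u} A) ℤ) (q p r : ℤ)

/-- `Z ⊗ M → T_p(M)`. -/
noncomputable def cycleMap (M : ModuleCat.{u} A) (hpr : r + 1 = p) :
    LinearMap.ker (P.d p r).hom ⊗[A] M →ₗ[A] (CohIII.TFun P p).obj M :=
  cls (CohIII.tensorObj P M) p r hpr ∘ₗ
    ((LinearMap.ker (P.d p r).hom).subtype.rTensor M).codRestrict
      (LinearMap.ker ((P.d p r).hom.rTensor M)) fun z => by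
        rw [LinearMap.mem_ker, ← LinearMap.comp_apply, ← LinearMap.rTensor_comp,
          (P.d p r).hom.exact_subtype_ker_map.linearMap_comp_eq_zero, LinearMap.rTensor_zero,
          LinearMap.zero_apply]

theorem cycleMap_eq_zero_iff (M : ModuleCat.{u} A) (hqp : p + 1 = q) (hpr : r + 1 = p)
    (z : LinearMap.ker (P.d p r).hom ⊗[A] M) :
    cycleMap P p r M hpr z = 0 ↔ (LinearMap.ker (P.d p r).hom).subtype.rTensor M z ∈
      LinearMap.range ((P.d q p).hom.rTensor M) :=
  cls_eq_zero_iff (CohIII.tensorObj P M) q p r hqp hpr _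

theorem cycleMap_natural {M N : ModuleCat.{u} A} (φ : M ⟶ N) (hpr : r + 1 = p)
    (z : LinearMap.ker (P.d p r).hom ⊗[A] M) :
    ((CohIII.TFun P p).map φ).hom (cycleMap P p r M hpr z) =
      cycleMap P p r N hpr (φ.hom.lTensor _ z) := by
  refine (cls_map (K := CohIII.tensorObj P M) (L := CohIII.tensorObj P N) p r hpr
    (CohIII.tensorMap P φ) _).trans (congrArg _ (Subtype.ext ?_))
  show φ.hom.lTensor (P.X p) ((LinearMap.ker (P.d p r).hom).subtype.rTensor M z) =
    (LinearMap.ker (P.d p r).hom).subtype.rTensor N (φ.hom.lTensor _ z)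
  rw [lTensor_rTensor_comm]

theorem cycleMap_surjective (M : ModuleCat.{u} A) (hpr : r + 1 = p)
    [Module.Flat A (P.X r ⧸ LinearMap.range (P.d p r).hom)] : Surjective (cycleMap P p r M hpr) := by
  intro t
  obtain ⟨⟨z, hz⟩, rfl⟩ := cls_surjective (CohIII.tensorObj P M) p r hpr t
  have hz' : z ∈ LinearMap.ker ((P.d p r).hom.rTensor M) := hz
  rw [ker_rTensor_eq] at hz'
  obtain ⟨w, hw⟩ := hz'
  exact ⟨w, congrArg (cls (CohIII.tensorObj P M) p r hpr) (Subtype.ext hw)⟩

theorem ker_cycleMap (M : ModuleCat.{u} A) (hqp : p + 1 = q) (hpr : r + 1 = p)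
    [Module.Flat A (P.X r)] [Module.Flat A (P.X r ⧸ LinearMap.range (P.d p r).hom)] :
    LinearMap.ker (cycleMap P p r M hpr) =
      LinearMap.range (((P.d q p).hom.codRestrict (LinearMap.ker (P.d p r).hom)
        fun a => LinearMap.congr_fun (d_comp_d_hom P q p r) a).rTensor M) := by
  ext z
  rw [LinearMap.mem_ker, cycleMap_eq_zero_iff P q p r M hqp hpr]
  constructor
  · rintro ⟨x, hx⟩
    refine ⟨x, injective_ker_subtype_rTensor (g := (P.d p r).hom) M ?_⟩
    rw [← LinearMap.comp_apply, ← LinearMap.rTensor_comp]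
    exact hx
  · rintro ⟨x, rfl⟩
    refine ⟨x, ?_⟩
    rw [← LinearMap.comp_apply, ← LinearMap.rTensor_comp]
    rfl

variable {P}

/-- `H_p(P) ⊗ M ≃ T_p(M)`. -/
noncomputable def tensorEquiv (hP : ∀ i, Module.Flat A (P.X i)) (M : ModuleCat.{u} A) (hqp : p + 1 = q)
    (hpr : r + 1 = p) [Module.Flat A (P.X r ⧸ LinearMap.range (P.d p r).hom)] :
    homologyQuot (P.d q p).hom (P.d p r).hom ⊗[A] M ≃ₗ[A] (CohIII.TFun P p).obj M :=
  have := hP r
  (rTensor.equiv M (exact_codRestrict_mkQ (d_comp_d_hom P q p r)) (Submodule.mkQ_surjective _)).symm.trans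
    ((Submodule.quotEquivOfEq _ _ (ker_cycleMap P q p r M hqp hpr).symm).trans
      ((cycleMap P p r M hpr).quotKerEquivOfSurjective (cycleMap_surjective P p r M hpr)))

theorem tensorEquiv_mk (hP : ∀ i, Module.Flat A (P.X i)) (M : ModuleCat.{u} A) (hqp : p + 1 = q)
    (hpr : r + 1 = p) [Module.Flat A (P.X r ⧸ LinearMap.range (P.d p r).hom)]
    (w : LinearMap.ker (P.d p r).hom ⊗[A] M) :
    tensorEquiv q p r hP M hqp hpr (((LinearMap.range (P.d q p).hom).comap
      (LinearMap.ker (P.d p r).hom).subtype).mkQ.rTensor M w) = cycleMap P p r M hpr w := by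
  have := hP r
  have h : (rTensor.equiv M (exact_codRestrict_mkQ (d_comp_d_hom P q p r))
      (Submodule.mkQ_surjective _)).symm (((LinearMap.range (P.d q p).hom).comap
        (LinearMap.ker (P.d p r).hom).subtype).mkQ.rTensor M w) = Submodule.Quotient.mk w := by
    rw [LinearEquiv.symm_apply_eq]
    rfl
  rw [tensorEquiv, LinearEquiv.trans_apply, h]
  rfl

/-- `T_p ≅ H_p(P) ⊗ -` if the cokernel in degree `r` is flat. -/
noncomputable def TFunIso (hP : ∀ i, Module.Flat A (P.X i)) (hqp : p + 1 = q) (hpr : r + 1 = p)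
    [Module.Flat A (P.X r ⧸ LinearMap.range (P.d p r).hom)] :
    CohIII.TFun P p ≅ MonoidalCategory.tensorLeft
      (ModuleCat.of A (homologyQuot (P.d q p).hom (P.d p r).hom)) :=
  (NatIso.ofComponents
    (F := MonoidalCategory.tensorLeft (ModuleCat.of A (homologyQuot (P.d q p).hom (P.d p r).hom)))
    (G := CohIII.TFun P p)
    (fun M => (tensorEquiv q p r hP M hqp hpr).toModuleIso) fun {M N} φ => by
      refine ModuleCat.hom_ext (LinearMap.ext fun (z : homologyQuot _ _ ⊗[A] M) => ?_)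
      obtain ⟨w, rfl⟩ := LinearMap.rTensor_surjective M (Submodule.mkQ_surjective _) z
      show tensorEquiv q p r hP N hqp hpr (φ.hom.lTensor _ (LinearMap.rTensor M _ w)) =
        ((CohIII.TFun P p).map φ).hom (tensorEquiv q p r hP M hqp hpr (LinearMap.rTensor M _ w))
      rw [tensorEquiv_mk, ← lTensor_rTensor_comm, tensorEquiv_mk, cycleMap_natural]).symm

/-- `T_p` is half exact. -/
theorem TFun_exact (hP : ∀ i, Module.Flat A (P.X i)) {M₁ M₂ M₃ : ModuleCat.{u} A} (φ : M₁ ⟶ M₂)
    (ψ : M₂ ⟶ M₃) (hφ : Injective φ.hom) (hψ : Surjective ψ.hom) (hex : Exact φ.hom ψ.hom) :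
    Exact ((CohIII.TFun P p).map φ).hom ((CohIII.TFun P p).map ψ).hom := by
  have hpr : p - 1 + 1 = p := by omega
  have := hP (p - 1)
  intro t
  constructor
  · intro ht
    obtain ⟨⟨z, hz⟩, rfl⟩ := cls_surjective (CohIII.tensorObj P M₂) p (p - 1) hpr t
    have h0 := (cls_map (K := CohIII.tensorObj P M₂) (L := CohIII.tensorObj P M₃) p (p - 1) hpr
      (CohIII.tensorMap P ψ) ⟨z, hz⟩).symm.trans ht
    obtain ⟨w, hw⟩ := (cls_eq_zero_iff _ (p + 1) p (p - 1) rfl hpr _).mp h0
    obtain ⟨w', rfl⟩ := LinearMap.lTensor_surjective (P.X (p + 1)) hψ w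
    let z' : P.X p ⊗[A] M₂ := z
    have h1 : ψ.hom.lTensor (P.X p) (z' - (P.d (p + 1) p).hom.rTensor M₂ w') = 0 := by
      rw [map_sub, ← lTensor_rTensor_comm, sub_eq_zero]
      exact hw.symm
    obtain ⟨y, hy⟩ := (lTensor_exact (P.X p) hex hψ _).mp h1
    have hy0 : (P.d p (p - 1)).hom.rTensor M₁ y = 0 := by
      apply Module.Flat.lTensor_preserves_injective_linearMap (M := P.X (p - 1)) φ.hom hφ
      rw [← lTensor_rTensor_comm, hy, map_sub, map_zero,
        rTensor_comp_zero (d_comp_d_hom P (p + 1) p (p - 1)), sub_zero]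
      exact hz
    refine ⟨cls (CohIII.tensorObj P M₁) p (p - 1) hpr ⟨y, hy0⟩, ?_⟩
    refine (cls_map (K := CohIII.tensorObj P M₁) (L := CohIII.tensorObj P M₂) p (p - 1) hpr
      (CohIII.tensorMap P φ) ⟨y, hy0⟩).trans ?_
    rw [← sub_eq_zero, ← map_sub, cls_eq_zero_iff (CohIII.tensorObj P M₂) (p + 1) p (p - 1) rfl hpr]
    refine ⟨-w', ?_⟩
    show (P.d (p + 1) p).hom.rTensor M₂ (-w') = φ.hom.lTensor (P.X p) y - z'
    rw [map_neg, hy]
    abel
  · rintro ⟨s, rfl⟩
    obtain ⟨⟨y, hy⟩, rfl⟩ := cls_surjective (CohIII.tensorObj P M₁) p (p - 1) hpr s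
    refine (congrArg _ (cls_map (K := CohIII.tensorObj P M₁) (L := CohIII.tensorObj P M₂) p (p - 1) hpr
      (CohIII.tensorMap P φ) ⟨y, hy⟩)).trans ?_
    refine (cls_map (K := CohIII.tensorObj P M₂) (L := CohIII.tensorObj P M₃) p (p - 1) hpr
      (CohIII.tensorMap P ψ) _).trans ?_
    rw [cls_eq_zero_iff (CohIII.tensorObj P M₃) (p + 1) p (p - 1) rfl hpr]
    refine ⟨0, ?_⟩
    show (P.d (p + 1) p).hom.rTensor M₃ 0 = ψ.hom.lTensor (P.X p) (φ.hom.lTensor (P.X p) y)
    rw [map_zero, ← LinearMap.comp_apply, ← LinearMap.lTensor_comp, hex.linearMap_comp_eq_zero,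
      LinearMap.lTensor_zero, LinearMap.zero_apply]

end Cx

end Groth.Agent.FlatCx12
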