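import Groth.Prelude.Def_ega3
import Groth.Agent.FlatCxLib.Algebra
import Mathlib.Algebra.Homology.ShortComplex.ModuleCat
import Mathlib.Algebra.Homology.DerivedCategory.Basic
import Mathlib.Algebra.Category.ModuleCat.EpiMono
import Mathlib.Algebra.Category.ModuleCat.Biproducts
import Mathlib.RingTheory.LocalRing.Module
import Mathlib.RingTheory.Flat.Localization

/-!
# Bounded above cochain complexes of flat modules
-/

universe u

set_option backward.isDefEq.respectTransparency false

namespace Groth.Agent.FlatCx12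

open TensorProduct Function CategoryTheory CategoryTheory.Limits Groth.Agent.FlatCxLib

variable {A : Type u} [CommRing A]

theorem exact_d_of_isZero (K : CochainComplex (ModuleCat.{u} A) ℤ) (i j k : ℤ) (hij : i + 1 = j)
    (hjk : j + 1 = k) (h : IsZero (K.homology j)) : Exact (K.d i j).hom (K.d j k).hom := by
  have h1 := (K.exactAt_iff_isZero_homology j).mpr h
  rw [K.exactAt_iff' i j k (CochainComplex.prev ℤ j ▸ (by omega)) ((CochainComplex.next ℤ j).trans hjk)] at h1
  exact (ShortComplex.ShortExact.moduleCat_exact_iff_function_exact _).mp h1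

theorem isZero_of_exact_d (K : CochainComplex (ModuleCat.{u} A) ℤ) (i j k : ℤ) (hij : i + 1 = j)
    (hjk : j + 1 = k) (h : Exact (K.d i j).hom (K.d j k).hom) : IsZero (K.homology j) := by
  rw [← K.exactAt_iff_isZero_homology j,
    K.exactAt_iff' i j k (CochainComplex.prev ℤ j ▸ (by omega)) ((CochainComplex.next ℤ j).trans hjk)]
  exact (ShortComplex.ShortExact.moduleCat_exact_iff_function_exact _).mpr h

/-- Bounded above flat, exact above `d`: cocycles in degrees `≥ d` are flat. -/
theorem flat_ker_d (F : CochainComplex (ModuleCat.{u} A) ℤ) (hF : ∀ i, Module.Flat A (F.X i))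
    (hb : ∃ b : ℤ, ∀ i, b < i → IsZero (F.X i)) (d : ℤ) (hac : ∀ p, d < p → IsZero (F.homology p))
    (p : ℤ) (hp : d ≤ p) : Module.Flat A (LinearMap.ker (F.d p (p + 1)).hom) := by
  obtain ⟨b, hb⟩ := hb
  suffices h : ∀ n : ℕ, ∀ p, d ≤ p → b < p + n → Module.Flat A (LinearMap.ker (F.d p (p + 1)).hom) from
    h ((b - p).toNat + 1) p hp (by omega)
  intro n
  induction n with
  | zero =>
    intro p _ h
    have := ModuleCat.isZero_iff_subsingleton.mp (hb p (by omega))
    infer_instance
  | succ n ih =>
    intro p hp h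
    have := ih (p + 1) (by omega) (by omega)
    have := hF p
    let g : F.X p →ₗ[A] LinearMap.ker (F.d (p + 1) (p + 1 + 1)).hom :=
      (F.d p (p + 1)).hom.codRestrict _ fun x =>
        LinearMap.congr_fun (congrArg ModuleCat.Hom.hom (F.d_comp_d p (p + 1) (p + 1 + 1))) x
    refine flat_of_exact_left (LinearMap.ker (F.d p (p + 1)).hom).subtype g ?_ ?_ Subtype.val_injective
    · rw [LinearMap.exact_iff, LinearMap.ker_codRestrict, Submodule.range_subtype]
    · rintro ⟨y, hy⟩
      obtain ⟨x, hx⟩ := (exact_d_of_isZero F p (p + 1) (p + 1 + 1) rfl rfl (hac _ (by omega)) y).mp hy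
      exact ⟨x, Subtype.ext hx⟩

theorem flat_cycles (F : CochainComplex (ModuleCat.{u} A) ℤ) (d : ℤ)
    [Module.Flat A (LinearMap.ker (F.d d (d + 1)).hom)] : Module.Flat A (F.cycles d) := by
  have hi : Injective (F.iCycles d).hom := (ModuleCat.mono_iff_injective _).mp inferInstance
  have hr : LinearMap.range (F.iCycles d).hom = LinearMap.ker (F.d d (d + 1)).hom := by
    refine ((LinearMap.exact_iff).mp ?_).symm
    exact (ShortComplex.ShortExact.moduleCat_exact_iff_function_exact _).mp
      (ShortComplex.exact_of_f_is_kernel (ShortComplex.mk (F.iCycles d) (F.d d (d + 1)) (F.iCycles_d d (d + 1)))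
        (F.cyclesIsKernel d (d + 1) (CochainComplex.next ℤ d)))
  exact Module.Flat.of_linearEquiv ((LinearEquiv.ofInjective _ hi).trans (LinearEquiv.ofEq _ _ hr))

theorem exact_rTensor_of_acyclic (F : CochainComplex (ModuleCat.{u} A) ℤ) (hF : ∀ i, Module.Flat A (F.X i))
    (hb : ∃ b : ℤ, ∀ i, b < i → IsZero (F.X i)) (hac : ∀ p, IsZero (F.homology p))
    (M : Type u) [AddCommGroup M] [Module A M] (p : ℤ) :
    Exact ((F.d (p - 1) p).hom.rTensor M) ((F.d p (p + 1)).hom.rTensor M) := by
  have hZ : ∀ i, Module.Flat A (LinearMap.ker (F.d i (i + 1)).hom) := fun i =>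
    flat_ker_d F hF hb (i - 1) (fun q _ => hac q) i (by omega)
  have := hF (p + 1); have := hZ (p + 1)
  have e := exact_d_of_isZero F (p - 1) p (p + 1) (by omega) rfl (hac p)
  have e' := exact_d_of_isZero F p (p + 1) (p + 1 + 1) rfl rfl (hac _)
  have : Module.Flat A (F.X (p + 1) ⧸ LinearMap.range (F.d p (p + 1)).hom) := by
    have h2 := hZ (p + 1 + 1)
    have hr : LinearMap.range (F.d (p + 1) (p + 1 + 1)).hom = LinearMap.ker (F.d (p + 1 + 1) (p + 1 + 1 + 1)).hom :=
      (LinearMap.exact_iff.mp (exact_d_of_isZero F (p + 1) (p + 1 + 1) (p + 1 + 1 + 1) rfl rfl (hac _))).symm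
    rw [← hr] at h2
    exact Module.Flat.of_linearEquiv
      ((Submodule.quotEquivOfEq _ _ (LinearMap.exact_iff.mp e').symm).trans
        (F.d (p + 1) (p + 1 + 1)).hom.quotKerEquivRange)
  rw [LinearMap.exact_iff, ker_rTensor_eq, LinearMap.exact_iff.mp e]
  set g := (F.d (p - 1) p).hom
  conv_rhs => rw [show g = (LinearMap.range g).subtype ∘ₗ g.rangeRestrict from rfl,
    LinearMap.rTensor_comp, LinearMap.range_comp,
    LinearMap.range_eq_top.mpr (LinearMap.rTensor_surjective M g.surjective_rangeRestrict),
    Submodule.map_top]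

theorem quasiIso_iff_acyclic_cone {C D : CochainComplex (ModuleCat.{u} A) ℤ} (φ : C ⟶ D) :
    QuasiIso φ ↔ (CochainComplex.mappingCone φ).Acyclic := by
  rw [← HomotopyCategory.quotient_obj_mem_subcategoryAcyclic_iff_acyclic,
    ← HomologicalComplex.mem_quasiIso_iff, ← HomotopyCategory.quotient_map_mem_quasiIso_iff φ,
    HomotopyCategory.quasiIso_eq_trW_subcategoryAcyclic]
  exact (HomotopyCategory.subcategoryAcyclic _).trW_iff_of_distinguished _
    (HomotopyCategory.mappingCone_triangleh_distinguished φ)

theorem quasiIso_tensorRight (C D : CochainComplex (ModuleCat.{u} A) ℤ)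
    (hC : ∀ i, Module.Flat A (C.X i)) (hD : ∀ i, Module.Flat A (D.X i))
    (bC : ∃ b : ℤ, ∀ i, b < i → IsZero (C.X i)) (bD : ∃ b : ℤ, ∀ i, b < i → IsZero (D.X i))
    (φ : C ⟶ D) [QuasiIso φ] (M : ModuleCat.{u} A) :
    QuasiIso (((MonoidalCategory.tensorRight M).mapHomologicalComplex (ComplexShape.up ℤ)).map φ) := by
  let K := CochainComplex.mappingCone φ
  have hK : K.Acyclic := (quasiIso_iff_acyclic_cone φ).mp inferInstance
  let e : ∀ i, K.X i ≅ ModuleCat.of A (C.X (i + 1) × D.X i) := fun i =>
    HomologicalComplex.homotopyCofiber.XIsoBiprod φ i (i + 1) rfl ≪≫ ModuleCat.biprodIsoProd _ _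
  have hflat : ∀ i, Module.Flat A (K.X i) := fun i => by
    have := hC (i + 1); have := hD i
    have : Module.Flat A (C.X (i + 1) × D.X i) := flat_of_exact_mid (LinearMap.inl A (C.X (i + 1)) (D.X i))
      (LinearMap.snd A _ _) (fun x => ⟨fun h => ⟨x.1, Prod.ext rfl h.symm⟩, by rintro ⟨y, rfl⟩; rfl⟩)
      LinearMap.snd_surjective LinearMap.inl_injective
    exact Module.Flat.of_linearEquiv (M := C.X (i + 1) × D.X i) (e i).toLinearEquiv
  have hb : ∃ b : ℤ, ∀ i, b < i → IsZero (K.X i) := by
    obtain ⟨b, hb⟩ := bC; obtain ⟨b', hb'⟩ := bD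
    refine ⟨max b b', fun i hi => ?_⟩
    have := ModuleCat.isZero_iff_subsingleton.mp (hb (i + 1) (by omega))
    have := ModuleCat.isZero_iff_subsingleton.mp (hb' i (by omega))
    exact (ModuleCat.isZero_iff_subsingleton.mpr inferInstance).of_iso (e i)
  have hT : (((MonoidalCategory.tensorRight M).mapHomologicalComplex (ComplexShape.up ℤ)).obj K).Acyclic := by
    intro p
    rw [HomologicalComplex.exactAt_iff_isZero_homology]
    exact isZero_of_exact_d _ (p - 1) p (p + 1) (by omega) rfl
      (exact_rTensor_of_acyclic K hflat hb (fun q => (K.exactAt_iff_isZero_homology q).mp (hK q)) M p)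
  rw [quasiIso_iff_acyclic_cone]
  intro p
  exact (hT p).of_iso (CochainComplex.mappingCone.mapHomologicalComplexIso φ (MonoidalCategory.tensorRight M))

/-- Flat cokernel from exactness at all closed fibres. -/
theorem flat_coker_of_residue {Pq Pp Pr : Type u} [AddCommGroup Pq] [AddCommGroup Pp] [AddCommGroup Pr]
    [Module A Pq] [Module A Pp] [Module A Pr] [Module.Flat A Pr] [Module.Finite A Pr] [IsNoetherianRing A]
    (f : Pq →ₗ[A] Pp) (g : Pp →ₗ[A] Pr) (hfg : g ∘ₗ f = 0)
    (h : ∀ (m : Ideal A) [m.IsMaximal], Exact (f.rTensor (A ⧸ m)) (g.rTensor (A ⧸ m))) :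
    Module.Flat A (Pr ⧸ LinearMap.range g) := by
  refine Module.flat_of_localized_maximal _ fun m hm => ?_
  let Am := Localization.AtPrime m
  let k := IsLocalRing.ResidueField Am
  let i := (LinearMap.range g).subtype
  have hinj : Injective (i.rTensor (A ⧸ m)) := by
    rw [injective_iff_map_eq_zero]
    intro b hb
    obtain ⟨z, rfl⟩ := LinearMap.rTensor_surjective (A ⧸ m) g.surjective_rangeRestrict b
    rw [← LinearMap.comp_apply, ← LinearMap.rTensor_comp, LinearMap.subtype_comp_codRestrict] at hb
    obtain ⟨w, rfl⟩ := (h m z).mp hb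
    exact rTensor_comp_zero (LinearMap.ext fun a => Subtype.ext (LinearMap.congr_fun hfg a)) _ w
  let e : (A ⧸ m) ≃ₗ[A] k := (AlgEquiv.ofBijective (IsScalarTower.toAlgHom A (A ⧸ m) m.ResidueField)
    m.bijective_algebraMap_quotient_residueField).toLinearEquiv
  have hinjk : Injective (i.lTensor k) := by
    intro x y hxy
    obtain ⟨x, rfl⟩ := (TensorProduct.congr e (LinearEquiv.refl A (LinearMap.range g))).surjective x
    obtain ⟨y, rfl⟩ := (TensorProduct.congr e (LinearEquiv.refl A (LinearMap.range g))).surjective y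
    have hc : ∀ z, i.lTensor k (TensorProduct.congr e (LinearEquiv.refl A (LinearMap.range g)) z) =
        TensorProduct.congr e (LinearEquiv.refl A Pr) (i.lTensor (A ⧸ m) z) := by
      intro z
      induction z with
      | zero => simp
      | add a b ha hb => simp only [map_add, ha, hb]
      | tmul a b => simp
    rw [hc, hc] at hxy
    exact congrArg _ ((LinearMap.lTensor_inj_iff_rTensor_inj (A ⧸ m) i).mpr hinj
      ((TensorProduct.congr e (LinearEquiv.refl A Pr)).injective hxy))
  let π := (LinearMap.range g).mkQ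
  let eR := AlgebraTensorModule.cancelBaseChange A Am k k (LinearMap.range g)
  let eF := AlgebraTensorModule.cancelBaseChange A Am k k Pr
  have hloc : Injective ((i.baseChange Am).lTensor k) := by
    intro x y hxy
    apply eR.injective
    apply hinjk
    have hc : ∀ z, i.lTensor k (eR z) = eF ((i.baseChange Am).lTensor k z) := by
      intro z
      induction z with
      | zero => simp
      | add a b ha hb => simp only [map_add, ha, hb]
      | tmul v w =>
        induction w with
        | zero => simp
        | add a b ha hb => simp only [tmul_add, map_add, ha, hb]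
        | tmul c x => simp [eR, eF]
    rw [hc, hc, hxy]
  have : Module.Finite Am (Am ⊗[A] Pr) := inferInstance
  have : Module.Free Am (Am ⊗[A] Pr) := Module.free_of_flat_of_isLocalRing
  have : Module.FinitePresentation A Pr := Module.finitePresentation_of_finite A _
  have : Module.FinitePresentation A (Pr ⧸ LinearMap.range g) := Module.finitePresentation_of_finite A _
  have hfree : Module.Free Am (Am ⊗[A] (Pr ⧸ LinearMap.range g)) :=
    Module.free_of_lTensor_residueField_injective (i.baseChange Am) (π.baseChange Am)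
      (LinearMap.lTensor_surjective Am (Submodule.mkQ_surjective _))
      (lTensor_exact Am (LinearMap.exact_subtype_mkQ _) (Submodule.mkQ_surjective _)) hloc
  have : Module.Flat Am (LocalizedModule m.primeCompl (Pr ⧸ LinearMap.range g)) :=
    Module.Flat.of_linearEquiv (LocalizedModule.equivTensorProduct m.primeCompl _)
  exact Module.Flat.trans A Am _

end Groth.Agent.FlatCx12
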