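import Groth.Agent.FlatCx12.AmpFibreRing
import Groth.Agent.DCat.LTensorModule
import Mathlib.RingTheory.Flat.Localization

/-!
# Tor amplitude at generizations of a point from vanishing on the fibre
-/

set_option autoImplicit false
set_option backward.isDefEq.respectTransparency false
set_option backward.defeqAttrib.useBackward true
set_option linter.style.haveILetI false
set_option backward.isDefEq.respectTransparency.types false

universe u

open CategoryTheory CategoryTheory.Limits TensorProduct Function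

attribute [local instance] HasDerivedCategory.standard

namespace Groth.Agent.FlatCx12.AmpFibreCx

open Groth.Agent.EGA43.InjFibre Groth.Agent.FlatCx12.AmpFibreRing

/-- A complex of flat modules, exact below `a`, with flat cokernel at `a`. -/
theorem amp_of_truncation {R : Type u} [CommRing R] (C : DRing.Cx R) (hf : DRing.TermwiseFlat C) {a c : ℤ}
    (hac : a ≤ c) (hc : DRing.VanishesAbove C c) (hex : ∀ i < a, C.ExactAt i)
    (hQ : Module.Flat R (cokernel (C.d (a - 1) a) : ModuleCat.{u} R)) :
    DRing.HasTorAmplitudeIn R a c (DRing.toD C) := by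
  haveI : C.IsGE a := (CochainComplex.isGE_iff _ _).2 hex
  haveI : C.IsStrictlyLE c := (CochainComplex.isStrictlyLE_iff _ _).2 hc
  refine ⟨C.truncGE a, fun i hi => ?_, fun i => ?_, ⟨(asIso (DerivedCategory.Q.map (C.πTruncGE a))).symm⟩⟩
  · rcases hi with hi | hi
    · exact CochainComplex.isZero_of_isStrictlyGE _ a i hi
    · exact (hc i hi).of_iso (C.truncGEXIso a i (by omega))
  · rcases lt_trichotomy i a with hi | rfl | hi
    · haveI := ModuleCat.subsingleton_of_isZero (CochainComplex.isZero_of_isStrictlyGE (C.truncGE a) a i hi)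
      infer_instance
    · exact @Module.Flat.of_linearEquiv _ _ _ _ _ _ _ _ hQ (IsColimit.coconePointUniqueUpToIso (colimit.isColimit _)
        (C.opcyclesIsCokernel (i - 1) i (by simp)) ≪≫ (C.truncGEXIsoOpcycles i).symm).toLinearEquiv.symm
    · haveI := hf i
      exact Module.Flat.of_linearEquiv (C.truncGEXIso a i (by omega)).toLinearEquiv

variable {R B L L' R₁ R₂ : Type u} [CommRing R] [CommRing B] [CommRing L] [CommRing L'] [CommRing R₁] [CommRing R₂]
  [Algebra R B] [Algebra R R₁] [Algebra R R₂]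

set_option maxHeartbeats 800000 in
/-- **Fibre criterion for tor amplitude.** `q' ≤ q` primes of `B`, with local rings `L'`, `L` over the local
rings `R₂`, `R₁` of the base. If on the fibre at `q` the complex has no cohomology below `a`, then it has tor
amplitude in `[a, c]` at `q'`. -/
theorem amp_of_fibre [Algebra.FinitePresentation R B] [Module.Flat R B] (P : DRing.Cx B)
    (hP : DRing.TermwiseFiniteFree P) {a c : ℤ} (hac : a ≤ c) (hc : DRing.VanishesAbove P c)
    (q q' : PrimeSpectrum B) (hle : q'.asIdeal ≤ q.asIdeal)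
    (φ : B →+* L) (hφ : letI := φ.toAlgebra; IsLocalization.AtPrime L q.asIdeal)
    (σ : R₁ →+* L) (hσ : σ.comp (algebraMap R R₁) = φ.comp (algebraMap R B))
    (φ' : B →+* L') (hφ' : letI := φ'.toAlgebra; IsLocalization.AtPrime L' q'.asIdeal)
    (σ' : R₂ →+* L') (hσ' : σ'.comp (algebraMap R R₂) = φ'.comp (algebraMap R B))
    (T : Submonoid R) [IsLocalization T R₂]
    (h : ∀ i < a, ∀ N : ModuleCat.{u} R₁,
      (q.asIdeal.comap (algebraMap R B)).map (algebraMap R R₁) • (⊤ : Submodule R₁ N) = ⊥ →
      (DRing.tensorCx (((ModuleCat.restrictScalars σ).mapHomologicalComplex (ComplexShape.up ℤ)).obj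
        (((ModuleCat.extendScalars φ).mapHomologicalComplex (ComplexShape.up ℤ)).obj P)) N).ExactAt i) :
    DRing.HasTorAmplitudeIn R₂ a c (DRing.toD (((ModuleCat.restrictScalars σ').mapHomologicalComplex
      (ComplexShape.up ℤ)).obj (((ModuleCat.extendScalars φ').mapHomologicalComplex (ComplexShape.up ℤ)).obj P))) := by
  letI : ∀ i, Module R (P.X i) := fun i => Module.compHom (P.X i) (algebraMap R B)
  haveI : ∀ i, IsScalarTower R B (P.X i) := fun i => IsScalarTower.of_algebraMap_smul fun _ _ => rfl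
  haveI := fun i => (hP i).1
  haveI := fun i => (hP i).2
  have h01 : ∀ i : ℤ, (P.d i (i + 1)).hom ∘ₗ (P.d (i - 1) i).hom = 0 := fun i =>
    congrArg ModuleCat.Hom.hom (P.d_comp_d (i - 1) i (i + 1))
  -- universal injectivity at `q'`
  have hU : ∀ i < a, UInjAt R B (uMap _ _ (h01 i)) q' := by
    intro i hi
    haveI : ∀ j, Module.FinitePresentation B (P.X j) := fun j => Module.finitePresentation_of_projective _ _
    haveI : Module.FinitePresentation B (P.X i ⧸ LinearMap.range (P.d (i - 1) i).hom) :=
      Module.finitePresentation_of_surjective _ (Submodule.mkQ_surjective _)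
        (by rw [Submodule.ker_mkQ, LinearMap.range_eq_map]; exact (Module.Finite.fg_top).map _)
    refine uInjAt_of_le hle (uInjAt_of_fibInjAt ?_ ?_)
    · haveI : Module.Flat B (LocalizedModule q.asIdeal.primeCompl (P.X (i + 1))) :=
        Module.Flat.trans B (Localization q.asIdeal.primeCompl) _
      exact Module.Flat.trans R B _
    letI := φ.toAlgebra
    haveI : IsLocalization.AtPrime L q.asIdeal := hφ
    refine fibInjAt_of_local (L := L) _ _ _ q ?_
    intro I x hx
    let p₁ := (q.asIdeal.comap (algebraMap R B)).map (algebraMap R R₁)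
    have hI : I = p₁.map σ := by
      show Ideal.map _ (Ideal.map _ _) = Ideal.map _ (Ideal.map _ _)
      rw [Ideal.map_map, Ideal.map_map, hσ]
      rfl
    let C := ((ModuleCat.restrictScalars σ).mapHomologicalComplex (ComplexShape.up ℤ)).obj
        (((ModuleCat.extendScalars φ).mapHomologicalComplex (ComplexShape.up ℤ)).obj P)
    let N : ModuleCat.{u} R₁ := ModuleCat.of R₁ (R₁ ⧸ p₁)
    have hN : p₁ • (⊤ : Submodule R₁ N) = ⊥ := le_bot_iff.1 (Submodule.smul_le.2 fun r hr y _ => by
      obtain ⟨y, rfl⟩ := Ideal.Quotient.mk_surjective y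
      refine (Submodule.mem_bot R₁).2 ?_
      show Ideal.Quotient.mk p₁ (r * y) = 0
      exact Ideal.Quotient.eq_zero_iff_mem.2 (p₁.mul_mem_right _ hr))
    have hex := h i hi N hN
    rw [HomologicalComplex.exactAt_iff' (i := i - 1) (j := i) (k := i + 1) _ (by simp) (by simp),
      ShortComplex.ShortExact.moduleCat_exact_iff_function_exact] at hex
    have htr : ∀ (M : ModuleCat.{u} L) (y : M), y ∈ I • (⊤ : Submodule L M) ↔
        (y : (ModuleCat.restrictScalars σ).obj M) ∈ p₁ • (⊤ : Submodule R₁ ((ModuleCat.restrictScalars σ).obj M)) := by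
      intro M y
      letI := σ.toAlgebra
      letI : Module R₁ M := Module.compHom M σ
      haveI : IsScalarTower R₁ L M := IsScalarTower.of_algebraMap_smul fun _ _ => rfl
      rw [hI]
      exact mem_map_smul_top_iff p₁ y
    let x' : C.X i := x
    have hx' : (C.d i (i + 1)).hom x' ⊗ₜ[R₁] (1 : R₁ ⧸ p₁) = 0 :=
      (tmul_one_quotient_eq_zero_iff p₁ _).2 ((htr _ _).1 hx)
    obtain ⟨z, hz⟩ := (hex (x' ⊗ₜ[R₁] (1 : R₁ ⧸ p₁))).1 hx'
    obtain ⟨n, rfl⟩ : ∃ n : C.X (i - 1), n ⊗ₜ[R₁] (1 : R₁ ⧸ p₁) = z := by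
      obtain ⟨n, hn⟩ := TensorProduct.mk_surjective R₁ (C.X (i - 1)) (R₁ ⧸ p₁) Ideal.Quotient.mk_surjective
        (TensorProduct.comm R₁ _ _ z)
      exact ⟨n, (TensorProduct.comm R₁ _ _).injective hn⟩
    refine ⟨n, (htr ((ModuleCat.extendScalars φ).obj (P.X i)) _).2 ((tmul_one_quotient_eq_zero_iff p₁ (N := C.X i) _).1 ?_)⟩
    show (x' - (C.d (i - 1) i).hom n) ⊗ₜ[R₁] (1 : R₁ ⧸ p₁) = 0
    rw [TensorProduct.sub_tmul, sub_eq_zero]
    exact hz.symm
  -- the complex at `q'`
  letI := φ'.toAlgebra
  haveI : IsLocalization.AtPrime L' q'.asIdeal := hφ'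
  letI : Algebra R L' := (φ'.comp (algebraMap R B)).toAlgebra
  haveI : IsScalarTower R B L' := IsScalarTower.of_algebraMap_eq fun _ => rfl
  have hflat : ∀ (Z : Type u) [AddCommGroup Z] [Module B Z] [Module.Flat R (L' ⊗[B] Z)],
      Module.Flat R₂ ((ModuleCat.restrictScalars σ').obj ((ModuleCat.extendScalars φ').obj (ModuleCat.of B Z))) := by
    intro Z _ _ hZ
    letI : Module R₂ (L' ⊗[B] Z) := Module.compHom _ σ'
    haveI : IsScalarTower R R₂ (L' ⊗[B] Z) := IsScalarTower.of_algebraMap_smul fun r z => by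
      show σ' (algebraMap R R₂ r) • z = r • z
      rw [← RingHom.comp_apply, hσ']
      exact algebraMap_smul L' r z
    exact (Module.flat_iff_of_isLocalization R₂ T (L' ⊗[B] Z)).2 hZ
  let C₂ := ((ModuleCat.extendScalars φ').mapHomologicalComplex (ComplexShape.up ℤ)).obj P
  let r₂ := ModuleCat.restrictScalars.{u} σ'
  refine amp_of_truncation _ (fun i => ?_) hac (fun i hi => r₂.map_isZero ((ModuleCat.extendScalars φ').map_isZero (hc i hi)))
    (fun i hi => ?_) ?_
  · haveI : Module.Flat B L' := IsLocalization.flat _ q'.asIdeal.primeCompl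
    haveI : Module.Flat R L' := Module.Flat.trans R B L'
    haveI : Module.Flat R (L' ⊗[B] (P.X i)) := Module.Flat.trans R L' _
    exact hflat (P.X i)
  · have h2 : C₂.ExactAt i := by
      rw [HomologicalComplex.exactAt_iff' (i := i - 1) (j := i) (k := i + 1) _ (by simp) (by simp),
        ShortComplex.ShortExact.moduleCat_exact_iff_function_exact]
      exact exact_baseChange (hU i hi)
    exact h2.map r₂
  · haveI hQ := flat_baseChange_coker (L := L') (hU (a - 1) (by omega))
    have hQ2 := hflat (P.X (a - 1 + 1) ⧸ LinearMap.range (P.d (a - 1) (a - 1 + 1)).hom)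
    haveI : PreservesColimitsOfSize.{0, 0} (ModuleCat.extendScalars.{u, u, u} φ') :=
      (ModuleCat.extendRestrictScalarsAdj.{u, u, u} φ').leftAdjoint_preservesColimits
    have e : ∀ b, b = a - 1 + 1 → Module.Flat R₂ (cokernel (r₂.map (C₂.d (a - 1) b)) : ModuleCat.{u} R₂) := by
      rintro b rfl
      exact @Module.Flat.of_linearEquiv _ _ _ _ _ _ _ _ hQ2 ((PreservesCokernel.iso r₂ _).symm ≪≫
        r₂.mapIso ((PreservesCokernel.iso (ModuleCat.extendScalars φ') _).symm ≪≫
          (ModuleCat.extendScalars φ').mapIso (ModuleCat.cokernelIsoRangeQuotient _))).toLinearEquiv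
    exact e a (by omega)

end Groth.Agent.FlatCx12.AmpFibreCx
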