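import Groth.Agent.FlatCx12.AmpThick
import Groth.Agent.FlatCx12.AmpFibreCx
import Groth.Agent.DCat.TildeStalk
import Groth.Agent.DQCoh.RelTorBC
import Groth.Agent.DQCoh.PscNoeth
import Groth.Agent.DRingLib.PCDescent
import Mathlib.Topology.Separation.Basic

/-!
# Relative perfectness from the fibres over an ideal in the Jacobson radical
-/

set_option autoImplicit false
set_option backward.isDefEq.respectTransparency false
set_option backward.defeqAttrib.useBackward true
set_option linter.style.haveILetI false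
set_option synthInstance.maxHeartbeats 100000
set_option backward.isDefEq.respectTransparency.types false

universe u

open CategoryTheory CategoryTheory.Limits DerivedCategory AlgebraicGeometry TopologicalSpace
open Groth.Agent.DCat Groth.Agent.DQCoh

attribute [local instance] HasDerivedCategory.standard
attribute [-instance] Int.instConditionallyCompleteLinearOrder

namespace Groth.Agent.FlatCx12.AmpFibre

variable {X Y W : Scheme.{u}}

/-- Stalk complexes along an open immersion. -/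
theorem nonempty_stalk_restrict (f : X ⟶ Y) (k : W ⟶ X) [IsOpenImmersion k] (G : CochainComplex X.Modules ℤ) (y : W) :
    Nonempty (DRing.toD ((DerSch.stalkCxOver f (k y)).obj G) ≅ DRing.toD ((DerSch.stalkCxOver (k ≫ f) y).obj
      (((Scheme.Modules.restrictFunctor k).mapHomologicalComplex (ComplexShape.up ℤ)).obj G))) := by
  let φ := (k.stalkMap y).hom
  let adj := ModuleCat.extendRestrictScalarsAdj.{u, u, u} φ
  haveI : (ModuleCat.restrictScalars.{u} φ).IsEquivalence :=
    (ModuleCat.restrictScalarsEquivalenceOfRingEquiv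
      (RingEquiv.ofBijective φ (ConcreteCategory.bijective_of_isIso (k.stalkMap y)))).isEquivalence_functor
  haveI := adj.isEquivalence_left_of_isEquivalence_right
  haveI := adj.unit_isIso_of_L_fully_faithful
  let r := ModuleCat.restrictScalars.{u} (f.stalkMap (k y)).hom
  have hc : ((k ≫ f).stalkMap y).hom = φ.comp (f.stalkMap (k y)).hom := by
    rw [Scheme.Hom.stalkMap_comp]
    rfl
  let e : DerSch.stalkOver f (k y) ≅ Scheme.Modules.restrictFunctor k ⋙ DerSch.stalkOver (k ≫ f) y :=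
    NatIso.ofComponents (fun M => r.mapIso ((asIso adj.unit).app ((DerSch.stalkFunctor X (k y)).obj M) ≪≫
        (ModuleCat.restrictScalars.{u} φ).mapIso (((ModStalk.pullbackStalkIso k y).app M).symm ≪≫
          (DerSch.stalkFunctor W y).mapIso ((Scheme.Modules.restrictFunctorIsoPullback k).symm.app M))) ≪≫
        ((ModuleCat.restrictScalarsComp' _ _ _ hc).app _).symm)
      fun {M N} g => ?_
  · exact ⟨DerivedCategory.Q.mapIso ((NatIso.mapHomologicalComplex e (ComplexShape.up ℤ)).app G)⟩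
  · let F : X.Modules ⥤ ModuleCat.{u} (X.presheaf.stalk (k y)) := DerSch.stalkFunctor X (k y)
    let n : F ≅ Scheme.Modules.restrictFunctor k ⋙ DerSch.stalkFunctor W y ⋙ ModuleCat.restrictScalars.{u} φ :=
      Functor.isoWhiskerLeft F (asIso adj.unit) ≪≫
        Functor.isoWhiskerRight (ModStalk.pullbackStalkIso k y).symm (ModuleCat.restrictScalars.{u} φ) ≪≫
        Functor.isoWhiskerRight (Scheme.Modules.restrictFunctorIsoPullback k).symm
          (DerSch.stalkFunctor W y ⋙ ModuleCat.restrictScalars.{u} φ)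
    refine ModuleCat.hom_ext (LinearMap.ext fun x => ?_)
    exact congr($(n.hom.naturality g) x)

/-- The stalks of a K-flat complex are K-flat over the base for a flat morphism. -/
theorem isKFlatFor_stalk (f : X ⟶ Y) [Flat f] (N : CochainComplex X.Modules ℤ) (hN : IsKFlatFor (shT X) N) (x : X) :
    IsKFlatFor (modT (Y.presheaf.stalk (f x))) ((DerSch.stalkCxOver f x).obj N) :=
  AmpThickRing.isKFlatFor_restrict (σ := (f.stalkMap x).hom) (P := (ModStalk.stalkK x).obj N) (Flat.stalkMap f x)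
    ((isKFlatFor_iff_stalks N).1 hN x)

/-- An affine chart of a pseudo-coherent object. -/
theorem exists_chart {E : DCoh.D X} (hp : ∀ m : ℤ, DCoh.IsPseudoCoherentD m E) (x : X) :
    ∃ (B : CommRingCat.{u}) (k : Spec B ⟶ X) (_ : IsOpenImmersion k) (P : DRing.Cx B) (c : ℤ),
      x ∈ k.opensRange ∧ DRing.VanishesAbove P c ∧ DRing.TermwiseFiniteFree P ∧
      Nonempty (DCoh.toD (Spec B) (((tilde.functor B).mapHomologicalComplex (ComplexShape.up ℤ)).obj P) ≅
        (PerfLocal.rd k).obj E) := by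
  obtain ⟨U, hU, hxU, -⟩ := exists_isAffineOpen_mem_and_subset (x := x) (U := (⊤ : X.Opens)) trivial
  let B : CommRingCat.{u} := Γ(X, U)
  let k : Spec B ⟶ X := hU.fromSpec
  haveI := AffSchLib.preservesFiniteLimits_tilde B
  obtain ⟨M, ⟨e⟩⟩ := ((tildeD_main B).2.2 _).1 (isQCohD_rd k (isQCohD_of_psc hp))
  obtain ⟨P, c, hc, hP, ⟨eP⟩⟩ := DRingLib.pc'_of_forall fun m =>
    pc_of_psc_tildeD (PCTriangle.psc_iso e.symm (psc_rd k (hp m)))
  exact ⟨B, k, inferInstance, P, c, by rwa [hU.opensRange_fromSpec], hc, hP,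
    ⟨((tilde.functor B).mapDerivedCategoryFactors.app P).symm ≪≫ (DCoh.tildeD B).mapIso eP ≪≫ e⟩⟩

/-- Tor amplitude at a generization, on a chart. -/
theorem amp_chart {R B : CommRingCat.{u}} (φ : R ⟶ B) (hflat : φ.hom.Flat) (hfp : φ.hom.FinitePresentation)
    (P : DRing.Cx B) (hP : DRing.TermwiseFiniteFree P) {a c : ℤ} (hac : a ≤ c) (hc : DRing.VanishesAbove P c)
    (T : CochainComplex (Spec B).Modules ℤ)
    (eT : T ≅ ((tilde.functor B).mapHomologicalComplex (ComplexShape.up ℤ)).obj P)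
    (y y' : Spec B) (hspec : y' ⤳ y)
    (C : DRing.Cx ((Spec R).presheaf.stalk ((Spec.map φ) y))) (hC : IsKFlatFor (modT _) C)
    (eC : DRing.toD C ≅ DRing.toD ((DerSch.stalkCxOver (Spec.map φ) y).obj T))
    (hex : ∀ n < a, ∀ Q : ModuleCat.{u} ((Spec R).presheaf.stalk ((Spec.map φ) y)),
      IsLocalRing.maximalIdeal ((Spec R).presheaf.stalk ((Spec.map φ) y)) •
        (⊤ : Submodule ((Spec R).presheaf.stalk ((Spec.map φ) y)) Q) = ⊥ → (DRing.tensorCx C Q).ExactAt n) :
    DerSch.HasTorAmplitudeAt (Spec.map φ) a c T y' := by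
  letI := φ.hom.toAlgebra
  haveI : Module.Flat R B := hflat
  haveI : Algebra.FinitePresentation R B := hfp
  let σ : ∀ w : Spec B, (Spec R).presheaf.stalk ((Spec.map φ) w) →+* (Spec B).presheaf.stalk w :=
    fun w => ((Spec.map φ).stalkMap w).hom
  have hσ : ∀ w : Spec B, (σ w).comp (stalkφ ((Spec.map φ) w)) = (stalkφ w).comp (algebraMap R B) := fun w =>
    RingHom.ext fun r => stalkMap_toStalk_apply φ w r
  let res : ∀ w : Spec B, DRing.Cx ((Spec R).presheaf.stalk ((Spec.map φ) w)) := fun w =>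
    ((ModuleCat.restrictScalars (σ w)).mapHomologicalComplex (ComplexShape.up ℤ)).obj
      (((ModuleCat.extendScalars (stalkφ w)).mapHomologicalComplex (ComplexShape.up ℤ)).obj P)
  let et : ∀ w : Spec B, DRing.toD (res w) ≅ DRing.toD ((DerSch.stalkCxOver (Spec.map φ) w).obj T) := fun w =>
    DerivedCategory.Q.mapIso (((ModuleCat.restrictScalars (σ w)).mapHomologicalComplex (ComplexShape.up ℤ)).mapIso
      ((NatIso.mapHomologicalComplex (tildeStalkIso w) (ComplexShape.up ℤ)).app P) ≪≫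
        (DerSch.stalkCxOver (Spec.map φ) w).mapIso eT.symm)
  haveI : Flat (Spec.map φ) := (HasRingHomProperty.Spec_iff (P := @Flat)).2 hflat
  have hk' : IsKFlatFor (modT _) (res y) := AmpThickRing.isKFlatFor_restrict (Flat.stalkMap (Spec.map φ) y)
    (isKFlatFor_ext (stalkφ y) (DRingLib.kflat_of_finiteFree hc hP))
  haveI hl : ∀ (S : CommRingCat.{u}) (w : Spec S), letI := (stalkφ w).toAlgebra
      IsLocalization.AtPrime ((Spec S).presheaf.stalk w) w.asIdeal :=
    fun S w => StructureSheaf.IsLocalization.to_stalk S w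
  letI := (stalkφ ((Spec.map φ) y)).toAlgebra
  letI := (stalkφ ((Spec.map φ) y')).toAlgebra
  haveI := hl R ((Spec.map φ) y)
  haveI := hl R ((Spec.map φ) y')
  obtain ⟨E, hE, hEf, ⟨eE⟩⟩ := AmpFibreCx.amp_of_fibre (R₁ := (Spec R).presheaf.stalk ((Spec.map φ) y))
    (R₂ := (Spec R).presheaf.stalk ((Spec.map φ) y')) P hP hac hc y y'
    ((PrimeSpectrum.le_iff_specializes y' y).2 hspec) (stalkφ y) (hl B y) (σ y) (hσ y) (stalkφ y') (hl B y')
    (σ y') (hσ y') ((Spec.map φ) y').asIdeal.primeCompl fun n hn Q hQ => by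
      haveI := DCat.hasLTensor Q
      refine (isZero_ltensor_iff Q hk' (et y ≪≫ eC.symm) n).1 ((isZero_ltensor_iff Q hC (Iso.refl _) n).2 (hex n hn Q ?_))
      rw [← IsLocalization.AtPrime.map_eq_maximalIdeal ((Spec.map φ) y).asIdeal]
      exact hQ
  exact ⟨E, hE, hEf, ⟨eE ≪≫ et y'⟩⟩

/-- Tor amplitude at a generization, on a chart, for an arbitrary morphism to the base. -/
theorem amp_chart' {R B : CommRingCat.{u}} (g : Spec B ⟶ Spec R) (hflat : Flat g) (hfp : LocallyOfFinitePresentation g)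
    (P : DRing.Cx B) (hP : DRing.TermwiseFiniteFree P) {a c : ℤ} (hac : a ≤ c) (hc : DRing.VanishesAbove P c)
    (T : CochainComplex (Spec B).Modules ℤ)
    (eT : T ≅ ((tilde.functor B).mapHomologicalComplex (ComplexShape.up ℤ)).obj P)
    (y y' : Spec B) (hspec : y' ⤳ y)
    (C : DRing.Cx ((Spec R).presheaf.stalk (g y))) (hC : IsKFlatFor (modT _) C)
    (eC : DRing.toD C ≅ DRing.toD ((DerSch.stalkCxOver g y).obj T))
    (hex : ∀ n < a, ∀ Q : ModuleCat.{u} ((Spec R).presheaf.stalk (g y)),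
      IsLocalRing.maximalIdeal ((Spec R).presheaf.stalk (g y)) •
        (⊤ : Submodule ((Spec R).presheaf.stalk (g y)) Q) = ⊥ → (DRing.tensorCx C Q).ExactAt n) :
    DerSch.HasTorAmplitudeAt g a c T y' := by
  obtain ⟨φ, rfl⟩ := Spec.map_surjective g
  exact amp_chart φ ((HasRingHomProperty.Spec_iff (P := @Flat)).1 hflat)
    ((HasRingHomProperty.Spec_iff (P := @LocallyOfFinitePresentation)).1 hfp) P hP hac hc T eT y y' hspec C hC eC hex

/-- Tor amplitude at a generization, at an open chart of `X`. -/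
theorem amp_generization {R : CommRingCat.{u}} (f : X ⟶ Spec R) [Flat f]
    [LocallyOfFinitePresentation f] (N : CochainComplex X.Modules ℤ) (hN : IsKFlatFor (shT X) N)
    {B : CommRingCat.{u}} (k : Spec B ⟶ X) [IsOpenImmersion k] (P : DRing.Cx B) (hP : DRing.TermwiseFiniteFree P)
    {a c : ℤ} (hac : a ≤ c) (hc : DRing.VanishesAbove P c)
    (e : DCoh.toD (Spec B) (((tilde.functor B).mapHomologicalComplex (ComplexShape.up ℤ)).obj P) ≅
      (PerfLocal.rd k).obj (DCoh.toD X N))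
    (y y' : Spec B) (hspec : y' ⤳ y)
    (hex : ∀ n < a, ∀ Q : ModuleCat.{u} ((Spec R).presheaf.stalk (f (k y))),
      IsLocalRing.maximalIdeal ((Spec R).presheaf.stalk (f (k y))) • (⊤ : Submodule ((Spec R).presheaf.stalk (f (k y))) Q) = ⊥ →
      (DRing.tensorCx ((DerSch.stalkCxOver f (k y)).obj N) Q).ExactAt n)
    (G : CochainComplex X.Modules ℤ) (eG : DCoh.toD X G ≅ DCoh.toD X N) :
    DerSch.HasTorAmplitudeAt f a c G (k y') := by
  let T := ((tilde.functor B).mapHomologicalComplex (ComplexShape.up ℤ)).obj P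
  let eT : DCoh.toD (Spec B) (((Scheme.Modules.restrictFunctor k).mapHomologicalComplex (ComplexShape.up ℤ)).obj N) ≅
      DCoh.toD (Spec B) T :=
    ((Scheme.Modules.restrictFunctor k).mapDerivedCategoryFactors.app N).symm ≪≫ e.symm
  obtain ⟨e₁⟩ := nonempty_stalk_restrict f k N y
  obtain ⟨e₁'⟩ := AmpThick.nonempty_stalk_iso (k ≫ f) y eT
  obtain ⟨e₂⟩ := nonempty_stalk_restrict f k N y'
  obtain ⟨e₂'⟩ := AmpThick.nonempty_stalk_iso (k ≫ f) y' eT
  obtain ⟨sG⟩ := AmpThick.nonempty_stalk_iso f (k y') eG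
  have hk := isKFlatFor_stalk f N hN (k y)
  obtain ⟨E, hE, hEf, ⟨eE⟩⟩ := amp_chart' (k ≫ f) (inferInstance) (inferInstance) P hP hac hc T (Iso.refl _) y y' hspec
    ((DerSch.stalkCxOver f (k y)).obj N) hk (e₁ ≪≫ e₁') hex
  exact ⟨E, hE, hEf, ⟨eE ≪≫ e₂'.symm ≪≫ e₂.symm ≪≫ sG.symm⟩⟩

/-- Relative perfectness from the base change to a closed subscheme containing the closed points. -/
theorem locFiniteTorAmplitudeD_of_fibres {R : CommRingCat.{u}} {X₀ Y₀ : Scheme.{u}} (f : X ⟶ Spec R) [Flat f]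
    [LocallyOfFinitePresentation f] [CompactSpace X] (i : X₀ ⟶ X) (f₀ : X₀ ⟶ Y₀) (j : Y₀ ⟶ Spec R)
    [IsClosedImmersion j] (sq : IsPullback i f₀ f j) (hclosed : ∀ x : X, IsClosed {x} → x ∈ Set.range i)
    [DCoh.HasLpull i] (E : DCoh.D X) (hpc : ∀ m : ℤ, DCoh.IsPseudoCoherentD m E)
    (F₀ : CochainComplex X₀.Modules ℤ) (eF : DCoh.toD X₀ F₀ ≅ (DCoh.Lpull i).obj E)
    (hamp : DerSch.LocFiniteTorAmplitude f₀ F₀) : DerSch.LocFiniteTorAmplitudeD f E := by
  classical
  intro G ⟨eG⟩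
  haveI : IsClosedImmersion i := MorphismProperty.of_isPullback sq.flip inferInstance
  haveI : CompactSpace X₀ := i.isClosedEmbedding.compactSpace
  obtain ⟨N, c, hN, -, hc, -⟩ := exists_kflat_sheaf G
  haveI := hc
  let eN : DCoh.toD X N ≅ E := asIso (DerivedCategory.Q.map c) ≪≫ eG
  let e₁ : DCoh.toD X₀ F₀ ≅ DCoh.toD X₀ (((Scheme.Modules.pullback i).mapHomologicalComplex (ComplexShape.up ℤ)).obj N) :=
    eF ≪≫ (DCoh.Lpull i).mapIso eN.symm ≪≫ PullPerf.lpullIso i hN
  choose V a b hzV hV using hamp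
  obtain ⟨t, ht⟩ := isCompact_univ.elim_finite_subcover (fun z : X₀ => (V z : Set X₀)) (fun z => (V z).2)
    (fun z _ => Set.mem_iUnion.2 ⟨z, hzV z⟩)
  obtain ⟨A, hA⟩ := (t.image a).finite_toSet.bddBelow
  choose B k hk P cc hxk hcc hP he using fun x : X => exists_chart hpc x
  haveI := hk
  obtain ⟨s, hs⟩ := isCompact_univ.elim_finite_subcover (fun x : X => ((k x).opensRange : Set X))
    (fun x => (k x).opensRange.2) (fun x _ => Set.mem_iUnion.2 ⟨x, hxk x⟩)
  obtain ⟨C, hC⟩ := ((insert A (s.image cc))).finite_toSet.bddAbove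
  refine fun x => ⟨⊤, A, C, trivial, fun y' _ => ?_⟩
  obtain ⟨x₀, hx₀, hx₀c⟩ := (isClosed_closure (s := ({y'} : Set X))).exists_closed_singleton
    (Set.singleton_nonempty y').closure
  obtain ⟨z, rfl⟩ := hclosed x₀ hx₀c
  obtain ⟨z₁, hz₁t, hzz₁⟩ := Set.mem_iUnion₂.1 (ht (Set.mem_univ z))
  obtain ⟨x₁, hx₁s, y, hy⟩ := Set.mem_iUnion₂.1 (hs (Set.mem_univ (i z)))
  have hspec : y' ⤳ i z := specializes_iff_mem_closure.2 hx₀
  obtain ⟨w, rfl⟩ : y' ∈ (k x₁).opensRange := hspec.mem_open (k x₁).opensRange.2 ⟨y, hy⟩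
  have hspec' : w ⤳ y := (k x₁).isOpenEmbedding.isInducing.specializes_iff.1 (by rw [hy]; exact hspec)
  obtain ⟨e⟩ := he x₁
  have hex : ∀ n < A, ∀ Q : ModuleCat.{u} ((Spec R).presheaf.stalk (f (k x₁ y))),
      IsLocalRing.maximalIdeal ((Spec R).presheaf.stalk (f (k x₁ y))) • (⊤ : Submodule ((Spec R).presheaf.stalk (f (k x₁ y))) Q) = ⊥ →
      (DRing.tensorCx ((DerSch.stalkCxOver f (k x₁ y)).obj N) Q).ExactAt n := by
    rw [hy]
    intro n hn Q hQ
    exact AmpThick.exactAt_killed f₀ f i j sq N hN (a z₁) (b z₁) z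
      (AmpThick.amp_congr f₀ z e₁ (hV z₁ z hzz₁)) Q hQ n
      (Or.inl (lt_of_lt_of_le hn (hA (Finset.mem_image_of_mem _ hz₁t))))
  exact amp_generization f N hN (k x₁) (P x₁) (hP x₁) (hC (Finset.mem_insert_self _ _))
    (fun n hn => hcc x₁ n (lt_of_le_of_lt (hC (Finset.mem_insert_of_mem (Finset.mem_image_of_mem _ hx₁s))) hn))
    (e ≪≫ (PerfLocal.rd (k x₁)).mapIso eN.symm) y w hspec' hex G (eG ≪≫ eN.symm)

end Groth.Agent.FlatCx12.AmpFibre
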