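import Groth.Agent.RelPC.BaseChange
import Groth.Agent.DCat.NilpotentBC
import Groth.Agent.DCat.KFlatModule
import Groth.Agent.DCat.ExtKFlat
import Mathlib.Algebra.Category.ModuleCat.Descent

/-!
# Tor amplitude over the base along nilpotent surjections
-/

set_option autoImplicit false
set_option backward.isDefEq.respectTransparency false
set_option backward.defeqAttrib.useBackward true
set_option linter.style.haveILetI false
set_option backward.isDefEq.respectTransparency.types false

universe u

open CategoryTheory CategoryTheory.Limits HomologicalComplex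
open scoped TensorProduct

attribute [local instance] HasDerivedCategory.standard

namespace Groth.Agent.FlatCx12.AmpThickRing

open Groth.Agent.DCat

variable {R R' A A' : Type u} [CommRing R] [CommRing R'] [CommRing A] [CommRing A']

/-- Restriction of scalars along a flat map preserves flat modules. -/
theorem flat_restrict {σ : R →+* A} (hσ : σ.Flat) (M : ModuleCat.{u} A) [Module.Flat A M] :
    Module.Flat R ((ModuleCat.restrictScalars.{u} σ).obj M) := by
  letI := σ.toAlgebra
  haveI : Module.Flat R A := hσ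
  letI : Module R M := Module.compHom _ σ
  haveI : IsScalarTower R A M := IsScalarTower.of_algebraMap_smul fun _ _ => rfl
  exact Module.Flat.trans R A M

/-- Restriction of scalars along a flat map preserves K-flat complexes. -/
theorem isKFlatFor_restrict {σ : R →+* A} (hσ : σ.Flat) {P : DRing.Cx A} (hP : IsKFlatFor (modT A) P) :
    IsKFlatFor (modT R) (((ModuleCat.restrictScalars.{u} σ).mapHomologicalComplex (ComplexShape.up ℤ)).obj P) :=
  fun M hM => by
    haveI := ModuleCat.preservesFiniteLimits_extendScalars_of_flat hσ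
    haveI : PreservesColimitsOfSize.{0, 0} (ModuleCat.extendScalars.{u, u, u} σ) :=
      (ModuleCat.extendRestrictScalarsAdj.{u, u, u} σ).leftAdjoint_preservesColimits
    let F := ModuleCat.extendScalars.{u, u, u} σ
    have h₁ := hP ((F.mapHomologicalComplex (ComplexShape.up ℤ)).obj M) fun n => (hM n).map F
    refine acyclic_of_iso' ((totExtIso σ P M) ≪≫ totSymm _ M) fun n => ?_
    exact ((acyclic_of_iso' (totSymm _ P) h₁) n).map (ModuleCat.restrictScalars.{u} σ)

/-- Quotients form cocartesian squares. -/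
theorem isCocartesian_of_surjective (σ : R →+* A) (τ : R →+* R') (φ : A →+* A') (σ' : R' →+* A')
    (hc : σ'.comp τ = φ.comp σ) (hτ : Function.Surjective τ) (hφ : Function.Surjective φ)
    (hker : RingHom.ker φ = (RingHom.ker τ).map σ) :
    RelPC.IsCocartesian R R' A A' σ τ φ σ' hc := by
  unfold RelPC.IsCocartesian
  letI := σ.toAlgebra
  letI := τ.toAlgebra
  letI := φ.toAlgebra
  letI := σ'.toAlgebra
  letI := (φ.comp σ).toAlgebra
  haveI : IsScalarTower R A A' := .of_algebraMap_eq fun _ => rfl
  haveI : IsScalarTower R R' A' := .of_algebraMap_eq fun x => (RingHom.congr_fun hc x).symm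
  let g : A →ₗ[R] A' := (IsScalarTower.toAlgHom R A A').toLinearMap
  let e : R' ⊗[R] A →ₗ[R'] A' := TensorProduct.AlgebraTensorModule.lift
    { toFun := fun r => r • g
      map_add' := fun _ _ => add_smul _ _ _
      map_smul' := fun r s => (smul_smul r s g).symm }
  have hone : ∀ z : R' ⊗[R] A, ∃ a : A, (1 : R') ⊗ₜ[R] a = z := by
    intro z
    induction z using TensorProduct.induction_on with
    | zero => exact ⟨0, TensorProduct.tmul_zero _ _⟩
    | tmul r a =>
      obtain ⟨s, rfl⟩ := hτ r
      exact ⟨s • a, by rw [← TensorProduct.smul_tmul]; exact congrArg (· ⊗ₜ[R] a) (mul_one (τ s))⟩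
    | add u v hu hv =>
      obtain ⟨a, rfl⟩ := hu
      obtain ⟨b, rfl⟩ := hv
      exact ⟨a + b, TensorProduct.tmul_add _ _ _⟩
  have he : ∀ a : A, e ((1 : R') ⊗ₜ[R] a) = φ a := fun a => one_smul R' (φ a)
  have hz : ∀ a ∈ (RingHom.ker τ).map σ, ∀ b : A, (1 : R') ⊗ₜ[R] (b * a) = 0 := by
    intro a ha
    induction ha using Submodule.span_induction with
    | mem x hx =>
      obtain ⟨p, hp, rfl⟩ := hx
      intro b
      rw [mul_comm, show σ p * b = p • b from rfl, ← TensorProduct.smul_tmul,
        show p • (1 : R') = τ p * 1 from rfl, RingHom.mem_ker.1 hp, zero_mul, TensorProduct.zero_tmul]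
    | zero => intro b; rw [mul_zero, TensorProduct.tmul_zero]
    | add x y _ _ hx hy => intro b; rw [mul_add, TensorProduct.tmul_add, hx, hy, add_zero]
    | smul r x _ hx => intro b; rw [smul_eq_mul, ← mul_assoc]; exact hx _
  refine ⟨IsBaseChange.of_equiv (LinearEquiv.ofBijective e ⟨?_, fun c => ?_⟩) he⟩
  · rw [injective_iff_map_eq_zero]
    intro z h
    obtain ⟨a, rfl⟩ := hone z
    rw [he, ← RingHom.mem_ker, hker] at h
    simpa using hz a h 1
  · obtain ⟨a, rfl⟩ := hφ c
    exact ⟨1 ⊗ₜ[R] a, he a⟩

/-- Along a cocartesian square of surjections, tor amplitude after base change bounds the tensor products with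
killed modules. -/
theorem exactAt_killed (σ : R →+* A) (τ : R →+* R') (φ : A →+* A') (σ' : R' →+* A')
    (hc : σ'.comp τ = φ.comp σ) (hσ : σ.Flat) (hτ : Function.Surjective τ) (hφ : Function.Surjective φ)
    (hker : RingHom.ker φ = (RingHom.ker τ).map σ)
    (P : DRing.Cx A) (hP : IsKFlatFor (modT A) P) (a b : ℤ)
    (h : DRing.HasTorAmplitudeIn R' a b (DRing.toD (((ModuleCat.restrictScalars.{u} σ').mapHomologicalComplex
      (ComplexShape.up ℤ)).obj (((ModuleCat.extendScalars.{u, u, u} φ).mapHomologicalComplex (ComplexShape.up ℤ)).obj P))))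
    (N : ModuleCat.{u} R) (hN : RingHom.ker τ • (⊤ : Submodule R N) = ⊥) (i : ℤ) (hi : i < a ∨ b < i) :
    (DRing.tensorCx (((ModuleCat.restrictScalars.{u} σ).mapHomologicalComplex (ComplexShape.up ℤ)).obj P) N).ExactAt i := by
  let P₀ := ((ModuleCat.restrictScalars.{u} σ).mapHomologicalComplex (ComplexShape.up ℤ)).obj P
  have hk := isKFlatFor_restrict hσ hP
  haveI : ∀ M : ModuleCat.{u} R', DRing.HasLTensor R' M := fun M => hasLTensor M
  haveI : DRing.HasLBaseChange τ := hasLBaseChange τ
  obtain ⟨E, hE, hEf, ⟨eE⟩⟩ := h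
  have h' : DRing.HasTorAmplitudeIn R' a b ((DRing.LBaseChange τ).obj (DRing.toD P₀)) :=
    ⟨E, hE, hEf, ⟨eE ≪≫ (DerivedCategory.Q.mapIso ((NatIso.mapHomologicalComplex
      (RelPC.extRestrictIso R R' A A' σ τ φ σ' hc (isCocartesian_of_surjective σ τ φ σ' hc hτ hφ hker))
        (ComplexShape.up ℤ)).app P)).symm ≪≫ (lbaseChangeIso τ hk).symm⟩⟩
  obtain ⟨M₀, ⟨eN⟩⟩ := exists_restrict_of_killed τ hτ N hN
  exact ((isZero_ltensor_base_iff τ hk (Iso.refl _) M₀ i).1 (vanish_of_flatAmp h' M₀ hi)).of_iso
    ((NatIso.mapHomologicalComplex ((MonoidalCategory.tensoringRight (ModuleCat.{u} R)).mapIso eN) _).app P₀)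

/-- Tor amplitude over the base descends along a cocartesian square of nilpotent surjections. -/
theorem amp_descend (σ : R →+* A) (τ : R →+* R') (φ : A →+* A') (σ' : R' →+* A')
    (hc : σ'.comp τ = φ.comp σ) (hσ : σ.Flat) (hτ : Function.Surjective τ) (hφ : Function.Surjective φ)
    (hker : RingHom.ker φ = (RingHom.ker τ).map σ) (hnil : IsNilpotent (RingHom.ker τ))
    (P : DRing.Cx A) (hP : IsKFlatFor (modT A) P) (hPf : ∀ i, Module.Flat A (P.X i)) (a b : ℤ)
    (h : DRing.HasTorAmplitudeIn R' a b (DRing.toD (((ModuleCat.restrictScalars.{u} σ').mapHomologicalComplex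
      (ComplexShape.up ℤ)).obj (((ModuleCat.extendScalars.{u, u, u} φ).mapHomologicalComplex (ComplexShape.up ℤ)).obj P)))) :
    DRing.HasTorAmplitudeIn R a b
      (DRing.toD (((ModuleCat.restrictScalars.{u} σ).mapHomologicalComplex (ComplexShape.up ℤ)).obj P)) := by
  let P₀ := ((ModuleCat.restrictScalars.{u} σ).mapHomologicalComplex (ComplexShape.up ℤ)).obj P
  have hk := isKFlatFor_restrict hσ hP
  have hf : DRing.TermwiseFlat P₀ := fun i => haveI := hPf i; flat_restrict hσ (P.X i)
  haveI : ∀ M : ModuleCat.{u} R, DRing.HasLTensor R M := fun M => hasLTensor M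
  exact flatAmp_of_vanish fun M i hi => (isZero_ltensor_iff M hk (Iso.refl _) i).2
    (DCat.exactAt_of_killed (RingHom.ker τ) hnil P₀ hf i
      (fun N hN => exactAt_killed σ τ φ σ' hc hσ hτ hφ hker P hP a b h N hN i hi) M)

end Groth.Agent.FlatCx12.AmpThickRing
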