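import Groth.Prelude.Def_DerSch
import Groth.Agent.FlatCx12.AmpThickRing
import Groth.Agent.FlatMorDeform.Scheme
import Groth.Agent.ModStalk.Pullback
import Groth.Agent.DCat.KFlatSheaf
import Groth.Agent.DCat.PullPerf
import Groth.Agent.CAlgH.CIImmersion

/-!
# Stalkwise tor amplitude relative to the base and finite order thickenings
-/

set_option autoImplicit false
set_option backward.isDefEq.respectTransparency false
set_option backward.defeqAttrib.useBackward true
set_option linter.style.haveILetI false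
set_option synthInstance.maxHeartbeats 100000
set_option backward.isDefEq.respectTransparency.types false

universe u

open CategoryTheory CategoryTheory.Limits DerivedCategory AlgebraicGeometry TopologicalSpace
open Groth.Agent.DCat

attribute [local instance] HasDerivedCategory.standard

namespace Groth.Agent.FlatCx12.AmpThick

variable {X X' Y Y' : Scheme.{u}}

/-- The complex of stalks only depends on the object of the derived category. -/
theorem nonempty_stalk_iso (f : X ⟶ Y) (x : X) {F G : CochainComplex X.Modules ℤ}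
    (e : DCoh.toD X F ≅ DCoh.toD X G) :
    Nonempty (DRing.toD ((DerSch.stalkCxOver f x).obj F) ≅ DRing.toD ((DerSch.stalkCxOver f x).obj G)) := by
  let T := DerSch.stalkOver f x
  exact ⟨(T.mapDerivedCategoryFactors.app F).symm ≪≫ T.mapDerivedCategory.mapIso e ≪≫
    T.mapDerivedCategoryFactors.app G⟩

theorem amp_congr (f : X ⟶ Y) (x : X) {a b : ℤ} {F G : CochainComplex X.Modules ℤ}
    (e : DCoh.toD X F ≅ DCoh.toD X G) (h : DerSch.HasTorAmplitudeAt f a b F x) :
    DerSch.HasTorAmplitudeAt f a b G x := by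
  obtain ⟨E, hE, hEf, ⟨eE⟩⟩ := h
  obtain ⟨s⟩ := nonempty_stalk_iso f x e
  exact ⟨E, hE, hEf, ⟨eE ≪≫ s⟩⟩

variable (f : X ⟶ Y) (f' : X' ⟶ Y') (i : X ⟶ X') (j : Y ⟶ Y')

/-- The square of local rings of a base change along a closed immersion. -/
theorem exists_square (sq : IsPullback i f f' j) [IsClosedImmersion j] (z : X) :
    ∃ τ : Y'.presheaf.stalk (f' (i z)) ⟶ Y.presheaf.stalk (f z),
      (f.stalkMap z).hom.comp τ.hom = (i.stalkMap z).hom.comp (f'.stalkMap (i z)).hom ∧
      Function.Surjective τ.hom ∧ Function.Surjective (i.stalkMap z).hom ∧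
      RingHom.ker (i.stalkMap z).hom = (RingHom.ker τ.hom).map (f'.stalkMap (i z)).hom ∧
      (IsNilpotent j.ker → IsNilpotent (RingHom.ker τ.hom)) := by
  haveI : IsClosedImmersion i := MorphismProperty.of_isPullback sq.flip inferInstance
  have hpt : f' (i z) = j (f z) := congrArg (fun p : X ⟶ Y' => p z) sq.w
  let c := Y'.presheaf.stalkCongr (.of_eq hpt)
  let τ := c.hom ≫ j.stalkMap (f z)
  let σ := f'.stalkMap (i z)
  let φ := i.stalkMap z
  have hc : τ ≫ f.stalkMap z = σ ≫ φ := by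
    have := Scheme.Hom.stalkMap_congr_hom (i ≫ f') (f ≫ j) sq.w z
    rw [Scheme.Hom.stalkMap_comp, Scheme.Hom.stalkMap_comp] at this
    rw [this]; rfl
  obtain ⟨U, hU, hyU, -⟩ := exists_isAffineOpen_mem_and_subset (x := f' (i z)) (U := (⊤ : Y'.Opens)) trivial
  obtain ⟨W, hW, hxW, hWU⟩ := exists_isAffineOpen_mem_and_subset (x := i z) (U := f' ⁻¹ᵁ U) hyU
  have hyU' : j (f z) ∈ U := hpt ▸ hyU
  have hg : (Y'.presheaf.germ U _ hyU').hom = c.hom.hom.comp (Y'.presheaf.germ U _ hyU).hom := by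
    rw [← CommRingCat.hom_comp]
    simp only [c, TopCat.Presheaf.stalkCongr_hom, TopCat.Presheaf.germ_stalkSpecializes]
  have hker : RingHom.ker τ.hom = (j.ker.ideal ⟨U, hU⟩).map (Y'.presheaf.germ U _ hyU).hom := by
    have hb : Function.Bijective c.hom.hom := ConcreteCategory.bijective_of_isIso c.hom
    show Ideal.comap c.hom.hom (RingHom.ker (j.stalkMap (f z)).hom) = _
    rw [CAlgH.CIImmersion.ker_stalkMap_eq j (f z) hU hyU', hg, ← Ideal.map_map, ← Scheme.Hom.ker_apply j ⟨U, hU⟩,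
      Ideal.comap_map_of_bijective _ hb]
  have hker' : RingHom.ker φ.hom = (RingHom.ker τ.hom).map σ.hom := by
    rw [hker, CAlgH.CIImmersion.ker_stalkMap_eq i z hW hxW, ← Scheme.Hom.ker_apply i ⟨W, hW⟩,
      FlatMorThick.ker_eq_comap_of_isPullback sq, FSchLib.ideal_comap_eq_map f' _ ⟨W, hW⟩ ⟨U, hU⟩ hWU,
      Ideal.map_map, Ideal.map_map]
    congr 1
    ext r
    exact ((Scheme.Hom.germ_stalkMap_apply f' U _ hyU r).trans
      (TopCat.Presheaf.germ_res_apply _ (homOfLE hWU) _ hxW _).symm).symm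
  have hnil : IsNilpotent j.ker → IsNilpotent (RingHom.ker τ.hom) := fun hjn => by
    rw [hker]
    exact (FlatMorThick.isNilpotent_ideal hjn ⟨U, hU⟩).map (Ideal.mapHom _)
  have hτ : Function.Surjective τ.hom :=
    (j.stalkMap_surjective (f z)).comp (ConcreteCategory.bijective_of_isIso c.hom).2
  exact ⟨τ, by rw [← CommRingCat.hom_comp, ← CommRingCat.hom_comp, hc], hτ, i.stalkMap_surjective z, hker', hnil⟩

/-- Tor amplitude at a point bounds the tensor products with modules over the residue field. -/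
theorem exactAt_killed (sq : IsPullback i f f' j) [Flat f'] [IsClosedImmersion j]
    (P : CochainComplex X'.Modules ℤ) (hP : IsKFlatFor (shT X') P) (a b : ℤ) (z : X)
    (h : DerSch.HasTorAmplitudeAt f a b (((Scheme.Modules.pullback i).mapHomologicalComplex (ComplexShape.up ℤ)).obj P) z)
    (N : ModuleCat.{u} (Y'.presheaf.stalk (f' (i z))))
    (hN : IsLocalRing.maximalIdeal (Y'.presheaf.stalk (f' (i z))) • (⊤ : Submodule (Y'.presheaf.stalk (f' (i z))) N) = ⊥)
    (n : ℤ) (hn : n < a ∨ b < n) : (DRing.tensorCx ((DerSch.stalkCxOver f' (i z)).obj P) N).ExactAt n := by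
  obtain ⟨τ, hc, hτ, hφ, hker, -⟩ := exists_square f f' i j sq z
  let T := DerSch.stalkFunctor X' (i z)
  let P₁ := (T.mapHomologicalComplex (ComplexShape.up ℤ)).obj P
  obtain ⟨E, hE, hEf, ⟨eE⟩⟩ := h
  exact AmpThickRing.exactAt_killed (f'.stalkMap (i z)).hom τ.hom (i.stalkMap z).hom (f.stalkMap z).hom hc
    (Flat.stalkMap f' (i z)) hτ hφ hker P₁ ((isKFlatFor_iff_stalks P).1 hP (i z)) a b
    ⟨E, hE, hEf, ⟨eE ≪≫ DerivedCategory.Q.mapIso
      (((ModuleCat.restrictScalars (f.stalkMap z).hom).mapHomologicalComplex (ComplexShape.up ℤ)).mapIso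
        ((NatIso.mapHomologicalComplex (ModStalk.pullbackStalkIso i z) (ComplexShape.up ℤ)).app P))⟩⟩
    N (le_bot_iff.1 ((Submodule.smul_mono_left (IsLocalRing.le_maximalIdeal (RingHom.ker_ne_top τ.hom))).trans hN.le)) n hn

/-- Tor amplitude at a point descends. -/
theorem amp_descend (sq : IsPullback i f f' j) [Flat f'] (hj : MoreMor.IsFiniteOrderThickening j)
    (P : CochainComplex X'.Modules ℤ) (hP : IsKFlatFor (shT X') P) (hPf : ∀ n, FlatMod.IsFlat (P.X n))
    (a b : ℤ) (z : X)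
    (h : DerSch.HasTorAmplitudeAt f a b (((Scheme.Modules.pullback i).mapHomologicalComplex (ComplexShape.up ℤ)).obj P) z) :
    DerSch.HasTorAmplitudeAt f' a b P (i z) := by
  haveI := hj.1.1
  obtain ⟨τ, hc, hτ, hφ, hker, hnil⟩ := exists_square f f' i j sq z
  let T := DerSch.stalkFunctor X' (i z)
  let P₁ := (T.mapHomologicalComplex (ComplexShape.up ℤ)).obj P
  obtain ⟨E, hE, hEf, ⟨eE⟩⟩ := h
  exact AmpThickRing.amp_descend (f'.stalkMap (i z)).hom τ.hom (i.stalkMap z).hom (f.stalkMap z).hom hc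
    (Flat.stalkMap f' (i z)) hτ hφ hker (hnil hj.2) P₁
    ((isKFlatFor_iff_stalks P).1 hP (i z)) (fun n => hPf n (i z)) a b
    ⟨E, hE, hEf, ⟨eE ≪≫ DerivedCategory.Q.mapIso
      (((ModuleCat.restrictScalars (f.stalkMap z).hom).mapHomologicalComplex (ComplexShape.up ℤ)).mapIso
        ((NatIso.mapHomologicalComplex (ModStalk.pullbackStalkIso i z) (ComplexShape.up ℤ)).app P))⟩⟩

/-- Local finite tor amplitude relative to the base descends along finite order thickenings. -/
theorem locFiniteTorAmplitudeD_of_thick (sq : IsPullback i f f' j) [Flat f']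
    (hj : MoreMor.IsFiniteOrderThickening j) [DCoh.HasLpull i] (E' : DCoh.D X')
    (F : CochainComplex X.Modules ℤ) (eF : DCoh.toD X F ≅ (DCoh.Lpull i).obj E')
    (hF : DerSch.LocFiniteTorAmplitude f F) : DerSch.LocFiniteTorAmplitudeD f' E' := by
  intro G ⟨eG⟩
  have hi := FlatMorDeform.isFiniteOrderThickening_of_isPullback hj sq
  haveI := hi.1.1
  haveI := hi.1.2
  obtain ⟨P, c, hP, hPf, hc, -⟩ := exists_kflat_sheaf G
  haveI := hc
  let eP : DCoh.toD X' P ≅ E' := asIso (DerivedCategory.Q.map c) ≪≫ eG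
  let e₁ : DCoh.toD X F ≅
      DCoh.toD X (((Scheme.Modules.pullback i).mapHomologicalComplex (ComplexShape.up ℤ)).obj P) :=
    eF ≪≫ (DCoh.Lpull i).mapIso eP.symm ≪≫ PullPerf.lpullIso i hP
  intro x'
  obtain ⟨z, rfl⟩ := i.surjective x'
  obtain ⟨V, a, b, hz, hV⟩ := hF z
  have ho : IsOpen (i '' (V : Set X)) :=
    (isHomeomorph_iff_isEmbedding_surjective.2 ⟨i.isClosedEmbedding.toIsEmbedding, i.surjective⟩).isOpenMap _ V.2
  refine ⟨⟨_, ho⟩, a, b, ⟨z, hz, rfl⟩, ?_⟩
  rintro _ ⟨w, hw, rfl⟩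
  exact amp_congr f' (i w) (asIso (DerivedCategory.Q.map c))
    (amp_descend f f' i j sq hj P hP hPf a b w (amp_congr f w e₁ (hV w hw)))

end Groth.Agent.FlatCx12.AmpThick
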