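import Groth.Agent.DCat.ClosedPush
import Groth.Agent.DCat.PullPerf
import Groth.Agent.FlatCx12.AmpThick
import Groth.Agent.FlatCx12.AmpFibre
import Mathlib.AlgebraicGeometry.Morphisms.Flat

/-!
# Stalks of direct images along closed immersions and relative tor amplitude
-/

set_option autoImplicit false
set_option backward.isDefEq.respectTransparency false
set_option backward.defeqAttrib.useBackward true
set_option linter.style.haveILetI false

universe u

open CategoryTheory CategoryTheory.Limits AlgebraicGeometry HomologicalComplex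

attribute [local instance] HasDerivedCategory.standard

namespace Groth.Agent.FlatCx12.PushStalk

open Groth.Agent.DCat Groth.Agent.ModStalk

theorem flat_restrict {A B : Type u} [CommRing A] [CommRing B] (φ : A →+* B) (hφ : φ.Flat) (M : ModuleCat.{u} B)
    [Module.Flat B M] : Module.Flat A ((ModuleCat.restrictScalars.{u} φ).obj M) := by
  letI := φ.toAlgebra
  haveI : Module.Flat A B := hφ
  letI : Module A M := Module.compHom M φ
  haveI : IsScalarTower A B M := IsScalarTower.of_algebraMap_smul fun _ _ => rfl
  exact (Module.Flat.trans A B M : Module.Flat A M)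

variable {X P S : Scheme.{u}} (i : X ⟶ P) [IsClosedImmersion i] (g : P ⟶ S)

/-- The stalk of a direct image along a closed immersion at a point of the image. -/
theorem nonempty_stalkPushIso (x : X) :
    Nonempty (Scheme.Modules.pushforward i ⋙ DerSch.stalkFunctor P (i x) ≅
      DerSch.stalkFunctor X x ⋙ ModuleCat.restrictScalars (i.stalkMap x).hom) := by
  let φ := (i.stalkMap x).hom
  let η := (ModuleCat.extendRestrictScalarsAdj φ).unit
  let S' := DerSch.stalkFunctor P (i x)
  let r := ModuleCat.restrictScalars.{u} φ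
  let ν : Scheme.Modules.pushforward i ⋙ S' ⟶ DerSch.stalkFunctor X x ⋙ r :=
    { app := fun M => η.app (S'.obj ((Scheme.Modules.pushforward i).obj M)) ≫
        r.map ((pullbackStalkIso i x).inv.app ((Scheme.Modules.pushforward i).obj M) ≫
          (DerSch.stalkFunctor X x).map ((Scheme.Modules.pullbackPushforwardAdjunction i).counit.app M))
      naturality := fun M N h => by
        have h1 := η.naturality (S'.map ((Scheme.Modules.pushforward i).map h))
        have h2 := (pullbackStalkIso i x).inv.naturality ((Scheme.Modules.pushforward i).map h)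
        have h3 := congrArg (DerSch.stalkFunctor X x).map
          ((Scheme.Modules.pullbackPushforwardAdjunction i).counit.naturality h)
        simp only [Functor.comp_map, Functor.id_map, Functor.map_comp] at h1 h2 h3 ⊢
        rw [← Category.assoc, h1]
        simp only [Category.assoc, ← Functor.map_comp]
        refine congrArg (η.app _ ≫ ·) ((r.map_comp _ _).symm.trans (congrArg r.map ?_))
        simp only [Functor.map_comp]
        rw [← Category.assoc, h2, Category.assoc, h3] }
  haveI : ∀ M, IsIso (ν.app M) := fun M => by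
    haveI : IsIso (η.app (S'.obj ((Scheme.Modules.pushforward i).obj M))) :=
      (ConcreteCategory.isIso_iff_bijective _).2
        ⟨ClosedPush.extend_unit_injective φ (i.stalkMap_surjective x) _
          (fun r hr a => ClosedPush.smul_stalk_push i M x r hr a),
        ClosedPush.extend_unit_surjective φ (i.stalkMap_surjective x) _⟩
    show IsIso (_ ≫ _)
    infer_instance
  haveI := NatIso.isIso_of_isIso_app ν
  exact ⟨asIso ν⟩

/-- Stalks over the base of a direct image along a closed immersion. -/
theorem nonempty_stalkOverPushIso (x : X) :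
    Nonempty (Scheme.Modules.pushforward i ⋙ DerSch.stalkOver g (i x) ≅ DerSch.stalkOver (i ≫ g) x) := by
  obtain ⟨e⟩ := nonempty_stalkPushIso i x
  have hc : ((i ≫ g).stalkMap x).hom = (i.stalkMap x).hom.comp (g.stalkMap (i x)).hom := by
    rw [Scheme.Hom.stalkMap_comp]
    rfl
  exact ⟨(Functor.associator _ _ _).symm ≪≫ Functor.isoWhiskerRight e _ ≪≫ Functor.associator _ _ _ ≪≫
    Functor.isoWhiskerLeft (DerSch.stalkFunctor X x)
      (ModuleCat.restrictScalarsComp' (g.stalkMap (i x)).hom (i.stalkMap x).hom ((i ≫ g).stalkMap x).hom hc).symm⟩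

/-- Tor amplitude relative to the base is unchanged by direct image along a closed immersion. -/
theorem amp_push_iff (F : CochainComplex X.Modules ℤ) (a b : ℤ) (x : X) :
    DerSch.HasTorAmplitudeAt g a b (((Scheme.Modules.pushforward i).mapHomologicalComplex (ComplexShape.up ℤ)).obj F) (i x) ↔
      DerSch.HasTorAmplitudeAt (i ≫ g) a b F x := by
  obtain ⟨e⟩ := nonempty_stalkOverPushIso i g x
  let e' : (DerSch.stalkCxOver g (i x)).obj
      (((Scheme.Modules.pushforward i).mapHomologicalComplex (ComplexShape.up ℤ)).obj F) ≅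
        (DerSch.stalkCxOver (i ≫ g) x).obj F :=
    Hom.isoOfComponents (fun n => e.app (F.X n)) (fun p q _ => (e.hom.naturality (F.d p q)).symm)
  exact ⟨fun ⟨E, h1, h2, ⟨j⟩⟩ => ⟨E, h1, h2, ⟨j ≪≫ DerivedCategory.Q.mapIso e'⟩⟩,
    fun ⟨E, h1, h2, ⟨j⟩⟩ => ⟨E, h1, h2, ⟨j ≪≫ DerivedCategory.Q.mapIso e'.symm⟩⟩⟩

/-- Over a flat base a complex of flat modules has the expected amplitude. -/
theorem amp_of_flat_terms [Flat g] {G E : CochainComplex P.Modules ℤ} {a b : ℤ} (hE : DCoh.VanishesOutside E a b)
    (hf : ∀ n, FlatMod.IsFlat (E.X n)) (e : DCoh.toD P E ≅ DCoh.toD P G) (y : P) :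
    DerSch.HasTorAmplitudeAt g a b G y := by
  refine AmpThick.amp_congr g y e ⟨(DerSch.stalkCxOver g y).obj E, fun j hj => (DerSch.stalkOver g y).map_isZero (hE j hj),
    fun j => ?_, ⟨Iso.refl _⟩⟩
  haveI : Module.Flat (P.presheaf.stalk y) ((DerSch.stalkFunctor P y).obj (E.X j)) := hf j y
  exact flat_restrict _ (Flat.stalkMap g y) ((DerSch.stalkFunctor P y).obj (E.X j))

/-- Amplitude at a point from amplitude on an open neighbourhood. -/
theorem amp_of_restrict {W : Scheme.{u}} (k : W ⟶ P) [IsOpenImmersion k] (G : CochainComplex P.Modules ℤ) {a b : ℤ}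
    (w : W) (h : DerSch.HasTorAmplitudeAt (k ≫ g) a b
      (((Scheme.Modules.restrictFunctor k).mapHomologicalComplex (ComplexShape.up ℤ)).obj G) w) :
    DerSch.HasTorAmplitudeAt g a b G (k w) := by
  obtain ⟨s⟩ := AmpFibre.nonempty_stalk_restrict g k G w
  obtain ⟨E, h1, h2, ⟨j⟩⟩ := h
  exact ⟨E, h1, h2, ⟨j ≪≫ s.symm⟩⟩

end Groth.Agent.FlatCx12.PushStalk
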