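import Groth.Agent.FlatCx12.RelPC

/-!
# Operations on relative pseudo-coherence

The test as a family of triangulated functors; closed immersions; flat bases.
-/

set_option autoImplicit false
set_option backward.isDefEq.respectTransparency false
set_option backward.defeqAttrib.useBackward true
set_option linter.style.haveILetI false
set_option synthInstance.maxHeartbeats 100000
set_option backward.isDefEq.respectTransparency.types false

universe u

open CategoryTheory CategoryTheory.Limits CategoryTheory.Pretriangulated DerivedCategory Opposite TopologicalSpace AlgebraicGeometry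
open Groth.Agent.DCat Groth.Agent.FlatMorPerfect Groth.Agent.FlatCx12.EmbPush Groth.Agent.FlatCx12.RelPCChart
open Groth.Agent.FlatCx12.RelPC

namespace Groth.Agent.FlatCx12.RelPCOps

attribute [local instance] HasDerivedCategory.standard
attribute [-instance] Int.instConditionallyCompleteLinearOrder

variable {X S : Scheme.{u}}

/-- A chart of a morphism. -/
structure Chart (f : X ⟶ S) : Type u where
  U : X.affineOpens
  V : S.affineOpens
  le : (U : X.Opens) ≤ f ⁻¹ᵁ (V : S.Opens)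
  n : ℕ
  φ : MvPolynomial (Fin n) Γ(S, (V : S.Opens)) →+* Γ(X, (U : X.Opens))
  isChart : DerSch.IsChart f (U : X.Opens) (V : S.Opens) le φ

namespace Chart

variable {f : X ⟶ S} (c : Chart f)

/-- The affine space of a chart. -/
noncomputable abbrev space : Scheme.{u} := Spec (CommRingCat.of (MvPolynomial (Fin c.n) Γ(S, (c.V : S.Opens))))

/-- The closed immersion of a chart. -/
noncomputable abbrev imm : (c.U : X.Opens).toScheme ⟶ c.space :=
  (c.U : X.Opens).toSpecΓ ≫ Spec.map (CommRingCat.ofHom c.φ)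

instance : IsClosedImmersion c.imm := isClosedImmersion_along c.U.2 c.isChart.1

instance preservesFiniteColimits_chart : PreservesFiniteColimits (Scheme.Modules.pushforward c.imm) :=
  preservesFiniteColimits_iso _

/-- Restriction followed by direct image. -/
noncomputable abbrev fn : DCoh.D X ⥤ DCoh.D c.space := PerfLocal.rd (c.U : X.Opens).ι ⋙ pd c.imm

theorem along_iff_fn (m : ℤ) (K : DCoh.D X) :
    Along m K (c.U : X.Opens) c.φ ↔ DCoh.IsPseudoCoherentD m (c.fn.obj K) :=
  ⟨fun ⟨_, h⟩ => h, fun h => ⟨inferInstance, h⟩⟩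

end Chart

/-- Relative pseudo-coherence, chart by chart. -/
theorem rel_iff_chart {f : X ⟶ S} [LocallyOfFiniteType f] (m : ℤ) (K : DCoh.D X) :
    DerSch.IsPseudoCoherentRel f m K ↔ ∀ c : Chart f, DCoh.IsPseudoCoherentD m (c.fn.obj K) := by
  rw [rel_iff]
  constructor
  · intro h c
    obtain ⟨n, φ, hφ, hp⟩ := h c.U c.V c.le
    exact (c.along_iff_fn m K).1 ((along_poly_iff c.U.2 hφ.1 c.isChart.1 (hφ.2.trans c.isChart.2.symm)).1
      ((chartPC_iff m K c.U.2 hφ.1).1 hp))
  · intro h U V hle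
    algebraize [(f.appLE V U hle).hom]
    have hft := f.finiteType_appLE V.2 U.2 hle
    obtain ⟨n, π, hπ⟩ := Algebra.FiniteType.iff_quotient_mvPolynomial''.1
      (show Algebra.FiniteType Γ(S, V) Γ(X, U) from hft)
    have hc : DerSch.IsChart f U V hle π.toRingHom := ⟨hπ, RingHom.ext fun a => π.commutes a⟩
    exact ⟨n, _, hc, (chartPC_iff m K U.2 hπ).2 ((Chart.along_iff_fn ⟨U, V, hle, n, _, hc⟩ m K).2
      (h ⟨U, V, hle, n, _, hc⟩))⟩

/-- A common chart on each pair, near each point. -/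
theorem exists_affine_pair (f : X ⟶ S) (x : X) :
    ∃ (U : X.affineOpens) (V : S.affineOpens), (U : X.Opens) ≤ f ⁻¹ᵁ (V : S.Opens) ∧ x ∈ (U : X.Opens) := by
  obtain ⟨V, hV, hxV, -⟩ := Opens.isBasis_iff_nbhd.1 S.isBasis_affineOpens (U := ⊤) (x := f x) trivial
  obtain ⟨U, hU, hxU, hle⟩ := Opens.isBasis_iff_nbhd.1 X.isBasis_affineOpens (U := f ⁻¹ᵁ V) (x := x) hxV
  exact ⟨⟨U, hU⟩, ⟨V, hV⟩, hle, hxU⟩

section Push

variable {P : Scheme.{u}} (i : X ⟶ P) [IsClosedImmersion i]
  [PreservesFiniteColimits (Scheme.Modules.pushforward i)]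

/-- The test for a direct image along a closed immersion. -/
theorem along_push (m : ℤ) (K : DCoh.D X) (W : P.Opens) (hW : IsAffineOpen W) {Q : Type u} [CommRing Q]
    (φ : Q →+* Γ(P, W)) (hφ : Function.Surjective φ) :
    Along m ((pd i).obj K) W φ ↔ Along m K (i ⁻¹ᵁ W) ((i.app W).hom.comp φ) := by
  have hs : Function.Surjective ((i.app W).hom.comp φ) := (i.app_surjective W hW).comp hφ
  haveI := isClosedImmersion_along hW hφ
  haveI := isClosedImmersion_along (hW.preimage i) hs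
  let c := W.toSpecΓ ≫ Spec.map (CommRingCat.ofHom φ)
  let c' := (i ⁻¹ᵁ W).toSpecΓ ≫ Spec.map (CommRingCat.ofHom ((i.app W).hom.comp φ))
  haveI := preservesFiniteColimits_iso c
  haveI := preservesFiniteColimits_iso c'
  haveI := preservesFiniteColimits_iso (i ∣_ W)
  haveI := preservesFiniteColimits_iso ((i ∣_ W) ≫ c)
  have h : (i ∣_ W) ≫ c = c' := by
    rw [← Category.assoc, ← Scheme.Opens.toSpecΓ_naturality, Category.assoc, ← Spec.map_comp]
    rfl
  obtain ⟨a⟩ := nonempty_rd_pd i W K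
  obtain ⟨b⟩ := nonempty_pd_comp (i ∣_ W) c ((PerfLocal.rd (i ⁻¹ᵁ W).ι).obj K)
  obtain ⟨d⟩ := nonempty_pd_congr h ((PerfLocal.rd (i ⁻¹ᵁ W).ι).obj K)
  let e := (pd c).mapIso a ≪≫ b ≪≫ d
  exact ⟨fun ⟨_, hp⟩ => ⟨inferInstance, PCTriangle.psc_iso e hp⟩,
    fun ⟨_, hp⟩ => ⟨inferInstance, PCTriangle.psc_iso e.symm hp⟩⟩

/-- Relative pseudo-coherence is preserved and detected by direct image along closed immersions. -/
theorem rel_push_iff (g : P ⟶ S) [LocallyOfFiniteType g] (m : ℤ) (K : DCoh.D X) :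
    DerSch.IsPseudoCoherentRel (i ≫ g) m K ↔ DerSch.IsPseudoCoherentRel g m ((pd i).obj K) := by
  constructor
  · rw [rel_iff, rel_iff_chart]
    intro h c
    have hW : IsAffineOpen (i ⁻¹ᵁ (c.U : P.Opens)) := c.U.2.preimage i
    have hle : i ⁻¹ᵁ (c.U : P.Opens) ≤ (i ≫ g) ⁻¹ᵁ (c.V : S.Opens) :=
      fun x hx => c.le hx
    refine (c.along_iff_fn m _).1 ((along_push i m K _ c.U.2 c.φ c.isChart.1).2 ?_)
    refine testOn_along hW (h ⟨_, hW⟩ c.V hle) (P := MvPolynomial (Fin c.n) Γ(S, c.V))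
      ((i.app_surjective c.U.1 c.U.2).comp c.isChart.1) ?_
    rw [MvPolynomial.algebraMap_eq, RingHom.comp_assoc, c.isChart.2, ← CommRingCat.hom_comp]
    refine congrArg CommRingCat.Hom.hom ?_
    rw [Scheme.Hom.app_eq_appLE, Scheme.Hom.appLE_comp_appLE]
  · intro h
    rw [rel_iff] at h
    refine rel_of_local fun x => ?_
    obtain ⟨W, V, hle, hxW⟩ := exists_affine_pair g (i x)
    obtain ⟨n, φ, hφ, hp⟩ := h W V hle
    refine ⟨⟨i ⁻¹ᵁ W.1, W.2.preimage i⟩, V, fun x hx => hle hx, hxW, ?_⟩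
    refine testOn_of_along (W.2.preimage i) (P := MvPolynomial (Fin n) Γ(S, V)) ((i.app_surjective W.1 W.2).comp hφ.1) ?_
      ((along_push i m K _ W.2 φ hφ.1).1 ((chartPC_iff m _ W.2 hφ.1).1 hp))
    rw [MvPolynomial.algebraMap_eq, RingHom.comp_assoc, hφ.2, ← CommRingCat.hom_comp]
    refine congrArg CommRingCat.Hom.hom ?_
    rw [Scheme.Hom.app_eq_appLE, Scheme.Hom.appLE_comp_appLE]

end Push

/-- The direct image of `O` along an isomorphism. -/
noncomputable def pushStructureIso (e : X ≅ S) :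
    (Scheme.Modules.pushforward e.hom).obj (Coh.structureModule X) ≅ Coh.structureModule S :=
  ((((Functor.leftUnitor _).symm ≪≫
      Functor.isoWhiskerRight ((Scheme.Modules.pushforwardId X).symm ≪≫
        Scheme.Modules.pushforwardCongr e.hom_inv_id.symm ≪≫
        (Scheme.Modules.pushforwardComp e.hom e.inv).symm) (Scheme.Modules.restrictFunctor e.inv) ≪≫
      Functor.associator _ _ _ ≪≫
      Functor.isoWhiskerLeft _ (Scheme.Modules.restrictFunctorAdjCounitIso e.inv) ≪≫ Functor.rightUnitor _)).app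
      (Coh.structureModule X)).symm ≪≫ Scheme.Modules.restrictUnitIso e.inv

/-- Over a flat base of finite presentation the relative notion is the absolute one. -/
theorem rel_iff_psc (g : X ⟶ S) [Flat g] [LocallyOfFinitePresentation g] (m : ℤ) (K : DCoh.D X) :
    DerSch.IsPseudoCoherentRel g m K ↔ DCoh.IsPseudoCoherentD m K := by
  rw [rel_iff_chart]
  have key : ∀ c : Chart g, DCoh.IsPseudoCoherentD m (c.fn.obj K) ↔
      DCoh.IsPseudoCoherentD m ((PerfLocal.rd (c.U : X.Opens).ι).obj K) := fun c => by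
    refine psc_pd_iff c.imm c.imm.isClosedEmbedding ?_ m _
    letI := (g.appLE c.V c.U c.le).hom.toAlgebra
    haveI : Module.Flat Γ(S, c.V) Γ(X, c.U) := g.flat_appLE c.V.2 c.U.2 c.le
    haveI : Algebra.FinitePresentation Γ(S, c.V) Γ(X, c.U) := g.finitePresentation_appLE c.V.2 c.U.2 c.le
    let π : MvPolynomial (Fin c.n) Γ(S, c.V) →ₐ[Γ(S, c.V)] Γ(X, c.U) :=
      { toRingHom := c.φ, commutes' := fun a => RingHom.congr_fun c.isChart.2 a }
    have hpc : PCS c.φ := pcHom_pcs (PerfectHom.pcHom_of_flat _ _) π c.isChart.1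
    haveI : IsIso (c.U : X.Opens).toSpecΓ := c.U.2.isoSpec_hom ▸ inferInstance
    haveI := IsClosedImmersion.spec_of_surjective (CommRingCat.ofHom c.φ) c.isChart.1
    haveI := preservesFiniteColimits_iso (c.U : X.Opens).toSpecΓ
    haveI := preservesFiniteColimits_iso (Spec.map (CommRingCat.ofHom c.φ))
    intro k
    have h1 := psc_push_structure (CommRingCat.ofHom c.φ) hpc k
    refine PCTriangle.psc_iso ((singleFunctor _ 0).mapIso ?_) h1
    exact (Scheme.Modules.pushforward (Spec.map (CommRingCat.ofHom c.φ))).mapIso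
        (pushStructureIso (asIso (c.U : X.Opens).toSpecΓ)).symm ≪≫
      (Scheme.Modules.pushforwardComp (c.U : X.Opens).toSpecΓ _).app _
  refine ⟨fun h => DQCoh.psc_of_local _ fun x => ?_, fun h c => (key c).2 (DQCoh.psc_rd _ h)⟩
  obtain ⟨U, V, hle, hxU⟩ := exists_affine_pair g x
  algebraize [(g.appLE V U hle).hom]
  obtain ⟨n, π, hπ⟩ := Algebra.FiniteType.iff_quotient_mvPolynomial''.1
    (show Algebra.FiniteType Γ(S, V) Γ(X, U) from g.finiteType_appLE V.2 U.2 hle)
  let c : Chart g := ⟨U, V, hle, n, π.toRingHom, hπ, RingHom.ext fun a => π.commutes a⟩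
  exact ⟨_, U.1.ι, inferInstance, by simpa using hxU, (key c).1 (h c)⟩

/-- Composition with a flat morphism of finite presentation. -/
theorem rel_comp_iff {T : Scheme.{u}} (a : X ⟶ T) (b : T ⟶ S) [LocallyOfFiniteType a] [Flat b]
    [LocallyOfFinitePresentation b] (m : ℤ) (K : DCoh.D X) :
    DerSch.IsPseudoCoherentRel (a ≫ b) m K ↔ DerSch.IsPseudoCoherentRel a m K := by
  have key : ∀ (x : X), ∃ (U : X.affineOpens) (W : T.affineOpens) (V : S.affineOpens)
      (h₁ : (U : X.Opens) ≤ a ⁻¹ᵁ (W : T.Opens)) (h₂ : (U : X.Opens) ≤ (a ≫ b) ⁻¹ᵁ (V : S.Opens)),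
      x ∈ (U : X.Opens) ∧ (TestOn a m K U W h₁ ↔ TestOn (a ≫ b) m K U V h₂) := by
    intro x
    obtain ⟨W, V, hWV, hxW⟩ := exists_affine_pair b (a x)
    obtain ⟨U, hU, hxU, hle⟩ := Opens.isBasis_iff_nbhd.1 X.isBasis_affineOpens (U := a ⁻¹ᵁ W.1) (x := x) hxW
    refine ⟨⟨U, hU⟩, W, V, hle, fun y hy => hWV (hle hy), hxU, ?_⟩
    letI := (b.appLE V W hWV).hom.toAlgebra
    haveI : Module.Flat Γ(S, V) Γ(T, W) := b.flat_appLE V.2 W.2 hWV
    haveI : Algebra.FinitePresentation Γ(S, V) Γ(T, W) := b.finitePresentation_appLE V.2 W.2 hWV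
    have e : (a.appLE W U hle).hom.comp (algebraMap Γ(S, V) Γ(T, W)) =
        ((a ≫ b).appLE V U fun y hy => hWV (hle hy)).hom := by
      rw [RingHom.algebraMap_toAlgebra, ← CommRingCat.hom_comp, Scheme.Hom.appLE_comp_appLE]
    have main : ∀ (n : ℕ) (φ : MvPolynomial (Fin n) Γ(T, W) →+* Γ(X, U)),
        φ.comp MvPolynomial.C = (a.appLE W U hle).hom →
        φ.comp (algebraMap Γ(S, V) (MvPolynomial (Fin n) Γ(T, W))) =
          ((a ≫ b).appLE V U fun y hy => hWV (hle hy)).hom := fun n φ hφ => by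
      rw [IsScalarTower.algebraMap_eq Γ(S, V) Γ(T, W) (MvPolynomial (Fin n) Γ(T, W)), ← RingHom.comp_assoc,
        MvPolynomial.algebraMap_eq, hφ, e]
    have hflat : ∀ n : ℕ, Module.Flat Γ(S, V) (MvPolynomial (Fin n) Γ(T, W)) := fun n =>
      .trans Γ(S, V) Γ(T, W) _
    have hfp : ∀ n : ℕ, Algebra.FinitePresentation Γ(S, V) (MvPolynomial (Fin n) Γ(T, W)) := fun n =>
      .trans Γ(S, V) Γ(T, W) _
    constructor
    · rintro ⟨n, φ, ⟨hs, hφ⟩, hp⟩
      haveI := hflat n
      haveI := hfp n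
      exact testOn_of_along hU hs (main n φ hφ) ((chartPC_iff m K hU hs).1 hp)
    · intro ht
      letI := (a.appLE W U hle).hom.toAlgebra
      obtain ⟨n, π, hπ⟩ := Algebra.FiniteType.iff_quotient_mvPolynomial''.1
        (show Algebra.FiniteType Γ(T, W) Γ(X, U) from a.finiteType_appLE W.2 hU hle)
      haveI := hflat n
      haveI := hfp n
      have hC : π.toRingHom.comp MvPolynomial.C = (a.appLE W U hle).hom := RingHom.ext fun r => π.commutes r
      exact ⟨n, π.toRingHom, ⟨hπ, hC⟩, (chartPC_iff m K hU hπ).2 (testOn_along hU ht hπ (main n _ hC))⟩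
  constructor
  · intro h
    rw [rel_iff] at h
    refine rel_of_local fun x => ?_
    obtain ⟨U, W, V, h₁, h₂, hx, e⟩ := key x
    exact ⟨U, W, h₁, hx, e.2 (h U V h₂)⟩
  · intro h
    rw [rel_iff] at h
    refine rel_of_local fun x => ?_
    obtain ⟨U, W, V, h₁, h₂, hx, e⟩ := key x
    exact ⟨U, V, h₂, hx, e.1 (h U W h₁)⟩

end Groth.Agent.FlatCx12.RelPCOps
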