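import Groth.Agent.FlatMorPerfect.Smooth
import Groth.Agent.FlatMorPerfect.PC
import Groth.Agent.FlatMorPerfect.TorDim
import Mathlib.RingTheory.Spectrum.Prime.FreeLocus
import Mathlib.RingTheory.Localization.BaseChange

/-!
# Tor dimension is a pointwise condition for pseudo-coherent modules
-/

set_option autoImplicit false
set_option linter.style.haveILetI false

universe u

open TensorProduct Function
attribute [local instance] HasDerivedCategory.standard

namespace Groth.Agent.FlatCx12.TDLocal

open Groth.Agent.FlatMorPerfect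

variable {R : Type u} [CommRing R]

theorem finitePresentation_of_pc {M : Type u} [AddCommGroup M] [Module R M] (h : ∀ k, PC R k M) :
    Module.FinitePresentation R M := by
  obtain ⟨r, g, hg, hk⟩ := pc_succ_iff.1 (h 1)
  haveI := pc_finite hk
  exact Module.finitePresentation_of_surjective g hg (Module.Finite.iff_fg.1 inferInstance)

/-- Localisation does not change modules over the localised ring. -/
theorem td_localization (S : Submonoid R) (R' : Type u) [CommRing R'] [Algebra R R'] [IsLocalization S R']
    {M : Type u} [AddCommGroup M] [Module R M] [Module R' M] [IsScalarTower R R' M] {n : ℕ} (h : TD R n M) :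
    TD R' n M :=
  haveI := IsLocalization.flat R' S
  td_congr (IsLocalization.moduleLid S R' M) (h.baseChange R')

/-- The locus where the tor dimension is at most `d`. -/
def tdLocus (R : Type u) [CommRing R] (d : ℕ) (M : Type u) [AddCommGroup M] [Module R M] : Set (PrimeSpectrum R) :=
  {q | TD (Localization.AtPrime q.asIdeal) d (Localization.AtPrime q.asIdeal ⊗[R] M)}

theorem tdLocus_succ {d : ℕ} {M : Type u} [AddCommGroup M] [Module R M] {r : ℕ}
    (g : (Fin r → R) →ₗ[R] M) (hg : Surjective g) :
    tdLocus R (d + 1) M = tdLocus R d (LinearMap.ker g) := by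
  ext q
  let Rq := Localization.AtPrime q.asIdeal
  haveI : Module.Flat R Rq := IsLocalization.flat Rq q.asIdeal.primeCompl
  obtain ⟨e⟩ := kerBaseChange (B := Rq) g
  have hs : Surjective (g.baseChange Rq) := LinearMap.lTensor_surjective Rq hg
  constructor
  · intro h
    exact td_congr e.symm (TD.ker h (LinearMap.exact_subtype_ker_map _) hs (Submodule.injective_subtype _))
  · intro h
    exact td_coker (LinearMap.exact_subtype_ker_map _) hs (Submodule.injective_subtype _) (td_congr e h)
      (td_of_flat _)

theorem tdLocus_mono {d e : ℕ} (hde : d ≤ e) (M : Type u) [AddCommGroup M] [Module R M] :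
    tdLocus R d M ⊆ tdLocus R e M := fun _ h => h.mono hde

theorem isOpen_tdLocus : ∀ (d : ℕ) (M : Type u) [AddCommGroup M] [Module R M],
    (∀ k, PC R k M) → IsOpen (tdLocus R d M)
  | 0, M, _, _, h => by
    haveI := finitePresentation_of_pc h
    have : tdLocus R 0 M = Module.freeLocus R M := by
      ext q
      rw [Module.mem_freeLocus_iff_tensor q (Localization.AtPrime q.asIdeal)]
      refine ⟨fun hq => ?_, fun hq => ?_⟩
      · haveI : Module.Flat (Localization.AtPrime q.asIdeal) (Localization.AtPrime q.asIdeal ⊗[R] M) :=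
          hq.flatDimLE
        exact Module.free_of_flat_of_isLocalRing
      · haveI := hq
        exact td_of_flat 0
    rw [this]
    exact Module.isOpen_freeLocus
  | d + 1, M, _, _, h => by
    haveI := pc_finite (h 0)
    obtain ⟨r, g, hg⟩ := Module.Finite.exists_fin' R M
    rw [tdLocus_succ g hg]
    exact isOpen_tdLocus d _ fun k =>
      pc_ker (LinearMap.exact_subtype_ker_map g) hg (Submodule.injective_subtype _) (pc_free k) (h (k + 1))

theorem td_of_tdLocus : ∀ (d : ℕ) (M : Type u) [AddCommGroup M] [Module R M],
    (∀ k, PC R k M) → tdLocus R d M = Set.univ → TD R d M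
  | 0, M, _, _, h, hU => by
    haveI := finitePresentation_of_pc h
    haveI : Module.Projective R M := by
      rw [← Module.freeLocus_eq_univ_iff, Set.eq_univ_iff_forall]
      intro q
      rw [Module.mem_freeLocus_iff_tensor q (Localization.AtPrime q.asIdeal)]
      haveI : Module.Flat (Localization.AtPrime q.asIdeal) (Localization.AtPrime q.asIdeal ⊗[R] M) :=
        (Set.eq_univ_iff_forall.1 hU q).flatDimLE
      exact Module.free_of_flat_of_isLocalRing
    exact td_of_flat 0
  | d + 1, M, _, _, h, hU => by
    haveI := pc_finite (h 0)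
    obtain ⟨r, g, hg⟩ := Module.Finite.exists_fin' R M
    rw [tdLocus_succ g hg] at hU
    exact td_coker (LinearMap.exact_subtype_ker_map g) hg (Submodule.injective_subtype _)
      (td_of_tdLocus d _ (fun k => pc_ker (LinearMap.exact_subtype_ker_map g) hg
        (Submodule.injective_subtype _) (pc_free k) (h (k + 1))) hU) (td_of_flat _)

/-- Finite tor dimension at every prime gives finite tor dimension, for pseudo-coherent modules. -/
theorem exists_td_of_forall_prime (M : Type u) [AddCommGroup M] [Module R M] (h : ∀ k, PC R k M)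
    (hq : ∀ q : PrimeSpectrum R, ∃ d,
      TD (Localization.AtPrime q.asIdeal) d (Localization.AtPrime q.asIdeal ⊗[R] M)) :
    ∃ n, TD R n M := by
  obtain ⟨d, hd⟩ := (isCompact_univ (X := PrimeSpectrum R)).elim_directed_cover (fun d => tdLocus R d M)
    (fun d => isOpen_tdLocus d M h) (fun q _ => Set.mem_iUnion.2 (hq q))
    (fun a b => ⟨max a b, tdLocus_mono (le_max_left a b) M, tdLocus_mono (le_max_right a b) M⟩)
  exact ⟨d, td_of_tdLocus d M h (Set.eq_univ_of_univ_subset hd)⟩

variable {A B : Type u} [CommRing A] [CommRing B] [Algebra A B]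

/-- A pseudo-coherent algebra which has finite tor dimension at every prime has finite tor dimension. -/
theorem exists_td_of_pcHom (h : MoreMor.IsPseudoCoherentHom A B)
    (hb : ∀ b : PrimeSpectrum B, ∃ d, TD A d (Localization.AtPrime b.asIdeal)) : ∃ n, TD A n B := by
  obtain ⟨n, φ, hφ, hpc⟩ := h
  let P := MvPolynomial (Fin n) A
  letI := φ.toRingHom.toAlgebra
  haveI : IsScalarTower A P B := .of_algebraMap_eq fun a => (φ.commutes a).symm
  suffices hP : ∃ m, TD P m B by
    obtain ⟨m, hm⟩ := hP
    exact ⟨0 + m, td_comp (td_of_flat 0) m B hm⟩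
  refine exists_td_of_forall_prime B (pc'_iff_forall.1 hpc) fun q => ?_
  let Pq := Localization.AtPrime q.asIdeal
  haveI : Module.Flat P Pq := IsLocalization.flat Pq q.asIdeal.primeCompl
  by_cases hq : RingHom.ker φ.toRingHom ≤ q.asIdeal
  · -- the prime comes from `B`
    have hb' : (q.asIdeal.map φ.toRingHom).IsPrime := Ideal.map_isPrime_of_surjective hφ hq
    let b : PrimeSpectrum B := ⟨_, hb'⟩
    obtain ⟨d, hd⟩ := hb b
    let C := Localization.AtPrime b.asIdeal
    -- `C` has finite tor dimension over `P`
    obtain ⟨m, hm⟩ : ∃ m, TD P m C := by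
      haveI : Algebra.Smooth A P := ⟨inferInstance, inferInstance⟩
      let D := C ⊗[A] P
      let ψ : P →ₐ[A] C := IsScalarTower.toAlgHom A P C
      let μ : D →ₐ[C] C := Algebra.TensorProduct.lift (Algebra.ofId C C) ψ fun _ _ => Commute.all _ _
      letI : Algebra P D := Algebra.TensorProduct.rightAlgebra
      have h1 : RingTD (algebraMap P D) :=
        ringTD_baseChange (R := A) (S := C) (R' := P) (S' := D) (ringTD_algebraMap.2 ⟨d, hd⟩)
      have h2 := h1.comp ((ringPerf_iff _).1 (ringPerf_of_retraction μ)).2
      have e : μ.toRingHom.comp (algebraMap P D) = algebraMap P C := by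
        ext p
        · show μ ((1 : C) ⊗ₜ MvPolynomial.C p) = _
          rw [Algebra.TensorProduct.lift_tmul]; simp [ψ]
        · show μ ((1 : C) ⊗ₜ MvPolynomial.X p) = _
          rw [Algebra.TensorProduct.lift_tmul]; simp [ψ]
      rw [e] at h2
      exact ringTD_algebraMap.1 h2
    have hS : Algebra.algebraMapSubmonoid B q.asIdeal.primeCompl = b.asIdeal.primeCompl := by
      ext y
      constructor
      · rintro ⟨x, hx, rfl⟩ hy
        obtain ⟨x', hx', hxx⟩ := (Ideal.mem_map_iff_of_surjective _ hφ).1 hy
        refine hx ?_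
        have : x - x' ∈ q.asIdeal := hq (by rw [RingHom.mem_ker, map_sub, sub_eq_zero]; exact hxx.symm)
        simpa using q.asIdeal.add_mem this hx'
      · intro hy
        obtain ⟨x, rfl⟩ := hφ y
        exact ⟨x, fun hx => hy (Ideal.mem_map_of_mem _ hx), rfl⟩
    haveI : IsLocalization (Algebra.algebraMapSubmonoid B q.asIdeal.primeCompl) C := by
      rw [hS]; infer_instance
    haveI : IsLocalizedModule q.asIdeal.primeCompl (IsScalarTower.toAlgHom P B C).toLinearMap :=
      isLocalizedModule_iff_isLocalization.2 inferInstance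
    let e : (Pq ⊗[P] B) ≃ₗ[P] C :=
      (IsLocalizedModule.iso q.asIdeal.primeCompl (TensorProduct.mk P Pq B 1)).symm ≪≫ₗ
        IsLocalizedModule.iso q.asIdeal.primeCompl (IsScalarTower.toAlgHom P B C).toLinearMap
    exact ⟨m, td_localization q.asIdeal.primeCompl Pq (td_congr e.symm hm)⟩
  · -- the localisation vanishes
    obtain ⟨s, hs, hsq⟩ := SetLike.not_le_iff_exists.1 hq
    haveI : Subsingleton (Pq ⊗[P] B) := by
      refine ⟨fun x y => sub_eq_zero.1 ?_⟩
      generalize x - y = z
      induction z using TensorProduct.induction_on with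
      | zero => rfl
      | add a b ha hb => rw [ha, hb, add_zero]
      | tmul a c =>
        have hu : IsUnit (algebraMap P Pq s) := IsLocalization.map_units Pq (⟨s, hsq⟩ : q.asIdeal.primeCompl)
        obtain ⟨t, ht⟩ := hu.exists_right_inv
        have h0 : s • c = 0 := by
          rw [Algebra.smul_def]
          show φ.toRingHom s * c = 0
          rw [show φ.toRingHom s = 0 from hs, zero_mul]
        calc a ⊗ₜ[P] c = (s • (t * a)) ⊗ₜ[P] c := by rw [Algebra.smul_def, ← mul_assoc, ht, one_mul]
          _ = 0 := by rw [TensorProduct.smul_tmul, h0, TensorProduct.tmul_zero]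
    exact ⟨0, td_of_flat 0⟩

end Groth.Agent.FlatCx12.TDLocal
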