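import Groth.Agent.DQCoh.PscNoeth
import Groth.Agent.DQCoh.PerfectClass
import Groth.Agent.DCat.LocLift
import Groth.Agent.DCat.OpenDerived

/-!
# Direct image along morphisms that are closed embeddings of topological spaces

Such a direct image is exact on modules; pseudo-coherence is detected after direct image as soon as the
direct image of the structure sheaf is pseudo-coherent.
-/

set_option autoImplicit false
set_option backward.isDefEq.respectTransparency false
set_option backward.defeqAttrib.useBackward true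
set_option linter.style.haveILetI false
set_option synthInstance.maxHeartbeats 100000
set_option backward.isDefEq.respectTransparency.types false

universe u v

open CategoryTheory CategoryTheory.Limits CategoryTheory.Pretriangulated DerivedCategory Opposite TopologicalSpace AlgebraicGeometry
open Groth.Agent.DCat Groth.Agent.Coherent

namespace Groth.Agent.FlatCx12.EmbPush

attribute [local instance] HasDerivedCategory.standard
attribute [-instance] Int.instConditionallyCompleteLinearOrder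

section Generic

variable {A B B' C : Type (u + 1)} [Category.{u} A] [Abelian A] [Category.{u} B] [Abelian B]
  [Category.{u} B'] [Abelian B'] [Category.{u} C] [Abelian C]

/-- Squares of exact functors give squares on derived categories. -/
theorem nonempty_mdc_sq (F : A ⥤ B) (G : B ⥤ C) (F' : A ⥤ B') (G' : B' ⥤ C) [F.Additive] [G.Additive]
    [F'.Additive] [G'.Additive] [PreservesFiniteLimits F] [PreservesFiniteColimits F] [PreservesFiniteLimits G]
    [PreservesFiniteColimits G] [PreservesFiniteLimits F'] [PreservesFiniteColimits F'] [PreservesFiniteLimits G']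
    [PreservesFiniteColimits G'] (e : F ⋙ G ≅ F' ⋙ G') (K : DerivedCategory A) :
    Nonempty (G.mapDerivedCategory.obj (F.mapDerivedCategory.obj K) ≅
      G'.mapDerivedCategory.obj (F'.mapDerivedCategory.obj K)) := by
  let P := DerivedCategory.Q.objPreimage K
  let i := DerivedCategory.Q.objObjPreimageIso K
  exact ⟨G.mapDerivedCategory.mapIso (F.mapDerivedCategory.mapIso i.symm ≪≫ F.mapDerivedCategoryFactors.app P) ≪≫
    G.mapDerivedCategoryFactors.app _ ≪≫
    DerivedCategory.Q.mapIso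
      (HomologicalComplex.Hom.isoOfComponents (fun n => e.app (P.X n))
        (fun a b _ => (e.hom.naturality (P.d a b)).symm) :
        (G.mapHomologicalComplex (ComplexShape.up ℤ)).obj ((F.mapHomologicalComplex (ComplexShape.up ℤ)).obj P) ≅
          (G'.mapHomologicalComplex (ComplexShape.up ℤ)).obj ((F'.mapHomologicalComplex (ComplexShape.up ℤ)).obj P)) ≪≫
    (G'.mapDerivedCategoryFactors.app _).symm ≪≫
    G'.mapDerivedCategory.mapIso ((F'.mapDerivedCategoryFactors.app P).symm ≪≫ F'.mapDerivedCategory.mapIso i)⟩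

/-- Cohomological bounds along exact functors. -/
theorem isLE_map (F : A ⥤ B) [F.Additive] [PreservesFiniteLimits F] [PreservesFiniteColimits F]
    (K : DerivedCategory A) (b : ℤ) (h : K.IsLE b) : (F.mapDerivedCategory.obj K).IsLE b := by
  rw [DerivedCategory.isLE_iff] at h ⊢
  exact fun i hi => (F.map_isZero (h i hi)).of_iso (SuppOpen.hdMapIso F K i)

end Generic

variable {X Y Z : Scheme.{u}}

theorem isZero_of_subsingleton (M : X.Modules) (h : ∀ U : X.Opens, Subsingleton Γ(M, U)) : IsZero M := by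
  refine (IsZero.iff_id_eq_zero M).2 (Scheme.Modules.hom_ext _ _ fun U => ?_)
  ext x
  exact (h U).elim _ _

theorem subsingleton_of_le_bot (M : X.Modules) {U : X.Opens} (h : U ≤ ⊥) : Subsingleton Γ(M, U) :=
  ⟨fun a b => Props12.eq_of_nhds M a b fun _ hy => (h hy).elim⟩

instance preservesFiniteLimits_push (f : X ⟶ Y) : PreservesFiniteLimits (Scheme.Modules.pushforward f) :=
  haveI := (Scheme.Modules.pullbackPushforwardAdjunction f).rightAdjoint_preservesLimits
    (G := Scheme.Modules.pushforward f)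
  inferInstance

variable (f : X ⟶ Y)

theorem exists_preimage_eq (hf : Topology.IsClosedEmbedding f.base) (U : X.Opens) :
    ∃ V : Y.Opens, f ⁻¹ᵁ V = U := by
  obtain ⟨V, hV, e⟩ := hf.isInducing.isOpen_iff.1 U.2
  exact ⟨⟨V, hV⟩, Opens.ext e⟩

/-- Direct image along a closed embedding preserves epimorphisms. -/
theorem preservesEpimorphisms_push (hf : Topology.IsClosedEmbedding f.base) :
    (Scheme.Modules.pushforward f).PreservesEpimorphisms := by
  refine ⟨fun {M N} φ _ => epi_of_locally_surjective _ fun W a y hy => ?_⟩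
  by_cases hr : y ∈ Set.range f.base
  · obtain ⟨x, rfl⟩ := hr
    obtain ⟨V, hV, hxV, b, hb⟩ := exists_lift_of_epi φ (f ⁻¹ᵁ W) a x hy
    obtain ⟨V', rfl⟩ := exists_preimage_eq f hf V
    have hle : f ⁻¹ᵁ (V' ⊓ W) ≤ f ⁻¹ᵁ V' := (Opens.map f.base).map (homOfLE inf_le_left) |>.le
    refine ⟨V' ⊓ W, inf_le_right, ⟨hxV, hy⟩, resM M hle b, ?_⟩
    show φ.app _ (resM M hle b) = resM N ((Opens.map f.base).map (homOfLE inf_le_right)).le a
    rw [app_resM, hb, resM_resM]
  · let C : Y.Opens := ⟨(Set.range f.base)ᶜ, hf.isClosed_range.isOpen_compl⟩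
    refine ⟨W ⊓ C, inf_le_left, ⟨hy, hr⟩, 0, ?_⟩
    haveI : Subsingleton Γ(N, f ⁻¹ᵁ (W ⊓ C)) := subsingleton_of_le_bot N fun x hx => (hx.2 ⟨x, rfl⟩).elim
    exact Subsingleton.elim (α := Γ(N, f ⁻¹ᵁ (W ⊓ C))) _ _

/-- Direct image along a closed embedding is exact. -/
theorem preservesFiniteColimits_emb (hf : Topology.IsClosedEmbedding f.base) :
    PreservesFiniteColimits (Scheme.Modules.pushforward f) := by
  haveI := preservesEpimorphisms_push f hf
  haveI := Functor.preservesHomology_of_preservesEpis_and_kernels (Scheme.Modules.pushforward f)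
  exact Functor.preservesFiniteColimits_of_preservesHomology _

theorem isZero_of_push (hf : Topology.IsClosedEmbedding f.base) (M : X.Modules)
    (h : IsZero ((Scheme.Modules.pushforward f).obj M)) : IsZero M := by
  refine isZero_of_subsingleton M fun U => ?_
  obtain ⟨V, rfl⟩ := exists_preimage_eq f hf U
  refine ⟨fun a b => ?_⟩
  have h0 := h.eq_of_src (𝟙 _) 0
  have key : ∀ a : Γ((Scheme.Modules.pushforward f).obj M, V), a = 0 := fun a => congr((Scheme.Modules.Hom.app $h0 V) a)
  exact (key a).trans (key b).symm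

theorem isClosedEmbedding_restrict (hf : Topology.IsClosedEmbedding f.base) (V : Y.Opens) :
    Topology.IsClosedEmbedding (f ∣_ V).base := by
  rw [morphismRestrict_base]
  exact hf.restrictPreimage _

/-- Derived direct image along a morphism with exact direct image. -/
noncomputable abbrev pd [PreservesFiniteColimits (Scheme.Modules.pushforward f)] : DCoh.D X ⥤ DCoh.D Y :=
  (Scheme.Modules.pushforward f).mapDerivedCategory

theorem nonempty_rd_pd [PreservesFiniteColimits (Scheme.Modules.pushforward f)] (V : Y.Opens)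
    [PreservesFiniteColimits (Scheme.Modules.pushforward (f ∣_ V))] (K : DCoh.D X) :
    Nonempty ((PerfLocal.rd V.ι).obj ((pd f).obj K) ≅ (pd (f ∣_ V)).obj ((PerfLocal.rd (f ⁻¹ᵁ V).ι).obj K)) :=
  nonempty_mdc_sq _ _ _ _ (OpenDerived.pushRestrict f V) K

theorem nonempty_rd_single (V : X.Opens) (M : X.Modules) :
    Nonempty ((PerfLocal.rd V.ι).obj (DCoh.inD X M) ≅ DCoh.inD V ((Scheme.Modules.restrictFunctor V.ι).obj M)) :=
  ⟨((Scheme.Modules.restrictFunctor V.ι).mapDerivedCategorySingleFunctor 0).app M⟩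

/-- The class of objects pseudo-coherent in every degree. -/
abbrev pscAll (W : Scheme.{u}) : ObjectProperty (DCoh.D W) := fun K => ∀ m : ℤ, DCoh.IsPseudoCoherentD m K

theorem psc_of_isLE' {W : Scheme.{u}} {m n : ℤ} (hn : n < m) {K : DCoh.D W} (h : K.IsLE n) :
    DCoh.IsPseudoCoherentD m K :=
  PCTriangle.psc_of_gpsc (PCTriangle.psc_of_isLE hn h)

theorem isDev_pscAll (W : Scheme.{u}) : DQCoh.IsDev (pscAll W) where
  iso e h m := PCTriangle.psc_iso e (h m)
  zero K hK m := psc_of_isLE' (n := m - 1) (by omega) (DerivedCategory.TStructure.t.isLE_of_isZero hK _)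
  shift K n h m := PCTriangle.psc_shift (h (n + m)) n m rfl
  ext T hT h₁ h₃ m := PCTriangle.psc_ext hT (h₁ m) (h₃ m)

/-- Off the image the direct image vanishes. -/
theorem psc_outside [PreservesFiniteColimits (Scheme.Modules.pushforward f)]
    (hf : Topology.IsClosedEmbedding f.base) (K : DCoh.D X) (m : ℤ) (y : Y) (hy : y ∉ Set.range f.base) :
    ∃ (W : Scheme.{u}) (k : W ⟶ Y) (_ : IsOpenImmersion k),
      y ∈ k.opensRange ∧ DCoh.IsPseudoCoherentD m ((PerfLocal.rd k).obj ((pd f).obj K)) := by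
  let V : Y.Opens := ⟨(Set.range f.base)ᶜ, hf.isClosed_range.isOpen_compl⟩
  refine ⟨V, V.ι, inferInstance, ⟨⟨y, hy⟩, rfl⟩, psc_of_isLE' (n := m - 1) (by omega) ?_⟩
  rw [DerivedCategory.isLE_iff]
  intro i _
  refine IsZero.of_iso ?_ (SuppOpen.hdMapIso _ ((pd f).obj K) i ≪≫
    (Scheme.Modules.restrictFunctor V.ι).mapIso (SuppOpen.hdMapIso (Scheme.Modules.pushforward f) K i))
  refine isZero_of_subsingleton _ fun W => subsingleton_of_le_bot (DCoh.HD K i) (U := f ⁻¹ᵁ (V.ι ''ᵁ W)) fun x hx => ?_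
  obtain ⟨w, -, hw⟩ := hx
  exact (w.2 ⟨x, hw.symm⟩).elim

/-- Finite locally free modules have pseudo-coherent direct image. -/
theorem psc_push_finLocFree [PreservesFiniteColimits (Scheme.Modules.pushforward f)]
    (hf : Topology.IsClosedEmbedding f.base)
    (hO : pscAll Y (DCoh.inD Y ((Scheme.Modules.pushforward f).obj (Coh.structureModule X))))
    {M : X.Modules} (hM : FlatMod.IsFinLocFree M) :
    pscAll Y (DCoh.inD Y ((Scheme.Modules.pushforward f).obj M)) := fun m => DQCoh.psc_of_local _ fun y => by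
  by_cases hy : y ∈ Set.range f.base
  swap
  · obtain ⟨W, k, hk, hyk, h⟩ := psc_outside f hf (DCoh.inD X M) m y hy
    exact ⟨W, k, hk, hyk, PCTriangle.psc_iso ((PerfLocal.rd k).mapIso
      (((Scheme.Modules.pushforward f).mapDerivedCategorySingleFunctor 0).app M)) h⟩
  obtain ⟨x, rfl⟩ := hy
  obtain ⟨U, n, hxU, ⟨e⟩⟩ := hM x
  obtain ⟨V, rfl⟩ := exists_preimage_eq f hf U
  haveI := preservesFiniteColimits_emb _ (isClosedEmbedding_restrict f hf V)
  let r := OpenDerived.pushRestrict f V
  refine ⟨V, V.ι, inferInstance, by simpa using hxU, ?_⟩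
  obtain ⟨a⟩ := nonempty_rd_single V ((Scheme.Modules.pushforward f).obj M)
  refine PCTriangle.psc_iso a.symm ?_
  let G := Scheme.Modules.pushforward (f ∣_ V)
  have hO' : pscAll (V : Scheme.{u}) (DCoh.inD V (G.obj (Coh.structureModule (f ⁻¹ᵁ V).toScheme))) := fun m => by
    obtain ⟨b⟩ := nonempty_rd_single V ((Scheme.Modules.pushforward f).obj (Coh.structureModule X))
    exact PCTriangle.psc_iso (b ≪≫ (singleFunctor _ 0).mapIso
      (r.app (Coh.structureModule X) ≪≫ G.mapIso (Scheme.Modules.restrictUnitIso (f ⁻¹ᵁ V).ι)))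
      (DQCoh.psc_rd V.ι (hO m))
  have hfree := (isDev_pscAll (V : Scheme.{u})).sigma (fun _ : Fin n => G.obj (Coh.structureModule (f ⁻¹ᵁ V).toScheme))
    fun _ => hO'
  refine PCTriangle.psc_iso ((singleFunctor _ 0).mapIso ?_) (hfree m)
  exact (asIso (sigmaComparison G fun _ : Fin n => Coh.structureModule (f ⁻¹ᵁ V).toScheme)) ≪≫ G.mapIso e.symm ≪≫
    (r.app M).symm

/-- Direct image preserves pseudo-coherence. -/
theorem psc_pd [PreservesFiniteColimits (Scheme.Modules.pushforward f)]
    (hf : Topology.IsClosedEmbedding f.base)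
    (hO : pscAll Y (DCoh.inD Y ((Scheme.Modules.pushforward f).obj (Coh.structureModule X))))
    {m : ℤ} {K : DCoh.D X} (hK : DCoh.IsPseudoCoherentD m K) : DCoh.IsPseudoCoherentD m ((pd f).obj K) := by
  refine DQCoh.psc_of_local _ fun y => ?_
  by_cases hy : y ∈ Set.range f.base
  swap
  · exact psc_outside f hf K m y hy
  obtain ⟨x, rfl⟩ := hy
  obtain ⟨W, k, hk, hxW, hP⟩ := (PerfLocal.isPseudoCoherentD_iff m K).1 hK x
  obtain ⟨V, hV⟩ := exists_preimage_eq f hf k.opensRange
  have hxV : f x ∈ V := show x ∈ f ⁻¹ᵁ V by rw [hV]; exact hxW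
  obtain ⟨E, α, hE, ha⟩ := PerfLocal.pscAt_of_range_le hP (f ⁻¹ᵁ V).ι
    (by rw [Scheme.Opens.range_ι, hV, Scheme.Hom.coe_opensRange])
  have hg := isClosedEmbedding_restrict f hf V
  haveI := preservesFiniteColimits_emb _ hg
  refine ⟨V, V.ι, inferInstance, by simpa using hxV, ?_⟩
  obtain ⟨c⟩ := nonempty_rd_pd f V K
  refine PCTriangle.psc_iso c.symm ?_
  obtain ⟨C, g, w, hT⟩ := distinguished_cocone_triangle α
  have hC : C.IsLE (m - 1) := (PullPerf.apx_iff_isLE m _ hT).1 ha
  have hO' : pscAll (V : Scheme.{u}) (DCoh.inD V ((Scheme.Modules.pushforward (f ∣_ V)).obj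
      (Coh.structureModule (f ⁻¹ᵁ V).toScheme))) := fun n => by
    obtain ⟨b⟩ := nonempty_rd_single V ((Scheme.Modules.pushforward f).obj (Coh.structureModule X))
    exact PCTriangle.psc_iso (b ≪≫ (singleFunctor _ 0).mapIso ((OpenDerived.pushRestrict f V).app _ ≪≫
      (Scheme.Modules.pushforward (f ∣_ V)).mapIso (Scheme.Modules.restrictUnitIso (f ⁻¹ᵁ V).ι)))
      (DQCoh.psc_rd V.ι (hO n))
  obtain ⟨⟨a₀, b₀, hab⟩, hfl⟩ := hE
  refine PCTriangle.psc_ext ((pd (f ∣_ V)).map_distinguished _ hT)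
    (PCTriangle.psc_iso ((Scheme.Modules.pushforward (f ∣_ V)).mapDerivedCategoryFactors.app E).symm ?_)
    (psc_of_isLE' (n := m - 1) (by omega) (isLE_map _ C (m - 1) hC))
  exact (isDev_pscAll (V : Scheme.{u})).bounded _ (a := a₀) (b := b₀)
    (fun i hi => (Scheme.Modules.pushforward (f ∣_ V)).map_isZero (hab i hi))
    (fun i => psc_push_finLocFree _ hg hO' (hfl i)) m

/-- A module is of finite type if its direct image is. -/
theorem isFT_of_push (hf : Topology.IsClosedEmbedding f.base) (M : X.Modules)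
    (h : CohB1.IsFT ((Scheme.Modules.pushforward f).obj M)) : CohB1.IsFT M := by
  refine isFT_of_locallyFinGen fun x => ?_
  obtain ⟨V, I, hI, s, hxV, hs⟩ := locallyFinGen_of_isFT _ h (f x)
  refine ⟨f ⁻¹ᵁ V, I, hI, s, hxV, fun W hW a y hy => ?_⟩
  obtain ⟨W', rfl⟩ := exists_preimage_eq f hf W
  have hle : f ⁻¹ᵁ (W' ⊓ V) ≤ f ⁻¹ᵁ W' := (Opens.map f.base).map (homOfLE inf_le_left) |>.le
  obtain ⟨W'', h'', hyW'', c, hc⟩ := hs (W' ⊓ V) inf_le_right (resM M hle a) (f y) ⟨hy, hW hy⟩
  have hle' : f ⁻¹ᵁ W'' ≤ f ⁻¹ᵁ (W' ⊓ V) := (Opens.map f.base).map (homOfLE h'') |>.le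
  refine ⟨f ⁻¹ᵁ W'', hle'.trans hle, hyW'', fun i => f.app W'' (c i), ?_⟩
  rw [← resM_resM M hle hle']
  exact hc

/-- For a complex with `d b = 0`, epimorphy on `H ^ b` is read off on the cokernel of the differential. -/
theorem epi_homologyMap_single (F : CochainComplex X.Modules ℤ) (b : ℤ) (hd : F.d b (b + 1) = 0) (M : X.Modules)
    (i : (HomologicalComplex.single X.Modules (ComplexShape.up ℤ) b).obj M ⟶ F)
    (h : Epi (i.f b ≫ cokernel.π (F.d (b - 1) b))) : Epi (HomologicalComplex.homologyMap i b) := by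
  have hp : Epi (i.f b ≫ F.pOpcycles b) := by
    have e := IsColimit.comp_coconePointUniqueUpToIso_hom (cokernelIsCokernel (F.d (b - 1) b))
      (F.opcyclesIsCokernel (b - 1) b (by simp)) WalkingParallelPair.one
    rw [show F.pOpcycles b = cokernel.π (F.d (b - 1) b) ≫ _ from e.symm, ← Category.assoc]
    exact epi_comp _ _
  have h2 : Epi (HomologicalComplex.opcyclesMap i b) := by
    rw [← HomologicalComplex.p_opcyclesMap i b] at hp
    exact epi_of_epi (((HomologicalComplex.single X.Modules (ComplexShape.up ℤ) b).obj M).pOpcycles b) _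
  haveI := h2
  haveI : IsIso (F.homologyι b) := F.isIso_homologyι b (b + 1) (by simp) hd
  haveI : IsIso (((HomologicalComplex.single X.Modules (ComplexShape.up ℤ) b).obj M).homologyι b) :=
    ((HomologicalComplex.single X.Modules (ComplexShape.up ℤ) b).obj M).isIso_homologyι b (b + 1) (by simp)
      (HomologicalComplex.single_obj_d _ _ _ _ _)
  have e := HomologicalComplex.homologyι_naturality i b
  have h3 : Epi (HomologicalComplex.homologyMap i b ≫ F.homologyι b) := by rw [e]; exact epi_comp _ _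
  have e' : HomologicalComplex.homologyMap i b =
      (HomologicalComplex.homologyMap i b ≫ F.homologyι b) ≫ inv (F.homologyι b) := by
    rw [Category.assoc, IsIso.hom_inv_id, Category.comp_id]
  rw [e']
  exact epi_comp _ _

/-- A finite free module mapping onto top cohomology of finite type, locally. -/
theorem exists_map_top (K : DCoh.D X) (b : ℤ) (hK : K.IsLE b) (hH : CohB1.IsFT (DCoh.HD K b)) (x : X) :
    ∃ (W : Scheme.{u}) (k : W ⟶ X) (_ : IsOpenImmersion k) (P : DCoh.D W) (α : P ⟶ (PerfLocal.rd k).obj K),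
      x ∈ k.opensRange ∧ pscAll W P ∧ PullPerf.Apx b α := by
  haveI := hK
  obtain ⟨F, hF, ⟨eF⟩⟩ := K.exists_iso_Q_obj_of_isLE b
  have hd : F.d b (b + 1) = 0 := (F.isZero_of_isStrictlyLE b (b + 1) (by omega)).eq_of_tgt _ _
  haveI : IsIso (F.homologyι b) := F.isIso_homologyι b (b + 1) (by simp) hd
  let eH : DCoh.HD K b ≅ cokernel (F.d (b - 1) b) :=
    (DerivedCategory.homologyFunctor X.Modules b).mapIso eF ≪≫
      (DerivedCategory.homologyFunctorFactors X.Modules b).app F ≪≫ asIso (F.homologyι b) ≪≫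
      (IsColimit.coconePointUniqueUpToIso (cokernelIsCokernel (F.d (b - 1) b))
        (F.opcyclesIsCokernel (b - 1) b (by simp))).symm
  obtain ⟨U, n, p, hxU, hp⟩ := DQCoh.exists_epi_free_nhd _ (Coherent.isFT_of_epi eH.hom hH) x
  let G := Scheme.Modules.restrictFunctor U.ι
  obtain ⟨V, hxV, ψ, hψ⟩ := LocLift.exists_liftAt (FlatMor12.FlatFun.isFinLocFree_freeMod (U : Scheme.{u}) n)
    p (G.map (cokernel.π (F.d (b - 1) b))) ⟨x, hxU⟩
  let G' := Scheme.Modules.restrictFunctor V.ι
  let M := G'.obj (FlatMod.freeMod (U : Scheme.{u}) n)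
  let F' : CochainComplex (V : Scheme.{u}).Modules ℤ := (G'.mapHomologicalComplex (ComplexShape.up ℤ)).obj ((G.mapHomologicalComplex (ComplexShape.up ℤ)).obj F)
  have hd' : F'.d b (b + 1) = 0 := by
    show G'.map (G.map (F.d b (b + 1))) = 0
    rw [hd, Functor.map_zero, Functor.map_zero]
  let ι : (HomologicalComplex.single (V : Scheme.{u}).Modules (ComplexShape.up ℤ) b).obj M ⟶ F' :=
    HomologicalComplex.mkHomFromSingle ψ (fun k hk => by
      obtain rfl : b + 1 = k := hk
      rw [hd', comp_zero])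
  have hepi : Epi (HomologicalComplex.homologyMap ι b) := by
    refine epi_homologyMap_single F' b hd' M ι ?_
    rw [show ι.f b = (HomologicalComplex.singleObjXSelf _ b M).hom ≫ ψ from HomologicalComplex.mkHomFromSingle_f _ _]
    have hc : Epi (ψ ≫ cokernel.π (G'.map (G.map (F.d (b - 1) b)))) := by
      have e : cokernel.π (G'.map (G.map (F.d (b - 1) b))) =
          G'.map (G.map (cokernel.π (F.d (b - 1) b))) ≫ G'.map (PreservesCokernel.iso G (F.d (b - 1) b)).hom ≫
            (PreservesCokernel.iso G' (G.map (F.d (b - 1) b))).hom := by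
        rw [← Category.assoc, ← Functor.map_comp, PreservesCokernel.π_iso_hom, PreservesCokernel.π_iso_hom]
      rw [e, ← Category.assoc, hψ]
      haveI : Epi (G'.map p) := inferInstance
      exact epi_comp _ _
    rw [Category.assoc]
    exact @epi_comp _ _ _ _ _ _ _ _ hc
  haveI hF' : CochainComplex.IsStrictlyLE F' b := (CochainComplex.isStrictlyLE_iff _ _).2 fun i hi =>
    G'.map_isZero (G.map_isZero (F.isZero_of_isStrictlyLE b i hi))
  haveI hM : CochainComplex.IsStrictlyLE
      ((HomologicalComplex.single (V : Scheme.{u}).Modules (ComplexShape.up ℤ) b).obj M) b :=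
    (CochainComplex.isStrictlyLE_iff _ _).2 fun i hi => HomologicalComplex.isZero_single_obj_X _ _ _ _ (by omega)
  have hLE : ∀ (L : CochainComplex (V : Scheme.{u}).Modules ℤ) [L.IsStrictlyLE b] (i : ℤ), b < i →
      IsZero ((DerivedCategory.homologyFunctor (V : Scheme.{u}).Modules i).obj (DerivedCategory.Q.obj L)) :=
    fun L _ i hi =>
      haveI : (DerivedCategory.Q.obj L).IsLE b := (DerivedCategory.isLE_Q_obj_iff _ _).2 inferInstance
      DerivedCategory.isZero_of_isLE _ b i hi
  have hapx : PullPerf.Apx b (DerivedCategory.Q.map ι) := by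
    refine ⟨fun i hi => ?_, ?_⟩
    · exact ⟨0, (hLE _ i hi).eq_of_src _ _, (hLE _ i hi).eq_of_src _ _⟩
    · refine ((MorphismProperty.epimorphisms _).arrow_mk_iso_iff
        (((Functor.mapArrowFunctor _ _).mapIso (DerivedCategory.homologyFunctorFactors _ b)).app (Arrow.mk ι))).2 ?_
      exact hepi
  obtain ⟨c⟩ := PerfLocal.rd_comp V.ι U.ι K
  let eK : DerivedCategory.Q.obj F' ≅ (PerfLocal.rd (V.ι ≫ U.ι)).obj K :=
    (G'.mapDerivedCategoryFactors.app _).symm ≪≫ (PerfLocal.rd V.ι).mapIso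
      ((G.mapDerivedCategoryFactors.app F).symm ≪≫ (PerfLocal.rd U.ι).mapIso eF.symm) ≪≫ c.symm
  refine ⟨V, V.ι ≫ U.ι, inferInstance, DerivedCategory.Q.obj _, DerivedCategory.Q.map ι ≫ eK.hom,
    ⟨⟨⟨x, hxU⟩, hxV⟩, rfl⟩, ?_, hapx.comp (PullPerf.apx_of_isIso b _)⟩
  refine (isDev_pscAll (V : Scheme.{u})).bounded _ (a := b) (b := b)
    (fun i hi => HomologicalComplex.isZero_single_obj_X _ _ _ _ (by omega)) fun i => ?_
  by_cases hi : i = b
  · subst hi
    exact fun m => PCTriangle.psc_iso ((singleFunctor _ 0).mapIso (HomologicalComplex.singleObjXSelf _ i M).symm)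
      (DQCoh.psc_inD_finLocFree m (PerfTensor.isFinLocFree_of_iso
        ((Scheme.Modules.restrictFunctorIsoPullback V.ι).app _).symm
        (PullPerf.isFinLocFree_pullback V.ι (FlatMor12.FlatFun.isFinLocFree_freeMod (U : Scheme.{u}) n))))
  · exact fun m => (isDev_pscAll (V : Scheme.{u})).zero _
      ((singleFunctor _ 0).map_isZero (HomologicalComplex.isZero_single_obj_X _ _ _ _ hi)) m

theorem nonempty_rd_congr' {W : Scheme.{u}} {k k' : W ⟶ X} [IsOpenImmersion k] [IsOpenImmersion k'] (h : k = k') :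
    Nonempty (PerfLocal.rd k ≅ PerfLocal.rd k') := by
  subst h
  exact ⟨Iso.refl _⟩

theorem psc_of_pd_aux (k : ℕ) : ∀ {X Y : Scheme.{u}} (f : X ⟶ Y)
    [PreservesFiniteColimits (Scheme.Modules.pushforward f)] (_ : Topology.IsClosedEmbedding f.base)
    (_ : pscAll Y (DCoh.inD Y ((Scheme.Modules.pushforward f).obj (Coh.structureModule X))))
    (m : ℤ) (K : DCoh.D X), K.IsLE (m - 1 + k) → DCoh.IsPseudoCoherentD m ((pd f).obj K) →
    DCoh.IsPseudoCoherentD m K := by
  induction k with
  | zero => exact fun f _ _ _ m K hK _ => psc_of_isLE' (n := m - 1 + ((0 : ℕ) : ℤ)) (by omega) hK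
  | succ k ih =>
    intro X Y f _ hf hO m K hK h
    obtain ⟨b, hb⟩ : ∃ b : ℤ, b = m + k := ⟨_, rfl⟩
    have hKb : K.IsLE b := by rwa [show b = m - 1 + ((k + 1 : ℕ) : ℤ) by push_cast; omega]
    have hle := isLE_map (Scheme.Modules.pushforward f) K b hKb
    have htop := (DQCoh.top_of_psc b _ (PCTriangle.psc_mono (show m ≤ b by omega) h)).1 fun i hi =>
      (DerivedCategory.isLE_iff _ _).1 hle i hi
    have hH : CohB1.IsFT (DCoh.HD K b) :=
      isFT_of_push f hf _ (Coherent.isFT_of_epi (SuppOpen.hdMapIso (Scheme.Modules.pushforward f) K b).hom htop)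
    refine DQCoh.psc_of_local _ fun x => ?_
    obtain ⟨W, j, _, P, α, hxW, hP, ha⟩ := exists_map_top K b hKb hH x
    obtain ⟨V, hV⟩ := exists_preimage_eq f hf j.opensRange
    let i : (f ⁻¹ᵁ V).toScheme ⟶ X := (f ⁻¹ᵁ V).ι
    have hrange : Set.range i ⊆ Set.range j := by
      rw [Scheme.Opens.range_ι, hV, Scheme.Hom.coe_opensRange]
    let l := IsOpenImmersion.lift j i hrange
    haveI : IsOpenImmersion l :=
      haveI : IsOpenImmersion (l ≫ j) := by rw [IsOpenImmersion.lift_fac]; infer_instance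
      IsOpenImmersion.of_comp _ j
    obtain ⟨c⟩ := PerfLocal.rd_comp l j K
    obtain ⟨c'⟩ := nonempty_rd_congr' (k := l ≫ j) (k' := i) (IsOpenImmersion.lift_fac j i hrange)
    let K' := (PerfLocal.rd i).obj K
    let α' : (PerfLocal.rd l).obj P ⟶ K' := (PerfLocal.rd l).map α ≫ c.inv ≫ c'.hom.app K
    have ha' : PullPerf.Apx b α' :=
      (PerfLocal.apx_rd l ha).comp ((PullPerf.apx_of_isIso b _).comp (PullPerf.apx_of_isIso b _))
    obtain ⟨C, g, w, hT⟩ := distinguished_cocone_triangle α'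
    have hC : C.IsLE (m - 1 + k) := by
      have := (PullPerf.apx_iff_isLE b _ hT).1 ha'
      rwa [show m - 1 + (k : ℤ) = b - 1 by omega]
    have hg := isClosedEmbedding_restrict f hf V
    haveI := preservesFiniteColimits_emb _ hg
    have hO' : pscAll (V : Scheme.{u}) (DCoh.inD V ((Scheme.Modules.pushforward (f ∣_ V)).obj
        (Coh.structureModule (f ⁻¹ᵁ V).toScheme))) := fun n => by
      obtain ⟨e⟩ := nonempty_rd_single V ((Scheme.Modules.pushforward f).obj (Coh.structureModule X))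
      exact PCTriangle.psc_iso (e ≪≫ (singleFunctor _ 0).mapIso ((OpenDerived.pushRestrict f V).app _ ≪≫
        (Scheme.Modules.pushforward (f ∣_ V)).mapIso (Scheme.Modules.restrictUnitIso (f ⁻¹ᵁ V).ι)))
        (DQCoh.psc_rd V.ι (hO n))
    obtain ⟨e⟩ := nonempty_rd_pd f V K
    refine ⟨f ⁻¹ᵁ V, i, inferInstance, by simpa [i, hV] using hxW,
      PCTriangle.psc_ext hT (DQCoh.psc_rd l (hP m)) (ih (f ∣_ V) hg hO' m C hC ?_)⟩
    exact PCTriangle.psc_cone ((pd (f ∣_ V)).map_distinguished _ hT)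
      (psc_pd _ hg hO' (DQCoh.psc_rd l (hP (m + 1)))) (PCTriangle.psc_iso e (DQCoh.psc_rd V.ι h))

/-- Pseudo-coherence is detected after direct image. -/
theorem psc_pd_iff [PreservesFiniteColimits (Scheme.Modules.pushforward f)]
    (hf : Topology.IsClosedEmbedding f.base)
    (hO : pscAll Y (DCoh.inD Y ((Scheme.Modules.pushforward f).obj (Coh.structureModule X))))
    (m : ℤ) (K : DCoh.D X) :
    DCoh.IsPseudoCoherentD m ((pd f).obj K) ↔ DCoh.IsPseudoCoherentD m K := by
  refine ⟨fun h => ?_, psc_pd f hf hO⟩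
  refine DQCoh.psc_of_local _ fun x => ?_
  obtain ⟨W, j, _, hxW, E, β, hE, ha⟩ := (PerfLocal.isPseudoCoherentD_iff m _).1 h (f x)
  let V := j.opensRange
  obtain ⟨E, β, hE, ha⟩ := PerfLocal.pscAt_of_range_le (show PerfLocal.PscAt m j ((pd f).obj K) from ⟨E, β, hE, ha⟩)
    V.ι (by rw [Scheme.Opens.range_ι]; rfl)
  obtain ⟨⟨a, b, hab⟩, -⟩ := id hE
  have hg := isClosedEmbedding_restrict f hf V
  haveI := preservesFiniteColimits_emb _ hg
  have hO' : pscAll (V : Scheme.{u}) (DCoh.inD V ((Scheme.Modules.pushforward (f ∣_ V)).obj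
      (Coh.structureModule (f ⁻¹ᵁ V).toScheme))) := fun n => by
    obtain ⟨e⟩ := nonempty_rd_single V ((Scheme.Modules.pushforward f).obj (Coh.structureModule X))
    exact PCTriangle.psc_iso (e ≪≫ (singleFunctor _ 0).mapIso ((OpenDerived.pushRestrict f V).app _ ≪≫
      (Scheme.Modules.pushforward (f ∣_ V)).mapIso (Scheme.Modules.restrictUnitIso (f ⁻¹ᵁ V).ι)))
      (DQCoh.psc_rd V.ι (hO n))
  obtain ⟨e⟩ := nonempty_rd_pd f V K
  let K' := (PerfLocal.rd (f ⁻¹ᵁ V).ι).obj K
  obtain ⟨c, hc, hc'⟩ : ∃ c : ℤ, b ≤ c ∧ m ≤ c := ⟨max b m, le_max_left _ _, le_max_right _ _⟩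
  have hK' : K'.IsLE c := by
    rw [DerivedCategory.isLE_iff]
    intro i hi
    refine isZero_of_push (f ∣_ V) hg _ (IsZero.of_iso ?_
      ((SuppOpen.hdMapIso (Scheme.Modules.pushforward (f ∣_ V)) K' i).symm ≪≫
        (DerivedCategory.homologyFunctor _ i).mapIso e.symm))
    haveI := ha.1 i (by omega)
    haveI := PCTriangle.isLE_Q_of_strictlyPerfect hab
    exact (DerivedCategory.isZero_of_isLE (DerivedCategory.Q.obj E) b i (by omega)).of_iso
      (asIso ((DerivedCategory.homologyFunctor _ i).map β)).symm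
  refine ⟨f ⁻¹ᵁ V, (f ⁻¹ᵁ V).ι, inferInstance, by simpa [V] using hxW,
    psc_of_pd_aux (c - m + 1).toNat _ hg hO' m K' ?_ (PCTriangle.psc_iso e (DQCoh.psc_rd V.ι h))⟩
  haveI := hK'
  exact DerivedCategory.TStructure.t.isLE_of_le K' c _ (by omega)

/-- Composition. -/
theorem nonempty_pd_comp (g : Y ⟶ Z) [PreservesFiniteColimits (Scheme.Modules.pushforward f)]
    [PreservesFiniteColimits (Scheme.Modules.pushforward g)]
    [PreservesFiniteColimits (Scheme.Modules.pushforward (f ≫ g))] (K : DCoh.D X) :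
    Nonempty ((pd g).obj ((pd f).obj K) ≅ (pd (f ≫ g)).obj K) := by
  obtain ⟨e⟩ := nonempty_mdc_sq (Scheme.Modules.pushforward f) (Scheme.Modules.pushforward g)
    (Scheme.Modules.pushforward (f ≫ g)) (𝟭 Z.Modules) (Scheme.Modules.pushforwardComp f g) K
  let P := DerivedCategory.Q.objPreimage ((pd (f ≫ g)).obj K)
  exact ⟨e ≪≫ (𝟭 Z.Modules).mapDerivedCategory.mapIso (DerivedCategory.Q.objObjPreimageIso _).symm ≪≫
    (𝟭 Z.Modules).mapDerivedCategoryFactors.app P ≪≫
    DerivedCategory.Q.mapIso (HomologicalComplex.Hom.isoOfComponents (fun n => Iso.refl (P.X n))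
      (fun a b _ => by simp)) ≪≫ DerivedCategory.Q.objObjPreimageIso _⟩

end Groth.Agent.FlatCx12.EmbPush
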