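import Groth.Agent.FlatCx12.EmbPush
import Groth.Agent.DCat.Trunc
import Groth.Agent.DQCoh.AcyclicPush

/-!
# Pseudo-coherence from the terms and from the cohomology
-/

set_option autoImplicit false
set_option backward.isDefEq.respectTransparency false
set_option backward.defeqAttrib.useBackward true
set_option linter.style.haveILetI false
set_option synthInstance.maxHeartbeats 100000
set_option backward.isDefEq.respectTransparency.types false

universe u

open CategoryTheory CategoryTheory.Limits CategoryTheory.Pretriangulated DerivedCategory Opposite TopologicalSpace AlgebraicGeometry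
open Groth.Agent.DCat Groth.Agent.FlatCx12.EmbPush

namespace Groth.Agent.FlatCx12.PscInduction

attribute [local instance] HasDerivedCategory.standard
attribute [-instance] Int.instConditionallyCompleteLinearOrder

variable {X : Scheme.{u}}

/-- A single module in degree `n`. -/
noncomputable def singleShiftIso (M : X.Modules) (n : ℤ) :
    DCoh.toD X ((HomologicalComplex.single X.Modules (ComplexShape.up ℤ) n).obj M) ≅ (DCoh.inD X M)⟦-n⟧ :=
  DerivedCategory.Q.mapIso (((CochainComplex.singleFunctors X.Modules).shiftIso (-n) n 0 (by omega)).app M).symm ≪≫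
    (DerivedCategory.Q.commShiftIso (-n)).app _ ≪≫
    (shiftFunctor _ (-n)).mapIso (((SingleFunctors.evaluation _ _ 0).mapIso
      (DerivedCategory.singleFunctorsPostcompQIso X.Modules)).app M).symm

/-- Pseudo-coherence from the terms of a complex bounded above. -/
theorem psc_of_terms (m : ℤ) : ∀ (k : ℕ) (K : CochainComplex X.Modules ℤ),
    (∀ i, m - 1 + k < i → IsZero (K.X i)) → (∀ i, DCoh.IsPseudoCoherentD (m - i) (DCoh.inD X (K.X i))) →
    DCoh.IsPseudoCoherentD m (DCoh.toD X K) := by
  intro k
  induction k with
  | zero =>
    intro K hK _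
    haveI : CochainComplex.IsStrictlyLE K (m - 1) :=
      (CochainComplex.isStrictlyLE_iff _ _).2 fun i hi => hK i (by omega)
    exact psc_of_isLE' (n := m - 1) (by omega) ((DerivedCategory.isLE_Q_obj_iff _ _).2 inferInstance)
  | succ k ih =>
    intro K hK h
    obtain ⟨b, hb⟩ : ∃ b, b = m + (k : ℤ) := ⟨_, rfl⟩
    obtain ⟨P, ι, hι, hlt, hge⟩ := DQCoh.exists_stupid K b
    have hS : (ShortComplex.mk ι (cokernel.π ι) (cokernel.condition ι)).ShortExact :=
      { exact := ShortComplex.exact_cokernel ι, mono_f := hι, epi_g := inferInstanceAs (Epi (cokernel.π ι)) }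
    have hn := fun n => hS.map_of_exact (HomologicalComplex.eval X.Modules (ComplexShape.up ℤ) n)
    have hQ0 : ∀ i, b ≤ i → IsZero ((cokernel ι).X i) := fun i hi => by
      haveI := hge i hi
      exact (hn i).isIso_f_iff.1 (show IsIso (ι.f i) from inferInstance)
    have hQ : DCoh.IsPseudoCoherentD m (DCoh.toD X (cokernel ι)) := by
      refine ih _ (fun i hi => hQ0 i (by omega)) fun i => ?_
      by_cases hi : b ≤ i
      · exact psc_of_isLE' (n := m - i - 1) (by omega)
          (DerivedCategory.TStructure.t.isLE_of_isZero ((singleFunctor _ 0).map_isZero (hQ0 i hi)) _)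
      · haveI : IsIso ((cokernel.π ι).f i) := (hn i).isIso_g_iff.2 (hlt i (by omega))
        exact PCTriangle.psc_iso ((singleFunctor _ 0).mapIso (asIso ((cokernel.π ι).f i))) (h i)
    have hP : DCoh.IsPseudoCoherentD m (DCoh.toD X P) := by
      haveI := hge b le_rfl
      have hz : ∀ i, i ≠ b → IsZero (P.X i) := fun i hi => by
        rcases lt_or_gt_of_ne hi with h' | h'
        · exact hlt i h'
        · haveI := hge i h'.le
          exact (hK i (by omega)).of_iso (asIso (ι.f i))
      let e : P ≅ (HomologicalComplex.single X.Modules (ComplexShape.up ℤ) b).obj (P.X b) :=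
        HomologicalComplex.Hom.isoOfComponents (fun i =>
          if hi : i = b then eqToIso (congrArg P.X hi) ≪≫
              (HomologicalComplex.singleObjXSelf (ComplexShape.up ℤ) b (P.X b)).symm ≪≫
              eqToIso (congrArg ((HomologicalComplex.single X.Modules (ComplexShape.up ℤ) b).obj (P.X b)).X hi.symm)
          else (hz i hi).iso (HomologicalComplex.isZero_single_obj_X _ _ _ _ hi)) fun i j hij => by
          simp only [ComplexShape.up_Rel] at hij
          by_cases hi : i = b
          · exact (HomologicalComplex.isZero_single_obj_X _ _ _ _ (show j ≠ b by omega)).eq_of_tgt _ _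
          · exact (hz i hi).eq_of_src _ _
      refine PCTriangle.psc_iso (DerivedCategory.Q.mapIso e ≪≫ singleShiftIso (P.X b) b).symm
        (PCTriangle.psc_shift (m := m - b) ?_ (-b) m (by omega))
      exact PCTriangle.psc_iso ((singleFunctor _ 0).mapIso (asIso (ι.f b)).symm) (h b)
    exact PCTriangle.psc_ext (DerivedCategory.triangleOfSES_distinguished hS) hP hQ

/-- Pseudo-coherence from the cohomology of an object bounded above. -/
theorem psc_of_homology (m : ℤ) : ∀ (k : ℕ) (K : DCoh.D X), K.IsLE (m - 1 + k) →
    (∀ i, DCoh.IsPseudoCoherentD (m - i) (DCoh.inD X (DCoh.HD K i))) → DCoh.IsPseudoCoherentD m K := by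
  intro k
  induction k with
  | zero => exact fun K hK _ => psc_of_isLE' (n := m - 1 + ((0 : ℕ) : ℤ)) (by omega) hK
  | succ k ih =>
    intro K hK h
    obtain ⟨b, hb⟩ : ∃ b, b = m + (k : ℤ) := ⟨_, rfl⟩
    haveI : K.IsLE b := by rwa [show b = m - 1 + ((k + 1 : ℕ) : ℤ) by push_cast; omega]
    let t := DerivedCategory.TStructure.t (C := X.Modules)
    have hT := t.triangleLTGE_distinguished b K
    let L := (t.truncLT b).obj K
    let G := (t.truncGE b).obj K
    haveI hL : L.IsLE (b - 1) := t.isLE_truncLT_obj _ _ _ (by omega)
    haveI : G.IsGE b := inferInstance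
    haveI : G.IsLE b := by
      rw [DerivedCategory.isLE_iff]
      intro i hi
      haveI := epi_homology_truncGEπ K b i
      exact IsZero.of_epi ((homologyFunctor X.Modules i).map ((t.truncGEπ b).app K))
        (DerivedCategory.isZero_of_isLE K b i hi)
    refine PCTriangle.psc_ext hT (ih L ?_ fun i => ?_) ?_
    · rwa [show m - 1 + (k : ℤ) = b - 1 by omega]
    · by_cases hi : i ≤ b - 1
      · haveI := mono_homology_truncLTι K b i
        haveI : Epi ((homologyFunctor X.Modules i).map ((t.truncLTι b).app K)) :=
          (HomologySequence.epi_homologyMap_mor₁_iff _ hT i).2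
            ((DerivedCategory.isZero_of_isGE G b i (by omega)).eq_of_tgt _ _)
        haveI := isIso_of_mono_of_epi ((homologyFunctor X.Modules i).map ((t.truncLTι b).app K))
        exact PCTriangle.psc_iso ((singleFunctor _ 0).mapIso
          (asIso ((homologyFunctor X.Modules i).map ((t.truncLTι b).app K))).symm) (h i)
      · exact psc_of_isLE' (n := m - i - 1) (by omega) (DerivedCategory.TStructure.t.isLE_of_isZero
          ((singleFunctor _ 0).map_isZero (DerivedCategory.isZero_of_isLE L (b - 1) i (by omega))) _)
    · obtain ⟨M, ⟨e⟩⟩ := DerivedCategory.exists_iso_singleFunctor_obj_of_isGE_of_isLE G b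
      haveI := epi_homology_truncGEπ K b b
      haveI : Mono ((homologyFunctor X.Modules b).map ((t.truncGEπ b).app K)) :=
        (HomologySequence.mono_homologyMap_mor₂_iff _ hT b).2
          ((DerivedCategory.isZero_of_isLE L (b - 1) b (by omega)).eq_of_src _ _)
      haveI := isIso_of_mono_of_epi ((homologyFunctor X.Modules b).map ((t.truncGEπ b).app K))
      let eM : DCoh.HD K b ≅ M := asIso ((homologyFunctor X.Modules b).map ((t.truncGEπ b).app K)) ≪≫
        (homologyFunctor X.Modules b).mapIso e ≪≫ (singleFunctorCompHomologyFunctorIso X.Modules b).app M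
      refine PCTriangle.psc_iso (e ≪≫ (((DerivedCategory.singleFunctors X.Modules).shiftIso (-b) b 0 (by omega)).app M).symm).symm
        (PCTriangle.psc_shift (m := m - b) (PCTriangle.psc_iso ((singleFunctor _ 0).mapIso eM) (h b)) (-b) m (by omega))

end Groth.Agent.FlatCx12.PscInduction
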