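import Groth.Agent.DRingLib.PCMore
import Groth.Agent.DRingLib.PCGen
import Groth.Agent.DRingLib.PCPerf
import Groth.Agent.DRingLib.PCRegular
import Groth.Agent.DRingLib.GlobalDim
import Groth.Agent.DCat.KFlatModule
import Groth.Agent.AlgSpLib.FppfRing
import Groth.Prelude.Def_MoreMor
import Mathlib.CategoryTheory.Monoidal.Tor
import Mathlib.RingTheory.TensorProduct.MvPolynomial

/-! Pseudo-coherent and perfect ring maps. -/

set_option autoImplicit false
set_option backward.isDefEq.respectTransparency false
set_option linter.style.haveILetI false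

universe u

open CategoryTheory CategoryTheory.Limits CategoryTheory.Pretriangulated TensorProduct
attribute [local instance] HasDerivedCategory.standard

namespace Groth.Agent.FlatCx12.PerfectHom

/-- Flat modules have tor dimension zero. -/
theorem torDimLE_zero_of_flat {A : Type u} [CommRing A] (M : Type u) [AddCommGroup M] [Module A M]
    [Module.Flat A M] : DRing.HasTorDimLE A 0 M := by
  intro N _ _ p hp
  obtain ⟨k, rfl⟩ : ∃ k, p = k + 1 := ⟨p - 1, by omega⟩
  let Pr := projectiveResolution (ModuleCat.of A N)
  let F₁ := (MonoidalCategory.tensoringLeft (ModuleCat.{u} A)).obj (ModuleCat.of A M)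
  refine ModuleCat.subsingleton_of_isZero
    (M := ((CategoryTheory.Tor (ModuleCat.{u} A) (k + 1)).obj (ModuleCat.of A M)).obj (ModuleCat.of A N)) ?_
  show IsZero ((F₁.leftDerived (k + 1)).obj (ModuleCat.of A N))
  rw [Iso.isZero_iff (Pr.isoLeftDerivedObj F₁ (k + 1)), HomologicalComplex.homologyFunctor_obj,
    ← HomologicalComplex.exactAt_iff_isZero_homology,
    HomologicalComplex.exactAt_iff' _ (k + 2) (k + 1) k (by simp) (by simp),
    ShortComplex.ShortExact.moduleCat_exact_iff_function_exact]
  exact Module.Flat.lTensor_exact M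
    ((ShortComplex.ShortExact.moduleCat_exact_iff_function_exact _).1 (Pr.exact_succ k))

/-- Modules over a ring of global dimension `≤ d` have tor dimension `≤ d`. -/
theorem torDimLE_of_pd {A : Type u} [CommRing A] (d : ℕ)
    (h : ∀ N : ModuleCat.{u} A, HasProjectiveDimensionLE N d) (M : Type u) [AddCommGroup M]
    [Module A M] : DRing.HasTorDimLE A d M := by
  intro N _ _ p hp
  obtain ⟨k, rfl, hk⟩ : ∃ k, p = k + 1 ∧ d ≤ k := ⟨p - 1, by omega, by omega⟩
  let Pr := projectiveResolution (ModuleCat.of A N)
  let F₁ := (MonoidalCategory.tensoringLeft (ModuleCat.{u} A)).obj (ModuleCat.of A M)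
  let dd : ∀ j, Pr.complex.X (j + 1) →ₗ[A] Pr.complex.X j := fun j => (Pr.complex.d (j + 1) j).hom
  have hd : ∀ j, LinearMap.range (dd (j + 1)) = LinearMap.ker (dd j) := fun j =>
    (Pr.exact_succ j).moduleCat_range_eq_ker
  have hproj : ∀ j, Projective (Pr.complex.X j) := fun j => Pr.projective j
  have hpd : ∀ j, HasProjectiveDimensionLE
      (ModuleCat.of A (Pr.complex.X j ⧸ LinearMap.range (dd j))) (d - j) := by
    intro j
    induction j with
    | zero => exact h _
    | succ j ih =>
      let g : Pr.complex.X (j + 1) →ₗ[A] Pr.complex.X j := dd j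
      let i : (Pr.complex.X (j + 1) ⧸ LinearMap.range (dd (j + 1))) →ₗ[A] Pr.complex.X j :=
        (LinearMap.range (dd (j + 1))).liftQ g (hd j).le
      have hi : Function.Injective i := by
        rw [← LinearMap.ker_eq_bot]
        exact Submodule.ker_liftQ_eq_bot' _ _ (hd j)
      have hir : LinearMap.range i = LinearMap.range (dd j) := Submodule.range_liftQ _ _ _
      let S : ShortComplex (ModuleCat.{u} A) := ShortComplex.mk (ModuleCat.ofHom i)
        (ModuleCat.ofHom (LinearMap.range (dd j)).mkQ) (ModuleCat.hom_ext (by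
          rw [ModuleCat.hom_comp, ModuleCat.hom_ofHom, ModuleCat.hom_ofHom, ModuleCat.hom_zero,
            LinearMap.range_le_ker_iff.1 (by rw [Submodule.ker_mkQ, hir])]))
      have hS : S.ShortExact :=
        { exact := (ShortComplex.ShortExact.moduleCat_exact_iff_function_exact S).2
            (LinearMap.exact_iff.2 (by
              show LinearMap.ker (LinearMap.range (dd j)).mkQ = LinearMap.range i
              rw [Submodule.ker_mkQ, hir]))
          mono_f := (ModuleCat.mono_iff_injective _).2 hi
          epi_g := (ModuleCat.epi_iff_surjective _).2 (Submodule.mkQ_surjective _) }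
      haveI : Projective S.X₂ := hproj j
      haveI := ih
      haveI h3 : HasProjectiveDimensionLT S.X₃ (d - (j + 1) + 2) :=
        hasProjectiveDimensionLT_of_ge _ (d - j + 1) _ (by omega)
      exact (hS.hasProjectiveDimensionLT_X₃_iff (d - (j + 1)) inferInstance).1 h3
  have hflat : Module.Flat A (Pr.complex.X k ⧸ LinearMap.range (dd k)) := by
    have h0 := hpd k
    rw [show d - k = 0 by omega] at h0
    haveI : Projective (ModuleCat.of A (Pr.complex.X k ⧸ LinearMap.range (dd k))) :=
      projective_iff_hasProjectiveDimensionLT_one.2 h0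
    haveI : Module.Projective A (Pr.complex.X k ⧸ LinearMap.range (dd k)) :=
      (IsProjective.iff_projective _).2 inferInstance
    infer_instance
  refine ModuleCat.subsingleton_of_isZero
    (M := ((CategoryTheory.Tor (ModuleCat.{u} A) (k + 1)).obj (ModuleCat.of A M)).obj (ModuleCat.of A N)) ?_
  show IsZero ((F₁.leftDerived (k + 1)).obj (ModuleCat.of A N))
  rw [Iso.isZero_iff (Pr.isoLeftDerivedObj F₁ (k + 1)), HomologicalComplex.homologyFunctor_obj,
    ← HomologicalComplex.exactAt_iff_isZero_homology,
    HomologicalComplex.exactAt_iff' _ (k + 2) (k + 1) k (by simp) (by simp),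
    ShortComplex.ShortExact.moduleCat_exact_iff_function_exact]
  show Function.Exact ((dd (k + 1)).lTensor M) ((dd k).lTensor M)
  have h1 : Function.Exact (dd (k + 1)) (dd k).rangeRestrict := by
    rw [LinearMap.exact_iff, LinearMap.ker_rangeRestrict, hd]
  have h2 := lTensor_exact M h1 (dd k).surjective_rangeRestrict
  have h3 : Function.Injective ((LinearMap.range (dd k)).subtype.lTensor M) :=
    DCat.lTensor_injective_of_flat_quotient M (Submodule.injective_subtype _)
      (Submodule.mkQ_surjective _) (LinearMap.exact_subtype_mkQ _)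
  rw [show dd k = (LinearMap.range (dd k)).subtype ∘ₗ (dd k).rangeRestrict from rfl,
    LinearMap.lTensor_comp, LinearMap.coe_comp]
  exact h2.comp_injective _ h3 (map_zero _)

/-- A finite type algebra over a Noetherian ring is pseudo-coherent. -/
theorem pcHom_of_noetherian (A B : Type u) [CommRing A] [CommRing B] [Algebra A B]
    [IsNoetherianRing A] [Algebra.FiniteType A B] : MoreMor.IsPseudoCoherentHom A B := by
  obtain ⟨n, φ, hφ⟩ := Algebra.FiniteType.iff_quotient_mvPolynomial''.1 ‹Algebra.FiniteType A B›
  refine ⟨n, φ, hφ, ?_⟩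
  letI := φ.toRingHom.toAlgebra
  haveI : Module.Finite (MvPolynomial (Fin n) A) B :=
    .of_surjective (Algebra.linearMap (MvPolynomial (Fin n) A) B) hφ
  refine DRingLib.pc'_of_forall fun m => DRingLib.pc_of_finite_homology (b := 0) ?_ fun i _ => ?_
  · exact (inferInstance : ((DerivedCategory.singleFunctor (ModuleCat.{u} (MvPolynomial (Fin n) A)) 0).obj (ModuleCat.of (MvPolynomial (Fin n) A) B)).IsLE 0)
  · show Module.Finite _ ((DerivedCategory.homologyFunctor (ModuleCat.{u} (MvPolynomial (Fin n) A)) i).obj
      ((DerivedCategory.singleFunctor (ModuleCat.{u} (MvPolynomial (Fin n) A)) 0).obj (ModuleCat.of (MvPolynomial (Fin n) A) B)))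
    rcases eq_or_ne i 0 with rfl | hi
    · exact DRingLib.finite_of_iso (DRingLib.hfInD B).symm inferInstance
    · haveI : Subsingleton ((DerivedCategory.homologyFunctor (ModuleCat.{u} (MvPolynomial (Fin n) A)) i).obj
          ((DerivedCategory.singleFunctor (ModuleCat.{u} (MvPolynomial (Fin n) A)) 0).obj (ModuleCat.of (MvPolynomial (Fin n) A) B))) := by
        refine ModuleCat.subsingleton_of_isZero ?_
        rcases lt_or_gt_of_ne hi with hlt | hgt
        · exact DerivedCategory.isZero_of_isGE _ 0 i hlt
        · exact DerivedCategory.isZero_of_isLE _ 0 i hgt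
      infer_instance

theorem perfectHom_of_regular (A B : Type u) [CommRing A] [CommRing B] [Algebra A B]
    [IsRegularRing A] (hdim : ringKrullDim A < ⊤) [Algebra.FiniteType A B] :
    MoreMor.IsPerfectHom A B := by
  refine ⟨pcHom_of_noetherian A B, ?_⟩
  obtain ⟨d, hd⟩ : ∃ d : ℕ, ringKrullDim A ≤ d := by
    cases h : ringKrullDim A using WithBot.recBotCoe with
    | bot => exact ⟨0, bot_le⟩
    | coe m =>
      cases m using ENat.recTopCoe with
      | top => rw [h] at hdim; exact absurd hdim (lt_irrefl _)
      | coe m => exact ⟨m, le_rfl⟩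
  refine ⟨d, torDimLE_of_pd d (fun N => ?_) B⟩
  rw [HasProjectiveDimensionLE, hasProjectiveDimensionLT_iff]
  intro i hi Y e
  have := DRingLib.injDim_of_regular (R := A)
    (fun p => IsRegularRing.isRegularLocalRing_localization p.asIdeal) d hd Y
  have := HasInjectiveDimensionLT.subsingleton Y (d + 1) i hi N
  exact Subsingleton.elim _ _

/-- Base change of a finite module flat over the base is pseudo-coherent to every order. -/
theorem pc_baseChange (A₀ A P₀ P : Type u) [CommRing A₀] [CommRing A] [CommRing P₀] [CommRing P]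
    [Algebra A₀ A] [Algebra A₀ P₀] [Algebra A P] [Algebra P₀ P] [Algebra A₀ P]
    [IsScalarTower A₀ A P] [IsScalarTower A₀ P₀ P] [Algebra.IsPushout A₀ A P₀ P]
    [IsNoetherianRing P₀] [Module.Flat A₀ P₀] :
    ∀ (k : ℕ) (M : Type u) [AddCommGroup M] [Module P₀ M] [Module A₀ M] [IsScalarTower A₀ P₀ M]
      [Module.Finite P₀ M] [Module.Flat A₀ M],
      DRing.IsPseudoCoherentModule P (-(k : ℤ)) (P ⊗[P₀] M) := by
  intro k
  induction k with
  | zero =>
    intro M _ _ _ _ _ _
    rw [Nat.cast_zero, neg_zero, DRingLib.module_pc_zero_iff]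
    infer_instance
  | succ k ih =>
    intro M _ _ _ _ _ _
    obtain ⟨r, f, hf⟩ := Module.Finite.exists_fin' P₀ M
    have hex := LinearMap.exact_subtype_ker_map f
    haveI : Module.Flat A₀ (Fin r → P₀) :=
      Module.Flat.trans A₀ P₀ _
    haveI : Module.Flat A₀ (LinearMap.ker f) :=
      DRingLib.flat_of_shortExact (f := (LinearMap.ker f).subtype.restrictScalars A₀)
        (g := f.restrictScalars A₀) (Submodule.injective_subtype _) hf hex
    let g := (LinearMap.ker f).subtype.baseChange P
    have hg : Function.Injective g := by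
      let eK := Algebra.IsPushout.cancelBaseChangeAux A₀ A P₀ P (LinearMap.ker f)
      let eF := Algebra.IsPushout.cancelBaseChangeAux A₀ A P₀ P (Fin r → P₀)
      have hc : ∀ x, g (eK.symm x) =
          eF.symm (((LinearMap.ker f).subtype.restrictScalars A₀).lTensor A x) := by
        intro x
        induction x using TensorProduct.induction_on with
        | zero => simp
        | tmul a b =>
          simp [g, eK, eF, Algebra.IsPushout.cancelBaseChangeAux_symm_tmul, LinearMap.baseChange_tmul]
        | add x y hx hy => simp [map_add, hx, hy]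
      have hinj : Function.Injective (((LinearMap.ker f).subtype.restrictScalars A₀).lTensor A) :=
        DCat.lTensor_injective_of_flat_quotient (f := (LinearMap.ker f).subtype.restrictScalars A₀)
          (g := f.restrictScalars A₀) A (Submodule.injective_subtype _) hf hex
      intro x y hxy
      obtain ⟨x, rfl⟩ := eK.symm.surjective x
      obtain ⟨y, rfl⟩ := eK.symm.surjective y
      rw [hc, hc] at hxy
      rw [hinj (eF.symm.injective hxy)]
    let S : ShortComplex (ModuleCat.{u} P) := ShortComplex.mk (ModuleCat.ofHom g)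
      (ModuleCat.ofHom (f.baseChange P)) (ModuleCat.hom_ext (by
        rw [ModuleCat.hom_comp, ModuleCat.hom_ofHom, ModuleCat.hom_ofHom, ← LinearMap.baseChange_comp,
          LinearMap.comp_ker_subtype, LinearMap.baseChange_zero, ModuleCat.hom_zero]))
    have hS : S.ShortExact :=
      { exact := (ShortComplex.ShortExact.moduleCat_exact_iff_function_exact S).2
          (lTensor_exact P hex hf)
        mono_f := (ModuleCat.mono_iff_injective _).2 hg
        epi_g := (ModuleCat.epi_iff_surjective _).2 (LinearMap.lTensor_surjective P hf) }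
    have h1 : DRing.IsPseudoCoherentModule P (-((k + 1 : ℕ) : ℤ) + 1) (P ⊗[P₀] LinearMap.ker f) := by
      rw [show -((k + 1 : ℕ) : ℤ) + 1 = -(k : ℤ) by omega]
      exact ih _
    exact DRingLib.pc_cone hS.singleTriangle_distinguished h1
      (DRingLib.pc_of_perfect (DRingLib.perfect_inD_projective _) _)

attribute [local instance] MvPolynomial.algebraMvPolynomial in
theorem pcHom_of_flat (A B : Type u) [CommRing A] [CommRing B] [Algebra A B]
    [Module.Flat A B] [Algebra.FinitePresentation A B] : MoreMor.IsPseudoCoherentHom A B := by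
  obtain ⟨C, _, _, B₀, _, _, hC, _, hflat, ⟨e⟩⟩ := AlgSpLib.FppfRing.exists_flat_model A B
  haveI : IsNoetherianRing C := Algebra.FiniteType.isNoetherianRing ℤ C
  obtain ⟨n, π, hπ⟩ := Algebra.FiniteType.iff_quotient_mvPolynomial''.1
    (inferInstance : Algebra.FiniteType C B₀)
  let φ : MvPolynomial (Fin n) A →ₐ[A] B :=
    MvPolynomial.aeval fun i => e ((1 : A) ⊗ₜ π (MvPolynomial.X i))
  letI := π.toRingHom.toAlgebra
  haveI : IsScalarTower C (MvPolynomial (Fin n) C) B₀ := .of_algHom π
  haveI : Module.Finite (MvPolynomial (Fin n) C) B₀ :=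
    .of_surjective (Algebra.linearMap (MvPolynomial (Fin n) C) B₀) hπ
  letI := φ.toRingHom.toAlgebra
  let ι : B₀ →+* B := e.toRingHom.comp (Algebra.TensorProduct.includeRight (R := C) (A := A)).toRingHom
  letI : Algebra (MvPolynomial (Fin n) C) B :=
    (φ.toRingHom.comp (algebraMap (MvPolynomial (Fin n) C) (MvPolynomial (Fin n) A))).toAlgebra
  haveI : IsScalarTower (MvPolynomial (Fin n) C) (MvPolynomial (Fin n) A) B :=
    .of_algebraMap_eq fun _ => rfl
  have hι : ∀ p : MvPolynomial (Fin n) C,
      φ (algebraMap (MvPolynomial (Fin n) C) (MvPolynomial (Fin n) A) p) = ι (π p) := by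
    intro p
    refine congrFun (congrArg DFunLike.coe
      (MvPolynomial.ringHom_ext (f := φ.toRingHom.comp (algebraMap _ _)) (g := ι.comp π.toRingHom)
        (fun c => ?_) fun i => ?_)) p
    · show φ (MvPolynomial.map (algebraMap C A) (MvPolynomial.C c)) =
        e ((1 : A) ⊗ₜ[C] π (MvPolynomial.C c))
      rw [MvPolynomial.map_C, show π (MvPolynomial.C c) = algebraMap C B₀ c from π.commutes c,
        show (1 : A) ⊗ₜ[C] algebraMap C B₀ c = algebraMap A (A ⊗[C] B₀) (algebraMap C A c) by
          rw [Algebra.TensorProduct.algebraMap_apply, Algebra.algebraMap_eq_smul_one (R := C) (A := B₀),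
            Algebra.algebraMap_self, RingHom.id_apply, Algebra.algebraMap_eq_smul_one,
            TensorProduct.smul_tmul], e.commutes]
      simp [φ]
    · show φ (MvPolynomial.map (algebraMap C A) (MvPolynomial.X i)) =
        e ((1 : A) ⊗ₜ[C] π (MvPolynomial.X i))
      rw [MvPolynomial.map_X]
      simp [φ]
  let j : B₀ →ₗ[MvPolynomial (Fin n) C] B :=
    { toFun := ι
      map_add' := map_add ι
      map_smul' := fun p b => by
        simp only [RingHom.id_apply, Algebra.smul_def, map_mul]
        rw [show algebraMap (MvPolynomial (Fin n) C) B p = _ from hι p]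
        rfl }
  let ψ := j.liftBaseChange (MvPolynomial (Fin n) A)
  have hψ : Function.Bijective ψ := by
    let eB := Algebra.IsPushout.cancelBaseChangeAux C A (MvPolynomial (Fin n) C) (MvPolynomial (Fin n) A) B₀
    have hc : ∀ x, ψ (eB.symm x) = e x := by
      intro x
      induction x using TensorProduct.induction_on with
      | zero => simp
      | tmul a b =>
        rw [Algebra.IsPushout.cancelBaseChangeAux_symm_tmul, LinearMap.liftBaseChange_tmul]
        show φ (algebraMap A _ a) * ι b = e (a ⊗ₜ b)
        rw [φ.commutes, ← e.commutes]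
        show e _ * e _ = _
        rw [← map_mul]
        simp [Algebra.TensorProduct.algebraMap_apply]
      | add x y hx hy => simp [map_add, hx, hy]
    have : ψ = e ∘ eB := funext fun y => by
      simpa using hc (eB y)
    rw [this]
    exact e.bijective.comp eB.bijective
  refine ⟨n, φ, fun b => ?_, DRingLib.pc'_of_forall fun m => ?_⟩
  · obtain ⟨y, rfl⟩ := hψ.2 b
    induction y using TensorProduct.induction_on with
    | zero => exact ⟨0, by simp⟩
    | tmul p b₀ =>
      obtain ⟨q, rfl⟩ := hπ b₀
      refine ⟨p * algebraMap _ _ q, ?_⟩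
      rw [map_mul, hι, LinearMap.liftBaseChange_tmul]
      rfl
    | add x y hx hy =>
      obtain ⟨a, ha⟩ := hx
      obtain ⟨b, hb⟩ := hy
      exact ⟨a + b, by rw [map_add, map_add, ha, hb]⟩
  · refine DRingLib.pc_mono (m := -((-m).toNat : ℤ)) (by omega) ?_
    exact DRingLib.pc_iso
      ((DerivedCategory.singleFunctor (ModuleCat.{u} (MvPolynomial (Fin n) A)) 0).mapIso
        (LinearEquiv.ofBijective ψ hψ).toModuleIso)
      (pc_baseChange C A (MvPolynomial (Fin n) C) (MvPolynomial (Fin n) A) (-m).toNat B₀)

theorem perfectHom_of_flat (A B : Type u) [CommRing A] [CommRing B] [Algebra A B]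
    [Module.Flat A B] [Algebra.FinitePresentation A B] : MoreMor.IsPerfectHom A B :=
  ⟨pcHom_of_flat A B, 0, torDimLE_zero_of_flat B⟩

end Groth.Agent.FlatCx12.PerfectHom
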