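import Groth.Agent.FlatMorDevissage.StepLemmas
import Groth.Agent.FlatMorDevissage.StepMap
import Groth.Agent.Synt15.Descent
import Mathlib.Algebra.Category.Ring.Constructions
import Mathlib.AlgebraicGeometry.Pullbacks

/-!
# Base change of one-step devissages
-/

set_option autoImplicit false
set_option backward.isDefEq.respectTransparency false
set_option linter.style.haveILetI false

universe u

open TensorProduct AlgebraicGeometry CategoryTheory CategoryTheory.Limits Function

namespace Groth.Agent.FlatCx12.DevissageBC

open FlatMorDevissage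

section Pullback

variable {R R' D D' : Type u} [CommRing R] [CommRing R'] [CommRing D] [CommRing D'] [Algebra R R']
  [Algebra R D] [Algebra R' D'] [Algebra R D'] [Algebra D D'] [IsScalarTower R R' D'] [IsScalarTower R D D']
  [Algebra.IsPushout R R' D D']

/-- Properties stable under base change pass along pushout squares of rings. -/
theorem of_isPushout (P : MorphismProperty Scheme.{u}) [P.IsStableUnderBaseChange]
    (h : P (Spec.map (CommRingCat.ofHom (algebraMap R D)))) :
    P (Spec.map (CommRingCat.ofHom (algebraMap R' D'))) :=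
  MorphismProperty.of_isPullback
    (isPullback_SpecMap_of_isPushout _ _ _ _
      ((CommRingCat.isPushout_iff_isPushout (R := R) (S := D) (R' := R') (S' := D')).2 inferInstance)).flip h

theorem smoothRelDim {n : ℕ} (h : FlatCA.SmoothRelDim n R D) : FlatCA.SmoothRelDim n R' D' :=
  have := smoothOfRelativeDimension_isStableUnderBaseChange (n := n)
  of_isPushout (@SmoothOfRelativeDimension n) h

theorem geomIrredFibres (h : FlatCA.GeomIrredFibres R D) : FlatCA.GeomIrredFibres R' D' :=
  of_isPushout @GeometricallyIrreducible h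

end Pullback

section Top

variable {R R' S S' C C' : Type u} [CommRing R] [CommRing R'] [CommRing S] [CommRing S'] [CommRing C]
  [CommRing C'] [Algebra R R'] [Algebra R S] [Algebra R C] [Algebra R' S'] [Algebra R S'] [Algebra S S']
  [IsScalarTower R R' S'] [IsScalarTower R S S'] [Algebra R' C'] [Algebra R C'] [Algebra C C']
  [IsScalarTower R R' C'] [IsScalarTower R C C'] [Algebra S C] [IsScalarTower R S C]
  [Algebra S' C'] [IsScalarTower R' S' C'] [Algebra S C'] [IsScalarTower S S' C'] [IsScalarTower S C C']

/-- Pushout squares cancel. -/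
theorem isPushout_top [h1 : Algebra.IsPushout R R' S S'] [h2 : Algebra.IsPushout R R' C C'] :
    Algebra.IsPushout S S' C C' := by
  haveI : Algebra.IsPushout R S R' S' := h1.symm
  haveI : IsScalarTower R S' C' := IsScalarTower.of_algebraMap_eq fun r => by
    rw [IsScalarTower.algebraMap_apply R R' C', IsScalarTower.algebraMap_apply R' S' C',
      ← IsScalarTower.algebraMap_apply R R' S']
  exact ((Algebra.IsPushout.comp_iff R S R' S').1 h2.symm).symm

variable [Algebra.IsPushout S S' C C']

omit [Algebra R R'] [Algebra R S] [Algebra R C] [Algebra R' S'] [Algebra R S'] [IsScalarTower R R' S']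
  [IsScalarTower R S S'] [Algebra R' C'] [Algebra R C'] [IsScalarTower R R' C'] [IsScalarTower R C C']
  [IsScalarTower R S C] [IsScalarTower R' S' C'] in
theorem surjective_bc (h : Surjective (algebraMap S C)) : Surjective (algebraMap S' C') := by
  intro y
  obtain ⟨z, rfl⟩ := (Algebra.IsPushout.equiv S S' C C').surjective y
  induction z using TensorProduct.induction_on with
  | zero => exact ⟨0, by simp⟩
  | tmul a c =>
    obtain ⟨b, rfl⟩ := h c
    refine ⟨a * algebraMap S S' b, ?_⟩
    rw [Algebra.IsPushout.equiv_tmul, map_mul, ← IsScalarTower.algebraMap_apply S S' C',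
      ← IsScalarTower.algebraMap_apply S C C']
  | add a b ha hb =>
    obtain ⟨a', ha'⟩ := ha
    obtain ⟨b', hb'⟩ := hb
    exact ⟨a' + b', by rw [map_add, map_add, ha', hb']⟩

omit [Algebra R R'] [Algebra R S] [Algebra R C] [Algebra R' S'] [Algebra R S'] [IsScalarTower R R' S']
  [IsScalarTower R S S'] [Algebra R' C'] [Algebra R C'] [IsScalarTower R R' C'] [IsScalarTower R C C']
  [IsScalarTower R S C] [IsScalarTower R' S' C'] in
theorem finitePresentation_bc (h : Algebra.FinitePresentation S C) : Algebra.FinitePresentation S' C' :=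
  haveI := h
  Algebra.FinitePresentation.equiv (Algebra.IsPushout.equiv S S' C C')

omit [Algebra R R'] [Algebra R S] [Algebra R C] [Algebra R' S'] [Algebra R S'] [IsScalarTower R R' S']
  [IsScalarTower R S S'] [Algebra R' C'] [Algebra R C'] [IsScalarTower R R' C'] [IsScalarTower R C C']
  [IsScalarTower R S C] [IsScalarTower R' S' C'] in
theorem finite_bc (h : Module.Finite S C) : Module.Finite S' C' :=
  haveI := h
  Module.Finite.equiv (Algebra.IsPushout.equiv S S' C C').toLinearEquiv

omit [Algebra R R'] [Algebra R S] [Algebra R C] [Algebra R' S'] [Algebra R S'] [IsScalarTower R R' S']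
  [IsScalarTower R S S'] [Algebra R' C'] [Algebra R C'] [IsScalarTower R R' C'] [IsScalarTower R C C']
  [IsScalarTower R S C] [IsScalarTower R' S' C'] in
/-- The base change to `S'` of a `C`-module. -/
theorem isBaseChange_bc {G G' : Type u} [AddCommGroup G] [Module C G] [Module S G] [IsScalarTower S C G]
    [AddCommGroup G'] [Module C' G'] [Module C G'] [IsScalarTower C C' G'] [Module S' G'] [IsScalarTower S' C' G']
    [Module S G'] [IsScalarTower S S' G'] [IsScalarTower S C G']
    (g : G →ₗ[C] G') (hg : IsBaseChange C' g) : IsBaseChange S' (g.restrictScalars S) := by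
  refine IsBaseChange.of_equiv ((Algebra.IsPushout.cancelBaseChange S S' C C' G).symm ≪≫ₗ
    hg.equiv.restrictScalars S') fun m => ?_
  simp [IsBaseChange.equiv_tmul]

end Top

section Dim

variable {R R' : Type u} [CommRing R] [CommRing R'] [Algebra R R'] (p : Ideal R) [p.IsPrime]
  (p' : Ideal R') [p'.IsPrime] [p'.LiesOver p]

/-- Fibre dimensions do not change under base change. -/
theorem ringKrullDim_fiber_bc {T T' : Type u} [CommRing T] [CommRing T'] [Algebra R T] [Algebra.FiniteType R T]
    [Algebra R' T'] [Algebra R T'] [Algebra T T'] [IsScalarTower R R' T'] [IsScalarTower R T T']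
    [Algebra.IsPushout R R' T T'] :
    ringKrullDim (p'.Fiber T') = ringKrullDim (p.Fiber T) := by
  letI : Algebra p.ResidueField p'.ResidueField :=
    (Ideal.ResidueField.mapₐ p p' (Algebra.ofId R R') (p'.over_def p)).toRingHom.toAlgebra
  haveI : IsScalarTower R p.ResidueField p'.ResidueField := IsScalarTower.of_algebraMap_eq fun r => by
    show _ = Ideal.ResidueField.mapₐ p p' (Algebra.ofId R R') (p'.over_def p) (algebraMap R p.ResidueField r)
    rw [AlgHom.commutes]
  let e : p'.Fiber T' ≃+* p'.ResidueField ⊗[p.ResidueField] (p.ResidueField ⊗[R] T) :=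
    ((Algebra.TensorProduct.congr (AlgEquiv.refl (R := R') (A₁ := p'.ResidueField))
      (Algebra.IsPushout.equiv R R' T T').symm).toRingEquiv.trans
      (Algebra.TensorProduct.cancelBaseChange R R' p'.ResidueField p'.ResidueField T).toRingEquiv).trans
      (Algebra.TensorProduct.cancelBaseChange R p.ResidueField p'.ResidueField p'.ResidueField T).toRingEquiv.symm
  rw [ringKrullDim_eq_of_ringEquiv e, Synt15.ringKrullDim_tensor_field]

/-- The primes over `p` containing `I` are the primes over `p` of the quotient. -/
theorem krullDim_primesOverGE_quotient {S : Type u} [CommRing S] [Algebra R S] (I : Ideal S) :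
    Order.krullDim (primesOverGE p I) = Order.krullDim (primesOverGE p (⊥ : Ideal (S ⧸ I))) := by
  let f : primesOverGE p (⊥ : Ideal (S ⧸ I)) → primesOverGE p I := fun w =>
    ⟨PrimeSpectrum.comap (Ideal.Quotient.mk I) w.1,
      by show (w.1.asIdeal.comap (Ideal.Quotient.mk I)).comap (algebraMap R S) = p
         rw [Ideal.comap_comap, Ideal.Quotient.mk_comp_algebraMap]
         exact w.2.1,
      by intro x hx
         show Ideal.Quotient.mk I x ∈ w.1.asIdeal
         rw [Ideal.Quotient.eq_zero_iff_mem.2 hx]
         exact Ideal.zero_mem _⟩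
  have hle : ∀ w w', f w ≤ f w' ↔ w ≤ w' := fun w w' =>
    ⟨fun h => (Ideal.comap_le_comap_iff_of_surjective _ Ideal.Quotient.mk_surjective _ _).1 h,
      fun h => Ideal.comap_mono h⟩
  refine (Order.krullDim_eq_of_orderIso
    (RelIso.ofSurjective (OrderEmbedding.ofMapLEIff f hle) fun w => ?_)).symm
  have hker : RingHom.ker (Ideal.Quotient.mk I) ≤ w.1.asIdeal := by
    rw [Ideal.mk_ker]; exact w.2.2
  haveI : (w.1.asIdeal.map (Ideal.Quotient.mk I)).IsPrime :=
    Ideal.map_isPrime_of_surjective Ideal.Quotient.mk_surjective hker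
  have e : (w.1.asIdeal.map (Ideal.Quotient.mk I)).comap (Ideal.Quotient.mk I) = w.1.asIdeal := by
    rw [Ideal.comap_map_of_surjective _ Ideal.Quotient.mk_surjective, sup_eq_left]
    exact hker
  refine ⟨⟨⟨_, ‹_›⟩, ?_, bot_le⟩, Subtype.ext (PrimeSpectrum.ext e)⟩
  show (w.1.asIdeal.map (Ideal.Quotient.mk I)).comap (algebraMap R (S ⧸ I)) = p
  rw [← Ideal.Quotient.mk_comp_algebraMap, ← Ideal.comap_comap, e]
  exact w.2.1

variable {S S' : Type u} [CommRing S] [CommRing S'] [Algebra R S] [Algebra R' S'] [Algebra R S']
  [Algebra S S'] [IsScalarTower R R' S'] [IsScalarTower R S S'] [Algebra.IsPushout R R' S S']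
  (N : Type u) [AddCommGroup N] [Module S N] [Module R N] [IsScalarTower R S N] [Module.Finite S N]
  (N' : Type u) [AddCommGroup N'] [Module S' N'] [Module R' N'] [IsScalarTower R' S' N']
  [Module S N'] [IsScalarTower S S' N'] (f : N →ₗ[S] N') (hf : IsBaseChange S' f)

attribute [local instance] Algebra.TensorProduct.rightAlgebra in
include hf in
/-- The dimension of the support of the fibre module does not change under base change. -/
theorem supportDim_fiberMod_bc [Algebra.FiniteType R S] :
    Module.supportDim (p'.Fiber S') (FlatCA.fiberMod p' S' N') =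
      Module.supportDim (p.Fiber S) (FlatCA.fiberMod p S N) := by
  haveI : Module.Finite S' N' := Module.Finite.equiv hf.equiv
  rw [supportDim_fiberMod, supportDim_fiberMod]
  let I := Module.annihilator S N
  let I' := I.map (algebraMap S S')
  have hset : primesOverGE p' (Module.annihilator S' N') = primesOverGE p' I' := by
    ext w
    refine and_congr_right fun _ => ?_
    rw [← Module.mem_support_iff_of_finite, ← hf.equiv.support_eq,
      FlatCrit.mem_support_baseChange_iff, Module.mem_support_iff_of_finite, Ideal.map_le_iff_le_comap]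
    rfl
  rw [hset, krullDim_primesOverGE_quotient, krullDim_primesOverGE_quotient p I,
    ← ringKrullDim_fiber, ← ringKrullDim_fiber]
  letI : Algebra (S ⧸ I) (S' ⧸ I') := Ideal.Quotient.algebraQuotientOfLEComap Ideal.le_comap_map
  haveI : IsScalarTower S (S ⧸ I) (S' ⧸ I') := IsScalarTower.of_algebraMap_eq fun _ => rfl
  haveI : IsScalarTower R (S ⧸ I) (S' ⧸ I') := IsScalarTower.of_algebraMap_eq fun r => by
    rw [IsScalarTower.algebraMap_apply R S (S ⧸ I), ← IsScalarTower.algebraMap_apply S (S ⧸ I) (S' ⧸ I'),
      ← IsScalarTower.algebraMap_apply R S (S' ⧸ I')]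
  haveI : Algebra.IsPushout R R' (S ⧸ I) (S' ⧸ I') := by
    haveI : Algebra.IsPushout R S R' S' := Algebra.IsPushout.symm inferInstance
    haveI : Algebra.IsPushout S (S ⧸ I) S' (S' ⧸ I') := by
      refine Algebra.IsPushout.symm ?_
      refine Algebra.IsPushout.of_equiv (S' := S' ⊗[S] (S ⧸ I))
        (Algebra.TensorProduct.quotIdealMapEquivTensorQuot S' I).symm (RingHom.ext fun x => ?_)
      obtain ⟨x, rfl⟩ := Ideal.Quotient.mk_surjective x
      show (Algebra.TensorProduct.quotIdealMapEquivTensorQuot S' I).symm ((1 : S') ⊗ₜ[S] Ideal.Quotient.mk I x) =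
        Ideal.Quotient.mk I' (algebraMap S S' x)
      rw [AlgEquiv.symm_apply_eq, Algebra.TensorProduct.quotIdealMapEquivTensorQuot_mk,
        Algebra.algebraMap_eq_smul_one, TensorProduct.smul_tmul]
      congr 1
      rw [Algebra.smul_def, mul_one]
      rfl
    exact ((Algebra.IsPushout.comp_iff R S R' S').2 ‹Algebra.IsPushout S (S ⧸ I) S' (S' ⧸ I')›).symm
  exact ringKrullDim_fiber_bc p p'

end Dim

end Groth.Agent.FlatCx12.DevissageBC
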