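import Groth.Agent.FlatCx12.RelDescScheme
import Groth.Agent.RelPC.BaseChange

/-!
# Relative pseudo-coherence and composition with pseudo-coherent morphisms
-/

set_option autoImplicit false
set_option backward.isDefEq.respectTransparency false
set_option backward.defeqAttrib.useBackward true
set_option linter.style.haveILetI false
set_option synthInstance.maxHeartbeats 100000
set_option backward.isDefEq.respectTransparency.types false

universe u

open CategoryTheory CategoryTheory.Limits CategoryTheory.Pretriangulated DerivedCategory Opposite TopologicalSpace AlgebraicGeometry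
open Groth.Agent.DCat Groth.Agent.FlatMorPerfect Groth.Agent.FlatCx12.EmbPush Groth.Agent.FlatCx12.RelPCChart
open Groth.Agent.FlatCx12.RelPC Groth.Agent.FlatCx12.RelPCOps Groth.Agent.FlatCx12.RelDescScheme

namespace Groth.Agent.FlatCx12.RelPCComp

attribute [local instance] HasDerivedCategory.standard
attribute [-instance] Int.instConditionallyCompleteLinearOrder

local instance preservesFiniteLimits_tilde' (R : CommRingCat.{u}) : PreservesFiniteLimits (tilde.functor R) :=
  AffSchLib.preservesFiniteLimits_tilde R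

variable {X Y S : Scheme.{u}}

/-- The derived sections of the structure sheaf. -/
theorem isSec_structure {W : Y.Opens} (hW : IsAffineOpen W) :
    IsSec (DCoh.inD Y (Coh.structureModule Y)) hW (Dual.inD Γ(Y, W) Γ(Y, W)) :=
  DQCoh.nonempty_rd_structure Γ(Y, W) hW.fromSpec

/-- A pseudo-coherent morphism gives pseudo-coherent ring maps on all pairs of affine opens. -/
theorem relModuleAll_of_nPC (g : Y ⟶ S) [LocallyOfFiniteType g] (hg : ∀ n : ℤ, DerSch.IsNPseudoCoherent g n)
    (W : Y.affineOpens) (V : S.affineOpens) (h : (W : Y.Opens) ≤ g ⁻¹ᵁ (V : S.Opens)) :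
    (letI := (g.appLE V W h).hom.toAlgebra
     DerCA.IsRelPseudoCoherentModuleAll Γ(S, (V : S.Opens)) Γ(Y, (W : Y.Opens)) Γ(Y, (W : Y.Opens))) := by
  intro n
  have ht := testOn_iso (L := DCoh.inD Y (Coh.structureModule Y))
    ((DerivedCategory.singleFunctorIsoCompQ Y.Modules 0).app (Coh.structureModule Y)).symm W.2
    ((rel_iff.1 (hg n)) W V h)
  exact (testOn_iff_sec g W.2 h n _ _ (isSec_structure W.2)).1 ht

/-- The test over an intermediate base with pseudo-coherent structure map. -/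
theorem testOn_comp_iff (f : X ⟶ Y) (g : Y ⟶ S) [LocallyOfFiniteType f] [LocallyOfFiniteType g]
    (hg : ∀ n : ℤ, DerSch.IsNPseudoCoherent g n) (m : ℤ) (E : DCoh.D X) (U : X.affineOpens) (W : Y.affineOpens)
    (V : S.affineOpens) (hUW : (U : X.Opens) ≤ f ⁻¹ᵁ (W : Y.Opens)) (hWV : (W : Y.Opens) ≤ g ⁻¹ᵁ (V : S.Opens)) :
    TestOn f m E U W hUW ↔ TestOn (f ≫ g) m E U V (fun _ hx => hWV (hUW hx)) := by
  letI := (g.appLE V W hWV).hom.toAlgebra
  letI := (f.appLE W U hUW).hom.toAlgebra
  obtain ⟨n, π, hπ⟩ := Algebra.FiniteType.iff_quotient_mvPolynomial''.1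
    (show Algebra.FiniteType Γ(S, V.1) Γ(Y, W.1) from g.finiteType_appLE V.2 W.2 hWV)
  obtain ⟨k, ψ, hψ⟩ := Algebra.FiniteType.iff_quotient_mvPolynomial''.1
    (show Algebra.FiniteType Γ(Y, W.1) Γ(X, U.1) from f.finiteType_appLE W.2 U.2 hUW)
  have hp : PCS π.toRingHom := Groth.Agent.RelPC.pcs_of_relModuleAll π hπ (relModuleAll_of_nPC g hg W V hWV)
  have hψC : ψ.toRingHom.comp MvPolynomial.C = (f.appLE W U hUW).hom := RingHom.ext fun a => ψ.commutes a
  have hπC : π.toRingHom.comp MvPolynomial.C = (g.appLE V W hWV).hom := RingHom.ext fun a => π.commutes a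
  let γ := ψ.toRingHom.comp (MvPolynomial.map (σ := Fin k) π.toRingHom)
  have hm : Function.Surjective (MvPolynomial.map (σ := Fin k) π.toRingHom) := MvPolynomial.map_surjective _ hπ
  have hγ : Function.Surjective γ := hψ.comp hm
  have hγC : γ.comp (algebraMap Γ(S, V.1) (MvPolynomial (Fin k) (MvPolynomial (Fin n) Γ(S, V.1)))) =
      ((f ≫ g).appLE V U fun _ hx => hWV (hUW hx)).hom := by
    rw [IsScalarTower.algebraMap_eq Γ(S, V.1) (MvPolynomial (Fin n) Γ(S, V.1)), MvPolynomial.algebraMap_eq,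
      ← RingHom.comp_assoc, RingHom.comp_assoc _ (MvPolynomial.map π.toRingHom), MvPolynomial.map_comp_C,
      ← RingHom.comp_assoc, hψC, RingHom.comp_assoc, MvPolynomial.algebraMap_eq, hπC, ← CommRingCat.hom_comp,
      Scheme.Hom.appLE_comp_appLE]
  constructor
  · intro ht
    exact testOn_of_along U.2 hγ hγC ((along_comp_iff U.2 hψ hm (pcs_map hp (Fin k))).2
      (testOn_along U.2 ht (P := MvPolynomial (Fin k) Γ(Y, W.1)) hψ (by rw [MvPolynomial.algebraMap_eq, hψC])))
  · intro ht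
    exact ⟨k, ψ.toRingHom, ⟨hψ, hψC⟩, (chartPC_iff m E U.2 hψ).2
      ((along_comp_iff U.2 hψ hm (pcs_map hp (Fin k))).1 (testOn_along U.2 ht hγ hγC))⟩

/-- Change of base along a pseudo-coherent morphism. -/
theorem rel_comp_pc_iff (f : X ⟶ Y) (g : Y ⟶ S) [LocallyOfFiniteType f] [LocallyOfFiniteType g]
    (hg : ∀ n : ℤ, DerSch.IsNPseudoCoherent g n) (m : ℤ) (E : DCoh.D X) :
    DerSch.IsPseudoCoherentRel f m E ↔ DerSch.IsPseudoCoherentRel (f ≫ g) m E := by
  have key : ∀ x : X, ∃ (U : X.affineOpens) (W : Y.affineOpens) (V : S.affineOpens)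
      (hUW : (U : X.Opens) ≤ f ⁻¹ᵁ (W : Y.Opens)) (hWV : (W : Y.Opens) ≤ g ⁻¹ᵁ (V : S.Opens)), x ∈ (U : X.Opens) := by
    intro x
    obtain ⟨W, V, hWV, hxW⟩ := exists_affine_pair g (f x)
    obtain ⟨U, hU, hxU, hle⟩ := Opens.isBasis_iff_nbhd.1 X.isBasis_affineOpens (U := f ⁻¹ᵁ W.1) (x := x) hxW
    exact ⟨⟨U, hU⟩, W, V, hle, hWV, hxU⟩
  constructor
  · intro h
    rw [rel_iff] at h
    refine rel_of_local fun x => ?_
    obtain ⟨U, W, V, hUW, hWV, hx⟩ := key x
    exact ⟨U, V, _, hx, (testOn_comp_iff f g hg m E U W V hUW hWV).1 (h U W hUW)⟩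
  · intro h
    rw [rel_iff] at h
    refine rel_of_local fun x => ?_
    obtain ⟨U, W, V, hUW, hWV, hx⟩ := key x
    exact ⟨U, W, hUW, hx, (testOn_comp_iff f g hg m E U W V hUW hWV).2 (h U V _)⟩

end Groth.Agent.FlatCx12.RelPCComp
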