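import Groth.Agent.FlatCx12.RelPCFlatBC
import Groth.Agent.FlatCx12.RelPCComp
import Mathlib.AlgebraicGeometry.Morphisms.Flat

/-!
# Relative pseudo-coherence over affine charts: flat change of the base scheme, and its descent
-/

set_option autoImplicit false
set_option backward.isDefEq.respectTransparency false
set_option backward.defeqAttrib.useBackward true
set_option linter.style.haveILetI false

universe u

open CategoryTheory CategoryTheory.Limits AlgebraicGeometry TopologicalSpace TensorProduct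

attribute [local instance] HasDerivedCategory.standard

namespace Groth.Agent.FlatCx12.RelPCFlatBC

open Groth.Agent.FlatCx12.RelPC Groth.Agent.FlatCx12.RelDescScheme
open Groth.Agent.CAlgSmall.PCZariski (Ext ExtC nonempty_lbaseChange_iso)

variable {X S X' S' : Scheme.{u}} {f : X ⟶ S} {g : S' ⟶ S} {f' : X' ⟶ S'} {g' : X' ⟶ X}

theorem isAffineOpen_inf (hc : IsPullback g' f' f g) {U : X.Opens} (hU : IsAffineOpen U) {V : S.Opens}
    (hV : IsAffineOpen V) {V' : S'.Opens} (hV' : IsAffineOpen V') (h : U ≤ f ⁻¹ᵁ V) (hgV : V' ≤ g ⁻¹ᵁ V) :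
    IsAffineOpen (g' ⁻¹ᵁ U ⊓ f' ⁻¹ᵁ V') := by
  have : IsAffine _ := hU
  have : IsAffine _ := hV
  have : IsAffine _ := hV'
  exact .of_isIso (Scheme.Hom.isPullback_resLE hc hgV h rfl).isoPullback.hom

/-- The four rings of an affine base change square form a cocartesian square. -/
theorem exists_square (hc : IsPullback g' f' f g) {U : X.Opens} (hU : IsAffineOpen U) {V : S.Opens}
    (hV : IsAffineOpen V) {U' : X'.Opens} {V' : S'.Opens} (hV' : IsAffineOpen V') (h : U ≤ f ⁻¹ᵁ V)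
    (hgV : V' ≤ g ⁻¹ᵁ V) (hU'eq : U' = g' ⁻¹ᵁ U ⊓ f' ⁻¹ᵁ V') (hle : U' ≤ g' ⁻¹ᵁ U) (h' : U' ≤ f' ⁻¹ᵁ V') :
    letI := (f.appLE V U h).hom.toAlgebra
    letI := (g.appLE V V' hgV).hom.toAlgebra
    letI := (g'.appLE U U' hle).hom.toAlgebra
    letI := (f'.appLE V' U' h').hom.toAlgebra
    letI : Algebra Γ(S, V) Γ(X', U') := ((g'.appLE U U' hle).hom.comp (f.appLE V U h).hom).toAlgebra
    ∃ _ : IsScalarTower Γ(S, V) Γ(S', V') Γ(X', U'), ∃ _ : IsScalarTower Γ(S, V) Γ(X, U) Γ(X', U'),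
      Algebra.IsPushout Γ(S, V) Γ(S', V') Γ(X, U) Γ(X', U') := by
  have := isIso_pushoutSection_of_isAffineOpen hc hgV h hU'eq hV hV' hU
  have hp := (isIso_pushoutSection_iff hc hgV h hU'eq).1 this
  letI := (f.appLE V U h).hom.toAlgebra
  letI := (g.appLE V V' hgV).hom.toAlgebra
  letI := (g'.appLE U U' hle).hom.toAlgebra
  letI := (f'.appLE V' U' h').hom.toAlgebra
  letI : Algebra Γ(S, V) Γ(X', U') := ((g'.appLE U U' hle).hom.comp (f.appLE V U h).hom).toAlgebra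
  haveI i1 : IsScalarTower Γ(S, V) Γ(S', V') Γ(X', U') := .of_algebraMap_eq fun r => ConcreteCategory.congr_hom hp.w r
  haveI i2 : IsScalarTower Γ(S, V) Γ(X, U) Γ(X', U') := .of_algebraMap_eq fun _ => rfl
  exact ⟨i1, i2, (CommRingCat.isPushout_iff_isPushout.1 hp).symm⟩

/-- The test passes to a flat change of the base. -/
theorem testOn_baseChange_sec [LocallyOfFiniteType f] [Flat g] (hc : IsPullback g' f' f g) {U : X.Opens}
    (hU : IsAffineOpen U) {V : S.Opens} (hV : IsAffineOpen V) {U' : X'.Opens} (hU' : IsAffineOpen U') {V' : S'.Opens}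
    (hV' : IsAffineOpen V') (h : U ≤ f ⁻¹ᵁ V) (hgV : V' ≤ g ⁻¹ᵁ V) (hU'eq : U' = g' ⁻¹ᵁ U ⊓ f' ⁻¹ᵁ V')
    (hle : U' ≤ g' ⁻¹ᵁ U) (h' : U' ≤ f' ⁻¹ᵁ V') {m : ℤ} {E : DCoh.D X} {E' : DCoh.D X'} {L : DRing.Cx Γ(X, U)}
    (hE : IsSec E hU (DRing.toD L))
    (hE' : IsSec E' hU' (DRing.toD ((ExtC Γ(X', U') (g'.appLE U U' hle).hom).obj L)))
    (ht : TestOn f m E U V h) : TestOn f' m E' U' V' h' := by
  have h1 := (testOn_iff_sec f hU h m E _ hE).1 ht
  refine (testOn_iff_sec f' hU' h' m E' _ hE').2 ?_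
  letI := (f.appLE V U h).hom.toAlgebra
  letI := (g.appLE V V' hgV).hom.toAlgebra
  letI := (g'.appLE U U' hle).hom.toAlgebra
  letI := (f'.appLE V' U' h').hom.toAlgebra
  letI : Algebra Γ(S, V) Γ(X', U') := ((g'.appLE U U' hle).hom.comp (f.appLE V U h).hom).toAlgebra
  haveI : Algebra.FiniteType Γ(S, V) Γ(X, U) := f.finiteType_appLE hV hU h
  haveI : Module.Flat Γ(S, V) Γ(S', V') := HasRingHomProperty.appLE @Flat g inferInstance ⟨V, hV⟩ ⟨V', hV'⟩ hgV
  obtain ⟨_, _, _⟩ := exists_square hc hU hV hV' h hgV hU'eq hle h'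
  exact rel_ext_of_flat Γ(S, V) Γ(S', V') Γ(X, U) Γ(X', U') L h1

/-- The test descends along a flat, quasi-compact, surjective change of the base. -/
theorem testOn_of_baseChange_sec [LocallyOfFiniteType f] [Flat g] [Surjective g] [QuasiCompact g]
    (hc : IsPullback g' f' f g) {U : X.Opens} (hU : IsAffineOpen U) {V : S.Opens} (hV : IsAffineOpen V)
    (h : U ≤ f ⁻¹ᵁ V) {m : ℤ} {E : DCoh.D X} {E' : DCoh.D X'} {L : DRing.Cx Γ(X, U)}
    (hE : IsSec E hU (DRing.toD L))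
    (hE' : ∀ (U' : X'.Opens) (hU' : IsAffineOpen U') (hle : U' ≤ g' ⁻¹ᵁ U),
      IsSec E' hU' (DRing.toD ((ExtC Γ(X', U') (g'.appLE U U' hle).hom).obj L)))
    (ht : ∀ (U' : X'.affineOpens) (V' : S'.affineOpens) (h' : (U' : X'.Opens) ≤ f' ⁻¹ᵁ (V' : S'.Opens)),
      TestOn f' m E' U' V' h') : TestOn f m E U V h := by
  obtain ⟨s, hs, hcov⟩ := (isCompact_iff_finite_and_eq_biUnion_affineOpens
    (U := g ⁻¹ᵁ V)).1 (g.isCompact_preimage hV.isCompact)
  haveI := hs.to_subtype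
  obtain ⟨k, ⟨σ⟩⟩ := Finite.exists_equiv_fin s
  let V' : Fin k → S'.affineOpens := fun i => (σ.symm i).1
  have hgV : ∀ i, (V' i : S'.Opens) ≤ g ⁻¹ᵁ V := fun i =>
    (le_iSup₂ (f := fun W (_ : W ∈ s) => (W : S'.Opens)) (σ.symm i).1 (σ.symm i).2).trans hcov.ge
  let U' : Fin k → X'.Opens := fun i => g' ⁻¹ᵁ U ⊓ f' ⁻¹ᵁ (V' i : S'.Opens)
  have hU' : ∀ i, IsAffineOpen (U' i) := fun i => isAffineOpen_inf hc hU hV (V' i).2 h (hgV i)
  have hle : ∀ i, U' i ≤ g' ⁻¹ᵁ U := fun i => inf_le_left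
  have h' : ∀ i, U' i ≤ f' ⁻¹ᵁ (V' i : S'.Opens) := fun i => inf_le_right
  have h1 := fun i => (testOn_iff_sec f' (hU' i) (h' i) m E' _ (hE' _ (hU' i) (hle i))).1
    (ht ⟨U' i, hU' i⟩ (V' i) (h' i))
  refine (testOn_iff_sec f hU h m E _ hE).2 ?_
  letI := (f.appLE V U h).hom.toAlgebra
  haveI : Algebra.FiniteType Γ(S, V) Γ(X, U) := f.finiteType_appLE hV hU h
  letI := fun i => (g.appLE V (V' i : S'.Opens) (hgV i)).hom.toAlgebra
  letI := fun i => (g'.appLE U (U' i) (hle i)).hom.toAlgebra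
  letI := fun i => (f'.appLE (V' i : S'.Opens) (U' i) (h' i)).hom.toAlgebra
  letI : ∀ i, Algebra Γ(S, V) Γ(X', U' i) := fun i =>
    ((g'.appLE U (U' i) (hle i)).hom.comp (f.appLE V U h).hom).toAlgebra
  haveI : ∀ i, Module.Flat Γ(S, V) Γ(S', (V' i : S'.Opens)) := fun i =>
    HasRingHomProperty.appLE @Flat g inferInstance ⟨V, hV⟩ (V' i) (hgV i)
  haveI : ∀ i, IsScalarTower Γ(S, V) Γ(S', (V' i : S'.Opens)) Γ(X', U' i) := fun i =>
    (exists_square hc hU hV (V' i).2 h (hgV i) rfl (hle i) (h' i)).1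
  haveI : ∀ i, IsScalarTower Γ(S, V) Γ(X, U) Γ(X', U' i) := fun i => .of_algebraMap_eq fun _ => rfl
  haveI : ∀ i, Algebra.IsPushout Γ(S, V) Γ(S', (V' i : S'.Opens)) Γ(X, U) Γ(X', U' i) := fun i =>
    (exists_square hc hU hV (V' i).2 h (hgV i) rfl (hle i) (h' i)).2.2
  refine rel_of_ext_family (fun i => Γ(S', (V' i : S'.Opens))) Γ(X, U) (fun i => Γ(X', U' i)) (fun p => ?_) L h1
  have hxV : hV.fromSpec p ∈ V := by
    have : hV.fromSpec p ∈ Set.range hV.fromSpec := ⟨p, rfl⟩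
    rwa [hV.range_fromSpec] at this
  obtain ⟨y, hy⟩ := g.surjective (hV.fromSpec p)
  obtain ⟨W, hW⟩ := Opens.mem_iSup.1 (hcov.le (show y ∈ g ⁻¹ᵁ V from (show g y ∈ V from hy ▸ hxV)))
  obtain ⟨hWs, hyW⟩ := Opens.mem_iSup.1 hW
  obtain ⟨i, hi⟩ : ∃ i, V' i = W := ⟨σ ⟨W, hWs⟩, by simp [V']⟩
  subst hi
  refine ⟨i, (V' i).2.primeIdealOf ⟨y, hyW⟩, ?_⟩
  refine (IsAffineOpen.comap_primeIdealOf_appLE V hV _ (V' i).2 (hgV i) hyW).trans
    (hV.fromSpec.isOpenEmbedding.injective ?_)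
  rw [hV.fromSpec_primeIdealOf]
  exact hy

end Groth.Agent.FlatCx12.RelPCFlatBC

namespace Groth.Agent.FlatCx12.RelPCFlatBC

open Groth.Agent.FlatCx12.RelPC Groth.Agent.FlatCx12.RelDescScheme
open Groth.Agent.CAlgSmall.PCZariski (Ext ExtC nonempty_lbaseChange_iso)

local instance preservesFiniteLimits_tilde (R : CommRingCat.{u}) : PreservesFiniteLimits (tilde.functor R) :=
  AffSchLib.preservesFiniteLimits_tilde R

variable {X Y S X' S' : Scheme.{u}} {f : X ⟶ S} {g : S' ⟶ S} {f' : X' ⟶ S'} {g' : X' ⟶ X}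

theorem isSec_congr {E : DCoh.D X} {U : X.Opens} {hU : IsAffineOpen U} {M N : Dual.D Γ(X, U)} (e : M ≅ N)
    (h : IsSec E hU M) : IsSec E hU N := by
  obtain ⟨i⟩ := h
  exact ⟨(DCoh.tildeD Γ(X, U)).mapIso e.symm ≪≫ i⟩

theorem rel_iso {m : ℤ} {K L : DCoh.D X} [LocallyOfFiniteType f] (e : K ≅ L)
    (h : DerSch.IsPseudoCoherentRel f m K) : DerSch.IsPseudoCoherentRel f m L := by
  rw [Groth.Agent.FlatCx12.RelPC.rel_iff] at h
  rw [Groth.Agent.FlatCx12.RelPC.rel_iff]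
  exact fun U V hle => testOn_iso e U.2 (h U V hle)

/-- Derived sections of a flat pullback. -/
theorem isSec_Lpull_flat [Flat g'] [DCoh.HasLpull g'] {E : DCoh.D X} {U : X.Opens} (hU : IsAffineOpen U)
    {U' : X'.Opens} (hU' : IsAffineOpen U') (hle : U' ≤ g' ⁻¹ᵁ U) {L : DRing.Cx Γ(X, U)}
    (hE : IsSec E hU (DRing.toD L)) :
    IsSec ((DCoh.Lpull g').obj E) hU' (DRing.toD ((ExtC Γ(X', U') (g'.appLE U U' hle).hom).obj L)) := by
  haveI : DRing.HasLBaseChange (g'.appLE U U' hle).hom := DCat.hasLBaseChange _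
  obtain ⟨e⟩ := nonempty_lbaseChange_iso (g'.appLE U U' hle).hom
    (HasRingHomProperty.appLE @Flat g' inferInstance ⟨U, hU⟩ ⟨U', hU'⟩ hle) L
  exact isSec_congr e (isSec_Lpull g' hU hU' hle hE)

/-- The free module of rank one, as a complex, and its extension of scalars. -/
theorem nonempty_ext_single_self {A B : Type u} [CommRing A] [CommRing B] (φ : A →+* B) :
    Nonempty (Dual.inD B B ≅ DRing.toD ((ExtC B φ).obj
      ((HomologicalComplex.single (ModuleCat.{u} A) (ComplexShape.up ℤ) 0).obj (ModuleCat.of A A)))) := by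
  letI := φ.toAlgebra
  let e' : (ModuleCat.extendScalars.{u, u, u} φ).obj (ModuleCat.of A A) ≅ ModuleCat.of B B :=
    (TensorProduct.AlgebraTensorModule.rid A B B).toModuleIso
      (X₁ := (ModuleCat.extendScalars.{u, u, u} φ).obj (ModuleCat.of A A)) (X₂ := ModuleCat.of B B)
  exact ⟨(DerivedCategory.singleFunctorIsoCompQ (ModuleCat.{u} B) 0).app (ModuleCat.of B B) ≪≫
    (DerivedCategory.Q.mapIso ((HomologicalComplex.singleMapHomologicalComplex (ModuleCat.extendScalars.{u, u, u} φ)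
      (ComplexShape.up ℤ) 0).app (ModuleCat.of A A) ≪≫
        (HomologicalComplex.single (ModuleCat.{u} B) (ComplexShape.up ℤ) 0).mapIso e')).symm⟩

theorem isSec_structure_single {U : X.Opens} (hU : IsAffineOpen U) :
    IsSec (DCoh.inD X (Coh.structureModule X)) hU
      (DRing.toD ((HomologicalComplex.single (ModuleCat.{u} Γ(X, U)) (ComplexShape.up ℤ) 0).obj
        (ModuleCat.of Γ(X, U) Γ(X, U)))) :=
  isSec_congr ((DerivedCategory.singleFunctorIsoCompQ (ModuleCat.{u} Γ(X, U)) 0).app _)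
    (RelPCComp.isSec_structure hU)

theorem isSec_structure_ext {U : X.Opens} {U' : X'.Opens} (hU' : IsAffineOpen U') (hle : U' ≤ g' ⁻¹ᵁ U) :
    IsSec (DCoh.inD X' (Coh.structureModule X')) hU' (DRing.toD ((ExtC Γ(X', U') (g'.appLE U U' hle).hom).obj
      ((HomologicalComplex.single (ModuleCat.{u} Γ(X, U)) (ComplexShape.up ℤ) 0).obj
        (ModuleCat.of Γ(X, U) Γ(X, U))))) := by
  obtain ⟨e⟩ := nonempty_ext_single_self (g'.appLE U U' hle).hom
  exact isSec_congr e (RelPCComp.isSec_structure hU')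

variable [LocallyOfFiniteType f] [LocallyOfFiniteType f'] [Flat g] (hc : IsPullback g' f' f g)

include hc in
theorem rel_baseChange_structure {m : ℤ}
    (hf : DerSch.IsPseudoCoherentRel f m (DCoh.inD X (Coh.structureModule X))) :
    DerSch.IsPseudoCoherentRel f' m (DCoh.inD X' (Coh.structureModule X')) := by
  rw [Groth.Agent.FlatCx12.RelPC.rel_iff] at hf
  refine rel_of_local fun x => ?_
  obtain ⟨U, V, h, hxU⟩ := RelPCOps.exists_affine_pair f (g' x)
  have hgx : g (f' x) ∈ (V : S.Opens) := by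
    rw [← Scheme.Hom.comp_apply, ← hc.w, Scheme.Hom.comp_apply]
    exact h hxU
  obtain ⟨V', hV', hxV', hgV⟩ := Opens.isBasis_iff_nbhd.1 S'.isBasis_affineOpens (U := g ⁻¹ᵁ V.1) (x := f' x) hgx
  have hU' := isAffineOpen_inf hc U.2 V.2 hV' h hgV
  exact ⟨⟨_, hU'⟩, ⟨V', hV'⟩, inf_le_right, ⟨hxU, hxV'⟩,
    testOn_baseChange_sec hc U.2 V.2 hU' hV' h hgV rfl inf_le_left inf_le_right (isSec_structure_single U.2)
      (isSec_structure_ext hU' inf_le_left) (hf U V h)⟩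

include hc in
theorem rel_baseChange_Lpull [DCoh.HasLpull g'] {E : DCoh.D X} (hq : DCoh.IsQCohD E) {m : ℤ}
    (hf : DerSch.IsPseudoCoherentRel f m E) : DerSch.IsPseudoCoherentRel f' m ((DCoh.Lpull g').obj E) := by
  rw [Groth.Agent.FlatCx12.RelPC.rel_iff] at hf
  haveI : Flat g' := MorphismProperty.of_isPullback (P := @Flat) hc.flip inferInstance
  refine rel_of_local fun x => ?_
  obtain ⟨U, V, h, hxU⟩ := RelPCOps.exists_affine_pair f (g' x)
  have hgx : g (f' x) ∈ (V : S.Opens) := by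
    rw [← Scheme.Hom.comp_apply, ← hc.w, Scheme.Hom.comp_apply]
    exact h hxU
  obtain ⟨V', hV', hxV', hgV⟩ := Opens.isBasis_iff_nbhd.1 S'.isBasis_affineOpens (U := g ⁻¹ᵁ V.1) (x := f' x) hgx
  have hU' := isAffineOpen_inf hc U.2 V.2 hV' h hgV
  obtain ⟨M, hM⟩ := exists_sec hq U.2
  have hM' : IsSec E U.2 (DRing.toD (DerivedCategory.Q.objPreimage M)) :=
    isSec_congr (DerivedCategory.Q.objObjPreimageIso M).symm hM
  exact ⟨⟨_, hU'⟩, ⟨V', hV'⟩, inf_le_right, ⟨hxU, hxV'⟩,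
    testOn_baseChange_sec hc U.2 V.2 hU' hV' h hgV rfl inf_le_left inf_le_right hM'
      (isSec_Lpull_flat U.2 hU' inf_le_left hM') (hf U V h)⟩

variable [Surjective g] [QuasiCompact g]

include hc in
theorem rel_of_baseChange_structure {m : ℤ}
    (hf : DerSch.IsPseudoCoherentRel f' m (DCoh.inD X' (Coh.structureModule X'))) :
    DerSch.IsPseudoCoherentRel f m (DCoh.inD X (Coh.structureModule X)) := by
  rw [Groth.Agent.FlatCx12.RelPC.rel_iff] at hf
  refine rel_of_local fun x => ?_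
  obtain ⟨U, V, h, hxU⟩ := RelPCOps.exists_affine_pair f x
  exact ⟨U, V, h, hxU, testOn_of_baseChange_sec hc U.2 V.2 h (isSec_structure_single U.2)
    (fun U' hU' hle => isSec_structure_ext hU' hle) hf⟩

include hc in
theorem rel_of_baseChange_Lpull [DCoh.HasLpull g'] {E : DCoh.D X} (hq : DCoh.IsQCohD E) {m : ℤ}
    (hf : DerSch.IsPseudoCoherentRel f' m ((DCoh.Lpull g').obj E)) : DerSch.IsPseudoCoherentRel f m E := by
  rw [Groth.Agent.FlatCx12.RelPC.rel_iff] at hf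
  haveI : Flat g' := MorphismProperty.of_isPullback (P := @Flat) hc.flip inferInstance
  refine rel_of_local fun x => ?_
  obtain ⟨U, V, h, hxU⟩ := RelPCOps.exists_affine_pair f x
  obtain ⟨M, hM⟩ := exists_sec hq U.2
  have hM' : IsSec E U.2 (DRing.toD (DerivedCategory.Q.objPreimage M)) :=
    isSec_congr (DerivedCategory.Q.objObjPreimageIso M).symm hM
  exact ⟨U, V, h, hxU, testOn_of_baseChange_sec hc U.2 V.2 h hM'
    (fun U' hU' hle => isSec_Lpull_flat U.2 hU' hle hM') hf⟩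

end Groth.Agent.FlatCx12.RelPCFlatBC
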