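import Groth.Agent.FlatCx12.TorDimBC
import Groth.Agent.FlatCx12.AmpThick
import Groth.Agent.Desc19b.FlatOverBC
import Groth.Agent.EGA43.FibDepth.Unit

/-!
# Tor dimension under a base change tor-independent over a base scheme
-/

set_option autoImplicit false
set_option backward.isDefEq.respectTransparency false
set_option backward.defeqAttrib.useBackward true
set_option linter.style.haveILetI false

universe u

open CategoryTheory CategoryTheory.Limits AlgebraicGeometry TensorProduct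

attribute [local instance] HasDerivedCategory.standard

namespace Groth.Agent.FlatCx12.TorDimBCScheme

variable {X Y : Scheme.{u}}

/-- Tor dimension at a point, in terms of the stalk map. -/
theorem amp_unit_iff (f : X ⟶ Y) (x : X) (a b : ℤ) :
    DerSch.HasTorAmplitudeAt f a b (DerSch.unitCx X) x ↔
      DRing.HasTorAmplitudeIn (Y.presheaf.stalk (f.base x)) a b (Dual.inD _
        ((ModuleCat.restrictScalars.{u} (f.stalkMap x).hom).obj
          (ModuleCat.of (X.presheaf.stalk x) (X.presheaf.stalk x)))) := by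
  let u₀ : (DerSch.stalkFunctor X x).obj (Coh.structureModule X) ≅
      ModuleCat.of (X.presheaf.stalk x) (X.presheaf.stalk x) :=
    (Groth.Agent.EGA43.FibDepth.unitStalkEquiv x).toModuleIso.symm
  let e := DerivedCategory.Q.mapIso
      ((HomologicalComplex.singleMapHomologicalComplex (DerSch.stalkOver f x) (ComplexShape.up ℤ) 0).app
        (Coh.structureModule X)) ≪≫
    ((DerivedCategory.singleFunctorIsoCompQ _ 0).app _).symm ≪≫
    (DerivedCategory.singleFunctor _ 0).mapIso ((ModuleCat.restrictScalars.{u} (f.stalkMap x).hom).mapIso u₀)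
  exact ⟨fun h => TorAmpComp.amp_iso e h, fun h => TorAmpComp.amp_iso e.symm h⟩

/-- The bound `D` is invariant under linear equivalences. -/
theorem D_congr {A : Type u} [CommRing A] {n : ℕ} {M N : Type u} [AddCommGroup M] [Module A M] [AddCommGroup N]
    [Module A N] (e : M ≃ₗ[A] N) (h : TorAmpComp.D (A := A) n M) : TorAmpComp.D (A := A) n N :=
  TorAmpComp.D_of_amp n N (TorAmpComp.amp_iso
    ((DerivedCategory.singleFunctor (ModuleCat.{u} A) 0).mapIso e.toModuleIso) (TorAmpComp.amp_of_D n M h))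

/-- Tor dimension is kept by base change, for source and target flat over a base. -/
theorem torDimLE_baseChange {S X₂ Y₁ Y₂ W V : Scheme.{u}} (f₂ : X₂ ⟶ Y₂) (q₁ : Y₁ ⟶ S) (q₂ : Y₂ ⟶ S) [Flat q₂]
    [Flat (f₂ ≫ q₂)] (v₁ : V ⟶ Y₁) (p : V ⟶ Y₂) (hV : IsPullback v₁ p q₁ q₂) (u' : W ⟶ X₂) (f' : W ⟶ V)
    (hW : IsPullback u' f' f₂ p) (n : ℕ) (h₂ : DerSch.HasTorDimLE f₂ n) : DerSch.HasTorDimLE f' n := by
  intro w
  refine (amp_unit_iff f' w _ _).2 ?_
  have hpt : p (f' w) = f₂ (u' w) := by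
    show (f' ≫ p) w = (u' ≫ f₂) w
    rw [hW.w]
  let α : Y₂.presheaf.stalk (p (f' w)) ⟶ X₂.presheaf.stalk (u' w) :=
    Y₂.presheaf.stalkSpecializes (specializes_of_eq hpt.symm) ≫ f₂.stalkMap (u' w)
  have key : ∀ (z : Y₂) (hz : f₂ (u' w) = z),
      DRing.HasTorAmplitudeIn (Y₂.presheaf.stalk z) (-(n : ℤ)) 0 (Dual.inD _ ((ModuleCat.restrictScalars.{u}
        (Y₂.presheaf.stalkSpecializes (specializes_of_eq hz) ≫ f₂.stalkMap (u' w)).hom).obj
          (ModuleCat.of (X₂.presheaf.stalk (u' w)) (X₂.presheaf.stalk (u' w))))) := by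
    rintro z rfl
    rw [TopCat.Presheaf.stalkSpecializes_refl, Category.id_comp]
    exact (amp_unit_iff f₂ (u' w) _ _).1 (h₂ (u' w))
  have hα : Spec.map α ≫ Y₂.fromSpecStalk (p (f' w)) = X₂.fromSpecStalk (u' w) ≫ f₂ := by
    simp only [α, Spec.map_comp, Category.assoc, Scheme.SpecMap_stalkSpecializes_fromSpecStalk,
      Scheme.SpecMap_stalkMap_fromSpecStalk]
  let β : Y₂.presheaf.stalk (p (f' w)) ⟶ V.presheaf.stalk (f' w) := p.stalkMap (f' w)
  have hβ : Spec.map β ≫ Y₂.fromSpecStalk (p (f' w)) = V.fromSpecStalk (f' w) ≫ p :=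
    Scheme.SpecMap_stalkMap_fromSpecStalk p
  have wαβ : α ≫ u'.stalkMap w = β ≫ f'.stalkMap w := by
    apply Spec.map_injective
    rw [← cancel_mono (Y₂.fromSpecStalk (p (f' w))), Spec.map_comp α, Spec.map_comp β, Category.assoc,
      Category.assoc, hα, hβ, ← Category.assoc, ← Category.assoc, Scheme.SpecMap_stalkMap_fromSpecStalk,
      Scheme.SpecMap_stalkMap_fromSpecStalk, Category.assoc, Category.assoc, hW.w]
  have hθ := Desc19b.exists_flat_stalk_tensor f₂ f' u' p hW w α β wαβ _ hα hβ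
  -- the square over the base
  let y := f' w
  have hps : q₁ (v₁ y) = q₂ (p y) := by
    show (v₁ ≫ q₁) y = (p ≫ q₂) y
    rw [hV.w]
  let γ : S.presheaf.stalk (q₂ (p y)) ⟶ Y₁.presheaf.stalk (v₁ y) :=
    S.presheaf.stalkSpecializes (specializes_of_eq hps) ≫ q₁.stalkMap (v₁ y)
  let δ : S.presheaf.stalk (q₂ (p y)) ⟶ Y₂.presheaf.stalk (p y) := q₂.stalkMap (p y)
  have hγ : Spec.map γ ≫ S.fromSpecStalk (q₂ (p y)) = Y₁.fromSpecStalk (v₁ y) ≫ q₁ := by
    simp only [γ, Spec.map_comp, Category.assoc, Scheme.SpecMap_stalkSpecializes_fromSpecStalk,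
      Scheme.SpecMap_stalkMap_fromSpecStalk]
  have hδ : Spec.map δ ≫ S.fromSpecStalk (q₂ (p y)) = Y₂.fromSpecStalk (p y) ≫ q₂ :=
    Scheme.SpecMap_stalkMap_fromSpecStalk q₂
  have wγδ : γ ≫ v₁.stalkMap y = δ ≫ p.stalkMap y := by
    apply Spec.map_injective
    rw [← cancel_mono (S.fromSpecStalk (q₂ (p y))), Spec.map_comp γ, Spec.map_comp δ, Category.assoc,
      Category.assoc, hγ, hδ, ← Category.assoc, ← Category.assoc, Scheme.SpecMap_stalkMap_fromSpecStalk,
      Scheme.SpecMap_stalkMap_fromSpecStalk, Category.assoc, Category.assoc, hV.w]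
  have hθ' := Desc19b.exists_flat_stalk_tensor q₁ p v₁ q₂ hV y γ δ wγδ _ hγ hδ
  letI := γ.hom.toAlgebra
  letI := δ.hom.toAlgebra
  letI : Algebra (Y₁.presheaf.stalk (v₁ y)) ↑(pushout γ δ) := (pushout.inl γ δ).hom.toAlgebra
  letI : Algebra (Y₂.presheaf.stalk (p y)) ↑(pushout γ δ) := (pushout.inr γ δ).hom.toAlgebra
  letI : Algebra (S.presheaf.stalk (q₂ (p y))) ↑(pushout γ δ) := (γ ≫ pushout.inl γ δ).hom.toAlgebra
  haveI : IsScalarTower (S.presheaf.stalk (q₂ (p y))) (Y₁.presheaf.stalk (v₁ y)) ↑(pushout γ δ) :=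
    .of_algebraMap_eq fun _ => rfl
  haveI : IsScalarTower (S.presheaf.stalk (q₂ (p y))) (Y₂.presheaf.stalk (p y)) ↑(pushout γ δ) :=
    .of_algebraMap_eq fun r => RingHom.congr_fun (congrArg CommRingCat.Hom.hom (pushout.condition (f := γ) (g := δ))) r
  haveI : Algebra.IsPushout (S.presheaf.stalk (q₂ (p y))) (Y₁.presheaf.stalk (v₁ y))
      (Y₂.presheaf.stalk (p y)) ↑(pushout γ δ) :=
    CommRingCat.isPushout_iff_isPushout.1 (IsPushout.of_hasPushout γ δ)
  letI : Algebra ↑(pushout γ δ) (V.presheaf.stalk y) :=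
    (pushout.desc (v₁.stalkMap y) (p.stalkMap y) wγδ).hom.toAlgebra
  haveI : Module.Flat ↑(pushout γ δ) (V.presheaf.stalk y) := hθ'
  letI : Algebra (Y₂.presheaf.stalk (p y)) (V.presheaf.stalk y) := (p.stalkMap y).hom.toAlgebra
  haveI : IsScalarTower (Y₂.presheaf.stalk (p y)) ↑(pushout γ δ) (V.presheaf.stalk y) :=
    .of_algebraMap_eq fun r => (RingHom.congr_fun (congrArg CommRingCat.Hom.hom (pushout.inr_desc _ _ wγδ)) r).symm
  -- the source
  letI : Algebra (Y₂.presheaf.stalk (p y)) (X₂.presheaf.stalk (u' w)) := α.hom.toAlgebra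
  letI : Algebra (S.presheaf.stalk (q₂ (p y))) (X₂.presheaf.stalk (u' w)) := (δ ≫ α).hom.toAlgebra
  haveI : IsScalarTower (S.presheaf.stalk (q₂ (p y))) (Y₂.presheaf.stalk (p y)) (X₂.presheaf.stalk (u' w)) :=
    .of_algebraMap_eq fun _ => rfl
  haveI : Module.Flat (S.presheaf.stalk (q₂ (p y))) (Y₂.presheaf.stalk (p y)) := Flat.stalkMap q₂ _
  haveI : Module.Flat (S.presheaf.stalk (q₂ (p y))) (X₂.presheaf.stalk (u' w)) := by
    have e : δ ≫ α = S.presheaf.stalkSpecializes (specializes_of_eq (congrArg q₂ hpt.symm :)) ≫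
        (f₂ ≫ q₂).stalkMap (u' w) := by
      apply Spec.map_injective
      rw [← cancel_mono (S.fromSpecStalk (q₂ (p y)))]
      rw [Spec.map_comp, Category.assoc, hδ, ← Category.assoc,
        show Spec.map α ≫ Y₂.fromSpecStalk (p y) = X₂.fromSpecStalk (u' w) ≫ f₂ from hα, Category.assoc,
        Spec.map_comp, Category.assoc, Scheme.SpecMap_stalkSpecializes_fromSpecStalk]
      exact (Scheme.SpecMap_stalkMap_fromSpecStalk (f₂ ≫ q₂)).symm
    have h1 : (δ ≫ α).hom.Flat := by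
      rw [e, CommRingCat.hom_comp]
      refine RingHom.Flat.comp ?_ (Flat.stalkMap (f₂ ≫ q₂) _)
      exact RingHom.Flat.of_bijective (ConcreteCategory.bijective_of_isIso
        (S.presheaf.stalkCongr (.of_eq (congrArg q₂ hpt :))).hom)
    exact h1
  have hB : TorAmpComp.D (A := Y₂.presheaf.stalk (p y)) n (X₂.presheaf.stalk (u' w)) := by
    refine TorAmpComp.D_of_amp n _ (TorAmpComp.amp_iso ((DerivedCategory.singleFunctor _ 0).mapIso ?_)
      (key _ hpt.symm))
    exact LinearEquiv.toModuleIso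
      (X₁ := (ModuleCat.restrictScalars.{u} α.hom).obj (ModuleCat.of (X₂.presheaf.stalk (u' w)) (X₂.presheaf.stalk (u' w))))
      (X₂ := ModuleCat.of (Y₂.presheaf.stalk (p y)) (X₂.presheaf.stalk (u' w)))
      { AddEquiv.refl _ with map_smul' := fun _ _ => rfl }
  have hT₀ := TorDimBC.D_baseChange (S.presheaf.stalk (q₂ (p y))) (Y₁.presheaf.stalk (v₁ y))
    (Y₂.presheaf.stalk (p y)) ↑(pushout γ δ) (V.presheaf.stalk y) n (X₂.presheaf.stalk (u' w)) hB
  -- the local ring of the base change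
  letI : Algebra (V.presheaf.stalk y) ↑(pushout α β) := (pushout.inr α β).hom.toAlgebra
  letI : Algebra (X₂.presheaf.stalk (u' w)) ↑(pushout α β) := (pushout.inl α β).hom.toAlgebra
  letI : Algebra (Y₂.presheaf.stalk (p y)) ↑(pushout α β) := (α ≫ pushout.inl α β).hom.toAlgebra
  haveI : IsScalarTower (Y₂.presheaf.stalk (p y)) (X₂.presheaf.stalk (u' w)) ↑(pushout α β) :=
    .of_algebraMap_eq fun _ => rfl
  haveI : IsScalarTower (Y₂.presheaf.stalk (p y)) (V.presheaf.stalk y) ↑(pushout α β) :=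
    .of_algebraMap_eq fun r => RingHom.congr_fun (congrArg CommRingCat.Hom.hom (pushout.condition (f := α) (g := β))) r
  haveI : Algebra.IsPushout (Y₂.presheaf.stalk (p y)) (V.presheaf.stalk y)
      (X₂.presheaf.stalk (u' w)) ↑(pushout α β) :=
    CommRingCat.isPushout_iff_isPushout.1 (IsPushout.of_hasPushout α β).flip
  letI : Algebra ↑(pushout α β) (W.presheaf.stalk w) :=
    (pushout.desc (u'.stalkMap w) (f'.stalkMap w) wαβ).hom.toAlgebra
  haveI : Module.Flat ↑(pushout α β) (W.presheaf.stalk w) := hθ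
  letI : Algebra (V.presheaf.stalk y) (W.presheaf.stalk w) := (f'.stalkMap w).hom.toAlgebra
  haveI : IsScalarTower (V.presheaf.stalk y) ↑(pushout α β) (W.presheaf.stalk w) :=
    .of_algebraMap_eq fun r => (RingHom.congr_fun (congrArg CommRingCat.Hom.hom (pushout.inr_desc _ _ wαβ)) r).symm
  have hT : TorAmpComp.D (A := V.presheaf.stalk y) n ↑(pushout α β) :=
    D_congr (Algebra.IsPushout.equiv (Y₂.presheaf.stalk (p y)) (V.presheaf.stalk y)
      (X₂.presheaf.stalk (u' w)) ↑(pushout α β)).toLinearEquiv hT₀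
  have hO : TorAmpComp.D (A := V.presheaf.stalk y) n (W.presheaf.stalk w) :=
    D_congr ((TensorProduct.rid ↑(pushout α β) (W.presheaf.stalk w)).restrictScalars (V.presheaf.stalk y))
      (fun N _ _ => TorDimBC.dim_tensor (W.presheaf.stalk w) ↑(pushout α β) n N (hT N))
  refine TorAmpComp.amp_iso ((DerivedCategory.singleFunctor _ 0).mapIso ?_) (TorAmpComp.amp_of_D n _ hO)
  exact (LinearEquiv.toModuleIso
    (X₁ := (ModuleCat.restrictScalars.{u} (f'.stalkMap w).hom).obj (ModuleCat.of (W.presheaf.stalk w) (W.presheaf.stalk w)))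
    (X₂ := ModuleCat.of (V.presheaf.stalk y) (W.presheaf.stalk w))
    { AddEquiv.refl _ with map_smul' := fun _ _ => rfl }).symm

end Groth.Agent.FlatCx12.TorDimBCScheme
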