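import Groth.Agent.CAlgH.KoszulRegular
import Groth.Agent.CAlgH.CIImmersion
import Groth.Agent.FlatCx12.RelPCFlatBCScheme
import Groth.Agent.FlatCx12.TorDimBCScheme
import Groth.Agent.FlatMorPerfect.PC
import Groth.Agent.FlatMorPerfect.TorDim
import Groth.Agent.FlatMorPerfect.Hom
import Groth.Agent.Dual22Lib.TorAmpRestrict
import Mathlib.LinearAlgebra.ExteriorPower.Basis

/-!
# Koszul regular immersions are of perfect dimension at most their codimension
-/

set_option autoImplicit false
set_option backward.isDefEq.respectTransparency false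
set_option backward.defeqAttrib.useBackward true
set_option linter.style.haveILetI false

universe u

open CategoryTheory CategoryTheory.Limits AlgebraicGeometry TopologicalSpace Function

attribute [local instance] HasDerivedCategory.standard

namespace Groth.Agent.FlatCx12.KoszulPerf

open Groth.Agent.FlatMorPerfect Groth.Agent.Disc12.Koszul Groth.Agent.CAlgH.KoszulRegular

variable {R : Type u} [CommRing R] {n : ℕ}

/-- The quotient by a Koszul regular sequence of length `n` is pseudo-coherent of tor dimension `≤ n`. -/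
theorem quot_kreg (f : Fin n → R) (h : KReg f) :
    (∀ k, PC R k (R ⧸ Ideal.span (Set.range f))) ∧ TD R n (R ⧸ Ideal.span (Set.range f)) := by
  have hrange : ∀ p, Nonempty ((K R n (p + 1) ⧸ LinearMap.range (d f (p + 1))) ≃ₗ[R] LinearMap.range (d f p)) :=
    fun p => ⟨Submodule.quotEquivOfEq _ _ (LinearMap.exact_iff.1 (h p)).symm ≪≫ₗ LinearMap.quotKerEquivRange (d f p)⟩
  have hex : ∀ p, Exact (LinearMap.range (d f p)).subtype (LinearMap.range (d f p)).mkQ := fun p => by
    rw [LinearMap.exact_iff, Submodule.ker_mkQ, Submodule.range_subtype]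
  have hpc : ∀ k p, PC R k (K R n p ⧸ LinearMap.range (d f p)) := by
    intro k
    induction k with
    | zero => exact fun p => pc_zero_iff.2 inferInstance
    | succ k ih =>
      intro p
      obtain ⟨e⟩ := hrange p
      exact pc_coker (hex p) (Submodule.mkQ_surjective _) (Submodule.injective_subtype _) (pc_congr e (ih (p + 1)))
        (pc_free _)
  have htd : ∀ j p, n ≤ p + j → TD R j (K R n p ⧸ LinearMap.range (d f p)) := by
    intro j
    induction j with
    | zero =>
      intro p hp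
      haveI : Subsingleton (K R n (p + 1)) := subsingleton_K (by omega)
      have h0 : LinearMap.range (d f p) = ⊥ := by
        rw [LinearMap.range_eq_bot]
        exact LinearMap.ext fun x => by rw [Subsingleton.elim x 0]; simp
      haveI : Module.Flat R (K R n p ⧸ LinearMap.range (d f p)) :=
        Module.Flat.of_linearEquiv (Submodule.quotEquivOfEqBot _ h0)
      exact td_of_flat 0
    | succ j ih =>
      intro p hp
      obtain ⟨e⟩ := hrange p
      exact td_coker (hex p) (Submodule.mkQ_surjective _) (Submodule.injective_subtype _)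
        (td_congr e (ih (p + 1) (by omega))) (td_of_flat _)
  have he : Function.Bijective (e0 (R := R) (n := n)) := by
    refine ⟨fun a b hab => ?_, e0_surjective⟩
    exact (ExteriorAlgebra.algebraMap_leftInverse (Fin n → R)).injective (congrArg Subtype.val hab)
  let e : (R ⧸ Ideal.span (Set.range f)) ≃ₗ[R] K R n 0 ⧸ LinearMap.range (d f 0) :=
    Submodule.Quotient.equiv _ _ (LinearEquiv.ofBijective e0 he) (by rw [range_d_zero]; rfl)
  exact ⟨fun k => pc_congr e.symm (hpc k 0), td_congr e.symm (htd n 0 (by omega))⟩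

/-- A surjection with kernel generated by a Koszul regular sequence. -/
theorem of_surjective {B : Type u} [CommRing B] (φ : R →+* B) (hφ : Function.Surjective φ) (f : Fin n → R)
    (h : KReg f) (hker : RingHom.ker φ = Ideal.span (Set.range f)) :
    letI := φ.toAlgebra
    (∀ k, PC R k B) ∧ TD R n B := by
  letI := φ.toAlgebra
  obtain ⟨h1, h2⟩ := quot_kreg f h
  let e : (R ⧸ Ideal.span (Set.range f)) ≃ₗ[R] B :=
    Submodule.quotEquivOfEq _ _ (by rw [← hker]; rfl) ≪≫ₗ
      (Algebra.linearMap R B).quotKerEquivOfSurjective hφ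
  exact ⟨fun k => pc_congr e (h1 k), td_congr e h2⟩

/-- A morphism which is a closed immersion over an affine open is affine and surjective there. -/
theorem affine_and_surjective {Y X : Scheme.{u}} (f : Y ⟶ X) (U : X.affineOpens)
    [IsClosedImmersion (f ∣_ U.1)] :
    IsAffineOpen (f ⁻¹ᵁ U.1) ∧ Function.Surjective (f.app U.1).hom := by
  haveI : IsAffine U.1.toScheme := U.2
  refine ⟨isAffine_of_isAffineHom (f ∣_ U.1), ?_⟩
  have h1 := (f ∣_ U.1).app_surjective ⊤ (isAffineOpen_top _)
  rw [morphismRestrict_app] at h1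
  have key : ∀ V : X.Opens, V = U.1 →
      Function.Surjective (f.app V).hom → Function.Surjective (f.app U.1).hom := by
    rintro V rfl h
    exact h
  refine key _ (Scheme.Opens.ι_image_top U.1) ?_
  let μ := Y.presheaf.map (eqToHom (image_morphismRestrict_preimage f U.1 ⊤)).op
  have hμ : Function.Bijective μ.hom := ConcreteCategory.bijective_of_isIso μ
  have h2 : Function.Surjective (μ.hom ∘ (f.app (U.1.ι ''ᵁ ⊤)).hom) := h1
  exact Function.Surjective.of_comp_left h2 hμ.1

/-- The kernel of a stalk map, for a closed immersion over a chart. -/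
theorem ker_stalkMap_eq {Y X : Scheme.{u}} (f : Y ⟶ X) (y : Y) {U : X.Opens} (hU : IsAffineOpen U)
    (hx : f y ∈ U) (hW : IsAffineOpen (f ⁻¹ᵁ U)) (happ : Function.Surjective (f.app U).hom) :
    RingHom.ker (f.stalkMap y).hom = (RingHom.ker (f.app U).hom).map (X.presheaf.germ U (f y) hx).hom := by
  let := X.presheaf.algebra_section_stalk ⟨f y, hx⟩
  have := hU.isLocalization_stalk ⟨f y, hx⟩
  have hy' : y ∈ f ⁻¹ᵁ U := hx
  let := Y.presheaf.algebra_section_stalk ⟨y, hy'⟩
  have := hW.isLocalization_stalk ⟨y, hy'⟩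
  apply le_antisymm
  · intro a ha
    obtain ⟨b, s, rfl⟩ := IsLocalization.exists_mk'_eq (hU.primeIdealOf ⟨f y, hx⟩).asIdeal.primeCompl a
    have h0 : (f.stalkMap y).hom (X.presheaf.germ U (f y) hx b) = 0 := by
      have h1 : algebraMap Γ(X, U) (X.presheaf.stalk (f y)) b =
          IsLocalization.mk' _ b s * algebraMap _ _ (s : Γ(X, U)) :=
        (IsLocalization.mk'_spec _ b s).symm
      rw [show X.presheaf.germ U (f y) hx b = algebraMap Γ(X, U) _ b from rfl, h1, map_mul,
        RingHom.mem_ker.mp ha, zero_mul]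
    rw [show (f.stalkMap y).hom (X.presheaf.germ U (f y) hx b) =
      Y.presheaf.germ (f ⁻¹ᵁ U) y hx (f.app U b) from Scheme.Hom.germ_stalkMap_apply f U y hx b] at h0
    obtain ⟨⟨c, hc⟩, hcb⟩ := (IsLocalization.map_eq_zero_iff
      (hW.primeIdealOf ⟨y, hy'⟩).asIdeal.primeCompl (Y.presheaf.stalk y) _).mp h0
    obtain ⟨c', hc'⟩ := happ c
    have hu : IsUnit (X.presheaf.germ U (f y) hx c') := by
      refine (isUnit_map_iff (f.stalkMap y).hom _).mp ?_
      rw [show (f.stalkMap y).hom (X.presheaf.germ U (f y) hx c') = Y.presheaf.germ (f ⁻¹ᵁ U) y hx c by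
          rw [← hc']; exact Scheme.Hom.germ_stalkMap_apply f U y hx c']
      exact IsLocalization.map_units (Y.presheaf.stalk y)
        (⟨c, hc⟩ : (hW.primeIdealOf ⟨y, hy'⟩).asIdeal.primeCompl)
    have hmem : c' * b ∈ RingHom.ker (f.app U).hom := by
      rw [RingHom.mem_ker, map_mul]
      exact (congrArg (· * f.app U b) hc').trans hcb
    rw [show (X.presheaf.germ U (f y) hx).hom = algebraMap Γ(X, U) (X.presheaf.stalk (f y)) from rfl,
      IsLocalization.mk'_mem_iff]
    refine (Ideal.unit_mul_mem_iff_mem _ hu).mp ?_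
    have := Ideal.mem_map_of_mem (algebraMap Γ(X, U) (X.presheaf.stalk (f y))) hmem
    rwa [map_mul] at this
  · rw [Ideal.map_le_iff_le_comap]
    intro b hb
    rw [Ideal.mem_comap, RingHom.mem_ker]
    refine (Scheme.Hom.germ_stalkMap_apply f U y hx b).trans ?_
    rw [show f.app U b = 0 from hb, map_zero]

variable {Z X : Scheme.{u}}

/-- Koszul regular immersions of codimension `d` have perfect dimension `≤ d`. -/
theorem hasPerfDimLE (i : Z ⟶ X) (d : ℕ) (hi : RegImm.IsRegularImmersionOfCodim RegImm.Kind.koszul d i) :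
    DerSch.HasPerfDimLE i d := by
  obtain ⟨himm, hloc⟩ := hi
  haveI := himm
  refine ⟨fun m => ?_, fun z => ?_⟩
  · refine RelPCFlatBC.rel_iso ((DerivedCategory.singleFunctorIsoCompQ Z.Modules 0).app (Coh.structureModule Z)) ?_
    refine RelPC.rel_of_local fun z => ?_
    obtain ⟨U, hzU, hci, rs, hlen, hseq, hker⟩ := hloc z
    haveI := hci
    subst hlen
    obtain ⟨hW, happs⟩ := affine_and_surjective i U
    refine ⟨⟨_, hW⟩, U, le_rfl, hzU, ?_⟩
    refine (RelDescScheme.testOn_iff_sec i hW le_rfl m _ _ (RelPCComp.isSec_structure hW)).2 ?_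
    letI := (i.appLE U.1 (i ⁻¹ᵁ U.1) le_rfl).hom.toAlgebra
    have happ : i.appLE U.1 (i ⁻¹ᵁ U.1) le_rfl = i.app U.1 := Scheme.Hom.appLE_eq_app _
    have hsurj : Function.Surjective (algebraMap Γ(X, U.1) Γ(Z, i ⁻¹ᵁ U.1)) := by
      rw [RingHom.algebraMap_toAlgebra, happ]
      exact happs
    obtain ⟨hpc, -⟩ := of_surjective (algebraMap Γ(X, U.1) Γ(Z, i ⁻¹ᵁ U.1)) hsurj rs.get
      ((isKoszulRegularSeq_iff _).1 (by rw [List.ofFn_get]; exact hseq))
      (by rw [RingHom.algebraMap_toAlgebra, happ, hker, span_range_get])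
    let α : MvPolynomial (Fin 0) Γ(X, U.1) →ₐ[Γ(X, U.1)] Γ(Z, i ⁻¹ᵁ U.1) := MvPolynomial.aeval Fin.elim0
    have hα : Function.Surjective α := fun y => by
      obtain ⟨r, rfl⟩ := hsurj y
      exact ⟨MvPolynomial.C r, MvPolynomial.aeval_C _ r⟩
    refine (Groth.Agent.RelPC.rel_iff α hα _ m).2 ?_
    refine (Groth.Agent.RelPC.pc_restrict_comp_iff
      (pcs_equiv (MvPolynomial.isEmptyRingEquiv Γ(X, U.1) (Fin 0)).symm)
      (α : MvPolynomial (Fin 0) Γ(X, U.1) →+* Γ(Z, i ⁻¹ᵁ U.1)) (algebraMap Γ(X, U.1) Γ(Z, i ⁻¹ᵁ U.1))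
      (RingHom.ext fun r => ?_) _ m).1 ?_
    · show _ = α ((MvPolynomial.isEmptyRingEquiv Γ(X, U.1) (Fin 0)).symm r)
      rw [show (MvPolynomial.isEmptyRingEquiv Γ(X, U.1) (Fin 0)).symm r = MvPolynomial.C r from
        (MvPolynomial.isEmptyRingEquiv Γ(X, U.1) (Fin 0)).symm_apply_eq.2 (by simp; exact (MvPolynomial.constantCoeff_C _ r).symm)]
      exact (MvPolynomial.aeval_C _ r).symm
    · refine DRingLib.pc_iso (Groth.Agent.RelPC.restrictInD _ (ModuleCat.of _ Γ(Z, i ⁻¹ᵁ U.1))).symm ?_
      refine DRingLib.pc_mono (show -(((-m).toNat : ℕ) : ℤ) ≤ m by omega) ?_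
      exact pc_congr (M := (ModuleCat.restrictScalars.{u} (algebraMap Γ(X, U.1) Γ(Z, i ⁻¹ᵁ U.1))).obj
          (ModuleCat.of Γ(Z, i ⁻¹ᵁ U.1) Γ(Z, i ⁻¹ᵁ U.1)))
        ({ AddEquiv.refl _ with map_smul' := fun r x => Algebra.smul_def r x } :
          Γ(Z, i ⁻¹ᵁ U.1) ≃ₗ[Γ(X, U.1)] _) (hpc _)
  · obtain ⟨U, hzU, hci, rs, hlen, hseq, hker⟩ := hloc z
    haveI := hci
    subst hlen
    refine (TorDimBCScheme.amp_unit_iff i z _ _).2 ?_
    letI := (X.presheaf.germ U.1 (i z) hzU).hom.toAlgebra
    haveI := U.2.isLocalization_stalk ⟨i z, hzU⟩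
    haveI : Module.Flat Γ(X, U.1) (X.presheaf.stalk (i z)) :=
      IsLocalization.flat _ (U.2.primeIdealOf ⟨i z, hzU⟩).asIdeal.primeCompl
    have hk := KReg.map (S := X.presheaf.stalk (i z))
      ((isKoszulRegularSeq_iff rs.get).1 (by rw [List.ofFn_get]; exact hseq))
    obtain ⟨-, htd⟩ := of_surjective (i.stalkMap z).hom (i.stalkMap_surjective z) _ hk (by
      rw [ker_stalkMap_eq i z U.2 hzU (affine_and_surjective i U).1 (affine_and_surjective i U).2, hker, ← span_range_get, Ideal.map_span,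
        ← Set.range_comp]
      rfl)
    letI := (i.stalkMap z).hom.toAlgebra
    refine TorAmpComp.amp_iso ((DerivedCategory.singleFunctor _ 0).mapIso ?_)
      (Dual22Lib.TorAmpRestrict.amp_of_flatDimLE rs.length
        (ModuleCat.of (X.presheaf.stalk (i z)) (Z.presheaf.stalk z)) htd.flatDimLE)
    exact LinearEquiv.toModuleIso (X₁ := ModuleCat.of (X.presheaf.stalk (i z)) (Z.presheaf.stalk z))
      (X₂ := (ModuleCat.restrictScalars.{u} (i.stalkMap z).hom).obj (ModuleCat.of (Z.presheaf.stalk z) (Z.presheaf.stalk z)))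
      { AddEquiv.refl _ with map_smul' := fun r x => Algebra.smul_def r x }

end Groth.Agent.FlatCx12.KoszulPerf
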