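import Groth.Agent.FlatCx12.AmpDiag
import Groth.Agent.FlatCx12.KoszulPerf
import Groth.Agent.FlatMorKoszul.Poly
import Groth.Agent.FlatCx12.PushStalk
import Mathlib.RingTheory.Unramified.Finite

/-!
# Tor dimension of the diagonal of polynomial and of formally unramified algebras
-/

set_option autoImplicit false
set_option backward.isDefEq.respectTransparency false
set_option backward.defeqAttrib.useBackward true
set_option linter.style.haveILetI false

universe u

open CategoryTheory TensorProduct MvPolynomial Groth.Agent.CAlgH.KoszulRegular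

attribute [local instance] HasDerivedCategory.standard

namespace Groth.Agent.FlatCx12.DiagDim

/-- The diagonal of a formally unramified essentially finite type algebra is flat. -/
theorem D_zero_of_unramified (A B : Type u) [CommRing A] [CommRing B] [Algebra A B]
    [Algebra.FormallyUnramified A B] [Algebra.EssFiniteType A B] :
    TorAmpComp.D (A := B ⊗[A] B) 0 ((ModuleCat.restrictScalars.{u} (AmpDiag.mul A B)).obj (ModuleCat.of B B)) := by
  letI : Module (B ⊗[A] B) B := Module.compHom B (AmpDiag.mul A B)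
  have hsmul : ∀ (r : B ⊗[A] B) (x : B), r • x = Algebra.TensorProduct.lmul' A r * x := fun r x => rfl
  let e := Algebra.FormallyUnramified.elem A B
  have he : ∀ r : B ⊗[A] B, r * e = (Algebra.TensorProduct.lmul' A r ⊗ₜ[A] (1 : B)) * e := fun r => by
    induction r using TensorProduct.induction_on with
    | zero => simp
    | add x y hx hy => rw [map_add, add_mul, hx, hy, TensorProduct.add_tmul, add_mul]
    | tmul x y =>
      rw [Algebra.TensorProduct.lmul'_apply_tmul, show x ⊗ₜ[A] y = (x ⊗ₜ[A] (1 : B)) * ((1 : B) ⊗ₜ[A] y) by simp,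
        mul_assoc, Algebra.FormallyUnramified.one_tmul_mul_elem, ← mul_assoc, Algebra.TensorProduct.tmul_mul_tmul,
        one_mul]
  let s : B →ₗ[B ⊗[A] B] B ⊗[A] B :=
    { toFun := fun x => (x ⊗ₜ[A] (1 : B)) * e
      map_add' := fun x y => by rw [TensorProduct.add_tmul, add_mul]
      map_smul' := fun r x => by
        rw [RingHom.id_apply, smul_eq_mul, hsmul, mul_left_comm r, he r, ← mul_assoc,
          Algebra.TensorProduct.tmul_mul_tmul, one_mul, mul_comm x] }
  let p : B ⊗[A] B →ₗ[B ⊗[A] B] B :=
    { toFun := fun r => Algebra.TensorProduct.lmul' A r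
      map_add' := map_add _
      map_smul' := fun r x => by rw [RingHom.id_apply, smul_eq_mul, map_mul, hsmul] }
  haveI : Module.Flat (B ⊗[A] B) B := Module.Flat.of_retract s p (LinearMap.ext fun x => by
    show Algebra.TensorProduct.lmul' A ((x ⊗ₜ[A] (1 : B)) * e) = x
    rw [map_mul, Algebra.FormallyUnramified.lmul_elem, Algebra.TensorProduct.lmul'_apply_tmul, mul_one, mul_one])
  exact fun N _ _ => Tor15.torVanish_of_flat (F := B)

/-- Finite flat resolutions bound `Tor`. -/
theorem D_of_flatDimLE {R : Type u} [CommRing R] : ∀ {n : ℕ} {M : Type u} [AddCommGroup M] [Module R M],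
    CAlgH.FlatDimension.FlatDimLE R n M → TorAmpComp.D (A := R) n M
  | 0, M, _, _, h => fun N _ _ =>
    haveI : Module.Flat R M := h
    Tor15.torVanish_of_flat
  | n + 1, M, _, _, h => fun N _ _ => by
    obtain ⟨L, P, _, _, _, _, _, i, p, hip, hp, hi, hL⟩ := h
    exact TorAmpComp.dim_unshift i p hip hp hi n N (D_of_flatDimLE hL N)

/-- The diagonal of a polynomial algebra in `n` variables has tor dimension `≤ n`. -/
theorem D_mvPolynomial (A : Type u) [CommRing A] (n : ℕ) :
    TorAmpComp.D (A := MvPolynomial (Fin n) A ⊗[A] MvPolynomial (Fin n) A) n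
      ((ModuleCat.restrictScalars.{u} (AmpDiag.mul A (MvPolynomial (Fin n) A))).obj
        (ModuleCat.of (MvPolynomial (Fin n) A) (MvPolynomial (Fin n) A))) := by
  let g : Fin n → MvPolynomial (Fin n) A ⊗[A] MvPolynomial (Fin n) A := fun i => 1 ⊗ₜ X i - X i ⊗ₜ 1
  let fwd : MvPolynomial (Fin n) (MvPolynomial (Fin n) A) →ₐ[A]
      MvPolynomial (Fin n) A ⊗[A] MvPolynomial (Fin n) A :=
    ((MvPolynomial.aeval g : MvPolynomial (Fin n) (MvPolynomial (Fin n) A) →ₐ[MvPolynomial (Fin n) A] _)).restrictScalars A
  let bwd : MvPolynomial (Fin n) A ⊗[A] MvPolynomial (Fin n) A →ₐ[A] MvPolynomial (Fin n) (MvPolynomial (Fin n) A) :=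
    Algebra.TensorProduct.lift (IsScalarTower.toAlgHom A _ _)
      (MvPolynomial.aeval fun i => X i + C (X i)) fun _ _ => Commute.all _ _
  have h1 : bwd.comp fwd = AlgHom.id A _ := by
    apply MvPolynomial.algHom_ext'
    · apply MvPolynomial.algHom_ext
      intro i
      simp [fwd, bwd, g]
    · intro i
      simp [fwd, bwd, g]
  have h2 : fwd.comp bwd = AlgHom.id A _ := by
    apply Algebra.TensorProduct.ext
    · apply MvPolynomial.algHom_ext
      intro i
      simp [fwd, bwd, g]
    · apply MvPolynomial.algHom_ext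
      intro i
      simp [fwd, bwd, g]
  let e := AlgEquiv.ofAlgHom fwd bwd h2 h1
  have hg : KReg g := by
    have := CAlgH.KoszulDescent.kreg_map (φ := e.toRingEquiv.toRingHom)
      (RingHom.Flat.of_bijective e.bijective) (FlatMorKoszul.kreg_X (R := MvPolynomial (Fin n) A) (k := n))
    have hc : (fun i => e.toRingEquiv.toRingHom (X i)) = g := funext fun i => by simp [e, fwd]
    rwa [hc] at this
  let μ := AmpDiag.mul A (MvPolynomial (Fin n) A)
  have hμ : μ.comp e.toRingEquiv.toRingHom = constantCoeff := by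
    apply MvPolynomial.ringHom_ext
    · intro p
      simp [μ, e, fwd]
    · intro i
      simp [μ, e, fwd, g]
  have hker : RingHom.ker μ = Ideal.span (Set.range g) := by
    have hX := congrArg (Ideal.map e.toRingEquiv.toRingHom)
      (FlatMorKoszul.ker_constantCoeff (R := MvPolynomial (Fin n) A) (k := n))
    rw [Ideal.map_span, ← Set.range_comp, ← hμ, ← RingHom.comap_ker,
      Ideal.map_comap_of_surjective e.toRingEquiv.toRingHom e.surjective] at hX
    refine hX.trans (congrArg Ideal.span ?_)
    exact congrArg Set.range (funext fun i => by simp [e, fwd])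
  have htd := (KoszulPerf.of_surjective μ (fun p => ⟨p ⊗ₜ 1, by simp [μ]⟩) g hg hker).2
  letI : Algebra (MvPolynomial (Fin n) A ⊗[A] MvPolynomial (Fin n) A) (MvPolynomial (Fin n) A) := μ.toAlgebra
  exact D_of_flatDimLE htd.flatDimLE

end Groth.Agent.FlatCx12.DiagDim

namespace Groth.Agent.FlatCx12.DiagDim

open CategoryTheory.Limits HomologicalComplex

/-- Restriction of tor amplitude along a flat map of rings. -/
theorem amp_restrict_of_flat {R A : Type u} [CommRing R] [CommRing A] (φ : R →+* A) (hφ : φ.Flat) (K : DRing.Cx A)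
    {a b : ℤ} (h : DRing.HasTorAmplitudeIn A a b (DRing.toD K)) :
    DRing.HasTorAmplitudeIn R a b (DRing.toD ((DRing.restrictCx φ).obj K)) := by
  obtain ⟨E, hE, hEf, ⟨e⟩⟩ := h
  let r := ModuleCat.restrictScalars.{u} φ
  exact ⟨(r.mapHomologicalComplex (ComplexShape.up ℤ)).obj E, fun i hi => r.map_isZero (hE i hi),
    fun i => haveI : Module.Flat A (E.X i) := hEf i; PushStalk.flat_restrict φ hφ (E.X i),
    ⟨(r.mapDerivedCategoryFactors.app E).symm ≪≫ r.mapDerivedCategory.mapIso e ≪≫ r.mapDerivedCategoryFactors.app K⟩⟩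

/-- Composition of restrictions of scalars on complexes. -/
theorem nonempty_restrict_comp {R A B : Type u} [CommRing R] [CommRing A] [CommRing B] (φ : R →+* A) (ψ : A →+* B)
    (χ : R →+* B) (hc : χ = ψ.comp φ) (K : DRing.Cx B) :
    Nonempty ((DRing.restrictCx φ).obj ((DRing.restrictCx ψ).obj K) ≅ (DRing.restrictCx χ).obj K) :=
  ⟨Hom.isoOfComponents (fun n => ((ModuleCat.restrictScalarsComp' φ ψ χ hc).app (K.X n)).symm)
    (fun p q _ => ((ModuleCat.restrictScalarsComp' φ ψ χ hc).inv.naturality (K.d p q)).symm)⟩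

/-- Tor amplitude over an algebra which is formally unramified, essentially of finite type and flat over a
polynomial algebra in `n` variables. -/
theorem amp_of_unramified_polynomial {R B : Type u} [CommRing R] [CommRing B] {n : ℕ}
    (g : MvPolynomial (Fin n) R →+* B) (hg : g.Flat)
    (hun : letI := g.toAlgebra; Algebra.FormallyUnramified (MvPolynomial (Fin n) R) B)
    (hef : letI := g.toAlgebra; Algebra.EssFiniteType (MvPolynomial (Fin n) R) B)
    (χ : R →+* B) (hχ : χ = g.comp MvPolynomial.C) (K : DRing.Cx B) {a b : ℤ}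
    (h : DRing.HasTorAmplitudeIn R a b (DRing.toD ((DRing.restrictCx χ).obj K))) :
    DRing.HasTorAmplitudeIn B (a - n) b (DRing.toD K) := by
  letI := g.toAlgebra
  haveI := hun
  haveI := hef
  haveI : Module.Flat (MvPolynomial (Fin n) R) B := hg
  obtain ⟨e⟩ := nonempty_restrict_comp (algebraMap R (MvPolynomial (Fin n) R)) g χ hχ K
  have h1 := AmpDiag.amp_of_diag R (MvPolynomial (Fin n) R) (D_mvPolynomial R n)
    ((DRing.restrictCx g).obj K) (TorAmpComp.amp_iso (DerivedCategory.Q.mapIso e.symm) h)
  have h2 := AmpDiag.amp_of_diag (MvPolynomial (Fin n) R) B (D_zero_of_unramified _ B) K h1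
  simpa using h2

end Groth.Agent.FlatCx12.DiagDim
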