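import Groth.Agent.FlatCx12.RelPCTri
import Groth.Agent.DCat.ClosedPushD
import Groth.Agent.EGA43.InjFibre.Scheme

/-!
# Cohomology of relatively pseudo-coherent objects is quasi-coherent
-/

set_option autoImplicit false
set_option backward.isDefEq.respectTransparency false
set_option backward.defeqAttrib.useBackward true
set_option linter.style.haveILetI false
set_option synthInstance.maxHeartbeats 100000
set_option backward.isDefEq.respectTransparency.types false

universe u

open CategoryTheory CategoryTheory.Limits CategoryTheory.Pretriangulated DerivedCategory Opposite TopologicalSpace AlgebraicGeometry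
open Groth.Agent.DCat Groth.Agent.Coherent Groth.Agent.FlatCx12.EmbPush Groth.Agent.FlatCx12.RelPCOps Groth.Agent.FlatCx12.RelPCTri

namespace Groth.Agent.FlatCx12.RelPCQCoh

attribute [local instance] HasDerivedCategory.standard
attribute [-instance] Int.instConditionallyCompleteLinearOrder

/-- Quasi-coherence descends along closed immersions. -/
theorem isQCoh_of_push {X Y : Scheme.{u}} (i : X ⟶ Y) [IsClosedImmersion i] (M : X.Modules)
    (h : Coh.IsQCoh ((Scheme.Modules.pushforward i).obj M)) : Coh.IsQCoh M :=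
  isQCoh_of_iso ((asIso (Scheme.Modules.pullbackPushforwardAdjunction i).counit).app M)
    (h := @EGA43.InjFibre.isQCoh_pullback _ _ i _ h)

/-- Above the degree of pseudo-coherence the cohomology is quasi-coherent. -/
theorem isQCoh_HD_of_psc {X : Scheme.{u}} {m : ℤ} {K : DCoh.D X} (hK : DCoh.IsPseudoCoherentD m K) (i : ℤ)
    (hi : m < i) : Coh.IsQCoh (DCoh.HD K i) := by
  choose A hA k hk M α hx hM hα using fun x : X => DQCoh.exists_affine_approx hK x
  haveI := hk
  refine isQCoh_of_openImmersion_cover _ k (fun x => ⟨x, hx x⟩) fun x => ?_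
  haveI := hA x
  haveI := (hα x).1 i hi
  exact isQCoh_of_iso (asIso ((homologyFunctor _ i).map (α x)) ≪≫
    (SuppOpen.hdMapIso (Scheme.Modules.restrictFunctor (k x)) K i)) (h := DQCoh.isQCohD_tildeD (A x) (M x) i)

/-- Above the degree of relative pseudo-coherence the cohomology is quasi-coherent. -/
theorem isQCoh_HD_of_rel {X S : Scheme.{u}} (f : X ⟶ S) (m : ℤ) (K : DCoh.D X)
    (h : DerSch.IsPseudoCoherentRel f m K) (i : ℤ) (hi : m < i) : Coh.IsQCoh (DCoh.HD K i) := by
  haveI := h.1
  rw [rel_iff_chart] at h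
  choose U V hle hx using fun x : X => exists_affine_pair f x
  refine isQCoh_of_openImmersion_cover _ (fun x => (U x).1.ι) (fun x => ⟨x, ⟨⟨x, hx x⟩, rfl⟩⟩) fun x => ?_
  algebraize [(f.appLE (V x) (U x) (hle x)).hom]
  obtain ⟨n, π, hπ⟩ := Algebra.FiniteType.iff_quotient_mvPolynomial''.1
    (show Algebra.FiniteType Γ(S, (V x).1) Γ(X, (U x).1) from f.finiteType_appLE (V x).2 (U x).2 (hle x))
  let c : Chart f := ⟨U x, V x, hle x, n, π.toRingHom, hπ, RingHom.ext fun a => π.commutes a⟩
  exact @isQCoh_of_push _ _ c.imm (RelPCChart.isClosedImmersion_along c.U.2 c.isChart.1) _ (isQCoh_of_iso (fnHomIso c K i) (h := isQCoh_HD_of_psc (h c) i hi))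

end Groth.Agent.FlatCx12.RelPCQCoh
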