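import Groth.Agent.FlatMorPerfect.Source

/-!
# Pseudo-coherent finite ring maps
-/

universe u

set_option autoImplicit false
set_option backward.isDefEq.respectTransparency false

open Groth.Agent.FlatMorPerfect MvPolynomial

attribute [local instance] HasDerivedCategory.standard

namespace Groth.Agent.FlatCx12.PCFiniteModule

/-- Adjoining a variable sent to an integral element does not affect pseudo-coherence. -/
theorem pcs_polynomial_iff {R S : Type u} [CommRing R] [CommRing S] (φ : Polynomial R →+* S)
    {p : Polynomial R} (hp : p.Monic) (h : φ p = 0) : PCS φ ↔ PCS (φ.comp Polynomial.C) := by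
  let ψ : AdjoinRoot p →+* S := Ideal.Quotient.lift _ φ fun a ha => by
    obtain ⟨b, rfl⟩ := Ideal.mem_span_singleton'.1 ha
    rw [map_mul, h, mul_zero]
  have h1 : PCS (AdjoinRoot.of p) := by
    haveI := hp.finite_adjoinRoot
    haveI := hp.free_adjoinRoot
    exact (pcs_iff (S := AdjoinRoot p) (AdjoinRoot.algebraMap_eq p)).2 fun k => pc_free k
  have e1 : φ = ψ.comp (AdjoinRoot.mk p) := RingHom.ext fun _ => rfl
  have e2 : φ.comp Polynomial.C = ψ.comp (AdjoinRoot.of p) := RingHom.ext fun _ => rfl
  rw [e1, (pcs_adjoinRoot p hp.isRegular.left).comp_iff, ← e1, e2, h1.comp_iff]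

theorem pcs_iff_constants {A : Type u} [CommRing A] : ∀ {n : ℕ} {B : Type u} [CommRing B]
    (φ : MvPolynomial (Fin n) A →+* B), (∀ i, (φ.comp MvPolynomial.C).IsIntegralElem (φ (X i))) →
    (PCS φ ↔ PCS (φ.comp MvPolynomial.C))
  | 0, B, _, φ, _ => by
    have e : φ.comp MvPolynomial.C = φ.comp (isEmptyRingEquiv A (Fin 0)).symm.toRingHom :=
      congrArg φ.comp (RingHom.ext fun a => rfl)
    rw [e, (pcs_equiv _).comp_iff]
  | n + 1, B, _, φ, h => by
    let e : Polynomial (MvPolynomial (Fin n) A) ≃+* MvPolynomial (Fin (n + 1)) A :=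
      (finSuccEquiv A n).toRingEquiv.symm
    let ψ := φ.comp e.toRingHom
    have hC : (ψ.comp Polynomial.C).comp MvPolynomial.C = φ.comp MvPolynomial.C := by
      refine RingHom.ext fun a => congrArg φ ((finSuccEquiv A n).injective ?_)
      show (finSuccEquiv A n) ((finSuccEquiv A n).symm (Polynomial.C (C a))) = _
      rw [AlgEquiv.apply_symm_apply, finSuccEquiv_apply]
      simp
    have hX : e Polynomial.X = X 0 := (finSuccEquiv A n).injective (by simp [e, finSuccEquiv_X_zero])
    have hXs : ∀ i, e (Polynomial.C (X i)) = X i.succ := fun i =>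
      (finSuccEquiv A n).injective (by simp [e, finSuccEquiv_X_succ])
    obtain ⟨p, hp, hp0⟩ := h 0
    have h1 := pcs_polynomial_iff ψ (hp.map MvPolynomial.C) (by
      conv_lhs => rw [show Polynomial.map MvPolynomial.C p = (p.map MvPolynomial.C).eval₂ Polynomial.C Polynomial.X
        from Polynomial.eval₂_C_X.symm, Polynomial.eval₂_map, Polynomial.hom_eval₂]
      rw [← hp0]
      congr 1
      show φ (e Polynomial.X) = _
      rw [hX])
    have h2 := pcs_iff_constants (ψ.comp Polynomial.C) (fun i => by
      rw [hC]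
      show RingHom.IsIntegralElem _ (φ (e (Polynomial.C (X i))))
      rw [hXs]
      exact h i.succ)
    rw [hC] at h2
    rw [← h2, ← h1, show PCS ψ ↔ PCS φ from (pcs_equiv e).comp_iff φ]

/-- For a module-finite algebra, pseudo-coherence is that of the underlying module. -/
theorem pcHom_iff_module {A B : Type u} [CommRing A] [CommRing B] [Algebra A B] [Module.Finite A B] :
    MoreMor.IsPseudoCoherentHom A B ↔ DRing.IsPseudoCoherentModule' A B := by
  rw [pc'_iff_forall, ← pcs_iff (φ := algebraMap A B) rfl]
  have key : ∀ {n : ℕ} (φ : MvPolynomial (Fin n) A →ₐ[A] B),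
      PCS φ.toRingHom ↔ PCS (algebraMap A B) := fun φ => by
    have e : φ.toRingHom.comp MvPolynomial.C = algebraMap A B := RingHom.ext φ.commutes
    rw [← e]
    exact pcs_iff_constants _ fun i => by
      rw [e]
      exact Algebra.IsIntegral.isIntegral (R := A) _
  constructor
  · intro h
    obtain ⟨n, φ, hφ, hp⟩ := pcHom_iff.1 h
    exact (key φ).1 hp
  · intro h
    obtain ⟨n, φ, hφ⟩ := Algebra.FiniteType.iff_quotient_mvPolynomial''.1
      (inferInstance : Algebra.FiniteType A B)
    exact pcHom_iff.2 ⟨n, φ, hφ, (key φ).2 h⟩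

end Groth.Agent.FlatCx12.PCFiniteModule
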