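import Groth.Agent.FlatCx12.RelPCRing
import Groth.Agent.DQCoh.PscFinite
import Groth.Agent.RelPC.Finite
import Mathlib.AlgebraicGeometry.Morphisms.Finite

/-!
# Relative pseudo-coherence and finite morphisms
-/

set_option autoImplicit false
set_option backward.isDefEq.respectTransparency false
set_option backward.defeqAttrib.useBackward true
set_option linter.style.haveILetI false
set_option synthInstance.maxHeartbeats 100000
set_option backward.isDefEq.respectTransparency.types false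

universe u

open CategoryTheory CategoryTheory.Limits CategoryTheory.Pretriangulated DerivedCategory Opposite TopologicalSpace AlgebraicGeometry
open Groth.Agent.DCat Groth.Agent.DQCoh Groth.Agent.FlatCx12.EmbPush Groth.Agent.FlatCx12.RelPCChart Groth.Agent.FlatCx12.RelPC
open Groth.Agent.FlatCx12.RelPCOps Groth.Agent.FlatCx12.RelPCRing

namespace Groth.Agent.FlatCx12.RelPCFinite

attribute [local instance] HasDerivedCategory.standard
attribute [-instance] Int.instConditionallyCompleteLinearOrder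

variable {X S : Scheme.{u}}

/-- The test on a pair of affine opens is the ring-level notion. -/
theorem testOn_iff_rel (f : X ⟶ S) {U : X.Opens} (hU : IsAffineOpen U) {V : S.Opens} (h : U ≤ f ⁻¹ᵁ V)
    [PreservesFiniteLimits (tilde.functor Γ(X, U))]
    [PreservesFiniteColimits (Scheme.Modules.pushforward hU.isoSpec.hom)] (m : ℤ) (K : DCoh.D X) (M : Dual.D Γ(X, U))
    (e : (DCoh.tildeD Γ(X, U)).obj M ≅ (pd hU.isoSpec.hom).obj ((PerfLocal.rd U.ι).obj K)) :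
    TestOn f m K U V h ↔
      (letI := (f.appLE V U h).hom.toAlgebra; DerCA.IsRelPseudoCoherent Γ(S, V) Γ(X, U) m M) := by
  letI := (f.appLE V U h).hom.toAlgebra
  constructor
  · rintro ⟨n, φ, hφ, hp⟩
    let α : MvPolynomial (Fin n) Γ(S, V) →ₐ[Γ(S, V)] Γ(X, U) :=
      { toRingHom := φ, commutes' := fun a => RingHom.congr_fun hφ.2 a }
    exact ⟨n, α, hφ.1, (along_iff_pc hU φ hφ.1 m K M e).1 ((chartPC_iff m K hU hφ.1).1 hp)⟩
  · rintro ⟨n, α, hα, hp⟩
    exact ⟨n, α.toRingHom, ⟨hα, RingHom.ext fun a => α.commutes a⟩,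
      (chartPC_iff m K hU hα).2 ((along_iff_pc hU α.toRingHom hα m K M e).2 hp)⟩

/-- Derived sections of a direct image along an affine morphism. -/
theorem exists_sections_Rpush {Y : Scheme.{u}} (π : X ⟶ Y) [IsAffineHom π] [DCoh.HasRpush π] (W : Y.Opens)
    (hW : IsAffineOpen W) [PreservesFiniteLimits (tilde.functor Γ(X, π ⁻¹ᵁ W))]
    [PreservesFiniteLimits (tilde.functor Γ(Y, W))]
    [PreservesFiniteColimits (Scheme.Modules.pushforward (hW.preimage π).isoSpec.hom)]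
    [PreservesFiniteColimits (Scheme.Modules.pushforward hW.isoSpec.hom)] (E : DCoh.D X) (hE : DCoh.IsQCohD E) :
    ∃ M : Dual.D Γ(X, π ⁻¹ᵁ W),
      Nonempty ((DCoh.tildeD Γ(X, π ⁻¹ᵁ W)).obj M ≅
        (pd (hW.preimage π).isoSpec.hom).obj ((PerfLocal.rd (π ⁻¹ᵁ W).ι).obj E)) ∧
      Nonempty ((DCoh.tildeD Γ(Y, W)).obj ((DRing.restrictD (π.app W).hom).obj M) ≅
        (pd hW.isoSpec.hom).obj ((PerfLocal.rd W.ι).obj ((DCoh.Rpush π).obj E))) := by
  obtain ⟨M, ⟨e⟩⟩ := exists_sections (hW.preimage π) E hE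
  let α := (hW.preimage π).isoSpec
  let β := hW.isoSpec
  let g := π ∣_ W
  let φ := π.app W
  have hg : α.hom ≫ Spec.map φ = g ≫ β.hom := by
    simp only [α, β, g, φ, IsAffineOpen.isoSpec_hom]
    exact Scheme.Opens.toSpecΓ_naturality π W
  haveI := hasRpush g
  haveI := hasRpush α.hom
  haveI := hasRpush β.hom
  haveI := hasRpush (Spec.map φ)
  haveI := hasRpush (α.hom ≫ Spec.map φ)
  haveI := hasRpush (g ≫ β.hom)
  haveI := PullPerf.preservesFiniteLimits_restrict W.ι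
  haveI := PullPerf.preservesFiniteLimits_restrict (π ⁻¹ᵁ W).ι
  let E' := (PerfLocal.rd (π ⁻¹ᵁ W).ι).obj E
  obtain ⟨c₁⟩ := nonempty_RpushComp α.hom (Spec.map φ)
  obtain ⟨c₂⟩ := nonempty_RpushComp g β.hom
  have hcongr : ∀ {A B : Scheme.{u}} (a b : A ⟶ B) [DCoh.HasRpush a] [DCoh.HasRpush b], a = b →
      Nonempty (DCoh.Rpush a ≅ DCoh.Rpush b) := by
    intro A B a b _ _ h
    subst h
    exact ⟨Iso.refl _⟩
  obtain ⟨d⟩ := hcongr _ _ hg
  obtain ⟨a⟩ := DQCoh.nonempty_Rpush_iso α E'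
  obtain ⟨a'⟩ := nonempty_rd_iso α.symm E'
  obtain ⟨t⟩ := DQCoh.nonempty_tildeD_Rpush φ
  obtain ⟨b⟩ := DQCoh.nonempty_Rpush_iso β ((DCoh.Rpush g).obj E')
  obtain ⟨b'⟩ := nonempty_rd_iso β.symm ((DCoh.Rpush g).obj E')
  exact ⟨M, ⟨e⟩, ⟨(t.app M).symm ≪≫ (DCoh.Rpush (Spec.map φ)).mapIso (e ≪≫ a'.symm ≪≫ a.symm) ≪≫
    c₁.app E' ≪≫ d.app E' ≪≫ (c₂.app E').symm ≪≫ b ≪≫ b' ≪≫
    (pd β.hom).mapIso ((OpenDerived.rpushRestrictIso π W).app E).symm⟩⟩

/-- Relative pseudo-coherence along finite morphisms. -/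
theorem rel_Rpush_iff {Y : Scheme.{u}} (p : X ⟶ S) (q : Y ⟶ S) [LocallyOfFiniteType p] [LocallyOfFiniteType q]
    (π : X ⟶ Y) [IsFinite π] (w : π ≫ q = p) [DCoh.HasRpush π] (m : ℤ) (E : DCoh.D X) (hE : DCoh.IsQCohD E) :
    DerSch.IsPseudoCoherentRel p m E ↔ DerSch.IsPseudoCoherentRel q m ((DCoh.Rpush π).obj E) := by
  subst w
  have key : ∀ (W : Y.affineOpens) (V : S.affineOpens) (hle : (W : Y.Opens) ≤ q ⁻¹ᵁ (V : S.Opens))
      (hle' : π ⁻¹ᵁ (W : Y.Opens) ≤ (π ≫ q) ⁻¹ᵁ (V : S.Opens)),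
      TestOn (π ≫ q) m E (π ⁻¹ᵁ (W : Y.Opens)) V hle' ↔ TestOn q m ((DCoh.Rpush π).obj E) W V hle := by
    intro W V hle hle'
    haveI := AffSchLib.preservesFiniteLimits_tilde (R := Γ(X, π ⁻¹ᵁ W.1))
    haveI := AffSchLib.preservesFiniteLimits_tilde (R := Γ(Y, W.1))
    haveI := preservesFiniteColimits_iso (W.2.preimage π).isoSpec.hom
    haveI := preservesFiniteColimits_iso W.2.isoSpec.hom
    obtain ⟨M, ⟨e⟩, ⟨e'⟩⟩ := exists_sections_Rpush π W.1 W.2 E hE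
    rw [testOn_iff_rel (π ≫ q) (W.2.preimage π) hle' m E M e, testOn_iff_rel q W.2 hle m _ _ e']
    letI := (q.appLE V W hle).hom.toAlgebra
    letI := ((π ≫ q).appLE V (π ⁻¹ᵁ W.1) hle').hom.toAlgebra
    letI := (π.app W.1).hom.toAlgebra
    haveI : IsScalarTower Γ(S, V.1) Γ(Y, W.1) Γ(X, π ⁻¹ᵁ W.1) := .of_algebraMap_eq' (by
      simp only [RingHom.algebraMap_toAlgebra, ← CommRingCat.hom_comp]
      rw [Scheme.Hom.app_eq_appLE, Scheme.Hom.appLE_comp_appLE])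
    haveI : Algebra.FiniteType Γ(S, V.1) Γ(Y, W.1) := q.finiteType_appLE V.2 W.2 hle
    haveI : Algebra.FiniteType Γ(S, V.1) Γ(X, π ⁻¹ᵁ W.1) := (π ≫ q).finiteType_appLE V.2 (W.2.preimage π) hle'
    haveI : Module.Finite Γ(Y, W.1) Γ(X, π ⁻¹ᵁ W.1) := π.finite_app W.1 W.2
    exact Groth.Agent.RelPC.rel_restrict_iff M m
  constructor
  · intro h
    rw [rel_iff] at h ⊢
    exact fun W V hle => (key W V hle fun x hx => hle hx).1 (h ⟨_, W.2.preimage π⟩ V fun x hx => hle hx)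
  · intro h
    rw [rel_iff] at h
    refine rel_of_local fun x => ?_
    obtain ⟨W, V, hle, hxW⟩ := exists_affine_pair q (π x)
    exact ⟨⟨π ⁻¹ᵁ W.1, W.2.preimage π⟩, V, fun y hy => hle hy, hxW, (key W V hle _).2 (h W V hle)⟩

end Groth.Agent.FlatCx12.RelPCFinite
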