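import Groth.Agent.FlatMorStrata.Affine
import Groth.Agent.DCat.NilpotentBC
import Mathlib.RingTheory.Spectrum.Prime.RingHom
import Mathlib.RingTheory.Localization.BaseChange
import Mathlib.Algebra.Module.Torsion.Basic

/-!
# Vanishing of derived tensor products descends along finitely presented covers
-/

set_option autoImplicit false
set_option backward.isDefEq.respectTransparency false
set_option backward.defeqAttrib.useBackward true
set_option linter.style.haveILetI false
set_option backward.isDefEq.respectTransparency.types false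

universe u w

open CategoryTheory CategoryTheory.Limits TensorProduct Function HomologicalComplex
open Groth.Agent.FlatMorStrata

attribute [local instance] HasDerivedCategory.standard

namespace Groth.Agent.FlatCx12.AmpCoverRing

/-- Exactness is detected on a jointly surjective family of flat algebras. -/
theorem exact_of_cover {L : Type u} [CommRing L] {ι : Type w} {T : ι → Type u} [∀ j, CommRing (T j)]
    [∀ j, Algebra L (T j)] [∀ j, Module.Flat L (T j)]
    (hT : ∀ p : PrimeSpectrum L, ∃ j, p ∈ Set.range (PrimeSpectrum.comap (algebraMap L (T j))))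
    {A B C : Type u} [AddCommGroup A] [Module L A] [AddCommGroup B] [Module L B] [AddCommGroup C] [Module L C]
    (f : A →ₗ[L] B) (g : B →ₗ[L] C) (hgf : g ∘ₗ f = 0)
    (h : ∀ j, Exact (f.lTensor (T j)) (g.lTensor (T j))) : Exact f g := by
  intro z
  refine ⟨fun hz => ?_, fun ⟨w, hw⟩ => hw ▸ LinearMap.congr_fun hgf w⟩
  let γ : L →ₗ[L] B ⧸ LinearMap.range f := LinearMap.toSpanSingleton L _ (Submodule.Quotient.mk z)
  let I : Ideal L := LinearMap.ker γ
  suffices hI : I = ⊤ by
    have h1 : (1 : L) ∈ I := hI ▸ Submodule.mem_top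
    rw [LinearMap.mem_ker, LinearMap.toSpanSingleton_apply, one_smul, Submodule.Quotient.mk_eq_zero] at h1
    exact h1
  by_contra hI
  obtain ⟨m, hm, hle⟩ := Ideal.exists_le_maximal I hI
  obtain ⟨j, q, hq⟩ := hT ⟨m, hm.isPrime⟩
  let γ' : L ⧸ I →ₗ[L] B ⧸ LinearMap.range f := I.liftQ γ le_rfl
  have hinj : Injective γ' := LinearMap.ker_eq_bot.1 (Submodule.ker_liftQ_eq_bot _ _ _ le_rfl)
  have hinj' := Module.Flat.lTensor_preserves_injective_linearMap (M := T j) γ' hinj
  have h0 : γ'.lTensor (T j) ((1 : T j) ⊗ₜ[L] Submodule.Quotient.mk 1) = 0 := by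
    rw [LinearMap.lTensor_tmul, show γ' (Submodule.Quotient.mk 1) = (LinearMap.range f).mkQ z from
      ((Submodule.liftQ_apply _ _ _).trans (one_smul L (Submodule.Quotient.mk z)))]
    obtain ⟨w, hw⟩ := (h j ((1 : T j) ⊗ₜ[L] z)).1 (by rw [LinearMap.lTensor_tmul, hz, TensorProduct.tmul_zero])
    rw [← LinearMap.lTensor_tmul, ← hw, ← LinearMap.comp_apply, ← LinearMap.lTensor_comp,
      LinearMap.range_mkQ_comp, LinearMap.lTensor_zero, LinearMap.zero_apply]
  have h1 := hinj' (h0.trans (map_zero _).symm)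
  have hmem : (1 : T j) ∈ I.map (algebraMap L (T j)) := by
    have h2 := congrArg (TensorProduct.comm L (T j) (L ⧸ I)) h1
    rw [TensorProduct.comm_tmul, map_zero] at h2
    have h3 := congrArg (TensorProduct.quotTensorEquivQuotSMul (T j) I) h2
    rw [map_zero, show (Submodule.Quotient.mk 1 : L ⧸ I) = Ideal.Quotient.mk I 1 from rfl,
      TensorProduct.quotTensorEquivQuotSMul_mk_tmul, one_smul, Submodule.Quotient.mk_eq_zero,
      Ideal.smul_top_eq_map] at h3
    exact h3
  refine q.2.ne_top ((Ideal.eq_top_iff_one _).2 (Ideal.map_le_iff_le_comap.2 ?_ hmem))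
  have : q.asIdeal.comap (algebraMap L (T j)) = m := congrArg PrimeSpectrum.asIdeal hq
  rw [this]
  exact hle

variable {R : Type u} [CommRing R] (P : DRing.Cx R)

/-- Exactness of `P ⊗ N` in element form. -/
theorem exactAt_iff_exact (N : ModuleCat.{u} R) (i : ℤ) :
    (DRing.tensorCx P N).ExactAt i ↔
      Exact ((P.d (i - 1) i).hom.lTensor N) ((P.d i (i + 1)).hom.lTensor N) := by
  rw [HomologicalComplex.exactAt_iff' (i := i - 1) (j := i) (k := i + 1) _ (by simp) (by simp),
    ShortComplex.ShortExact.moduleCat_exact_iff_function_exact]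
  exact (Function.Exact.iff_of_ladder_linearEquiv (e₁ := TensorProduct.comm R (P.X (i - 1)) N)
    (e₂ := TensorProduct.comm R (P.X i) N) (e₃ := TensorProduct.comm R (P.X (i + 1)) N)
    (f₁₂ := (P.d (i - 1) i).hom.rTensor N) (f₂₃ := (P.d i (i + 1)).hom.rTensor N)
    (g₁₂ := (P.d (i - 1) i).hom.lTensor N) (g₂₃ := (P.d i (i + 1)).hom.lTensor N)
    (TensorProduct.ext' fun _ _ => rfl) (TensorProduct.ext' fun _ _ => rfl)).symm

variable {P}

/-- A stratum on which all covering algebras are flat. -/
theorem exactAt_stratum {ι : Type w} {S : ι → Type u} [∀ j, CommRing (S j)] [∀ j, Algebra R (S j)]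
    (hcov : ∀ p : PrimeSpectrum R, ∃ j, p ∈ Set.range (PrimeSpectrum.comap (algebraMap R (S j))))
    {i : ℤ} (hS : ∀ (j : ι) (N : ModuleCat.{u} (S j)),
      (DRing.tensorCx P ((ModuleCat.restrictScalars (algebraMap R (S j))).obj N)).ExactAt i)
    (L : Type u) [CommRing L] [Algebra R L] (hflat : ∀ j, Module.Flat L (L ⊗[R] S j))
    (M : Type u) [AddCommGroup M] [Module R M] [Module L M] [IsScalarTower R L M] :
    (DRing.tensorCx P (ModuleCat.of R M)).ExactAt i := by
  rw [exactAt_iff_exact]
  let d₀ := AlgebraTensorModule.lTensor L M (P.d (i - 1) i).hom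
  let d₁ := AlgebraTensorModule.lTensor L M (P.d i (i + 1)).hom
  refine exact_of_cover (T := fun j => L ⊗[R] S j) (fun p => ?_) d₀ d₁ ?_ fun j => ?_
  · obtain ⟨j, hj⟩ := hcov (PrimeSpectrum.comap (algebraMap R L) p)
    refine ⟨j, ?_⟩
    rw [← PrimeSpectrum.nontrivial_iff_mem_rangeComap] at hj
    rw [← PrimeSpectrum.nontrivial_iff_mem_rangeComap]
    let k := (PrimeSpectrum.comap (algebraMap R L) p).asIdeal.ResidueField
    let K := p.asIdeal.ResidueField
    let _ : Algebra k K := (Ideal.ResidueField.map (PrimeSpectrum.comap (algebraMap R L) p).asIdeal p.asIdeal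
      (algebraMap R L) rfl).toAlgebra
    haveI : IsScalarTower R k K := .of_algebraMap_eq fun r => by
      rw [RingHom.algebraMap_toAlgebra, Ideal.ResidueField.map_algebraMap, ← IsScalarTower.algebraMap_apply]
    haveI := Module.FaithfullyFlat.instOfNontrivialOfFree k K
    have h1 : Nontrivial (K ⊗[k] (k ⊗[R] S j)) := Module.FaithfullyFlat.lTensor_nontrivial k K _
    haveI h2 : Nontrivial (K ⊗[R] S j) :=
      (AlgebraTensorModule.cancelBaseChange R k K K (S j)).symm.toEquiv.nontrivial
    exact (AlgebraTensorModule.cancelBaseChange R L K K (S j)).toEquiv.nontrivial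
  · show d₁ ∘ₗ d₀ = 0
    rw [← AlgebraTensorModule.lTensor_comp, ← ModuleCat.hom_comp, P.d_comp_d, ModuleCat.hom_zero]
    exact map_zero _
  · let Tj := L ⊗[R] S j
    let N : Type u := Tj ⊗[L] M
    letI : Algebra (S j) Tj := Algebra.TensorProduct.rightAlgebra
    letI : Module (S j) N := Module.compHom N (algebraMap (S j) Tj)
    let e : N →ₗ[R] ((ModuleCat.restrictScalars (algebraMap R (S j))).obj (ModuleCat.of (S j) N)) :=
      { toFun := id
        map_add' := fun _ _ => rfl
        map_smul' := fun r n => by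
          show r • n = algebraMap (S j) Tj (algebraMap R (S j) r) • n
          rw [RingHom.algebraMap_toAlgebra]
          show r • n = ((1 : L) ⊗ₜ[R] algebraMap R (S j) r) • n
          rw [show (1 : L) ⊗ₜ[R] algebraMap R (S j) r = algebraMap R Tj r by
            rw [Algebra.TensorProduct.algebraMap_apply, Algebra.algebraMap_eq_smul_one, Algebra.algebraMap_eq_smul_one,
              ← TensorProduct.smul_tmul], algebraMap_smul] }
    let e' := LinearEquiv.ofBijective e bijective_id
    have h1 := (exactAt_iff_exact P _ i).1 (hS j (ModuleCat.of (S j) N))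
    let E : ∀ k, (L ⊗[R] S j) ⊗[L] (M ⊗[R] P.X k) ≃ₗ[R]
        ((ModuleCat.restrictScalars (algebraMap R (S j))).obj (ModuleCat.of (S j) N)) ⊗[R] P.X k := fun k =>
      (AlgebraTensorModule.assoc R L L Tj M (P.X k)).symm.restrictScalars R ≪≫ₗ
        TensorProduct.congr e' (LinearEquiv.refl R _)
    refine (Function.Exact.iff_of_ladder_linearEquiv (e₁ := E (i - 1)) (e₂ := E i) (e₃ := E (i + 1))
      (f₁₂ := (d₀.lTensor Tj).restrictScalars R) (f₂₃ := (d₁.lTensor Tj).restrictScalars R) ?_ ?_).1 h1
    all_goals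
      refine LinearMap.ext fun x => ?_
      induction x using TensorProduct.induction_on with
      | zero => simp only [map_zero]
      | add u v hu hv => simp only [map_add, hu, hv]
      | tmul t y =>
        induction y using TensorProduct.induction_on with
        | zero => simp only [TensorProduct.tmul_zero, map_zero]
        | add u v hu hv => simp only [TensorProduct.tmul_add, map_add, hu, hv]
        | tmul m x => rfl

/-- Modules torsion for the powers of one element. -/
theorem exactAt_of_torsion (hPf : DRing.TermwiseFlat P) (a : R) (N : ModuleCat.{u} R)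
    (htor : ∀ x : N, ∃ k : ℕ, a ^ k • x = 0) (i : ℤ)
    (h : ∀ k : ℕ, (DRing.tensorCx P (ModuleCat.of R (Submodule.torsionBy R N (a ^ k)))).ExactAt i) :
    (DRing.tensorCx P N).ExactAt i := by
  rw [exactAt_iff_exact]
  intro z
  refine ⟨fun hz => ?_, ?_⟩
  · obtain ⟨k, z', rfl⟩ : ∃ (k : ℕ) (z' : Submodule.torsionBy R N (a ^ k) ⊗[R] P.X i),
        (Submodule.torsionBy R N (a ^ k)).subtype.rTensor (P.X i) z' = z := by
      clear hz
      induction z using TensorProduct.induction_on with
      | zero => exact ⟨0, 0, map_zero _⟩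
      | tmul x p =>
        obtain ⟨k, hk⟩ := htor x
        exact ⟨k, ⟨x, hk⟩ ⊗ₜ p, rfl⟩
      | add u v hu hv =>
        obtain ⟨k, u', rfl⟩ := hu
        obtain ⟨l, v', rfl⟩ := hv
        let ι₁ := Submodule.inclusion (Submodule.torsionBy_le_torsionBy_of_dvd (R := R) (M := N) (a ^ k)
          (a ^ (max k l)) (pow_dvd_pow a (le_max_left k l)))
        let ι₂ := Submodule.inclusion (Submodule.torsionBy_le_torsionBy_of_dvd (R := R) (M := N) (a ^ l)
          (a ^ (max k l)) (pow_dvd_pow a (le_max_right k l)))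
        exact ⟨max k l, ι₁.rTensor (P.X i) u' + ι₂.rTensor (P.X i) v', by
          rw [map_add, ← LinearMap.comp_apply, ← LinearMap.comp_apply, ← LinearMap.rTensor_comp,
            ← LinearMap.rTensor_comp, Submodule.subtype_comp_inclusion, Submodule.subtype_comp_inclusion]⟩
    let ι := (Submodule.torsionBy R N (a ^ k)).subtype
    haveI := hPf (i + 1)
    have h0 : (P.d i (i + 1)).hom.lTensor (Submodule.torsionBy R N (a ^ k)) z' = 0 := by
      refine Module.Flat.rTensor_preserves_injective_linearMap (M := P.X (i + 1)) ι Subtype.coe_injective ?_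
      rw [map_zero, ← LinearMap.comp_apply, LinearMap.rTensor_comp_lTensor, ← LinearMap.lTensor_comp_rTensor,
        LinearMap.comp_apply]
      exact hz
    obtain ⟨w, hw⟩ := ((exactAt_iff_exact P (ModuleCat.of R (Submodule.torsionBy R N (a ^ k))) i).1 (h k) z').1 h0
    refine ⟨ι.rTensor (P.X (i - 1)) w, ?_⟩
    rw [← hw, ← LinearMap.comp_apply, LinearMap.lTensor_comp_rTensor, ← LinearMap.rTensor_comp_lTensor,
      LinearMap.comp_apply]
  · rintro ⟨w, rfl⟩
    rw [← LinearMap.comp_apply, ← LinearMap.lTensor_comp, ← ModuleCat.hom_comp, P.d_comp_d, ModuleCat.hom_zero,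
      LinearMap.lTensor_zero, LinearMap.zero_apply]

theorem exactAt_left (hPf : DRing.TermwiseFlat P) {S : ShortComplex (ModuleCat.{u} R)} (hS : S.ShortExact) (i : ℤ)
    (h₂ : (DRing.tensorCx P S.X₂).ExactAt i) (h₃ : (DRing.tensorCx P S.X₃).ExactAt (i - 1)) :
    (DRing.tensorCx P S.X₁).ExactAt i := by
  open MonoidalCategory in
  let f : DRing.tensorCx P S.X₁ ⟶ DRing.tensorCx P S.X₂ :=
    (NatTrans.mapHomologicalComplex ((tensoringRight (ModuleCat.{u} R)).map S.f) _).app P
  open MonoidalCategory in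
  let g : DRing.tensorCx P S.X₂ ⟶ DRing.tensorCx P S.X₃ :=
    (NatTrans.mapHomologicalComplex ((tensoringRight (ModuleCat.{u} R)).map S.g) _).app P
  have w : f ≫ g = 0 := by
    refine HomologicalComplex.hom_ext _ _ fun n => ?_
    open MonoidalCategory in show P.X n ◁ S.f ≫ P.X n ◁ S.g = 0
    rw [← MonoidalCategory.whiskerLeft_comp, S.zero]
    exact MonoidalPreadditive.whiskerLeft_zero
  have hT : (ShortComplex.mk f g w).ShortExact := shortExact_of_degreewise_shortExact _ fun n => by
    haveI := hPf n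
    haveI := DCat.preservesFiniteLimits_flip_of_flat (P.X n)
    haveI : PreservesFiniteLimits (MonoidalCategory.tensorLeft (P.X n)) :=
      preservesFiniteLimits_of_natIso (BraidedCategory.tensorLeftIsoTensorRight (P.X n)).symm
    exact hS.map_of_exact (MonoidalCategory.tensorLeft (P.X n))
  rw [exactAt_iff_isZero_homology] at h₂ h₃ ⊢
  exact (hT.homology_exact₁ (i - 1) i (by simp)).isZero_of_both_zeros (h₃.eq_of_src _ _) (h₂.eq_of_tgt _ _)

/-- One step of the dévissage: from the modules killed by `insert a s` and the strata where `a` is invertible. -/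
theorem step (hPf : DRing.TermwiseFlat P) (a : R) (K : Ideal R) (b : ℤ)
    (h₁ : ∀ i < b, ∀ N : ModuleCat.{u} R, (K ⊔ Ideal.span {a}) • (⊤ : Submodule R N) = ⊥ →
      (DRing.tensorCx P N).ExactAt i)
    (h₂ : ∀ i < b, ∀ N : ModuleCat.{u} R, K • (⊤ : Submodule R N) = ⊥ →
      (∀ x : N, ∀ (n : ℕ), a ^ n • x = 0 → x = 0) → (∀ x : N, ∃ y : N, a • y = x) →
      (DRing.tensorCx P N).ExactAt i) :
    ∀ i < b, ∀ N : ModuleCat.{u} R, K • (⊤ : Submodule R N) = ⊥ → (DRing.tensorCx P N).ExactAt i := by
  have hkill : ∀ {N : ModuleCat.{u} R}, K • (⊤ : Submodule R N) = ⊥ → ∀ r ∈ K, ∀ x : N, r • x = 0 :=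
    fun hN r hr x => (Submodule.mem_bot R).1 (hN ▸ Submodule.smul_mem_smul hr (Submodule.mem_top))
  have htor : ∀ i < b, ∀ N : ModuleCat.{u} R, K • (⊤ : Submodule R N) = ⊥ → (∀ x : N, ∃ k : ℕ, a ^ k • x = 0) →
      (DRing.tensorCx P N).ExactAt i := by
    intro i hi N hN ht
    refine exactAt_of_torsion hPf a N ht i fun k => ?_
    refine DCat.exactAt_of_pow_killed (K ⊔ Ideal.span {a}) P hPf i (h₁ i hi) (k + 1) _ (le_bot_iff.1 ?_)
    have hle : (K ⊔ Ideal.span {a}) ^ (k + 1) ≤ K ⊔ Ideal.span {a ^ k} := by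
      induction k with
      | zero => simp
      | succ k ih =>
        rw [pow_succ]
        refine (Ideal.mul_mono_left ih).trans ?_
        rw [Ideal.sup_mul, Ideal.mul_sup, Ideal.mul_sup, Ideal.span_singleton_mul_span_singleton, ← pow_succ]
        exact sup_le (sup_le (le_sup_of_le_left Ideal.mul_le_left) (le_sup_of_le_left Ideal.mul_le_left))
          (sup_le (le_sup_of_le_left Ideal.mul_le_right) le_sup_right)
    refine Submodule.smul_le.2 fun r hr x _ => (Submodule.mem_bot R).2 (Subtype.ext ?_)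
    obtain ⟨u, hu, v, hv, rfl⟩ := Submodule.mem_sup.1 (hle hr)
    obtain ⟨c, rfl⟩ := Ideal.mem_span_singleton'.1 hv
    have hx : a ^ k • (x : N) = 0 := x.2
    show (u + c * a ^ k) • (x : N) = 0
    rw [add_smul, mul_smul, hx, smul_zero, add_zero]
    exact hkill hN u hu _
  intro i hi N hN
  let T := Submonoid.powers a
  let N' : ModuleCat.{u} R := ModuleCat.of R (LocalizedModule T N)
  let l : N →ₗ[R] LocalizedModule T N := LocalizedModule.mkLinearMap T N
  have hN' : K • (⊤ : Submodule R N') = ⊥ := le_bot_iff.1 <| Submodule.smul_le.2 fun r hr y _ => by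
    obtain ⟨⟨x, s⟩, rfl⟩ := IsLocalizedModule.mk'_surjective T l y
    rw [Submodule.mem_bot]
    show r • IsLocalizedModule.mk' l x s = 0
    rw [← IsLocalizedModule.mk'_smul, hkill hN r hr, IsLocalizedModule.mk'_zero]
  -- the kernel, the image and the cokernel of `N → N[1/a]`
  let Kr := LinearMap.ker l
  let Im := LinearMap.range l
  let S₁ : ShortComplex (ModuleCat.{u} R) := ShortComplex.mk (ModuleCat.ofHom Kr.subtype : ModuleCat.of R Kr ⟶ N)
    (ModuleCat.ofHom l.rangeRestrict : N ⟶ ModuleCat.of R Im)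
    (ModuleCat.hom_ext (LinearMap.ext fun x => Subtype.ext x.2))
  have hS₁ : S₁.ShortExact :=
    { exact := (ShortComplex.moduleCat_exact_iff _).2 fun x hx => ⟨⟨x, congrArg Subtype.val hx⟩, rfl⟩
      mono_f := (ModuleCat.mono_iff_injective _).2 Kr.injective_subtype
      epi_g := (ModuleCat.epi_iff_surjective _).2 l.surjective_rangeRestrict }
  let S₂ : ShortComplex (ModuleCat.{u} R) := ShortComplex.mk (ModuleCat.ofHom Im.subtype : ModuleCat.of R Im ⟶ N')
    (ModuleCat.ofHom Im.mkQ : N' ⟶ ModuleCat.of R (LocalizedModule T N ⧸ Im))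
    (ModuleCat.hom_ext (LinearMap.ext fun x => (Submodule.Quotient.mk_eq_zero Im).2 x.2))
  have hS₂ : S₂.ShortExact :=
    { exact := (ShortComplex.moduleCat_exact_iff _).2 fun x hx => ⟨⟨x, (Submodule.Quotient.mk_eq_zero Im).1 hx⟩, rfl⟩
      mono_f := (ModuleCat.mono_iff_injective _).2 Im.injective_subtype
      epi_g := (ModuleCat.epi_iff_surjective _).2 Im.mkQ_surjective }
  refine DCat.exactAt_tensor_ext₂ P hPf hS₁ i (htor i hi _ ?_ fun x => ?_) (exactAt_left hPf hS₂ i ?_ ?_)
  · exact le_bot_iff.1 (Submodule.smul_le.2 fun r hr x _ => (Submodule.mem_bot R).2 (Subtype.ext (hkill hN r hr x.1)))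
  · obtain ⟨⟨_, k, rfl⟩, hk⟩ := (IsLocalizedModule.eq_zero_iff T l).1 x.2
    exact ⟨k, Subtype.ext hk⟩
  · refine h₂ i hi N' hN' (fun x n hx => ?_) fun x => ?_
    · exact IsLocalizedModule.smul_injective l (⟨a ^ n, n, rfl⟩ : T) (hx.trans (smul_zero _).symm)
    · obtain ⟨⟨x, s⟩, rfl⟩ := IsLocalizedModule.mk'_surjective T l x
      refine ⟨IsLocalizedModule.mk' l x (s * ⟨a, 1, pow_one a⟩), ?_⟩
      show a • IsLocalizedModule.mk' l x (s * ⟨a, 1, pow_one a⟩) = IsLocalizedModule.mk' l x s
      rw [← IsLocalizedModule.mk'_smul]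
      exact IsLocalizedModule.mk'_cancel_right l x s ⟨a, 1, pow_one a⟩
  · refine htor (i - 1) (by omega) _ (le_bot_iff.1 (Submodule.smul_le.2 fun r hr y _ => ?_)) fun y => ?_
    · obtain ⟨y, rfl⟩ := Submodule.Quotient.mk_surjective Im y
      rw [Submodule.mem_bot, ← Submodule.Quotient.mk_smul, hkill hN' r hr, Submodule.Quotient.mk_zero]
    · obtain ⟨y, rfl⟩ := Submodule.Quotient.mk_surjective Im y
      obtain ⟨⟨x, ⟨_, k, rfl⟩⟩, hx⟩ := IsLocalizedModule.surj T l y
      exact ⟨k, (Submodule.Quotient.mk_smul Im _ _).symm.trans ((Submodule.Quotient.mk_eq_zero Im).2 ⟨x, hx.symm⟩)⟩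

/-- **Descent of vanishing** of derived tensor products along a finite finitely presented cover. -/
theorem exactAt_of_fp_cover (hPf : DRing.TermwiseFlat P) {ι : Type w} [Finite ι] (S : ι → Type u)
    [∀ j, CommRing (S j)] [∀ j, Algebra R (S j)] [∀ j, Algebra.FinitePresentation R (S j)]
    (hcov : ∀ p : PrimeSpectrum R, ∃ j, p ∈ Set.range (PrimeSpectrum.comap (algebraMap R (S j)))) (b : ℤ)
    (hS : ∀ i < b, ∀ (j : ι) (N : ModuleCat.{u} (S j)),
      (DRing.tensorCx P ((ModuleCat.restrictScalars (algebraMap R (S j))).obj N)).ExactAt i) :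
    ∀ i < b, ∀ N : ModuleCat.{u} R, (DRing.tensorCx P N).ExactAt i := by
  classical
  let Q : AlgProp R := fun L => ∀ j, FlatProp R (S j) L
  have hQ : Reach Q ⊥ ⊤ := by
    have key : ∀ s : Finset ι, Reach (fun (L : Type u) [CommRing L] [Algebra R L] => ∀ j ∈ s, FlatProp R (S j) L) ⊥ ⊤ := fun s => by
      induction s using Finset.induction_on with
      | empty =>
        exact .head bot_le Module.Finite.fg_top (fun L _ _ _ _ j hj => absurd hj (Finset.notMem_empty j))
          (.refl ⊤)
      | insert j s _ ih =>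
        exact ((reach_of_finitePresentation (A := R) (S := S j) (N := S j)).inf Submodule.fg_bot ih).mono
          fun L _ _ h k hk => (Finset.mem_insert.1 hk).elim (fun e => e ▸ h.2) (h.1 k)
    haveI := Fintype.ofFinite ι
    exact (key Finset.univ).mono fun L _ _ h j => h j (Finset.mem_univ j)
  suffices ∀ J J' : Ideal R, Reach Q J J' → J' = ⊤ →
      ∀ i < b, ∀ N : ModuleCat.{u} R, J • (⊤ : Submodule R N) = ⊥ → (DRing.tensorCx P N).ExactAt i from
    fun i hi N => this ⊥ ⊤ hQ rfl i hi N (Submodule.bot_smul _)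
  intro J J' hr
  induction hr with
  | refl J =>
    rintro rfl i hi N hN
    rw [Submodule.top_smul] at hN
    rw [exactAt_iff_exact]
    haveI : Subsingleton N := subsingleton_of_forall_eq 0 fun x =>
      (Submodule.mem_bot R).1 (hN ▸ Submodule.mem_top)
    intro z
    exact ⟨fun _ => ⟨0, Subsingleton.elim _ _⟩, fun ⟨w, hw⟩ => by rw [Subsingleton.elim z 0, map_zero]⟩
  | @head J J₁ J' hle hfg hP _ ih =>
    intro hJ'
    obtain ⟨s, rfl⟩ := hfg
    suffices ∀ t ⊆ s, ∀ i < b, ∀ N : ModuleCat.{u} R, (J ⊔ Ideal.span (↑(s \ t) : Set R)) • (⊤ : Submodule R N) = ⊥ →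
        (DRing.tensorCx P N).ExactAt i by
      intro i hi N hN
      exact this s subset_rfl i hi N (by simpa using hN)
    intro t
    induction t using Finset.induction_on with
    | empty =>
      intro _ i hi N hN
      refine ih hJ' i hi N ?_
      rwa [Finset.sdiff_empty, sup_eq_right.2 hle] at hN
    | @insert a t hat iht =>
      intro hsub
      rw [Finset.insert_subset_iff] at hsub
      let K := J ⊔ Ideal.span (↑(s \ insert a t) : Set R)
      refine step hPf a K b (fun i hi N hN => iht hsub.2 i hi N ?_) fun i hi N hN hinj hsurj => ?_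
      · rw [← hN]
        congr 1
        rw [show s \ t = insert a (s \ insert a t) by grind, Finset.coe_insert, Ideal.span_insert]
        simp only [K]
        ac_rfl
      -- on `a`-divisible modules killed by `J` the stratum applies
      let A := R ⧸ J
      let L := Localization.Away (Ideal.Quotient.mk J a)
      have hJN : Module.IsTorsionBySet R N (J : Set R) := fun x r =>
        (Submodule.mem_bot R).1 (hN ▸ Submodule.smul_mem_smul (Ideal.mem_sup_left r.2 : (r : R) ∈ K) Submodule.mem_top)
      letI : Module A N := hJN.module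
      haveI : IsScalarTower R A N := hJN.isScalarTower
      have hu : ∀ y : Submonoid.powers (Ideal.Quotient.mk J a), IsUnit (algebraMap A (Module.End A N) y) := by
        rintro ⟨_, n, rfl⟩
        rw [map_pow]
        refine IsUnit.pow n ((Module.End.isUnit_iff _).2 ⟨fun x y hxy => ?_, fun x => ?_⟩)
        · refine sub_eq_zero.1 (hinj (x - y) 1 ?_)
          rw [pow_one, smul_sub, sub_eq_zero]
          exact hxy
        · obtain ⟨y, hy⟩ := hsurj x
          exact ⟨y, hy⟩
      haveI : IsLocalizedModule (Submonoid.powers (Ideal.Quotient.mk J a)) (LinearMap.id : N →ₗ[A] N) :=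
        ⟨hu, fun y => ⟨⟨y, 1⟩, by simp⟩, fun {x y} h => ⟨1, by simpa using h⟩⟩
      letI : Module L N := IsLocalizedModule.module (R := A) (Submonoid.powers (Ideal.Quotient.mk J a))
        (LinearMap.id : N →ₗ[A] N)
      haveI : IsScalarTower A L N := IsLocalizedModule.isScalarTower_module _ _
      haveI : IsScalarTower R L N := IsScalarTower.to₁₃₄ R A L N
      refine exactAt_stratum hcov (hS i hi) L (fun j => hP L ?_ ?_ j) N
      · rw [IsScalarTower.algebraMap_eq R A L, ← Ideal.map_map, Ideal.Quotient.algebraMap_eq, Ideal.map_quotient_self,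
          Ideal.map_bot]
      · refine Ideal.eq_top_of_isUnit_mem _ (Ideal.mem_map_of_mem _ (Ideal.subset_span hsub.1)) ?_
        rw [IsScalarTower.algebraMap_apply R A L]
        exact IsLocalization.Away.algebraMap_isUnit (Ideal.Quotient.mk J a)

end Groth.Agent.FlatCx12.AmpCoverRing
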