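import Groth.Agent.DRingLib.PCMore
import Groth.Prelude.Def_MoreMor
import Mathlib.RingTheory.FinitePresentation
import Mathlib.AlgebraicGeometry.Morphisms.FinitePresentation

/-! Pseudo-coherent maps are of finite presentation. -/

set_option autoImplicit false
set_option backward.isDefEq.respectTransparency false
universe u
open CategoryTheory AlgebraicGeometry

namespace Groth.Agent.FlatCx12.PCFinitePresentation

theorem finitePresentation_of_pcHom (A B : Type u) [CommRing A] [CommRing B] [Algebra A B]
    (h : MoreMor.IsPseudoCoherentHom A B) : Algebra.FinitePresentation A B := by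
  obtain ⟨n, φ, hφ, hpc⟩ := h
  letI := φ.toRingHom.toAlgebra
  haveI : Module.FinitePresentation (MvPolynomial (Fin n) A) B :=
    (DRingLib.module_pc_negOne_iff B).1 (DRingLib.pc_of_pc' hpc _)
  haveI : Module.Finite (MvPolynomial (Fin n) A) (MvPolynomial (Fin n) A) := Module.Finite.self _
  have hker : (RingHom.ker φ).FG :=
    Module.FinitePresentation.fg_ker (Algebra.linearMap (MvPolynomial (Fin n) A) B) hφ
  exact Algebra.FinitePresentation.of_surjective hφ hker

theorem lfp_of_pcMor {X S : Scheme.{u}} (f : X ⟶ S) (hf : MoreMor.IsPseudoCoherentMor f) :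
    LocallyOfFinitePresentation f := by
  refine ⟨fun {V} hV {U} hU e => ?_⟩
  letI := (f.appLE V U e).hom.toAlgebra
  exact finitePresentation_of_pcHom Γ(S, V) Γ(X, U) (hf U V hU hV e)

end Groth.Agent.FlatCx12.PCFinitePresentation
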