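import Groth.Agent.RelPC.Local
import Groth.Agent.RelPC.Finite
import Groth.Agent.FlatCx12.PerfectHom
import Groth.Agent.FlatMorPerfect.SourceRing
import Mathlib.RingTheory.Spectrum.Prime.Chevalley
import Mathlib.RingTheory.Flat.FaithfullyFlat.Algebra
import Mathlib.RingTheory.Etale.StandardEtale

/-!
# Descent of relative pseudo-coherence along finite flat and etale covers
-/

set_option autoImplicit false
set_option backward.isDefEq.respectTransparency false
set_option backward.defeqAttrib.useBackward true
set_option linter.style.haveILetI false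
set_option backward.isDefEq.respectTransparency.types false

universe u

open CategoryTheory CategoryTheory.Limits MvPolynomial
open scoped TensorProduct

attribute [local instance] HasDerivedCategory.standard

namespace Groth.Agent.FlatCx12.RelDescRing

open Groth.Agent.DRingLib Groth.Agent.FlatMorPerfect Groth.Agent.RelPC
open Groth.Agent.CAlgSmall.PCZariski (Ext ExtC nonempty_lbaseChange_iso pc_descend_family)

variable {R A B C : Type u} [CommRing R] [CommRing A] [CommRing B] [CommRing C]

theorem relModuleAll_of_pcHom [Algebra A B] (h : MoreMor.IsPseudoCoherentHom A B) :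
    DerCA.IsRelPseudoCoherentModuleAll A B B := fun m => by
  obtain ⟨n, φ, hφ, hp⟩ := pcHom_iff.1 h
  exact (relModule_iff φ hφ (ModuleCat.of B B) m).2 (pcs_module hp m)

/-- Termwise extension of scalars composes. -/
noncomputable def extCompIso (φ : A →+* B) (ψ : B →+* C) (L : DRing.Cx A) :
    DRing.toD ((ExtC C (ψ.comp φ)).obj L) ≅ DRing.toD ((ExtC C ψ).obj ((ExtC B φ).obj L)) :=
  DerivedCategory.Q.mapIso ((NatIso.mapHomologicalComplex (ModuleCat.extendScalarsComp φ ψ) (ComplexShape.up ℤ)).app L)

/-- Along a faithfully flat map upper bounds descend. -/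
theorem isLE_of_ff [Algebra A B] [Module.FaithfullyFlat A B] (L : DRing.Cx A) (b : ℤ)
    (h : (DRing.toD ((ExtC B (algebraMap A B)).obj L)).IsLE b) : (DRing.toD L).IsLE b := by
  haveI := h
  refine (DerivedCategory.isLE_iff _ _).2 fun q hq => IsZero.of_iso ?_ (HQ L q)
  have h1 := (Groth.Agent.CAlgSmall.PCZariski.ext_tensor_iff (A := B) (L.homology q)).1
    (Groth.Agent.CAlgSmall.PCZariski.isZero_ext_homology _ (RingHom.flat_algebraMap_iff.2 inferInstance) L q
      ((DerivedCategory.isZero_of_isLE _ b q hq).of_iso (HQ _ q).symm))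
  haveI := Module.FaithfullyFlat.lTensor_reflects_triviality A B (L.homology q)
  exact (ModuleCat.isZero_iff_subsingleton (M := L.homology q)).2 this

theorem exists_retraction [Algebra A B] [Module.Finite A B] [Module.Projective A B] [Module.FaithfullyFlat A B] :
    ∃ f : B →ₗ[A] A, f 1 = 1 := by
  obtain ⟨n, p, i, -, -, hpi⟩ := Module.Finite.exists_comp_eq_id_of_projective A B
  let I : Ideal A := LinearMap.range (LinearMap.applyₗ (R := A) (1 : B) : (B →ₗ[A] A) →ₗ[A] A)
  suffices h : I = ⊤ by exact (h.symm ▸ Submodule.mem_top : (1 : A) ∈ I)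
  by_contra hne
  obtain ⟨M, hM, hle⟩ := Ideal.exists_le_maximal _ hne
  have h1 : (1 : B) ∈ M • (⊤ : Submodule A B) := by
    have e : p (i 1) = 1 := LinearMap.congr_fun hpi 1
    rw [← e, pi_eq_sum_univ (i 1), map_sum]
    refine Submodule.sum_mem _ fun j _ => ?_
    rw [map_smul]
    exact Submodule.smul_mem_smul (hle ⟨(LinearMap.proj j).comp i, rfl⟩) Submodule.mem_top
  refine Module.FaithfullyFlat.submodule_ne_top (R := A) (M := B) hM (top_unique fun x _ => ?_)
  rw [Ideal.smul_top_eq_map] at h1 ⊢
  have : Ideal.map (algebraMap A B) M = ⊤ := (Ideal.eq_top_iff_one _).2 h1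
  rw [this]
  trivial

/-- Finiteness descends along jointly surjective flat families. -/
theorem finite_of_family {P : Type u} [CommRing P] {ι : Type} [Finite ι] (S : ι → Type u) [∀ i, CommRing (S i)]
    [∀ i, Algebra P (S i)] [∀ i, Module.Flat P (S i)]
    (hsurj : ∀ p : PrimeSpectrum P, ∃ i, p ∈ Set.range (PrimeSpectrum.comap (algebraMap P (S i))))
    (M : Type u) [AddCommGroup M] [Module P M] (h : ∀ i, Module.Finite (S i) (S i ⊗[P] M)) : Module.Finite P M :=
  pc_zero_iff.1 (pc_of_family S hsurj 0 M fun i => pc_zero_iff.2 (h i))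

theorem isZero_iff_ext {P : Type u} [CommRing P] {A : Type u} [CommRing A] [inst : Algebra P A] (M : ModuleCat.{u} P) :
    IsZero ((Ext A (algebraMap P A)).obj M) ↔ Subsingleton (A ⊗[P] M) := by
  have key : ∀ (φ : P →+* A) (i' : Algebra P A), φ.toAlgebra = i' →
      (IsZero ((Ext A φ).obj M) ↔ (letI := i'; Subsingleton (A ⊗[P] M))) := by
    rintro φ _ rfl
    exact ModuleCat.isZero_iff_subsingleton (M := (Ext A φ).obj M)
  exact key (algebraMap P A) inst (Algebra.algebra_ext _ _ fun _ => rfl)

theorem subsingleton_ext_away {P : Type u} [CommRing P] [Algebra P A] {h₀ : P} (hh₀ : h₀ ∈ RingHom.ker (algebraMap P A))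
    (M : ModuleCat.{u} A) :
    Subsingleton ((ModuleCat.extendScalars.{u, u, u} (algebraMap P (Localization.Away h₀))).obj
      ((ModuleCat.restrictScalars.{u} (algebraMap P A)).obj M)) := by
  let N := (ModuleCat.restrictScalars.{u} (algebraMap P A)).obj M
  have hz : ∀ x : N, h₀ • x = 0 := fun x => by
    show (algebraMap P A h₀) • (show M from x) = 0
    rw [RingHom.mem_ker.1 hh₀, zero_smul]
  haveI : Subsingleton (Localization.Away h₀ ⊗[P] N) := by
    refine subsingleton_of_forall_eq 0 fun z => ?_
    induction z using TensorProduct.induction_on with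
    | zero => rfl
    | add x y hx hy => rw [hx, hy, add_zero]
    | tmul x y =>
      have : x = h₀ • (IsLocalization.Away.invSelf h₀ * x) := by
        rw [Algebra.smul_def, ← mul_assoc, IsLocalization.Away.mul_invSelf, one_mul]
      rw [this, TensorProduct.smul_tmul, hz, TensorProduct.tmul_zero]
  exact ModuleCat.subsingleton_of_isZero (M := (Ext (Localization.Away h₀) (algebraMap P (Localization.Away h₀))).obj N)
    ((isZero_iff_ext (A := Localization.Away h₀) N).2 this)

/-- A standard etale lift gives a cocartesian square. -/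
theorem cocartesian_lift {P T U : Type u} [CommRing P] [CommRing T] [CommRing U] [Algebra P T] [Algebra A U]
    (α : P →+* A) (hα : Function.Surjective α) [Algebra P U]
    (σ : T →ₐ[P] U) (hσ : Function.Surjective σ) (hker : RingHom.ker σ = (RingHom.ker α).map (algebraMap P T))
    (hc : (σ : T →+* U).comp (algebraMap P T) = (algebraMap A U).comp α) :
    IsCocartesian P T A U α (algebraMap P T) (algebraMap A U) (σ : T →+* U) hc := by
  letI := α.toAlgebra
  letI := (σ : T →+* U).toAlgebra
  haveI hsA : IsScalarTower P A U := .of_algebraMap_eq fun x => ((σ.commutes x).symm.trans (RingHom.congr_fun hc x))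
  haveI hsT : IsScalarTower P T U := .of_algebraMap_eq fun x => (σ.commutes x).symm
  have h : Algebra.IsPushout P T A U := by
    let f : T ⊗[P] A →ₐ[T] U := Algebra.TensorProduct.lift (Algebra.ofId T U) (IsScalarTower.toAlgHom P A U)
      fun _ _ => Commute.all _ _
    have hgen : ∀ z : T ⊗[P] A, ∃ x : T, x ⊗ₜ (1 : A) = z := by
      intro z
      induction z using TensorProduct.induction_on with
      | zero => exact ⟨0, TensorProduct.zero_tmul _ _⟩
      | add x y hx hy =>
        obtain ⟨u, rfl⟩ := hx
        obtain ⟨v, rfl⟩ := hy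
        exact ⟨u + v, TensorProduct.add_tmul _ _ _⟩
      | tmul x a =>
        obtain ⟨p, rfl⟩ := hα a
        refine ⟨p • x, ?_⟩
        rw [TensorProduct.smul_tmul, Algebra.smul_def, mul_one]
        rfl
    have hbij : Function.Bijective f := by
      refine ⟨(injective_iff_map_eq_zero f).2 fun z hz => ?_, fun y => ?_⟩
      · obtain ⟨x, rfl⟩ := hgen z
        have hx : x ∈ (RingHom.ker α).map (algebraMap P T) := by
          rw [← hker, RingHom.mem_ker]
          simpa [f, RingHom.algebraMap_toAlgebra] using hz
        refine (Ideal.mem_comap (f := (Algebra.TensorProduct.includeLeft : T →ₐ[T] T ⊗[P] A).toRingHom)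
          (K := ⊥)).1 (Ideal.map_le_iff_le_comap.2 (fun p hp => ?_) hx)
        show (algebraMap P T p) ⊗ₜ[P] (1 : A) = 0
        rw [Algebra.algebraMap_eq_smul_one, TensorProduct.smul_tmul, ← Algebra.algebraMap_eq_smul_one,
          show algebraMap P A p = 0 from hp, TensorProduct.tmul_zero]
      · obtain ⟨x, rfl⟩ := hσ y
        exact ⟨x ⊗ₜ 1, by simp [f, RingHom.algebraMap_toAlgebra]⟩
    exact ⟨IsBaseChange.of_equiv (AlgEquiv.ofBijective f hbij).toLinearEquiv fun a => by simp [f]⟩
  unfold IsCocartesian
  convert h using 0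
  congr! 1
  all_goals exact Algebra.algebra_ext _ _ fun x => by first | rfl | exact (RingHom.congr_fun hc x).symm | exact ((σ.commutes x).symm.trans (RingHom.congr_fun hc x)) | exact ((σ.commutes x).symm.trans (RingHom.congr_fun hc x)).symm

variable [Algebra R A] [Algebra A B] [Algebra R B] [IsScalarTower R A B]

/-- Derived base change along a pseudo-coherent algebra. -/
theorem rel_lbaseChange_pc [Algebra.FiniteType R A] (hB : MoreMor.IsPseudoCoherentHom A B)
    [DRing.HasLBaseChange (algebraMap A B)] {K : Dual.D A} {m : ℤ} (hK : DerCA.IsRelPseudoCoherent R A m K) :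
    DerCA.IsRelPseudoCoherent R B m ((DRing.LBaseChange (algebraMap A B)).obj K) :=
  haveI := pcHom_finiteType hB
  rel_lbaseChange (relModuleAll_of_pcHom hB) hK

/-- Descent along a finite faithfully flat algebra. -/
theorem rel_descend_finite [Algebra.FiniteType R A] [Module.Finite A B] [Module.Projective A B]
    [Module.FaithfullyFlat A B] (L : DRing.Cx A) {m : ℤ}
    (h : DerCA.IsRelPseudoCoherent R B m (DRing.toD ((ExtC B (algebraMap A B)).obj L))) :
    DerCA.IsRelPseudoCoherent R A m (DRing.toD L) := by
  rw [rel_restrict_iff (A := A)] at h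
  obtain ⟨f, hf⟩ := exists_retraction (A := A) (B := B)
  let φ := algebraMap A B
  let η := (ModuleCat.extendRestrictScalarsAdj.{u, u, u} φ).unit
  have key : ∀ (ψ : A →+* B) (f : B →+ A), (∀ a x, f (ψ a * x) = a * f x) → f 1 = 1 →
      Nonempty { ρ : ModuleCat.extendScalars.{u, u, u} ψ ⋙ ModuleCat.restrictScalars.{u} ψ ⟶ 𝟭 (ModuleCat.{u} A) //
        (ModuleCat.extendRestrictScalarsAdj.{u, u, u} ψ).unit ≫ ρ = 𝟙 _ } := by
    intro ψ f hf hf1
    letI := ψ.toAlgebra
    let g : ∀ M : ModuleCat.{u} A, B ⊗[A] M →+ M := fun M =>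
      (TensorProduct.lift (LinearMap.mk₂ A (fun b m => f b • m)
        (fun b b' m => by rw [map_add, add_smul]) (fun a b m => by
          rw [show a • b = ψ a * b from rfl, hf, mul_smul])
        (fun b m m' => smul_add _ _ _) (fun a b m => smul_comm _ _ _))).toAddMonoidHom
    have hg : ∀ (M : ModuleCat.{u} A) (a : A) (x : B ⊗[A] M), g M (ψ a • x) = a • g M x := by
      intro M a x
      induction x using TensorProduct.induction_on with
      | zero => rw [smul_zero, map_zero, smul_zero]
      | add x y hx hy => rw [smul_add, map_add, hx, hy, map_add, smul_add]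
      | tmul b m =>
        show f (ψ a * b) • m = a • (f b • m)
        rw [hf, mul_smul]
    refine ⟨⟨{ app := fun M => ModuleCat.ofHom (X := (ModuleCat.restrictScalars.{u} ψ).obj ((ModuleCat.extendScalars.{u, u, u} ψ).obj M))
                (Y := M) { toFun := g M, map_add' := (g M).map_add, map_smul' := fun a x => hg M a x }
               naturality := fun M N l => ?_ }, ?_⟩⟩
    · refine ModuleCat.hom_ext (LinearMap.ext fun x => ?_)
      induction x using TensorProduct.induction_on with
      | zero => exact (map_zero _).trans (map_zero _).symm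
      | add x y hx hy => exact (map_add _ x y).trans ((congrArg₂ (· + ·) hx hy).trans (map_add _ x y).symm)
      | tmul b m => exact (l.hom.map_smul (f b) m).symm
    · refine NatTrans.ext (funext fun M => ModuleCat.hom_ext (LinearMap.ext fun x => ?_))
      show f 1 • x = x
      rw [hf1, one_smul]
  obtain ⟨⟨ρ, hρ⟩⟩ := key φ f.toAddMonoidHom (fun a x => by
    show f (φ a * x) = a * f x
    rw [← Algebra.smul_def, map_smul, smul_eq_mul]) hf
  let F := (ModuleCat.restrictScalars.{u} φ).mapDerivedCategoryFactors.app ((ExtC B φ).obj L)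
  let u₁ : L ⟶ ((ModuleCat.restrictScalars.{u} φ).mapHomologicalComplex (ComplexShape.up ℤ)).obj ((ExtC B φ).obj L) :=
    { f := fun n => η.app (L.X n), comm' := fun i j _ => (η.naturality (L.d i j)).symm }
  let u₂ : ((ModuleCat.restrictScalars.{u} φ).mapHomologicalComplex (ComplexShape.up ℤ)).obj ((ExtC B φ).obj L) ⟶ L :=
    { f := fun n => ρ.app (L.X n), comm' := fun i j _ => (ρ.naturality (L.d i j)).symm }
  have hu : u₁ ≫ u₂ = 𝟙 L := HomologicalComplex.hom_ext _ _ fun n => NatTrans.congr_app hρ (L.X n)
  exact rel_retract (Retract.mk (DerivedCategory.Q.map u₁ ≫ F.inv) (F.hom ≫ DerivedCategory.Q.map u₂)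
    (by rw [Category.assoc, F.inv_hom_id_assoc, ← Functor.map_comp, hu, CategoryTheory.Functor.map_id])) h

/-- Pseudo-coherence over a flat algebra of finite presentation surjecting onto the target. -/
theorem pc_of_rel_surj {T : Type u} [CommRing T] [Algebra R T] [Module.Flat R T] [Algebra.FinitePresentation R T]
    [Algebra R C] (σ : T →ₐ[R] C) (hσ : Function.Surjective σ) (K : Dual.D C) (m : ℤ)
    (h : DerCA.IsRelPseudoCoherent R C m K) :
    DRing.IsPseudoCoherent T m ((DRing.restrictD (σ : T →+* C)).obj K) := by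
  obtain ⟨n, π, hπ, hp⟩ := pcHom_iff.1 (PerfectHom.pcHom_of_flat R T)
  exact (pc_restrict_comp_iff hp (σ : T →+* C) _ rfl K m).1 ((rel_iff (σ.comp π) (hσ.comp hπ) K m).1 h)

/-- Descent along a faithfully flat etale algebra. -/
theorem rel_descend_etale [Algebra.FiniteType R A] [Algebra.Etale A B] [Module.FaithfullyFlat A B] (L : DRing.Cx A)
    {m : ℤ} (h : DerCA.IsRelPseudoCoherent R B m (DRing.toD ((ExtC B (algebraMap A B)).obj L))) :
    DerCA.IsRelPseudoCoherent R A m (DRing.toD L) := by
  classical
  obtain ⟨n, α, hα⟩ := exists_presentation (R := R) (A := A)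
  haveI : Algebra.FiniteType R B := Algebra.FiniteType.trans (S := A) inferInstance inferInstance
  obtain ⟨k, β, hβ⟩ := exists_presentation (R := R) (A := B)
  obtain ⟨b, hb⟩ := exists_isLE_of_pc ((rel_iff β hβ _ m).1 h)
  have hLb : (DRing.toD L).IsLE b := isLE_of_ff (B := B) L b ((isLE_restrict_iff _ _ b).1 hb)
  rw [rel_iff α hα]
  let P := MvPolynomial (Fin n) R
  letI := (α : P →+* A).toAlgebra
  letI : Algebra P B := ((algebraMap A B).comp (α : P →+* A)).toAlgebra
  haveI : IsScalarTower P A B := .of_algebraMap_eq fun _ => rfl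
  haveI : IsScalarTower R P A := .of_algHom α
  haveI : IsScalarTower R P B := .of_algebraMap_eq fun a => by
    show algebraMap R B a = algebraMap A B (α (algebraMap R P a))
    rw [α.commutes, ← IsScalarTower.algebraMap_apply]
  obtain ⟨t, ht, hstd⟩ := AlgSpLib.exists_standard_cover (A := A) (B := B)
  have hlift : ∀ b : t, ∃ (pr : StandardEtalePair P) (σ : pr.Ring →ₐ[P] Localization.Away b.1),
      Function.Surjective σ ∧ RingHom.ker σ = (RingHom.ker (algebraMap P A)).map (algebraMap P pr.Ring) := fun b =>
    haveI := hstd b b.2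
    AlgSpLib.exists_lift_standardEtale hα
  choose pr σ hσs hσk using hlift
  let W : Set (PrimeSpectrum P) := ⋃ b : t, Set.range (PrimeSpectrum.comap (algebraMap P (pr b).Ring))
  have hW : IsOpen W := isOpen_iUnion fun b =>
    (PrimeSpectrum.isOpenMap_comap_of_hasGoingDown_of_finitePresentation).isOpen_range
  let I : Ideal P := RingHom.ker (algebraMap P A)
  have hVI : PrimeSpectrum.zeroLocus (I : Set P) ⊆ W := by
    intro x hx
    obtain ⟨x', hx'⟩ : x ∈ Set.range (PrimeSpectrum.comap (algebraMap P A)) := by
      rw [range_comap_of_surjective _ (algebraMap P A) hα]; exact hx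
    obtain ⟨Q, hQ⟩ := PrimeSpectrum.comap_surjective_of_faithfullyFlat (A := A) (B := B) x'
    obtain ⟨b, hb, hbQ⟩ : ∃ b ∈ t, b ∉ Q.asIdeal := by
      by_contra hcon
      push Not at hcon
      exact Q.2.ne_top (top_le_iff.1 (ht.symm.le.trans (Ideal.span_le.2 hcon)))
    obtain ⟨Q', hQ'⟩ : Q ∈ Set.range (PrimeSpectrum.comap (algebraMap B (Localization.Away b))) := by
      rw [PrimeSpectrum.localization_away_comap_range _ b]; exact hbQ
    refine Set.mem_iUnion.2 ⟨⟨b, hb⟩, PrimeSpectrum.comap (σ ⟨b, hb⟩).toRingHom Q', ?_⟩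
    rw [← hx', ← hQ, ← hQ', ← PrimeSpectrum.comap_comp_apply, ← PrimeSpectrum.comap_comp_apply,
      ← PrimeSpectrum.comap_comp_apply]
    congr 1
    exact RingHom.ext fun y => ((σ ⟨b, hb⟩).commutes y).trans
      (IsScalarTower.algebraMap_apply P B (Localization.Away b) y)
  obtain ⟨Z, hZ⟩ : ∃ Z : Ideal P, PrimeSpectrum.zeroLocus (Z : Set P) = Wᶜ := by
    obtain ⟨Z, hZ⟩ := (PrimeSpectrum.isClosed_iff_zeroLocus_ideal _).1 hW.isClosed_compl
    exact ⟨Z, hZ.symm⟩
  have htop : I ⊔ Z = ⊤ := by
    rw [← PrimeSpectrum.zeroLocus_empty_iff_eq_top, PrimeSpectrum.zeroLocus_sup, hZ]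
    exact Set.eq_empty_of_forall_notMem fun x hx => hx.2 (hVI hx.1)
  obtain ⟨h₀, hh₀, z, hz, hsum⟩ := Submodule.mem_sup.1 ((Ideal.eq_top_iff_one _).1 htop)
  let S : Option (Fin t.card) → Type u := fun o =>
    o.elim (Localization.Away h₀) fun j => (pr (t.equivFin.symm j)).Ring
  letI : ∀ o, CommRing (S o) := fun o => by cases o <;> dsimp only [S, Option.elim] <;> infer_instance
  letI : ∀ o, Algebra P (S o) := fun o => by cases o <;> dsimp only [S, Option.elim] <;> infer_instance
  haveI hflat : ∀ o, Module.Flat P (S o) := fun o => by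
    cases o with
    | none => exact IsLocalization.flat (Localization.Away h₀) (Submonoid.powers h₀)
    | some j => exact (inferInstance : Module.Flat P (pr (t.equivFin.symm j)).Ring)
  have hsurj : ∀ x : PrimeSpectrum P, ∃ o, x ∈ Set.range (PrimeSpectrum.comap (algebraMap P (S o))) := by
    intro x
    by_cases hx : h₀ ∈ x.asIdeal
    · have hxW : x ∈ W := by
        by_contra hx'
        have hzx : z ∈ x.asIdeal := (hZ.symm.le hx' : x ∈ PrimeSpectrum.zeroLocus (Z : Set P)) hz
        exact x.2.ne_top ((Ideal.eq_top_iff_one _).2 (hsum ▸ add_mem hx hzx))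
      obtain ⟨b, hb⟩ := Set.mem_iUnion.1 hxW
      refine ⟨some (t.equivFin b), ?_⟩
      show x ∈ Set.range (PrimeSpectrum.comap (algebraMap P (pr (t.equivFin.symm (t.equivFin b))).Ring))
      rw [Equiv.symm_apply_apply]
      exact hb
    · refine ⟨none, ?_⟩
      show x ∈ Set.range (PrimeSpectrum.comap (algebraMap P (Localization.Away h₀)))
      rw [PrimeSpectrum.localization_away_comap_range _ h₀]
      exact hx
  haveI : ∀ o, DRing.HasLBaseChange (algebraMap P (S o)) := fun o => DCat.hasLBaseChange _
  refine pc_descend_family (fun o => algebraMap P (S o)) (fun M hM => ?_) m (b + 1 - m).toNat b _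
    ((isLE_restrict_iff _ _ b).2 hLb) (by omega) fun o => ?_
  · refine finite_of_family S hsurj M fun o => ?_
    exact (Groth.Agent.CAlgSmall.PCZariski.ext_tensor_iff (A := S o) M).2 (hM o)
  let M₀ := ((ModuleCat.restrictScalars.{u} (α : P →+* A)).mapHomologicalComplex (ComplexShape.up ℤ)).obj L
  let e₀ : (DRing.restrictD (α : P →+* A)).obj (DRing.toD L) ≅ DRing.toD M₀ :=
    (ModuleCat.restrictScalars.{u} (α : P →+* A)).mapDerivedCategoryFactors.app L
  obtain ⟨e₁⟩ := nonempty_lbaseChange_iso (algebraMap P (S o)) (RingHom.flat_algebraMap_iff.2 (hflat o)) M₀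
  refine pc_iso ((DRing.LBaseChange (algebraMap P (S o))).mapIso e₀ ≪≫ e₁).symm ?_
  cases o with
  | none =>
    have hz : IsZero ((ExtC (Localization.Away h₀) (algebraMap P (Localization.Away h₀))).obj M₀) :=
      (IsZero.iff_id_eq_zero _).2 (HomologicalComplex.hom_ext _ _ fun i =>
        ((ModuleCat.isZero_iff_subsingleton (M := ((ExtC (Localization.Away h₀)
          (algebraMap P (Localization.Away h₀))).obj M₀).X i)).2
            (subsingleton_ext_away hh₀ (L.X i))).eq_of_src _ _)
    exact @pc_of_isLE _ _ m (m - 1) (by omega) _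
      (DerivedCategory.TStructure.t.isLE_of_isZero (DerivedCategory.Q.map_isZero hz) _)
  | some j =>
    let b' := t.equivFin.symm j
    let T := (pr b').Ring
    letI : Algebra A (Localization.Away b'.1) := inferInstance
    haveI : IsScalarTower R P (Localization.Away b'.1) := .of_algebraMap_eq fun a => by
      rw [IsScalarTower.algebraMap_apply R B (Localization.Away b'.1), IsScalarTower.algebraMap_apply R P B,
        ← IsScalarTower.algebraMap_apply P B (Localization.Away b'.1)]
    have hc : (σ b' : T →+* Localization.Away b'.1).comp (algebraMap P T) =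
        (algebraMap A (Localization.Away b'.1)).comp (α : P →+* A) :=
      RingHom.ext fun x => ((σ b').commutes x).trans (IsScalarTower.algebraMap_apply P A (Localization.Away b'.1) x)
    have hcc : IsCocartesian P T A (Localization.Away b'.1) (α : P →+* A) (algebraMap P T)
        (algebraMap A (Localization.Away b'.1)) (σ b' : T →+* Localization.Away b'.1) hc :=
      cocartesian_lift (α : P →+* A) hα (σ b') (hσs b') (hσk b') hc
    letI : Algebra R T := ((algebraMap P T).comp (algebraMap R P)).toAlgebra
    haveI : IsScalarTower R P T := .of_algebraMap_eq fun _ => rfl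
    haveI : Algebra.FinitePresentation R T := .trans R P T
    haveI : Module.Flat R T := .trans R P T
    let Lb := (ExtC (Localization.Away b'.1) (algebraMap A (Localization.Away b'.1))).obj L
    refine pc_iso ((ModuleCat.restrictScalars.{u} (σ b' : T →+* Localization.Away b'.1)).mapDerivedCategoryFactors.app Lb ≪≫
      DerivedCategory.Q.mapIso ((NatIso.mapHomologicalComplex (extRestrictIso _ _ _ _ (α : P →+* A) (algebraMap P T)
        (algebraMap A (Localization.Away b'.1)) (σ b' : T →+* Localization.Away b'.1) hc hcc) (ComplexShape.up ℤ)).app L).symm) ?_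
    refine pc_of_rel_surj (T := T) ((σ b').restrictScalars R) (hσs b') _ m (rel_iso ?_ (rel_away b'.1 _ h))
    exact (extCompIso (algebraMap A B) (algebraMap B (Localization.Away b'.1)) L).symm ≪≫
      eqToIso (by rw [← IsScalarTower.algebraMap_eq])

end Groth.Agent.FlatCx12.RelDescRing
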