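import Groth.Agent.FlatCx12.RelPCFinite
import Groth.Agent.FlatCx12.RelDescRing
import Groth.Agent.FlatMorPerfect.Source

/-!
# Relative pseudo-coherence is fppf local on the source
-/

set_option autoImplicit false
set_option backward.isDefEq.respectTransparency false
set_option backward.defeqAttrib.useBackward true
set_option linter.style.haveILetI false
set_option synthInstance.maxHeartbeats 100000
set_option backward.isDefEq.respectTransparency.types false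

universe u

open CategoryTheory CategoryTheory.Limits CategoryTheory.Pretriangulated DerivedCategory Opposite TopologicalSpace AlgebraicGeometry
open Groth.Agent.DCat Groth.Agent.DQCoh Groth.Agent.FlatCx12.EmbPush Groth.Agent.FlatCx12.RelPCChart Groth.Agent.FlatCx12.RelPC
open Groth.Agent.FlatCx12.RelPCOps Groth.Agent.FlatCx12.RelPCRing Groth.Agent.FlatCx12.RelPCFinite
open Groth.Agent.FlatMorPerfect

namespace Groth.Agent.FlatCx12.RelDescScheme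

attribute [local instance] HasDerivedCategory.standard
attribute [-instance] Int.instConditionallyCompleteLinearOrder

local instance preservesFiniteLimits_tilde' (R : CommRingCat.{u}) : PreservesFiniteLimits (tilde.functor R) :=
  AffSchLib.preservesFiniteLimits_tilde R

variable {X Y S : Scheme.{u}}

/-- `M` is the complex of derived sections of `E` over the affine open `U`. -/
def IsSec (E : DCoh.D X) {U : X.Opens} (hU : IsAffineOpen U) (M : Dual.D Γ(X, U)) : Prop :=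
  Nonempty ((DCoh.tildeD Γ(X, U)).obj M ≅ (PerfLocal.rd hU.fromSpec).obj E)

theorem exists_sec {E : DCoh.D X} (hE : DCoh.IsQCohD E) {U : X.Opens} (hU : IsAffineOpen U) :
    ∃ M : Dual.D Γ(X, U), IsSec E hU M :=
  ((tildeD_main Γ(X, U)).2.2 _).1 (isQCohD_rd hU.fromSpec hE)

/-- Derived sections of a derived pullback. -/
theorem isSec_Lpull (g : Y ⟶ X) [DCoh.HasLpull g] {E : DCoh.D X} {U : X.Opens} (hU : IsAffineOpen U)
    {N : Y.Opens} (hN : IsAffineOpen N) (e : N ≤ g ⁻¹ᵁ U) [DRing.HasLBaseChange (g.appLE U N e).hom]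
    {M : Dual.D Γ(X, U)} (hM : IsSec E hU M) :
    IsSec ((DCoh.Lpull g).obj E) hN ((DRing.LBaseChange (g.appLE U N e).hom).obj M) := by
  obtain ⟨i⟩ := hM
  let φ := g.appLE U N e
  haveI := hasLpull (Spec.map φ)
  haveI := hasLpull hU.fromSpec
  haveI := hasLpull hN.fromSpec
  haveI := hasLpull (Spec.map φ ≫ hU.fromSpec)
  haveI := hasLpull (hN.fromSpec ≫ g)
  obtain ⟨t⟩ := nonempty_LBaseChange_tildeD φ
  obtain ⟨a⟩ := nonempty_Lpull_restrict hU.fromSpec E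
  obtain ⟨b⟩ := nonempty_Lpull_restrict hN.fromSpec ((DCoh.Lpull g).obj E)
  obtain ⟨c₁⟩ := nonempty_LpullComp (Spec.map φ) hU.fromSpec
  obtain ⟨c₂⟩ := nonempty_LpullComp hN.fromSpec g
  have hcongr : ∀ {P Q : Scheme.{u}} (p q : P ⟶ Q) [DCoh.HasLpull p] [DCoh.HasLpull q], p = q →
      Nonempty (DCoh.Lpull p ≅ DCoh.Lpull q) := by
    intro P Q p q _ _ h
    subst h
    exact ⟨Iso.refl _⟩
  obtain ⟨d⟩ := hcongr _ _ (IsAffineOpen.SpecMap_appLE_fromSpec g hU hN e)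
  exact ⟨t.app M ≪≫ (DCoh.Lpull (Spec.map φ)).mapIso (i ≪≫ a.symm) ≪≫ c₁.app E ≪≫ d.app E ≪≫ (c₂.app E).symm ≪≫ b⟩

/-- The test on a pair of affine opens through derived sections. -/
theorem testOn_iff_sec (f : X ⟶ S) {U : X.Opens} (hU : IsAffineOpen U) {V : S.Opens} (h : U ≤ f ⁻¹ᵁ V) (m : ℤ)
    (E : DCoh.D X) (M : Dual.D Γ(X, U)) (hM : IsSec E hU M) :
    TestOn f m E U V h ↔
      (letI := (f.appLE V U h).hom.toAlgebra; DerCA.IsRelPseudoCoherent Γ(S, V) Γ(X, U) m M) := by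
  obtain ⟨i⟩ := hM
  haveI := preservesFiniteColimits_iso hU.isoSpec.hom
  obtain ⟨a⟩ := nonempty_rd_iso hU.isoSpec.symm ((PerfLocal.rd U.ι).obj E)
  obtain ⟨b⟩ := PerfLocal.rd_comp hU.isoSpec.inv U.ι E
  exact testOn_iff_rel f hU h m E M (i ≪≫ b ≪≫ a)

theorem testOn_hom_congr {f f' : X ⟶ S} (e : f = f') {m : ℤ} {K : DCoh.D X} {U : X.Opens} {V : S.Opens}
    {h : U ≤ f ⁻¹ᵁ V} {h' : U ≤ f' ⁻¹ᵁ V} : TestOn f m K U V h ↔ TestOn f' m K U V h' := by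
  subst e
  exact Iff.rfl

theorem testOn_iso {f : X ⟶ S} {m : ℤ} {K L : DCoh.D X} (e : K ≅ L) {U : X.Opens} (hU : IsAffineOpen U)
    {V : S.Opens} {h : U ≤ f ⁻¹ᵁ V} (ht : TestOn f m K U V h) : TestOn f m L U V h := by
  obtain ⟨n, φ, hφ, hp⟩ := ht
  obtain ⟨_, hp⟩ := (chartPC_iff m K hU hφ.1).1 hp
  exact ⟨n, φ, hφ, (chartPC_iff m L hU hφ.1).2
    ⟨inferInstance, PCTriangle.psc_iso ((pd _).mapIso ((PerfLocal.rd U.ι).mapIso e)) hp⟩⟩

/-- The test passes to derived pullback along a pseudo-coherent map of affines. -/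
theorem testOn_Lpull (g : Y ⟶ X) [DCoh.HasLpull g] (f : X ⟶ S) [LocallyOfFiniteType f] {E : DCoh.D X}
    (hE : DCoh.IsQCohD E) {m : ℤ} {U : X.Opens} (hU : IsAffineOpen U) {V : S.Opens} (hV : IsAffineOpen V)
    {h : U ≤ f ⁻¹ᵁ V} {N : Y.Opens} (hN : IsAffineOpen N) (e : N ≤ g ⁻¹ᵁ U) (hpc : RingPC (g.appLE U N e).hom)
    (ht : TestOn f m E U V h) :
    TestOn (g ≫ f) m ((DCoh.Lpull g).obj E) N V (fun _ hy => h (e hy)) := by
  obtain ⟨M, hM⟩ := exists_sec hE hU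
  haveI : DRing.HasLBaseChange (g.appLE U N e).hom := hasLBaseChange _
  refine (testOn_iff_sec (g ≫ f) hN _ m _ _ (isSec_Lpull g hU hN e hM)).2 ?_
  have h1 := (testOn_iff_sec f hU h m E M hM).1 ht
  letI := (f.appLE V U h).hom.toAlgebra
  letI := (g.appLE U N e).hom.toAlgebra
  letI := ((g ≫ f).appLE V N fun _ hy => h (e hy)).hom.toAlgebra
  haveI : IsScalarTower Γ(S, V) Γ(X, U) Γ(Y, N) := .of_algebraMap_eq' (by
    simp only [RingHom.algebraMap_toAlgebra, ← CommRingCat.hom_comp]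
    rw [Scheme.Hom.appLE_comp_appLE])
  haveI : Algebra.FiniteType Γ(S, V) Γ(X, U) := f.finiteType_appLE hV hU h
  exact RelDescRing.rel_lbaseChange_pc hpc h1

theorem ringPC_appLE_of_flat (g : Y ⟶ X) [Flat g] [LocallyOfFinitePresentation g] {U : X.Opens} (hU : IsAffineOpen U)
    {N : Y.Opens} (hN : IsAffineOpen N) (e : N ≤ g ⁻¹ᵁ U) : RingPC (g.appLE U N e).hom :=
  HasRingHomProperty.appLE @MoreMor.IsPseudoCoherentMor g (pcMor_of_flat g) ⟨U, hU⟩ ⟨N, hN⟩ e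

/-- Pullback along flat morphisms of finite presentation. -/
theorem rel_Lpull (g : Y ⟶ X) [Flat g] [LocallyOfFinitePresentation g] [DCoh.HasLpull g] (f : X ⟶ S)
    [LocallyOfFiniteType f] {E : DCoh.D X} (hE : DCoh.IsQCohD E) {m : ℤ} (h : DerSch.IsPseudoCoherentRel f m E) :
    DerSch.IsPseudoCoherentRel (g ≫ f) m ((DCoh.Lpull g).obj E) := by
  rw [rel_iff] at h
  refine rel_of_local fun y => ?_
  obtain ⟨U, V, hle, hyU⟩ := exists_affine_pair f (g y)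
  obtain ⟨N, hN, hyN, hNU⟩ := Opens.isBasis_iff_nbhd.1 Y.isBasis_affineOpens (U := g ⁻¹ᵁ U.1) (x := y) hyU
  exact ⟨⟨N, hN⟩, V, fun _ hz => hle (hNU hz), hyN,
    testOn_Lpull g f hE U.2 V.2 hN hNU (ringPC_appLE_of_flat g U.2 hN hNU) (h U V hle)⟩

/-- Descent at a point. -/
theorem exists_testOn_of_fppf {X' : Scheme.{u}} (f : X ⟶ S) [LocallyOfFiniteType f] (g : X' ⟶ X) [Flat g]
    [LocallyOfFinitePresentation g] [DCoh.HasLpull g] {E : DCoh.D X} (hE : DCoh.IsQCohD E) (m : ℤ)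
    (hrel : DerSch.IsPseudoCoherentRel (g ≫ f) m ((DCoh.Lpull g).obj E)) (x' : X') :
    ∃ (U : X.affineOpens) (V : S.affineOpens) (h : (U : X.Opens) ≤ f ⁻¹ᵁ (V : S.Opens)),
      g x' ∈ (U : X.Opens) ∧ TestOn f m E U V h := by
  rw [rel_iff] at hrel
  obtain ⟨T, V₁, e, π, he, ⟨o, ho⟩, hπs, hπfin, hπflat, hπfp, r, hr⟩ :=
    FlatMor12.exists_etale_finite_slice g (g x') x' rfl
  haveI := hπflat
  haveI := hπfp
  have hrpc : MoreMor.IsPseudoCoherentMor r := by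
    refine pcMor_of_comp r g (pcMor_of_flat g) ?_
    rw [hr]; exact pcMor_of_flat (π ≫ e)
  haveI : LocallyOfFiniteType r := by
    haveI : LocallyOfFiniteType (r ≫ g) := by rw [hr]; infer_instance
    exact locallyOfFiniteType_of_comp r g
  obtain ⟨U₀, V, hU₀V, hxU₀⟩ := exists_affine_pair f (g x')
  obtain ⟨U, T₀, hT₀U, hUle, hxU, hff⟩ := exists_fppf_piece e o U₀.1 U₀.2 (by rw [ho]; exact hxU₀)
  rw [ho] at hxU
  have hUV : U.1 ≤ f ⁻¹ᵁ V.1 := fun _ hz => hU₀V (hUle hz)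
  refine ⟨U, V, hUV, hxU, ?_⟩
  let C₀ := π ⁻¹ᵁ T₀.1
  have hC₀ : IsAffineOpen C₀ := T₀.2.preimage π
  let h := π ≫ e
  have hhU : C₀ ≤ h ⁻¹ᵁ U.1 := fun _ hz => hT₀U hz
  have hhV : C₀ ≤ (h ≫ f) ⁻¹ᵁ V.1 := fun _ hz => hUV (hhU hz)
  haveI := hasLpull h
  haveI := hasLpull r
  haveI := hasLpull (r ≫ g)
  have key : TestOn (h ≫ f) m ((DCoh.Lpull h).obj E) C₀ V hhV := by
    have hpt : ∀ v : C₀, ∃ n : Γ(V₁, C₀), v.1 ∈ V₁.basicOpen n ∧
        TestOn (h ≫ f) m ((DCoh.Lpull h).obj E) (V₁.basicOpen n) V ((V₁.basicOpen_le n).trans hhV) := by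
      intro v
      have hgr : g (r v.1) = h v.1 := by
        rw [← Scheme.Hom.comp_apply, hr]
      have hrv : r v.1 ∈ (g ≫ f) ⁻¹ᵁ V.1 := by
        show f (g (r v.1)) ∈ V.1
        rw [hgr]; exact hhV v.2
      obtain ⟨W, hW, hrvW, hWV⟩ := Opens.isBasis_iff_nbhd.1 X'.isBasis_affineOpens hrv
      obtain ⟨n, hn, hvn⟩ := hC₀.exists_basicOpen_le (V := r ⁻¹ᵁ W) ⟨v.1, hrvW⟩ v.2
      refine ⟨n, hvn, ?_⟩
      have h1 := testOn_Lpull r (g ≫ f) (isQCohD_Lpull g E hE) hW V.2 (hC₀.basicOpen n) hn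
        (HasRingHomProperty.appLE @MoreMor.IsPseudoCoherentMor r hrpc ⟨W, hW⟩ ⟨_, hC₀.basicOpen n⟩ hn)
        (hrel ⟨W, hW⟩ V hWV)
      obtain ⟨c⟩ := nonempty_LpullComp r g
      have hcongr : ∀ {P Q : Scheme.{u}} (p q : P ⟶ Q) [DCoh.HasLpull p] [DCoh.HasLpull q], p = q →
          Nonempty (DCoh.Lpull p ≅ DCoh.Lpull q) := by
        intro P Q p q _ _ h
        subst h
        exact ⟨Iso.refl _⟩
      obtain ⟨d⟩ := hcongr _ _ hr
      exact testOn_iso (c.app E ≪≫ d.app E) (hC₀.basicOpen n)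
        ((testOn_hom_congr (by rw [← Category.assoc, hr])).1 h1)
    choose n hvn hn using hpt
    refine testOn_of_cover hC₀ ((h ≫ f).finiteType_appLE V.2 hC₀ hhV) (Set.range n) ?_
      (by rintro _ ⟨v, rfl⟩; exact hn v)
    rw [← hC₀.self_le_iSup_basicOpen_iff]
    exact fun v hv => Opens.mem_iSup.2 ⟨⟨_, ⟨⟨v, hv⟩, rfl⟩⟩, hvn ⟨v, hv⟩⟩
  obtain ⟨M, hM⟩ := exists_sec hE U.2
  haveI : DRing.HasLBaseChange (h.appLE U.1 C₀ hhU).hom := hasLBaseChange _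
  have h1 := (testOn_iff_sec (h ≫ f) hC₀ hhV m _ _ (isSec_Lpull h U.2 hC₀ hhU hM)).1 key
  refine (testOn_iff_sec f U.2 hUV m E M hM).2 ?_
  letI := (f.appLE V U hUV).hom.toAlgebra
  letI := (e.appLE U T₀ hT₀U).hom.toAlgebra
  letI := ((e ≫ f).appLE V T₀ fun _ hz => hUV (hT₀U hz)).hom.toAlgebra
  letI := (π.appLE T₀ C₀ le_rfl).hom.toAlgebra
  letI := (h.appLE U C₀ hhU).hom.toAlgebra
  letI := ((h ≫ f).appLE V C₀ hhV).hom.toAlgebra
  haveI : IsScalarTower Γ(S, V.1) Γ(X, U.1) Γ(T, T₀.1) := .of_algebraMap_eq' (by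
    simp only [RingHom.algebraMap_toAlgebra, ← CommRingCat.hom_comp]
    rw [Scheme.Hom.appLE_comp_appLE])
  haveI : IsScalarTower Γ(X, U.1) Γ(T, T₀.1) Γ(V₁, C₀) := .of_algebraMap_eq' (by
    simp only [RingHom.algebraMap_toAlgebra, ← CommRingCat.hom_comp]
    rw [Scheme.Hom.appLE_comp_appLE])
  haveI : IsScalarTower Γ(S, V.1) Γ(T, T₀.1) Γ(V₁, C₀) := .of_algebraMap_eq' (by
    simp only [RingHom.algebraMap_toAlgebra, ← CommRingCat.hom_comp, h]
    rw [Scheme.Hom.appLE_comp_appLE]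
    simp only [Category.assoc])
  haveI : Algebra.FiniteType Γ(S, V.1) Γ(X, U.1) := f.finiteType_appLE V.2 U.2 hUV
  haveI : Algebra.FiniteType Γ(S, V.1) Γ(T, T₀.1) := (e ≫ f).finiteType_appLE V.2 T₀.2 _
  haveI : Algebra.Etale Γ(X, U.1) Γ(T, T₀.1) := HasRingHomProperty.appLE @Etale e he U T₀ hT₀U
  haveI : Module.FaithfullyFlat Γ(X, U.1) Γ(T, T₀.1) := hff
  haveI : Module.Finite Γ(T, T₀.1) Γ(V₁, C₀) := by
    have hf' : (π.appLE T₀.1 C₀ le_rfl).hom.Finite := by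
      rw [← Scheme.Hom.app_eq_appLE]; exact π.finite_app T₀.1 T₀.2
    exact hf'
  haveI : Module.Flat Γ(T, T₀.1) Γ(V₁, C₀) := π.flat_appLE T₀.2 hC₀ le_rfl
  haveI : Algebra.FinitePresentation Γ(T, T₀.1) Γ(V₁, C₀) := π.finitePresentation_appLE T₀.2 hC₀ le_rfl
  haveI : Module.FinitePresentation Γ(T, T₀.1) Γ(V₁, C₀) :=
    Module.FinitePresentation.of_finite_of_finitePresentation _ _
  haveI : Module.Projective Γ(T, T₀.1) Γ(V₁, C₀) := Module.Flat.projective_of_finitePresentation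
  haveI : Module.FaithfullyFlat Γ(T, T₀.1) Γ(V₁, C₀) := by
    refine RingHom.FaithfullyFlat.iff_flat_and_comap_surjective.2
      ⟨π.flat_appLE T₀.2 hC₀ le_rfl, fun P => ?_⟩
    obtain ⟨w, hw⟩ := π.surjective (T₀.2.fromSpec P)
    have hwV : w ∈ C₀ := show π w ∈ T₀.1 by rw [hw]; exact T₀.2.range_fromSpec.le ⟨P, rfl⟩
    refine ⟨hC₀.primeIdealOf ⟨w, hwV⟩, T₀.2.fromSpec.isOpenEmbedding.injective ?_⟩
    show (Spec.map (π.appLE T₀.1 C₀ le_rfl) ≫ T₀.2.fromSpec) (hC₀.primeIdealOf ⟨w, hwV⟩) = _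
    rw [T₀.2.SpecMap_appLE_fromSpec π hC₀ le_rfl, Scheme.Hom.comp_apply, hC₀.fromSpec_primeIdealOf, hw]
  let L := DerivedCategory.Q.objPreimage M
  let eL : DRing.toD L ≅ M := DerivedCategory.Q.objObjPreimageIso M
  have hflat : (algebraMap Γ(X, U.1) Γ(V₁, C₀)).Flat := by
    rw [IsScalarTower.algebraMap_eq Γ(X, U.1) Γ(T, T₀.1) Γ(V₁, C₀)]
    exact RingHom.Flat.comp (RingHom.flat_algebraMap_iff.2 inferInstance) (RingHom.flat_algebraMap_iff.2 inferInstance)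
  obtain ⟨e₁⟩ := Groth.Agent.CAlgSmall.PCZariski.nonempty_lbaseChange_iso (algebraMap Γ(X, U.1) Γ(V₁, C₀)) hflat L
  refine Groth.Agent.RelPC.rel_iso eL (RelDescRing.rel_descend_etale (B := Γ(T, T₀.1)) L ?_)
  refine RelDescRing.rel_descend_finite (B := Γ(V₁, C₀)) _ (Groth.Agent.RelPC.rel_iso ?_ h1)
  exact (DRing.LBaseChange (algebraMap Γ(X, U.1) Γ(V₁, C₀))).mapIso eL.symm ≪≫ e₁ ≪≫
    eqToIso (by rw [IsScalarTower.algebraMap_eq Γ(X, U.1) Γ(T, T₀.1) Γ(V₁, C₀)]) ≪≫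
    RelDescRing.extCompIso (algebraMap Γ(X, U.1) Γ(T, T₀.1)) (algebraMap Γ(T, T₀.1) Γ(V₁, C₀)) L

/-- Relative pseudo-coherence is local for fppf covers of the source. -/
theorem rel_iff_cover (p : X ⟶ S) [LocallyOfFiniteType p] {ι : Type u} (Xi : ι → Scheme.{u}) (g : ∀ i, Xi i ⟶ X)
    [∀ i, Flat (g i)] [∀ i, LocallyOfFinitePresentation (g i)] (hcov : ∀ x : X, ∃ (i : ι) (y : Xi i), (g i).base y = x)
    [∀ i, DCoh.HasLpull (g i)] (m : ℤ) (E : DCoh.D X) (hE : DCoh.IsQCohD E) :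
    DerSch.IsPseudoCoherentRel p m E ↔
      ∀ i, DerSch.IsPseudoCoherentRel (g i ≫ p) m ((DCoh.Lpull (g i)).obj E) := by
  refine ⟨fun h i => rel_Lpull (g i) p hE h, fun h => rel_of_local fun x => ?_⟩
  obtain ⟨i, y, rfl⟩ := hcov x
  exact exists_testOn_of_fppf p (g i) hE m (h i) y

end Groth.Agent.FlatCx12.RelDescScheme
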