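import Groth.Agent.FlatCx12.AmpCoverRing
import Groth.Agent.FlatCx12.RelDescScheme
import Groth.Agent.DQCoh.PerfectTor
import Groth.Agent.DCat.TorTriangle
import Groth.Agent.FlatCx12.AmpThickRing
import Groth.Agent.ModStalk.Pullback

/-!
# Being a flat module in degree zero descends along surjective morphisms of finite presentation
-/

set_option autoImplicit false
set_option backward.isDefEq.respectTransparency false
set_option backward.defeqAttrib.useBackward true
set_option linter.style.haveILetI false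
set_option synthInstance.maxHeartbeats 100000
set_option backward.isDefEq.respectTransparency.types false

universe u

open CategoryTheory CategoryTheory.Limits DerivedCategory AlgebraicGeometry TopologicalSpace
open Groth.Agent.DCat Groth.Agent.DQCoh Groth.Agent.FlatCx12.RelDescScheme

attribute [local instance] HasDerivedCategory.standard
attribute [-instance] Int.instConditionallyCompleteLinearOrder

namespace Groth.Agent.FlatCx12.AmpCover

variable {X S : Scheme.{u}}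

theorem isFlatAt_of_iso {M N : X.Modules} (e : M ≅ N) {x : X} (h : FlatMod.IsFlatAt M x) : FlatMod.IsFlatAt N x :=
  haveI : Module.Flat (X.presheaf.stalk x) ((DerSch.stalkFunctor X x).obj M) := h
  Module.Flat.of_linearEquiv ((DerSch.stalkFunctor X x).mapIso e).toLinearEquiv.symm

theorem isFlatAt_of_restrict {W : Scheme.{u}} (k : W ⟶ X) [IsOpenImmersion k] (M : X.Modules) (y : W)
    (h : FlatMod.IsFlatAt ((Scheme.Modules.restrictFunctor k).obj M) y) : FlatMod.IsFlatAt M (k y) := by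
  let φ := (k.stalkMap y).hom
  have hb := ConcreteCategory.bijective_of_isIso (k.stalkMap y)
  haveI : Module.Flat (W.presheaf.stalk y) ((ModuleCat.extendScalars.{u, u, u} φ).obj ((DerSch.stalkFunctor X (k y)).obj M)) :=
    @Module.Flat.of_linearEquiv _ _ _ _ _ _ _ _ h ((DerSch.stalkFunctor W y).mapIso
      ((Scheme.Modules.restrictFunctorIsoPullback k).app M) ≪≫ (ModStalk.pullbackStalkIso k y).app M).toLinearEquiv.symm
  have hfl := AmpThickRing.flat_restrict (RingHom.Flat.of_bijective hb)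
    ((ModuleCat.extendScalars.{u, u, u} φ).obj ((DerSch.stalkFunctor X (k y)).obj M))
  let adj := ModuleCat.extendRestrictScalarsAdj.{u, u, u} φ
  haveI : (ModuleCat.restrictScalars.{u} φ).IsEquivalence :=
    (ModuleCat.restrictScalarsEquivalenceOfRingEquiv (RingEquiv.ofBijective φ hb)).isEquivalence_functor
  haveI := adj.isEquivalence_left_of_isEquivalence_right
  haveI := adj.unit_isIso_of_L_fully_faithful
  exact @Module.Flat.of_linearEquiv _ _ _ _ _ _ _ _ hfl ((asIso adj.unit).app ((DerSch.stalkFunctor X (k y)).obj M)).toLinearEquiv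

theorem flatAmp_inD {F : X.Modules} (hF : FlatMod.IsFlat F) : DCoh.HasFlatAmplitudeIn 0 0 (DCoh.inD X F) := by
  refine ⟨(HomologicalComplex.single X.Modules (ComplexShape.up ℤ) 0).obj F,
    fun i hi => HomologicalComplex.isZero_single_obj_X _ _ _ _ (by omega), fun i x => ?_,
    ⟨(((SingleFunctors.evaluation _ _ 0).mapIso (DerivedCategory.singleFunctorsPostcompQIso X.Modules)).app F).symm⟩⟩
  by_cases hi : i = 0
  · subst hi
    exact isFlatAt_of_iso (HomologicalComplex.singleObjXSelf (ComplexShape.up ℤ) 0 F).symm (hF x)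
  · show Module.Flat (X.presheaf.stalk x) ((DerSch.stalkFunctor X x).obj _)
    haveI := ModuleCat.subsingleton_of_isZero ((DerSch.stalkFunctor X x).map_isZero
      (HomologicalComplex.isZero_single_obj_X (ComplexShape.up ℤ) 0 F i hi))
    infer_instance

/-- Flat amplitude `[0, 0]` on an affine open of the base. -/
theorem flatAmp_chart (f : X ⟶ S) [Surjective f] [LocallyOfFinitePresentation f] [QuasiCompact f] [DCoh.HasLpull f]
    (M : DCoh.D S) (hM : DCoh.IsQCohD M) (hpos : ∀ i : ℤ, 0 < i → IsZero (DCoh.HD M i))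
    (h : DCoh.HasFlatAmplitudeIn 0 0 ((DCoh.Lpull f).obj M)) {U : S.Opens} (hU : IsAffineOpen U) :
    DCoh.HasFlatAmplitudeIn 0 0 ((PerfLocal.rd hU.fromSpec).obj M) := by
  haveI := AffSchLib.preservesFiniteLimits_tilde Γ(S, U)
  obtain ⟨K, ⟨eK⟩⟩ := exists_sec hM hU
  have hK : ∀ i, 0 < i → IsZero ((homologyFunctor (ModuleCat.{u} Γ(S, U)) i).obj K) := fun i hi => by
    haveI := preservesFiniteColimits_tilde Γ(S, U)
    obtain ⟨η⟩ := nonempty_homology_natIso (tilde.functor Γ(S, U)) i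
    refine isZero_of_isZero_tilde (IsZero.of_iso ?_ ((η.app K).symm ≪≫ (homologyFunctor _ i).mapIso eK))
    exact ((Scheme.Modules.restrictFunctor hU.fromSpec).map_isZero (hpos i hi)).of_iso
      (SuppOpen.hdMapIso (Scheme.Modules.restrictFunctor hU.fromSpec) M i)
  haveI : ∀ N : ModuleCat.{u} Γ(S, U), DRing.HasLTensor Γ(S, U) N := fun N => DCat.hasLTensor N
  obtain ⟨P, hPk, hPf, hPb, ⟨eP⟩⟩ := DCat.exists_flat_rep (b := 0) hK
  obtain ⟨W, hW⟩ : ∃ W : Finset X.affineOpens, (∀ w ∈ W, (w : X.Opens) ≤ f ⁻¹ᵁ U) ∧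
      ∀ x ∈ f ⁻¹ᵁ U, ∃ w ∈ W, x ∈ (w : X.Opens) := by
    have hc : IsCompact (f ⁻¹ᵁ U : Set X) := f.isCompact_preimage hU.isCompact
    choose V hV hxV hVU using fun x : (f ⁻¹ᵁ U) => exists_isAffineOpen_mem_and_subset (x := x.1) (U := f ⁻¹ᵁ U) x.2
    obtain ⟨t, ht⟩ := hc.elim_finite_subcover (fun x => (V x : Set X)) (fun x => (V x).2)
      (fun x hx => Set.mem_iUnion.2 ⟨⟨x, hx⟩, hxV ⟨x, hx⟩⟩)
    classical
    refine ⟨t.image fun x => ⟨V x, hV x⟩, fun w hw => ?_, fun x hx => ?_⟩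
    · obtain ⟨x, -, rfl⟩ := Finset.mem_image.1 hw
      exact hVU x
    · obtain ⟨y, hy, hxy⟩ := Set.mem_iUnion₂.1 (ht hx)
      exact ⟨⟨V y, hV y⟩, Finset.mem_image_of_mem _ hy, hxy⟩
  let A : {w // w ∈ W} → Type u := fun w => Γ(X, w.1.1)
  let φ : ∀ w : {w // w ∈ W}, Γ(S, U) ⟶ Γ(X, w.1.1) := fun w => f.appLE U w.1.1 (hW.1 w.1 w.2)
  letI : ∀ w, Algebra Γ(S, U) (A w) := fun w => (φ w).hom.toAlgebra
  haveI : ∀ w, Algebra.FinitePresentation Γ(S, U) (A w) := fun w => f.finitePresentation_appLE hU w.1.2 (hW.1 w.1 w.2)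
  have key := AmpCoverRing.exactAt_of_fp_cover (P := P) hPf A (fun p => ?_) 0 fun i hi w N => ?_
  · have hamp : DRing.HasTorAmplitudeIn Γ(S, U) 0 0 K := DCat.flatAmp_of_vanish fun N i hi => by
      refine (DCat.isZero_ltensor_iff N hPk eP i).2 ?_
      rcases hi with hi | hi
      · exact key i hi N
      · exact HomologicalComplex.ExactAt.of_isZero ((MonoidalCategory.tensorRight N).map_isZero (hPb i hi))
    obtain ⟨F, hF, hf, ⟨eF⟩⟩ := (flatAmp_tildeD_iff K 0 0).2 hamp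
    exact ⟨F, hF, hf, ⟨eF ≪≫ eK⟩⟩
  · obtain ⟨x, hx⟩ := f.surjective (hU.fromSpec p)
    have hxU : x ∈ f ⁻¹ᵁ U := show f x ∈ U by rw [hx]; exact hU.range_fromSpec.le ⟨p, rfl⟩
    obtain ⟨w, hw, hxw⟩ := hW.2 x hxU
    refine ⟨⟨w, hw⟩, w.2.primeIdealOf ⟨x, hxw⟩, hU.fromSpec.isOpenEmbedding.injective ?_⟩
    show (Spec.map (φ ⟨w, hw⟩) ≫ hU.fromSpec) (w.2.primeIdealOf ⟨x, hxw⟩) = _
    rw [hU.SpecMap_appLE_fromSpec f w.2 (hW.1 w hw), Scheme.Hom.comp_apply, w.2.fromSpec_primeIdealOf]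
    exact hx
  · haveI : ∀ N' : ModuleCat.{u} (A w), DRing.HasLTensor (A w) N' := fun N' => DCat.hasLTensor N'
    haveI : DRing.HasLBaseChange (φ w).hom := hasLBaseChange _
    haveI := AffSchLib.preservesFiniteLimits_tilde Γ(X, w.1.1)
    obtain ⟨e⟩ := isSec_Lpull f hU w.1.2 (hW.1 w.1 w.2) ⟨eK⟩
    obtain ⟨F, hF, hf, ⟨eF⟩⟩ := flatAmp_rd w.1.2.fromSpec h
    exact (DCat.isZero_ltensor_base_iff (φ w).hom hPk eP N i).1
      (DCat.vanish_of_flatAmp ((flatAmp_tildeD_iff _ 0 0).1 ⟨F, hF, hf, ⟨eF ≪≫ e.symm⟩⟩) N (Or.inl hi))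

/-- **Descent.** -/
theorem exists_flat_of_cover (f : X ⟶ S) [Surjective f] [LocallyOfFinitePresentation f] [QuasiCompact f] [DCoh.HasLpull f]
    (M : DCoh.D S) (hM : DCoh.IsQCohD M) (hpos : ∀ i : ℤ, 0 < i → IsZero (DCoh.HD M i))
    (h : DCoh.HasFlatAmplitudeIn 0 0 ((DCoh.Lpull f).obj M)) :
    ∃ G : S.Modules, FlatMod.IsFlat G ∧ Nonempty (M ≅ DCoh.inD S G) := by
  choose U hU hxU _ using fun s : S => exists_isAffineOpen_mem_and_subset (x := s) (U := (⊤ : S.Opens)) trivial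
  have hamp := fun s => flatAmp_chart f M hM hpos h (hU s)
  have hmem : ∀ s, ∃ p, (hU s).fromSpec p = s := fun s => (hU s).range_fromSpec.ge (hxU s)
  have hz : ∀ i, i ≠ 0 → IsZero (DCoh.HD M i) := fun i hi => ModStalk.isZero_of_stalks fun s => by
    obtain ⟨p, hp⟩ := hmem s
    have h0 : IsZero ((Scheme.Modules.restrictFunctor (hU s).fromSpec).obj (DCoh.HD M i)) :=
      (isZero_HD_of_flatAmp (hamp s) i (by omega)).of_iso
        (SuppOpen.hdMapIso (Scheme.Modules.restrictFunctor (hU s).fromSpec) M i).symm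
    rw [← hp]
    haveI := SuppOpen.subsingleton_stalk_of_restrict (hU s).fromSpec _ p
      (SuppOpen.subsingleton_of_isZero_stalkFunctor _ p ((DerSch.stalkFunctor _ p).map_isZero h0))
    exact SuppOpen.isZero_stalkFunctor _ _
  haveI : M.IsGE 0 := (DerivedCategory.isGE_iff M 0).2 fun i hi => hz i (by omega)
  haveI : M.IsLE 0 := (DerivedCategory.isLE_iff M 0).2 fun i hi => hz i (by omega)
  obtain ⟨G, ⟨e⟩⟩ := M.exists_iso_singleFunctor_obj_of_isGE_of_isLE 0
  refine ⟨G, fun s => ?_, ⟨e⟩⟩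
  obtain ⟨p, hp⟩ := hmem s
  rw [← hp]
  refine isFlatAt_of_restrict (hU s).fromSpec G p ?_
  obtain ⟨F, hF, hf, ⟨eF⟩⟩ := hamp s
  let r := Scheme.Modules.restrictFunctor (hU s).fromSpec
  haveI : CochainComplex.IsStrictlyGE F 0 := (CochainComplex.isStrictlyGE_iff _ _).2 fun i hi => hF i (Or.inl hi)
  haveI : CochainComplex.IsStrictlyLE F 0 := (CochainComplex.isStrictlyLE_iff _ _).2 fun i hi => hF i (Or.inr hi)
  obtain ⟨F₀, ⟨e₀⟩⟩ := CochainComplex.exists_iso_single F 0
  let a : F₀ ≅ r.obj G :=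
    ((singleFunctorCompHomologyFunctorIso (Spec Γ(S, U s)).Modules 0).app F₀).symm ≪≫
      (homologyFunctor _ 0).mapIso ((((SingleFunctors.evaluation _ _ 0).mapIso
        (DerivedCategory.singleFunctorsPostcompQIso (Spec Γ(S, U s)).Modules)).app F₀) ≪≫
          DerivedCategory.Q.mapIso e₀.symm ≪≫ eF) ≪≫
      SuppOpen.hdMapIso r M 0 ≪≫
      r.mapIso ((homologyFunctor _ 0).mapIso e ≪≫ (singleFunctorCompHomologyFunctorIso S.Modules 0).app G)
  let b : F.X 0 ≅ ((HomologicalComplex.single (Spec Γ(S, U s)).Modules (ComplexShape.up ℤ) 0).obj F₀).X 0 :=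
    (HomologicalComplex.eval _ _ 0).mapIso e₀
  exact isFlatAt_of_iso a (isFlatAt_of_iso (b ≪≫ HomologicalComplex.singleObjXSelf (ComplexShape.up ℤ) 0 F₀) (hf 0 p))

end Groth.Agent.FlatCx12.AmpCover
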