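import Groth.Agent.FlatCx12.AmpTensor
import Groth.Agent.S6958
import Mathlib.Algebra.Homology.DerivedCategory.Basic

/-!
# Tor amplitude over an algebra from tor amplitude over the base and tor dimension of the diagonal
-/

set_option autoImplicit false
set_option backward.isDefEq.respectTransparency false
set_option backward.defeqAttrib.useBackward true
set_option linter.style.haveILetI false

universe u

open CategoryTheory CategoryTheory.Limits MonoidalCategory TensorProduct HomologicalComplex

attribute [local instance] HasDerivedCategory.standard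

namespace Groth.Agent.FlatCx12.AmpDiag

open Groth.Agent.DCat

variable (A B : Type u) [CommRing A] [CommRing B] [Algebra A B]

/-- The second factor inclusion. -/
noncomputable abbrev inr : B →+* B ⊗[A] B := (Algebra.TensorProduct.includeRight : B →ₐ[A] B ⊗[A] B).toRingHom

/-- The multiplication. -/
noncomputable abbrev mul : B ⊗[A] B →+* B := (Algebra.TensorProduct.lmul' A (S := B)).toRingHom

/-- The first factor inclusion. -/
noncomputable abbrev inl : B →+* B ⊗[A] B := algebraMap B (B ⊗[A] B)

/-- Base change along the first factor, seen over the second one, is base change from the base. -/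
noncomputable def swapLin (M : Type u) [AddCommGroup M] [Module B M] [Module A M] [IsScalarTower A B M] :
    B ⊗[A] M ≃ₗ[A] (B ⊗[A] B) ⊗[B] M :=
  ((TensorProduct.comm A B M).trans
    ((AlgebraTensorModule.cancelBaseChange A B B M B).symm.restrictScalars A)).trans
      ((TensorProduct.comm B M (B ⊗[A] B)).restrictScalars A)

theorem swapLin_tmul (M : Type u) [AddCommGroup M] [Module B M] [Module A M] [IsScalarTower A B M] (b : B) (m : M) :
    swapLin A B M (b ⊗ₜ m) = ((1 : B) ⊗ₜ[A] b) ⊗ₜ[B] m := by
  simp [swapLin]

theorem swapLin_smul (M : Type u) [AddCommGroup M] [Module B M] [Module A M] [IsScalarTower A B M] (b : B)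
    (z : B ⊗[A] M) : swapLin A B M (b • z) = inr A B b • swapLin A B M z := by
  induction z using TensorProduct.induction_on with
  | zero => simp
  | add x y hx hy => simp only [smul_add, map_add, hx, hy]
  | tmul c m =>
    rw [TensorProduct.smul_tmul', swapLin_tmul, swapLin_tmul, TensorProduct.smul_tmul', smul_eq_mul]
    show _ = (((1 : B) ⊗ₜ[A] b) * ((1 : B) ⊗ₜ[A] c)) ⊗ₜ[B] m
    rw [Algebra.TensorProduct.tmul_mul_tmul, one_mul]

/-- `swapLin` in module categories. -/
noncomputable def swapIso : ModuleCat.restrictScalars.{u} (algebraMap A B) ⋙ ModuleCat.extendScalars.{u, u, u} (algebraMap A B) ≅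
    ModuleCat.extendScalars.{u, u, u} (inl A B) ⋙ ModuleCat.restrictScalars.{u} (inr A B) :=
  NatIso.ofComponents (fun M =>
    letI : Module A M := Module.compHom M (algebraMap A B)
    haveI : IsScalarTower A B M := .of_algebraMap_smul fun _ _ => rfl
    Groth.Agent.S6958.eTen A B M ≪≫
      LinearEquiv.toModuleIso (X₁ := ModuleCat.of B (B ⊗[A] M))
        (X₂ := (ModuleCat.restrictScalars.{u} (inr A B)).obj (ModuleCat.of (B ⊗[A] B) ((B ⊗[A] B) ⊗[B] M)))
        { (swapLin A B M).toAddEquiv with map_smul' := fun b z => swapLin_smul A B M b z } ≪≫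
      (ModuleCat.restrictScalars.{u} (inr A B)).mapIso (Groth.Agent.S6958.eTen B (B ⊗[A] B) M).symm)
    (fun {M N} f => by
      letI : Module A M := Module.compHom M (algebraMap A B)
      haveI : IsScalarTower A B M := .of_algebraMap_smul fun _ _ => rfl
      refine ModuleCat.hom_ext (LinearMap.ext fun z => ?_)
      induction z using TensorProduct.induction_on with
      | zero => exact (map_zero _).trans (map_zero _).symm
      | add x y hx hy => exact (map_add _ x y).trans ((congrArg₂ (· + ·) hx hy).trans (map_add _ x y).symm)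
      | tmul b m => rfl)

theorem mul_algebraMap (b : B) : mul A B (algebraMap B (B ⊗[A] B) b) = b := by
  show Algebra.TensorProduct.lmul' A (b ⊗ₜ[A] (1 : B)) = b
  rw [Algebra.TensorProduct.lmul'_apply_tmul, mul_one]

theorem mul_inr (b : B) : mul A B (inr A B b) = b := by
  show Algebra.TensorProduct.lmul' A ((1 : B) ⊗ₜ[A] b) = b
  rw [Algebra.TensorProduct.lmul'_apply_tmul, one_mul]

/-- Collapsing the base change along the first factor by the multiplication, on modules. -/
noncomputable def collapseLin (M : Type u) [AddCommGroup M] [Module B M] :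
    letI : Module (B ⊗[A] B) B := Module.compHom B (mul A B)
    B ⊗[B ⊗[A] B] ((B ⊗[A] B) ⊗[B] M) ≃+ M :=
  letI : Module (B ⊗[A] B) B := Module.compHom B (mul A B)
  haveI : IsScalarTower B (B ⊗[A] B) B := .of_algebraMap_smul fun b c => by
    show mul A B (algebraMap B (B ⊗[A] B) b) * c = b * c
    rw [mul_algebraMap]
  haveI : SMulCommClass B (B ⊗[A] B) B := ⟨fun b r c => mul_left_comm b (mul A B r) c⟩
  (AlgebraTensorModule.cancelBaseChange B (B ⊗[A] B) (B ⊗[A] B) B M).toAddEquiv.trans
    (TensorProduct.lid B M).toAddEquiv

theorem collapseLin_tmul (M : Type u) [AddCommGroup M] [Module B M] (c : B) (r : B ⊗[A] B) (m : M) :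
    letI : Module (B ⊗[A] B) B := Module.compHom B (mul A B)
    collapseLin A B M (c ⊗ₜ (r ⊗ₜ m)) = (mul A B r * c) • m := by
  rfl

theorem collapseLin_smul (M : Type u) [AddCommGroup M] [Module B M] (b : B) :
    letI : Module (B ⊗[A] B) B := Module.compHom B (mul A B)
    ∀ z : B ⊗[B ⊗[A] B] ((B ⊗[A] B) ⊗[B] M), collapseLin A B M (inr A B b • z) = b • collapseLin A B M z := by
  letI : Module (B ⊗[A] B) B := Module.compHom B (mul A B)
  intro z
  induction z using TensorProduct.induction_on with
  | zero => simp
  | add x y hx hy => simp only [smul_add, map_add, hx, hy]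
  | tmul c w =>
    induction w using TensorProduct.induction_on with
    | zero => simp
    | add x y hx hy => simp only [tmul_add, smul_add, map_add, hx, hy]
    | tmul r m =>
      rw [TensorProduct.smul_tmul', collapseLin_tmul, collapseLin_tmul, smul_smul]
      show (mul A B r * (mul A B (inr A B b) * c)) • m = _
      rw [mul_inr, mul_left_comm]

/-- Collapsing the base change along the first factor by the multiplication. -/
noncomputable def collapseIso : ModuleCat.extendScalars.{u, u, u} (inl A B) ⋙
    tensorLeft ((ModuleCat.restrictScalars.{u} (mul A B)).obj (ModuleCat.of B B)) ⋙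
      ModuleCat.restrictScalars.{u} (inr A B) ≅ 𝟭 (ModuleCat.{u} B) :=
  NatIso.ofComponents (fun M =>
    letI : Module (B ⊗[A] B) B := Module.compHom B (mul A B)
    (ModuleCat.restrictScalars.{u} (inr A B)).mapIso
      ((tensorLeft ((ModuleCat.restrictScalars.{u} (mul A B)).obj (ModuleCat.of B B))).mapIso
        (Groth.Agent.S6958.eTen B (B ⊗[A] B) M)) ≪≫
      LinearEquiv.toModuleIso (X₁ := (ModuleCat.restrictScalars.{u} (inr A B)).obj
          (ModuleCat.of (B ⊗[A] B) (B ⊗[B ⊗[A] B] ((B ⊗[A] B) ⊗[B] M))))
        (X₂ := M)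
        { collapseLin A B M with map_smul' := fun b z => collapseLin_smul A B M b z })
    (fun {M N} f => by
      letI : Module (B ⊗[A] B) B := Module.compHom B (mul A B)
      refine ModuleCat.hom_ext (LinearMap.ext fun z => ?_)
      induction z using TensorProduct.induction_on with
      | zero => exact (map_zero _).trans (map_zero _).symm
      | add x y hx hy => exact (map_add _ x y).trans ((congrArg₂ (· + ·) hx hy).trans (map_add _ x y).symm)
      | tmul c w =>
        induction w using TensorProduct.induction_on with
        | zero => exact ((congrArg _ (tmul_zero _ c)).trans (map_zero _)).trans (((congrArg _ (tmul_zero _ c)).trans (map_zero _))).symm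
        | add x y hx hy =>
          exact ((congrArg _ (tmul_add c x y)).trans (map_add _ _ _)).trans ((congrArg₂ (· + ·) hx hy).trans
            ((congrArg _ (tmul_add c x y)).trans (map_add _ _ _)).symm)
        | tmul r m => exact (f.hom.map_smul _ _).symm)

/-- If the diagonal of a flat algebra has tor dimension `≤ d`, tor amplitude `[a, b]` over the base gives
tor amplitude `[a - d, b]` over the algebra. -/
theorem amp_of_diag [Module.Flat A B] {d : ℕ}
    (hD : TorAmpComp.D (A := B ⊗[A] B) d ((ModuleCat.restrictScalars.{u} (mul A B)).obj (ModuleCat.of B B)))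
    (K : DRing.Cx B) {a b : ℤ}
    (h : DRing.HasTorAmplitudeIn A a b (DRing.toD ((DRing.restrictCx (algebraMap A B)).obj K))) :
    DRing.HasTorAmplitudeIn B (a - d) b (DRing.toD K) := by
  obtain ⟨P, c, -, hPf, hc, -⟩ := exists_kflat K
  haveI := hc
  let r := ModuleCat.restrictScalars.{u} (algebraMap A B)
  let F := ModuleCat.extendScalars.{u, u, u} (algebraMap A B)
  haveI : PreservesFiniteLimits F :=
    ModuleCat.preservesFiniteLimits_extendScalars_of_flat (RingHom.flat_algebraMap_iff.2 inferInstance)
  haveI : QuasiIso ((r.mapHomologicalComplex (ComplexShape.up ℤ)).map c) := inferInstance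
  obtain ⟨E, hE, hEf, ⟨e⟩⟩ := h
  let Q := ((ModuleCat.extendScalars.{u, u, u} (inl A B)).mapHomologicalComplex (ComplexShape.up ℤ)).obj P
  have hQf : DRing.TermwiseFlat Q := fun n => by
    haveI : Module.Flat B (P.X n) := hPf n
    exact Module.Flat.of_linearEquiv (Groth.Agent.S6958.eTen B (B ⊗[A] B) (P.X n)).toLinearEquiv
  have hQ : DRing.HasTorAmplitudeIn B a b (DRing.toD
      (((ModuleCat.restrictScalars.{u} (inr A B)).mapHomologicalComplex (ComplexShape.up ℤ)).obj Q)) := by
    refine ⟨(F.mapHomologicalComplex (ComplexShape.up ℤ)).obj E, fun i hi => F.map_isZero (hE i hi), fun i => ?_,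
      ⟨(F.mapDerivedCategoryFactors.app E).symm ≪≫ F.mapDerivedCategory.mapIso (e ≪≫
          (asIso (DerivedCategory.Q.map ((r.mapHomologicalComplex (ComplexShape.up ℤ)).map c))).symm) ≪≫
        F.mapDerivedCategoryFactors.app _ ≪≫ DerivedCategory.Q.mapIso
          ((NatIso.mapHomologicalComplex (swapIso A B) (ComplexShape.up ℤ)).app P)⟩⟩
    haveI : Module.Flat A (E.X i) := hEf i
    exact Module.Flat.of_linearEquiv (Groth.Agent.S6958.eTen A B (E.X i)).toLinearEquiv
  have h2 := AmpTensor.amp_tensor (inr A B) _ hD Q hQf hQ
  exact TorAmpComp.amp_iso (DerivedCategory.Q.mapIso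
    ((NatIso.mapHomologicalComplex (collapseIso A B) (ComplexShape.up ℤ)).app P) ≪≫
      asIso (DerivedCategory.Q.map c)) h2

end Groth.Agent.FlatCx12.AmpDiag
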