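import Groth.Agent.EGA43.InjFibre.General
import Groth.Agent.EGA43.InjFibre.StalkBridge
import Mathlib.RingTheory.Localization.BaseChange
import Mathlib.LinearAlgebra.TensorProduct.RightExactness

/-!
# Exactness and flat cokernel at generizations of a point from exactness on the fibre
-/

set_option autoImplicit false
set_option backward.isDefEq.respectTransparency false
set_option linter.style.haveILetI false

universe u

open Function TensorProduct

namespace Groth.Agent.FlatCx12.AmpFibreRing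

open Groth.Agent.EGA43.InjFibre

variable {R B L : Type u} [CommRing R] [CommRing B] [CommRing L] [Algebra R B] [Algebra B L]
  {M₀ M₁ M₂ : Type u} [AddCommGroup M₀] [Module B M₀] [AddCommGroup M₁] [Module B M₁] [Module R M₁]
  [IsScalarTower R B M₁] [AddCommGroup M₂] [Module B M₂] [Module R M₂] [IsScalarTower R B M₂]
  (d₀ : M₀ →ₗ[B] M₁) (d₁ : M₁ →ₗ[B] M₂) (h₀₁ : d₁ ∘ₗ d₀ = 0)

/-- The map induced on the cokernel. -/
def uMap : (M₁ ⧸ LinearMap.range d₀) →ₗ[B] M₂ :=
  (LinearMap.range d₀).liftQ d₁ (LinearMap.range_le_ker_iff.2 h₀₁)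

theorem isLocalizedModule_mk (T : Submonoid B) [IsLocalization T L] (M : Type u) [AddCommGroup M] [Module B M] :
    IsLocalizedModule T (TensorProduct.mk B L M 1) :=
  (isLocalizedModule_iff_isBaseChange T L _).2 (TensorProduct.isBaseChange B M L)

/-- Injectivity on the fibre from exactness of the local fibre complex. -/
theorem fibInjAt_of_local (q : PrimeSpectrum B) [IsLocalization.AtPrime L q.asIdeal]
    (h : let I : Ideal L := ((q.asIdeal.comap (algebraMap R B)).map (algebraMap R B)).map (algebraMap B L)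
      ∀ x : L ⊗[B] M₁, d₁.baseChange L x ∈ I • (⊤ : Submodule L (L ⊗[B] M₂)) →
        ∃ n, x - d₀.baseChange L n ∈ I • (⊤ : Submodule L (L ⊗[B] M₁))) :
    FibInjAt R B (uMap d₀ d₁ h₀₁) q := by
  intro m ⟨c, hc, hcm⟩
  obtain ⟨m, rfl⟩ := Submodule.Quotient.mk_surjective _ m
  let I₀ := (q.asIdeal.comap (algebraMap R B)).map (algebraMap R B)
  haveI := isLocalizedModule_mk (L := L) q.asIdeal.primeCompl M₂
  haveI := isLocalizedModule_mk (L := L) q.asIdeal.primeCompl (M₁ ⧸ LinearMap.range d₀)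
  have h1 : d₁.baseChange L ((1 : L) ⊗ₜ[B] (c • m)) ∈ I₀.map (algebraMap B L) • (⊤ : Submodule L (L ⊗[B] M₂)) := by
    rw [LinearMap.baseChange_tmul]
    refine (mem_map_smul_top_localized q.asIdeal.primeCompl (TensorProduct.mk B L M₂ 1) I₀ _).2
      ⟨1, q.asIdeal.primeCompl.one_mem, ?_⟩
    rw [one_smul, map_smul]
    exact (mem_map_smul_top_iff _ _).2 hcm
  obtain ⟨n, hn⟩ := h _ h1
  have h2 := Submodule.mem_map_of_mem (f := (LinearMap.range d₀).mkQ.baseChange L) hn
  rw [Submodule.map_smul'', map_sub, ← LinearMap.comp_apply, ← LinearMap.baseChange_comp,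
    LinearMap.range_mkQ_comp, LinearMap.baseChange_zero, LinearMap.zero_apply, sub_zero,
    LinearMap.baseChange_tmul] at h2
  obtain ⟨d, hd, hdm⟩ := (mem_map_smul_top_localized q.asIdeal.primeCompl
    (TensorProduct.mk B L (M₁ ⧸ LinearMap.range d₀) 1) I₀ _).1 (Submodule.smul_mono le_rfl le_top h2)
  refine ⟨d * c, q.asIdeal.primeCompl.mul_mem hd hc, ?_⟩
  rw [mul_smul, ← Submodule.Quotient.mk_smul]
  exact (mem_map_smul_top_iff _ _).1 hdm

variable {d₀ d₁ h₀₁}

/-- Universal injectivity passes to generizations. -/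
theorem uInjAt_of_le {u : M₁ →ₗ[B] M₂} {q q' : PrimeSpectrum B} (hle : q'.asIdeal ≤ q.asIdeal)
    (h : UInjAt R B u q) : UInjAt R B u q' := fun _ _ _ z hz =>
  let ⟨c, hc, hcz⟩ := h z hz
  ⟨c, fun hc' => hc (hle hc'), hcz⟩

/-- Exactness after localisation. -/
theorem exact_baseChange {q : PrimeSpectrum B} [IsLocalization.AtPrime L q.asIdeal]
    (h : UInjAt R B (uMap d₀ d₁ h₀₁) q) : Exact (d₀.baseChange L) (d₁.baseChange L) := by
  haveI := isLocalizedModule_mk (L := L) q.asIdeal.primeCompl M₁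
  haveI := isLocalizedModule_mk (L := L) q.asIdeal.primeCompl M₂
  intro x
  refine ⟨fun hx => ?_, ?_⟩
  · obtain ⟨⟨m, s⟩, hms⟩ := IsLocalizedModule.surj q.asIdeal.primeCompl (TensorProduct.mk B L M₁ 1) x
    have h1 : TensorProduct.mk B L M₂ 1 (d₁ m) = 0 := by
      show (1 : L) ⊗ₜ[B] d₁ m = 0
      rw [← LinearMap.baseChange_tmul, ← TensorProduct.mk_apply, ← hms, Submonoid.smul_def,
        LinearMap.map_smul_of_tower, hx, smul_zero]
    obtain ⟨c, hc⟩ := (IsLocalizedModule.eq_zero_iff q.asIdeal.primeCompl _).1 h1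
    obtain ⟨d, hd, hdm⟩ := h.exists_smul_eq_zero (m := Submodule.Quotient.mk (c.1 • m)) (by
      show d₁ (c.1 • m) = 0
      rw [map_smul]; exact hc)
    rw [← Submodule.Quotient.mk_smul, Submodule.Quotient.mk_eq_zero] at hdm
    obtain ⟨n, hn⟩ := hdm
    have hu : IsUnit (algebraMap B L (d * c.1 * s.1)) :=
      IsLocalization.map_units L (⟨d, hd⟩ * c * s : q.asIdeal.primeCompl)
    refine ⟨(↑hu.unit⁻¹ : L) • ((1 : L) ⊗ₜ[B] n), ?_⟩
    rw [map_smul, LinearMap.baseChange_tmul, hn, ← TensorProduct.mk_apply, map_smul, map_smul, ← hms,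
      Submonoid.smul_def, smul_smul, smul_smul, ← algebraMap_smul L (d * c.1 * s.1) x, smul_smul,
      IsUnit.val_inv_mul, one_smul]
  · rintro ⟨n, rfl⟩
    rw [← LinearMap.comp_apply, ← LinearMap.baseChange_comp, h₀₁, LinearMap.baseChange_zero, LinearMap.zero_apply]

/-- Flatness over the base of the localised cokernel. -/
theorem flat_baseChange_coker {q : PrimeSpectrum B} [IsLocalization.AtPrime L q.asIdeal] [Algebra R L]
    [IsScalarTower R B L] [Module.Flat B M₂] [Module.Flat R B] (h : UInjAt R B (uMap d₀ d₁ h₀₁) q) :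
    Module.Flat R (L ⊗[B] (M₂ ⧸ LinearMap.range d₁)) := by
  haveI : Module.Flat B (LocalizedModule q.asIdeal.primeCompl M₂) :=
    Module.Flat.trans B (Localization q.asIdeal.primeCompl) _
  have hr : LinearMap.range (uMap d₀ d₁ h₀₁) = LinearMap.range d₁ := Submodule.range_liftQ _ _ _
  haveI := h.flat_coker (Module.Flat.trans R B _) (LinearMap.range d₁).mkQ (Submodule.mkQ_surjective _)
    (by rw [LinearMap.exact_iff, Submodule.ker_mkQ, hr])
  haveI := isLocalizedModule_mk (L := L) q.asIdeal.primeCompl (M₂ ⧸ LinearMap.range d₁)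
  exact Module.Flat.of_linearEquiv ((IsLocalizedModule.iso q.asIdeal.primeCompl
    (TensorProduct.mk B L (M₂ ⧸ LinearMap.range d₁) 1)).restrictScalars R).symm

end Groth.Agent.FlatCx12.AmpFibreRing
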