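import Groth.Agent.FlatCx12.TorAmpComp
import Groth.Agent.DCat.LTensorModule
import Groth.Agent.Desc19b.FlatOverBC
import Mathlib.RingTheory.TensorProduct.MvPolynomial
import Mathlib.Algebra.Category.ModuleCat.Descent
import Mathlib.Algebra.Category.Ring.Epi
import Mathlib.RingTheory.Localization.BaseChange

/-!
# Tor amplitude over the base under flat base change, for local rings of fibre products

A complex of modules over an algebra `B` of tor amplitude `[a, b]` over `A` has a model over a polynomial algebra
over `A` with terms flat over `A`; this model can be moved to any localisation of `A' ⊗[A] B`.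
-/

set_option autoImplicit false
set_option backward.isDefEq.respectTransparency false
set_option backward.defeqAttrib.useBackward true
set_option linter.style.haveILetI false

universe u

open CategoryTheory CategoryTheory.Limits MonoidalCategory TensorProduct HomologicalComplex

attribute [local instance] HasDerivedCategory.standard
attribute [local instance] MvPolynomial.algebraMvPolynomial

namespace Groth.Agent.FlatCx12.AmpFlatBC

open Groth.Agent.DCat

/-- A faithfully flat epimorphism of rings is bijective. -/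
theorem bijective_of_ff_epi (R S : Type u) [CommRing R] [CommRing S] [Algebra R S] [Module.FaithfullyFlat R S]
    [Algebra.IsEpi R S] : Function.Bijective (algebraMap R S) := by
  refine ⟨FaithfulSMul.algebraMap_injective R S, ?_⟩
  have h : Function.Surjective (LinearMap.lTensor S (Algebra.linearMap R S)) := by
    intro z
    induction z using TensorProduct.induction_on with
    | zero => exact ⟨0, map_zero _⟩
    | add x y hx hy =>
      obtain ⟨x, rfl⟩ := hx
      obtain ⟨y, rfl⟩ := hy
      exact ⟨x + y, map_add _ _ _⟩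
    | tmul s t =>
      refine ⟨(s * t) ⊗ₜ 1, ?_⟩
      rw [LinearMap.lTensor_tmul, Algebra.linearMap_apply, map_one]
      calc (s * t) ⊗ₜ[R] (1 : S) = (s ⊗ₜ 1) * (t ⊗ₜ 1) := by rw [Algebra.TensorProduct.tmul_mul_tmul, one_mul]
        _ = (s ⊗ₜ 1) * (1 ⊗ₜ t) := by rw [(Algebra.isEpi_iff_forall_one_tmul_eq R S).1 ‹_› t]
        _ = s ⊗ₜ t := by rw [Algebra.TensorProduct.tmul_mul_tmul, mul_one, one_mul]
  exact (Module.FaithfullyFlat.lTensor_surjective_iff_surjective R S (Algebra.linearMap R S)).1 h

/-- A flat epimorphism to a local ring is a localisation at a prime. -/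
theorem isLocalization_of_flat_epi (C O : Type u) [CommRing C] [CommRing O] [IsLocalRing O] [Algebra C O]
    [Module.Flat C O] [Algebra.IsEpi C O] :
    IsLocalization.AtPrime O ((IsLocalRing.maximalIdeal O).comap (algebraMap C O)) := by
  set q := (IsLocalRing.maximalIdeal O).comap (algebraMap C O) with hq
  let Cq := Localization.AtPrime q
  have hu : ∀ y : q.primeCompl, IsUnit (algebraMap C O y) := fun y =>
    IsLocalRing.notMem_maximalIdeal.1 y.2
  let ψ : Cq →+* O := IsLocalization.lift hu
  letI := ψ.toAlgebra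
  haveI : IsScalarTower C Cq O := IsScalarTower.of_algebraMap_eq fun c => (IsLocalization.lift_eq hu c).symm
  haveI : Module.Flat Cq O := (Module.flat_iff_of_isLocalization Cq q.primeCompl O).2 ‹_›
  haveI : IsLocalHom (algebraMap Cq O) := ⟨fun z hz => by
    obtain ⟨⟨c, s⟩, rfl⟩ := IsLocalization.mk'_surjective (M := q.primeCompl) z
    refine IsLocalization.AtPrime.isUnit_mk'_iff Cq q c s |>.2 ?_
    show c ∉ q
    rw [hq, Ideal.mem_comap]
    refine IsLocalRing.notMem_maximalIdeal.2 ?_
    have h2 : algebraMap Cq O (IsLocalization.mk' Cq c s) * algebraMap C O s = algebraMap C O c := by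
      rw [IsScalarTower.algebraMap_apply C Cq O, ← map_mul, IsLocalization.mk'_spec, ← IsScalarTower.algebraMap_apply]
    rw [← h2]
    exact hz.mul (hu s)⟩
  haveI : Module.FaithfullyFlat Cq O := Module.FaithfullyFlat.of_flat_of_isLocalHom
  haveI : Algebra.IsEpi Cq O := by
    rw [Algebra.isEpi_iff_forall_one_tmul_eq]
    intro s
    exact congrArg (TensorProduct.mapOfCompatibleSMul Cq C C O O) ((Algebra.isEpi_iff_forall_one_tmul_eq C O).1 ‹_› s)
  exact IsLocalization.isLocalization_of_algEquiv q.primeCompl
    (AlgEquiv.ofBijective (IsScalarTower.toAlgHom C Cq O) (bijective_of_ff_epi Cq O))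

/-- A flat-over-the-base model over an algebra which is flat over the base. -/
theorem exists_model {A B₀ : Type u} [CommRing A] [CommRing B₀] (ι : A →+* B₀) (hι : ι.Flat) (K : DRing.Cx B₀)
    {a b : ℤ} (h : DRing.HasTorAmplitudeIn A a b
      (DRing.toD (((ModuleCat.restrictScalars.{u} ι).mapHomologicalComplex (ComplexShape.up ℤ)).obj K))) :
    ∃ G : DRing.Cx B₀, DRing.VanishesOutside G a b ∧
      (∀ i, Module.Flat A ((ModuleCat.restrictScalars.{u} ι).obj (G.X i))) ∧
      Nonempty (DRing.toD G ≅ DRing.toD K) := by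
  let r := ModuleCat.restrictScalars.{u} ι
  haveI : ∀ N : ModuleCat.{u} A, DRing.HasLTensor A N := fun N => DCat.hasLTensor N
  have hex : ∀ i, i < a ∨ b < i → K.ExactAt i := fun i hi => by
    have h1 : ((r.mapHomologicalComplex (ComplexShape.up ℤ)).obj K).ExactAt i :=
      (isZero_homology_toD_iff _ i).1 (exactAt_of_vanish (vanish_of_flatAmp h _ hi))
    rw [HomologicalComplex.exactAt_iff] at h1 ⊢
    exact (ShortComplex.exact_map_iff_of_faithful (K.sc i) r).1 h1
  obtain ⟨P, hP, hPf, hPb, ⟨e⟩⟩ := exists_flat_rep (R := B₀) (b := b) (K := DRing.toD K)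
    fun i hi => (isZero_homology_toD_iff K i).2 (hex i (Or.inr hi))
  haveI : P.IsStrictlyLE b := by
    rw [CochainComplex.isStrictlyLE_iff]
    exact hPb
  haveI : P.IsGE a := by
    rw [CochainComplex.isGE_iff]
    intro i hi
    rw [← isZero_homology_toD_iff]
    exact ((isZero_homology_toD_iff K i).2 (hex i (Or.inl hi))).of_iso
      ((DerivedCategory.homologyFunctor (ModuleCat.{u} B₀) i).mapIso e)
  let P' := (r.mapHomologicalComplex (ComplexShape.up ℤ)).obj P
  have hPf' : DRing.TermwiseFlat P' := fun i => by
    haveI := hPf i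
    letI := ι.toAlgebra
    haveI : Module.Flat A B₀ := hι
    letI : Module A (P.X i) := Module.compHom _ ι
    haveI : IsScalarTower A B₀ (P.X i) := IsScalarTower.of_algebraMap_smul fun _ _ => rfl
    exact (Module.Flat.trans A B₀ (P.X i) : Module.Flat A (P.X i))
  have hPb' : DRing.VanishesAbove P' b := fun i hi => r.map_isZero (hPb i hi)
  let e' : DRing.toD P' ≅ DRing.toD ((r.mapHomologicalComplex (ComplexShape.up ℤ)).obj K) :=
    (r.mapDerivedCategoryFactors.app P).symm ≪≫ r.mapDerivedCategory.mapIso e ≪≫ r.mapDerivedCategoryFactors.app K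
  refine ⟨P.truncGE a, fun i hi => ?_, fun i => ?_,
    ⟨(asIso (DerivedCategory.Q.map (P.πTruncGE a))).symm ≪≫ e⟩⟩
  · obtain hi | hi := hi
    · exact CochainComplex.isZero_of_isStrictlyGE _ a i hi
    · by_cases hia : i < a
      · exact CochainComplex.isZero_of_isStrictlyGE _ a i hia
      · exact CochainComplex.isZero_of_isStrictlyLE _ b i hi
  · rcases lt_trichotomy i a with hi | rfl | hi
    · haveI := ModuleCat.subsingleton_of_isZero
        (r.map_isZero (CochainComplex.isZero_of_isStrictlyGE (P.truncGE a) a i hi))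
      infer_instance
    · have hfl := flat_cokernel_cat P' (isKFlatFor_of_vanishesAbove P' b hPb' hPf') hPf' i e'
        fun N => vanish_of_flatAmp h N (Or.inl (by omega))
      exact @Module.Flat.of_linearEquiv _ _ _ _ _ _ _ _ hfl ((PreservesCokernel.iso r (P.d (i - 1) i)).symm ≪≫
        r.mapIso (IsColimit.coconePointUniqueUpToIso (colimit.isColimit _)
          (P.opcyclesIsCokernel (i - 1) i (by simp)) ≪≫ (P.truncGEXIsoOpcycles i).symm)).toLinearEquiv.symm
    · haveI : Module.Flat A (r.obj (P.X i)) := hPf' i
      exact Module.Flat.of_linearEquiv (r.mapIso (P.truncGEXIso a i (by omega))).toLinearEquiv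

section Move

/-- Tor amplitude over the base passes to a localisation of the base change. -/
theorem amp_bc {A A' B T O : Type u} [CommRing A] [CommRing A'] [CommRing B] [CommRing T] [CommRing O]
    [Algebra A A'] [Module.Flat A A'] [Algebra A B] [Algebra A' T] [Algebra B T] [Algebra A T]
    [IsScalarTower A A' T] [IsScalarTower A B T] [Algebra.IsPushout A A' B T]
    (S : Submonoid T) [Algebra T O] [IsLocalization S O] [Algebra A' O] [IsScalarTower A' T O]
    (β : B →+* O) (hβ : ∀ r, β r = algebraMap T O (algebraMap B T r)) (F : DRing.Cx B) {a b : ℤ}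
    (h : DRing.HasTorAmplitudeIn A a b
      (DRing.toD (((ModuleCat.restrictScalars.{u} (algebraMap A B)).mapHomologicalComplex (ComplexShape.up ℤ)).obj F))) :
    DRing.HasTorAmplitudeIn A' a b
      (DRing.toD (((ModuleCat.extendScalars.{u, u, u} β ⋙
        ModuleCat.restrictScalars.{u} (algebraMap A' O)).mapHomologicalComplex (ComplexShape.up ℤ)).obj F)) := by
  letI : Algebra B O := β.toAlgebra
  haveI : IsScalarTower B T O := .of_algebraMap_eq hβ
  let B₀ := MvPolynomial B A
  let T₀ := MvPolynomial B A'
  let π : B₀ →ₐ[A] B := MvPolynomial.aeval id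
  let π' : T₀ →ₐ[A'] T := MvPolynomial.aeval fun i : B => algebraMap B T i
  letI : Algebra B₀ B := π.toRingHom.toAlgebra
  letI : Algebra T₀ T := π'.toRingHom.toAlgebra
  letI : Algebra B₀ T := ((algebraMap B T).comp π.toRingHom).toAlgebra
  haveI : IsScalarTower B₀ B T := .of_algebraMap_eq fun _ => rfl
  have hsq : ∀ p : B₀, π' (MvPolynomial.map (algebraMap A A') p) = algebraMap B T (π p) := fun p => by
    induction p using MvPolynomial.induction_on with
    | C a => rw [MvPolynomial.map_C, ← MvPolynomial.algebraMap_eq, AlgHom.commutes, ← MvPolynomial.algebraMap_eq,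
        AlgHom.commutes, ← IsScalarTower.algebraMap_apply, ← IsScalarTower.algebraMap_apply]
    | add p q hp hq => simp only [map_add, hp, hq]
    | mul_X p i hp =>
      rw [map_mul, map_mul, map_mul, map_mul, hp, MvPolynomial.map_X]
      exact congrArg _ ((MvPolynomial.aeval_X _ i).trans (congrArg (algebraMap B T) (MvPolynomial.aeval_X (R := A) id i).symm))
  haveI : IsScalarTower B₀ T₀ T := .of_algebraMap_eq fun p => (hsq p).symm
  haveI : IsScalarTower A B₀ B := .of_algHom π
  haveI : IsScalarTower A' T₀ T := .of_algHom π'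
  haveI : IsScalarTower A B₀ T := .of_algebraMap_eq fun r => by
    show algebraMap A T r = algebraMap B T (π (algebraMap A _ r))
    rw [AlgHom.commutes, ← IsScalarTower.algebraMap_apply]
  haveI : IsScalarTower A T₀ T := .of_algebraMap_eq fun r => by
    rw [IsScalarTower.algebraMap_apply A A' T₀, ← IsScalarTower.algebraMap_apply A' T₀ T,
      ← IsScalarTower.algebraMap_apply]
  haveI : Algebra.IsPushout A A' B₀ T₀ := inferInstance
  haveI : Algebra.IsPushout A B₀ A' T₀ := Algebra.IsPushout.symm inferInstance
  haveI : Algebra.IsPushout B₀ B T₀ T :=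
    (Algebra.IsPushout.comp_iff (R := A) (S := B₀) (T := B) (R' := A') (S' := T₀) (T' := T)).1
      (Algebra.IsPushout.symm inferInstance)
  have hπ' : Function.Surjective π' := fun t => by
    obtain ⟨z, rfl⟩ := (Algebra.IsPushout.equiv A A' B T).surjective t
    induction z using TensorProduct.induction_on with
    | zero => exact ⟨0, by simp only [map_zero]⟩
    | tmul r m =>
      refine ⟨MvPolynomial.C r * MvPolynomial.X m, ?_⟩
      rw [Algebra.IsPushout.equiv_tmul]
      rw [map_mul]
      exact congrArg₂ (· * ·) (MvPolynomial.aeval_C _ r) (MvPolynomial.aeval_X _ m)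
    | add x y hx hy =>
      obtain ⟨p, hp⟩ := hx
      obtain ⟨q, hq⟩ := hy
      exact ⟨p + q, by simp only [map_add, hp, hq]⟩
  let S₀ : Submonoid T₀ := S.comap π'.toRingHom
  have hS : Algebra.algebraMapSubmonoid T S₀ = S := Submonoid.map_comap_eq_of_surjective hπ' S
  obtain ⟨L, _, _, _⟩ : ∃ (L : Type u) (_ : CommRing L) (_ : Algebra T₀ L), IsLocalization S₀ L :=
    ⟨Localization S₀, inferInstance, inferInstance, inferInstance⟩
  have hu : ∀ y : S₀, IsUnit (algebraMap T O (π' y)) := fun y =>
    IsLocalization.map_units O (⟨π' y, y.2⟩ : S)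
  let ψ : L →+* O := IsLocalization.lift (g := (algebraMap T O).comp π'.toRingHom) hu
  letI : Algebra L O := ψ.toAlgebra
  letI : Algebra T₀ O := ((algebraMap T O).comp π'.toRingHom).toAlgebra
  haveI : IsScalarTower T₀ T O := .of_algebraMap_eq fun _ => rfl
  haveI : IsScalarTower T₀ L O := .of_algebraMap_eq fun c => (IsLocalization.lift_eq hu c).symm
  haveI : IsLocalization (Algebra.algebraMapSubmonoid T S₀) O := by rw [hS]; infer_instance
  haveI : Algebra.IsPushout T₀ L T O := Algebra.IsPushout.symm (Algebra.isPushout_of_isLocalization S₀ L T O)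
  letI : Algebra B₀ L := ((algebraMap T₀ L).comp (algebraMap B₀ T₀)).toAlgebra
  haveI : IsScalarTower B₀ T₀ L := .of_algebraMap_eq fun _ => rfl
  letI : Algebra B₀ O := ((algebraMap B O).comp π.toRingHom).toAlgebra
  haveI : IsScalarTower B₀ B O := .of_algebraMap_eq fun _ => rfl
  haveI : IsScalarTower B₀ T O := .of_algebraMap_eq fun p => by
    show algebraMap B O (π p) = algebraMap T O (algebraMap B T (π p))
    rw [← IsScalarTower.algebraMap_apply]
  haveI : IsScalarTower B₀ T₀ O := .of_algebraMap_eq fun p => by
    rw [IsScalarTower.algebraMap_apply B₀ T O, IsScalarTower.algebraMap_apply B₀ T₀ T,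
      ← IsScalarTower.algebraMap_apply T₀ T O]
  haveI : IsScalarTower B₀ L O := IsScalarTower.of_algebraMap_eq (R := B₀) (S := L) (A := O) fun p => by
    rw [IsScalarTower.algebraMap_apply B₀ T₀ O, IsScalarTower.algebraMap_apply T₀ L O]
    rfl
  haveI : Algebra.IsPushout B₀ T₀ B T := Algebra.IsPushout.symm inferInstance
  haveI : Algebra.IsPushout B₀ L B O :=
    (Algebra.IsPushout.comp_iff (R := B₀) (S := T₀) (T := L) (R' := B) (S' := T) (T' := O)).2 inferInstance
  haveI : Module.Flat B₀ T₀ :=
    Module.Flat.of_linearEquiv (Algebra.IsPushout.equiv A B₀ A' T₀).toLinearEquiv.symm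
  haveI : Module.Flat T₀ L := IsLocalization.flat L S₀
  have hfl : (algebraMap B₀ L).Flat := RingHom.flat_algebraMap_iff.2 (Module.Flat.trans B₀ T₀ L)
  letI : Algebra A' L := ((algebraMap T₀ L).comp (algebraMap A' T₀)).toAlgebra
  haveI : IsScalarTower A' T₀ L := .of_algebraMap_eq fun _ => rfl
  haveI := ModuleCat.preservesFiniteLimits_extendScalars_of_flat hfl
  let Φ : ModuleCat.{u} B₀ ⥤ ModuleCat.{u} A' :=
    ModuleCat.extendScalars.{u, u, u} (algebraMap B₀ L) ⋙ ModuleCat.restrictScalars.{u} (algebraMap A' L)
  haveI : Φ.Additive := inferInstance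
  haveI : PreservesFiniteLimits Φ := comp_preservesFiniteLimits _ _
  haveI : PreservesFiniteColimits Φ := comp_preservesFiniteColimits _ _
  -- the comparison
  have hA'O : ∀ r : A', algebraMap A' O r = algebraMap L O (algebraMap A' L r) := fun r => by
    rw [IsScalarTower.algebraMap_apply A' T O, IsScalarTower.algebraMap_apply A' T₀ T,
      ← IsScalarTower.algebraMap_apply T₀ T O, IsScalarTower.algebraMap_apply T₀ L O]
    rfl
  let c : ∀ M : ModuleCat.{u} B, Φ.obj ((ModuleCat.restrictScalars.{u} (algebraMap B₀ B)).obj M) ≅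
      (ModuleCat.extendScalars.{u, u, u} β ⋙ ModuleCat.restrictScalars.{u} (algebraMap A' O)).obj M :=
    fun M =>
      letI : Module B₀ M := Module.compHom M (algebraMap B₀ B)
      haveI : IsScalarTower B₀ B M := IsScalarTower.of_algebraMap_smul fun _ _ => rfl
      LinearEquiv.toModuleIso (X₁ := Φ.obj ((ModuleCat.restrictScalars.{u} (algebraMap B₀ B)).obj M))
        (X₂ := (ModuleCat.extendScalars.{u, u, u} β ⋙ ModuleCat.restrictScalars.{u} (algebraMap A' O)).obj M)
        { (Algebra.IsPushout.cancelBaseChange B₀ L B O M).symm.toAddEquiv with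
          map_smul' := fun r x => by
            refine ((Algebra.IsPushout.cancelBaseChange B₀ L B O M).symm.map_smul (algebraMap A' L r) x).trans ?_
            show (algebraMap A' L r • ((Algebra.IsPushout.cancelBaseChange B₀ L B O M).symm x : O ⊗[B] M)) =
              (algebraMap A' O r • ((Algebra.IsPushout.cancelBaseChange B₀ L B O M).symm x : O ⊗[B] M))
            rw [hA'O]
            exact (algebraMap_smul O (algebraMap A' L r) _).symm }
  let η : ModuleCat.restrictScalars.{u} (algebraMap B₀ B) ⋙ Φ ≅
      ModuleCat.extendScalars.{u, u, u} β ⋙ ModuleCat.restrictScalars.{u} (algebraMap A' O) :=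
    NatIso.ofComponents c (fun {M N} g => by
      letI : Module B₀ M := Module.compHom M (algebraMap B₀ B)
      haveI : IsScalarTower B₀ B M := IsScalarTower.of_algebraMap_smul fun _ _ => rfl
      letI : Module B₀ N := Module.compHom N (algebraMap B₀ B)
      haveI : IsScalarTower B₀ B N := IsScalarTower.of_algebraMap_smul fun _ _ => rfl
      refine ModuleCat.hom_ext (LinearMap.ext fun x => ?_)
      change L ⊗[B₀] M at x
      induction x using TensorProduct.induction_on with
      | zero => exact (map_zero _).trans (map_zero _).symm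
      | add y z hy hz => exact (map_add _ y z).trans ((congrArg₂ (· + ·) hy hz).trans (map_add _ y z).symm)
      | tmul l m =>
        show (Algebra.IsPushout.cancelBaseChange B₀ L B O N).symm (l ⊗ₜ g.hom m) =
          (g.hom.baseChange O) ((Algebra.IsPushout.cancelBaseChange B₀ L B O M).symm (l ⊗ₜ m))
        rw [Algebra.IsPushout.cancelBaseChange_symm_tmul, Algebra.IsPushout.cancelBaseChange_symm_tmul]
        rfl)
  -- the model
  let ι : A →+* B₀ := algebraMap A B₀
  let K : DRing.Cx B₀ := ((ModuleCat.restrictScalars.{u} (algebraMap B₀ B)).mapHomologicalComplex (ComplexShape.up ℤ)).obj F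
  let ρ := ModuleCat.restrictScalarsComp'.{u} ι (algebraMap B₀ B) (algebraMap A B)
    (IsScalarTower.algebraMap_eq A B₀ B)
  let eK : ((ModuleCat.restrictScalars.{u} (algebraMap A B)).mapHomologicalComplex (ComplexShape.up ℤ)).obj F ≅
      ((ModuleCat.restrictScalars.{u} ι).mapHomologicalComplex (ComplexShape.up ℤ)).obj K :=
    Hom.isoOfComponents (fun i => ρ.app (F.X i)) (fun p q _ => (ρ.hom.naturality (F.d p q)).symm)
  obtain ⟨G, hG, hGf, ⟨eG⟩⟩ := exists_model ι (RingHom.flat_algebraMap_iff.2 inferInstance) K
    (TorAmpComp.amp_iso (DerivedCategory.Q.mapIso eK) h)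
  refine ⟨(Φ.mapHomologicalComplex (ComplexShape.up ℤ)).obj G, fun i hi => Φ.map_isZero (hG i hi), fun i => ?_,
    ⟨(Φ.mapDerivedCategoryFactors.app G).symm ≪≫ Φ.mapDerivedCategory.mapIso eG ≪≫
      Φ.mapDerivedCategoryFactors.app K ≪≫ DerivedCategory.Q.mapIso
        (Hom.isoOfComponents (fun j => η.app (F.X j)) (fun p q _ => (η.hom.naturality (F.d p q)).symm))⟩⟩
  letI : Module A (G.X i) := Module.compHom _ ι
  haveI : IsScalarTower A B₀ (G.X i) := IsScalarTower.of_algebraMap_smul fun _ _ => rfl
  haveI : Module.Flat A (G.X i) := hGf i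
  haveI : Module.Flat A' (L ⊗[B₀] (G.X i)) :=
    Desc19b.flat_of_baseChange_module (R := A) (A := B₀) (R' := A') (T := T₀) (O := L) (G.X i)
  let ef : (L ⊗[B₀] (G.X i)) ≃ₗ[A'] Φ.obj (G.X i) :=
    { AddEquiv.refl _ with
      map_smul' := fun r x => by
        show r • x = algebraMap A' L r • x
        rw [algebraMap_smul] }
  exact Module.Flat.of_linearEquiv ef.symm

end Move

end Groth.Agent.FlatCx12.AmpFlatBC
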