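import Groth.Agent.FlatCx12.AmpFlatBC
import Groth.Agent.FlatCx12.AmpThick
import Groth.Agent.FlatBC14.Main

/-!
# Tor amplitude relative to a morphism under flat base change
-/

set_option autoImplicit false
set_option backward.isDefEq.respectTransparency false
set_option backward.defeqAttrib.useBackward true
set_option linter.style.haveILetI false

universe u

open CategoryTheory CategoryTheory.Limits AlgebraicGeometry HomologicalComplex

attribute [local instance] HasDerivedCategory.standard

namespace Groth.Agent.FlatCx12.AmpFlatBCScheme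

variable {X S X' S' : Scheme.{u}}

/-- Stalkwise tor amplitude of the inverse image in a flat base change. -/
theorem amp_pullback (f : X ⟶ S) (f' : X' ⟶ S') (g' : X' ⟶ X) (g : S' ⟶ S) (hc : IsPullback g' f' f g) [Flat g]
    (F : CochainComplex X.Modules ℤ) {a b : ℤ} (x' : X') (hF : DerSch.HasTorAmplitudeAt f a b F (g' x')) :
    DerSch.HasTorAmplitudeAt f' a b
      (((Scheme.Modules.pullback g').mapHomologicalComplex (ComplexShape.up ℤ)).obj F) x' := by
  have hpt : g (f' x') = f (g' x') := by
    show (f' ≫ g) x' = (g' ≫ f) x'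
    rw [hc.w]
  let α : S.presheaf.stalk (f (g' x')) ⟶ X.presheaf.stalk (g' x') := f.stalkMap (g' x')
  let β : S.presheaf.stalk (f (g' x')) ⟶ S'.presheaf.stalk (f' x') :=
    S.presheaf.stalkSpecializes (specializes_of_eq hpt) ≫ g.stalkMap (f' x')
  have ha : Spec.map α ≫ S.fromSpecStalk (f (g' x')) = X.fromSpecStalk (g' x') ≫ f :=
    Scheme.SpecMap_stalkMap_fromSpecStalk f
  have hb : Spec.map β ≫ S.fromSpecStalk (f (g' x')) = S'.fromSpecStalk (f' x') ≫ g := by
    simp only [β, Spec.map_comp, Category.assoc, Scheme.SpecMap_stalkSpecializes_fromSpecStalk,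
      Scheme.SpecMap_stalkMap_fromSpecStalk]
  have w : α ≫ g'.stalkMap x' = β ≫ f'.stalkMap x' := by
    apply Spec.map_injective
    rw [← cancel_mono (S.fromSpecStalk (f (g' x'))), Spec.map_comp α, Spec.map_comp β, Category.assoc,
      Category.assoc, ha, hb, ← Category.assoc, ← Category.assoc, Scheme.SpecMap_stalkMap_fromSpecStalk,
      Scheme.SpecMap_stalkMap_fromSpecStalk, Category.assoc, Category.assoc, hc.w]
  let θ := pushout.desc (g'.stalkMap x') (f'.stalkMap x') w
  have hθ : θ.hom.Flat := Desc19b.exists_flat_stalk_tensor f f' g' g hc x' α β w _ ha hb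
  have hmono : Epi θ := by
    let m : Spec (pushout α β) ⟶ X' :=
      hc.lift (Spec.map (pushout.inl α β) ≫ X.fromSpecStalk _) (Spec.map (pushout.inr α β) ≫ S'.fromSpecStalk _) (by
        rw [Category.assoc, Category.assoc, ← ha, ← hb, ← Spec.map_comp_assoc, ← Spec.map_comp_assoc, pushout.condition])
    have hm : Spec.map θ ≫ m = X'.fromSpecStalk x' := by
      apply hc.hom_ext
      · rw [Category.assoc, hc.lift_fst, ← Spec.map_comp_assoc, pushout.inl_desc]
        exact Scheme.SpecMap_stalkMap_fromSpecStalk _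
      · rw [Category.assoc, hc.lift_snd, ← Spec.map_comp_assoc, pushout.inr_desc]
        exact Scheme.SpecMap_stalkMap_fromSpecStalk _
    haveI : Mono (Spec.map θ ≫ m) := by rw [hm]; infer_instance
    haveI : Mono (Spec.map θ) := mono_of_mono _ m
    exact ⟨fun {R} u v huv => Spec.map_injective ((cancel_mono (Spec.map θ)).1 (by
      rw [← Spec.map_comp, ← Spec.map_comp, huv]))⟩
  letI : Algebra (S.presheaf.stalk (f (g' x'))) (X.presheaf.stalk (g' x')) := α.hom.toAlgebra
  letI : Algebra (S.presheaf.stalk (f (g' x'))) (S'.presheaf.stalk (f' x')) := β.hom.toAlgebra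
  haveI : Module.Flat (S.presheaf.stalk (f (g' x'))) (S'.presheaf.stalk (f' x')) := by
    have h1 : β.hom.Flat := by
      rw [CommRingCat.hom_comp]
      refine RingHom.Flat.comp ?_ (Flat.stalkMap g _)
      exact RingHom.Flat.of_bijective (ConcreteCategory.bijective_of_isIso
        (S.presheaf.stalkCongr (.of_eq hpt.symm)).hom)
    exact h1
  letI : Algebra (S'.presheaf.stalk (f' x')) ↑(pushout α β) := (pushout.inr α β).hom.toAlgebra
  letI : Algebra (X.presheaf.stalk (g' x')) ↑(pushout α β) := (pushout.inl α β).hom.toAlgebra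
  letI : Algebra (S.presheaf.stalk (f (g' x'))) ↑(pushout α β) := (α ≫ pushout.inl α β).hom.toAlgebra
  haveI : IsScalarTower (S.presheaf.stalk (f (g' x'))) (X.presheaf.stalk (g' x')) ↑(pushout α β) :=
    .of_algebraMap_eq fun _ => rfl
  haveI : IsScalarTower (S.presheaf.stalk (f (g' x'))) (S'.presheaf.stalk (f' x')) ↑(pushout α β) :=
    .of_algebraMap_eq fun r => RingHom.congr_fun (congrArg CommRingCat.Hom.hom (pushout.condition (f := α) (g := β))) r
  haveI : Algebra.IsPushout (S.presheaf.stalk (f (g' x'))) (S'.presheaf.stalk (f' x'))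
      (X.presheaf.stalk (g' x')) ↑(pushout α β) :=
    CommRingCat.isPushout_iff_isPushout.1 (IsPushout.of_hasPushout α β).flip
  letI : Algebra ↑(pushout α β) (X'.presheaf.stalk x') := θ.hom.toAlgebra
  letI : Algebra (S'.presheaf.stalk (f' x')) (X'.presheaf.stalk x') := (f'.stalkMap x').hom.toAlgebra
  haveI : IsScalarTower (S'.presheaf.stalk (f' x')) ↑(pushout α β) (X'.presheaf.stalk x') :=
    .of_algebraMap_eq fun r => (RingHom.congr_fun (congrArg CommRingCat.Hom.hom (pushout.inr_desc _ _ w)) r).symm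
  haveI : Module.Flat ↑(pushout α β) (X'.presheaf.stalk x') := hθ
  haveI : Algebra.IsEpi ↑(pushout α β) (X'.presheaf.stalk x') := by
    refine CommRingCat.epi_iff_epi.1 ?_
    exact hmono
  haveI := AmpFlatBC.isLocalization_of_flat_epi ↑(pushout α β) (X'.presheaf.stalk x')
  have key := AmpFlatBC.amp_bc (A := S.presheaf.stalk (f (g' x'))) (A' := S'.presheaf.stalk (f' x'))
    (B := X.presheaf.stalk (g' x')) (O := X'.presheaf.stalk x')
    (Ideal.primeCompl ((IsLocalRing.maximalIdeal (X'.presheaf.stalk x')).comap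
      (algebraMap ↑(pushout α β) (X'.presheaf.stalk x')))) (g'.stalkMap x').hom
    (fun r => (RingHom.congr_fun (congrArg CommRingCat.Hom.hom (pushout.inl_desc _ _ w)) r).symm)
    (((DerSch.stalkFunctor X (g' x')).mapHomologicalComplex (ComplexShape.up ℤ)).obj F) (a := a) (b := b)
  refine TorAmpComp.amp_iso (DerivedCategory.Q.mapIso ?_) (key ?_)
  · let η : DerSch.stalkFunctor X (g' x') ⋙ (ModuleCat.extendScalars.{u, u, u} (g'.stalkMap x').hom ⋙
        ModuleCat.restrictScalars.{u} (f'.stalkMap x').hom) ≅ Scheme.Modules.pullback g' ⋙ DerSch.stalkOver f' x' :=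
      (Functor.associator _ _ _).symm ≪≫ Functor.isoWhiskerRight (ModStalk.pullbackStalkIso g' x').symm _ ≪≫
        Functor.associator _ _ _
    exact Hom.isoOfComponents (fun i => η.app (F.X i)) (fun p q _ => (η.hom.naturality (F.d p q)).symm)
  · exact TorAmpComp.amp_iso (DerivedCategory.Q.mapIso (Hom.isoOfComponents (fun i => Iso.refl _)
      (fun p q _ => (Category.id_comp _).trans (Category.comp_id _).symm))) hF

/-- Flat base change preserves relative tor amplitude. -/
theorem amp_Lpull_flat (f : X ⟶ S) (f' : X' ⟶ S') (g' : X' ⟶ X) (g : S' ⟶ S) (hc : IsPullback g' f' f g) [Flat g]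
    [DCoh.HasLpull g'] (F : CochainComplex X.Modules ℤ) {a b : ℤ} (hF : DerSch.HasTorAmplitude f a b F) :
    DerSch.HasTorAmplitudeD f' a b ((DCoh.Lpull g').obj (DCoh.toD X F)) := by
  intro F' ⟨e⟩ x'
  haveI : Flat g' := MorphismProperty.of_isPullback hc.flip inferInstance
  obtain ⟨e'⟩ := FlatBC14.nonempty_Lpull_Q g' F
  exact AmpThick.amp_congr f' x' (e'.symm ≪≫ e.symm) (amp_pullback f f' g' g hc F x' (hF _))

end Groth.Agent.FlatCx12.AmpFlatBCScheme
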