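import Groth.Agent.DCat.TorSheaf
import Groth.Agent.FlatCx12.DiagDim
import Groth.Agent.DCat.ClosedPush
import Groth.Agent.FlatCx12.AmpFibre
import Mathlib.AlgebraicGeometry.Morphisms.Smooth

/-!
# Flat amplitude of complexes of sheaves from the stalks; tor amplitude on smooth schemes over a base
-/

set_option autoImplicit false
set_option backward.isDefEq.respectTransparency false
set_option backward.defeqAttrib.useBackward true
set_option linter.style.haveILetI false

universe u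

open CategoryTheory CategoryTheory.Limits AlgebraicGeometry MonoidalCategory HomologicalComplex
open Groth.Agent.DCat Groth.Agent.ModStalk

attribute [local instance] HasDerivedCategory.standard

namespace Groth.Agent.FlatCx12.AmpStalks

/-- Tor amplitude of all stalks gives flat amplitude. -/
theorem flatAmp_of_stalks {X : Scheme.{u}} (G : CochainComplex X.Modules ℤ) {a b : ℤ}
    (h : ∀ x, DRing.HasTorAmplitudeIn (X.presheaf.stalk x) a b (DRing.toD ((stalkK x).obj G))) :
    DCoh.HasFlatAmplitudeIn a b (DCoh.toD X G) := by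
  obtain ⟨P, c, hP, -, hc, -⟩ := exists_kflat_sheaf G
  haveI := hc
  have key : ∀ (x : X) (N : ModuleCat.{u} (X.presheaf.stalk x)) (i : ℤ), i < a ∨ b < i →
      (((tensorRight N).mapHomologicalComplex (ComplexShape.up ℤ)).obj ((stalkK x).obj P)).ExactAt i :=
    fun x N i hi => by
    haveI := (quasiIso_iff_stalks c).1 inferInstance x
    haveI := DCat.hasLTensor N
    exact (DCat.isZero_ltensor_iff N ((isKFlatFor_iff_stalks P).1 hP x)
      (asIso (DerivedCategory.Q.map ((stalkK x).map c))) i).1 (TorAmpComp.amp_iff_vanish.1 (h x) N i hi)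
  by_cases hab : a ≤ b
  · refine flatAmp_of_torAmp hab fun F _ i hi => ?_
    rw [isZero_HD_ltensorMod_iff F hP (asIso (DerivedCategory.Q.map c)) i, ← DCat.exactAt_iff_stalks]
    intro x
    exact (key x _ i hi).of_iso (stalkTensorModCxIso F x P).symm
  · have hex : ∀ i, G.ExactAt i := fun i => by
      rw [← exactAt_iff_of_quasiIsoAt c i, ← DCat.exactAt_iff_stalks]
      intro x
      exact (key x (𝟙_ _) i (by omega)).of_iso
        (Hom.isoOfComponents (fun n => ρ_ _) (fun p q _ => (rightUnitor_naturality _).symm))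
    let Z : CochainComplex X.Modules ℤ := HomologicalComplex.zero
    have hZ : IsZero Z := HomologicalComplex.isZero_zero
    haveI : QuasiIso (0 : Z ⟶ G) := by
      rw [quasiIso_iff]
      intro i
      exact (quasiIsoAt_iff_exactAt (0 : Z ⟶ G) i
        (ExactAt.of_isZero ((HomologicalComplex.eval _ _ i).map_isZero hZ))).2 (hex i)
    exact ⟨Z, fun i _ => (HomologicalComplex.eval _ _ i).map_isZero hZ,
      fun i => DCat.isFlat_of_isZero ((HomologicalComplex.eval _ _ i).map_isZero hZ),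
      ⟨asIso (DerivedCategory.Q.map (0 : Z ⟶ G))⟩⟩

/-- On a scheme smooth of relative dimension `≤ d`, tor amplitude over the base gives tor amplitude. -/
theorem amp_stalk_of_smooth {X Y : Scheme.{u}} (f : X ⟶ Y) (d : ℕ) (x : X)
    (hd : ∃ (n : ℕ) (V : X.Opens), n ≤ d ∧ x ∈ V ∧ SmoothOfRelativeDimension n (V.ι ≫ f))
    (G : CochainComplex X.Modules ℤ) {a b : ℤ} (h : DerSch.HasTorAmplitudeAt f a b G x) :
    DRing.HasTorAmplitudeIn (X.presheaf.stalk x) (a - d) b (DRing.toD ((stalkK x).obj G)) := by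
  obtain ⟨n, V, hn, hxV, hV⟩ := hd
  obtain ⟨U, hU, W, hW, hxW, e, hsm⟩ :=
    hV.exists_isStandardSmoothOfRelativeDimension ⟨x, hxV⟩
  have hW' : IsAffineOpen (V.ι ''ᵁ W) := hW.image_of_isOpenImmersion V.ι
  have hx' : x ∈ V.ι ''ᵁ W := ⟨⟨x, hxV⟩, hxW, rfl⟩
  have e' : V.ι ''ᵁ W ≤ f ⁻¹ᵁ U := by
    rintro y ⟨w, hw, rfl⟩
    exact e hw
  have hy : f x ∈ U := e' hx'
  have hsm' : RingHom.IsStandardSmoothOfRelativeDimension n (f.appLE U (V.ι ''ᵁ W) e').hom := by
    have : ((V.ι ≫ f).appLE U W e).hom =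
        ((V.ι.appIso W).hom).hom.comp (f.appLE U (V.ι ''ᵁ W) e').hom := by
      rw [← CommRingCat.hom_comp, Scheme.Hom.appIso_hom', Scheme.Hom.appLE_comp_appLE]
    rw [this] at hsm
    have h2 := RingHom.isStandardSmoothOfRelativeDimension_respectsIso.left _
      (V.ι.appIso W).commRingCatIsoToRingEquiv.symm hsm
    convert h2 using 1
    ext r
    exact (RingEquiv.symm_apply_apply (V.ι.appIso W).commRingCatIsoToRingEquiv _).symm
  obtain ⟨g, hg, hge⟩ := hsm'.exists_etale_mvPolynomial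
  let R := Γ(Y, U)
  let S := Γ(X, V.ι ''ᵁ W)
  let B := X.presheaf.stalk x
  let ρ : R →+* Y.presheaf.stalk (f x) := (Y.presheaf.germ U (f x) hy).hom
  let σ : S →+* B := (X.presheaf.germ (V.ι ''ᵁ W) x hx').hom
  have hρ : ρ.Flat := by
    letI := ρ.toAlgebra
    haveI := hU.isLocalization_stalk ⟨f x, hy⟩
    exact IsLocalization.flat (Y.presheaf.stalk (f x)) (hU.primeIdealOf ⟨f x, hy⟩).asIdeal.primeCompl
  let χ : R →+* B := (f.stalkMap x).hom.comp ρ
  have hc : χ = (σ.comp g).comp MvPolynomial.C := by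
    rw [RingHom.comp_assoc, hg]
    show ((Y.presheaf.germ U (f x) hy) ≫ f.stalkMap x).hom = _
    rw [Scheme.Hom.germ_stalkMap, Scheme.Hom.appLE, ← CommRingCat.hom_comp, Category.assoc,
      X.presheaf.germ_res]
  obtain ⟨r⟩ := DiagDim.nonempty_restrict_comp ρ (f.stalkMap x).hom χ rfl ((stalkK x).obj G)
  let c₀ : (DerSch.stalkCxOver f x).obj G ≅ (DRing.restrictCx (f.stalkMap x).hom).obj ((stalkK x).obj G) :=
    Hom.isoOfComponents (fun _ => Iso.refl _) (fun _ _ _ => (Category.id_comp _).trans (Category.comp_id _).symm)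
  have h1 : DRing.HasTorAmplitudeIn R a b (DRing.toD ((DRing.restrictCx χ).obj ((stalkK x).obj G))) :=
    TorAmpComp.amp_iso (DerivedCategory.Q.mapIso r)
      (DiagDim.amp_restrict_of_flat ρ hρ _ (TorAmpComp.amp_iso (DerivedCategory.Q.mapIso c₀) h))
  have h2 : DRing.HasTorAmplitudeIn B (a - n) b (DRing.toD ((stalkK x).obj G)) := by
    letI := g.toAlgebra
    letI := σ.toAlgebra
    letI := (σ.comp g).toAlgebra
    haveI : IsScalarTower (MvPolynomial (Fin n) R) S B := .of_algebraMap_eq fun _ => rfl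
    haveI : Algebra.Etale (MvPolynomial (Fin n) R) S := hge
    haveI : IsLocalization.AtPrime B (hW'.primeIdealOf ⟨x, hx'⟩).asIdeal := hW'.isLocalization_stalk ⟨x, hx'⟩
    haveI : Module.Flat S B := IsLocalization.flat B (hW'.primeIdealOf ⟨x, hx'⟩).asIdeal.primeCompl
    haveI : Algebra.FormallyUnramified S B :=
      Algebra.FormallyUnramified.of_isLocalization (hW'.primeIdealOf ⟨x, hx'⟩).asIdeal.primeCompl
    haveI : Algebra.EssFiniteType S B :=
      Algebra.EssFiniteType.of_isLocalization B (hW'.primeIdealOf ⟨x, hx'⟩).asIdeal.primeCompl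
    exact DiagDim.amp_of_unramified_polynomial (σ.comp g) (Module.Flat.trans (MvPolynomial (Fin n) R) S B)
      (Algebra.FormallyUnramified.comp (MvPolynomial (Fin n) R) S B)
      (Algebra.EssFiniteType.comp (MvPolynomial (Fin n) R) S B) χ hc _ h1
  obtain ⟨E, hE, hEf, he⟩ := h2
  exact ⟨E, fun i hi => hE i (by omega), hEf, he⟩

/-- Tor amplitude relative to a smooth morphism bounds tor amplitude of direct images along closed immersions. -/
theorem amp_stalk_push {Z X Y : Scheme.{u}} (i : Z ⟶ X) [IsClosedImmersion i] (f : X ⟶ Y) (d : ℕ)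
    (F : CochainComplex Z.Modules ℤ) {a b : ℤ} (x : X)
    (hd : ∃ (n : ℕ) (V : X.Opens), n ≤ d ∧ x ∈ V ∧ SmoothOfRelativeDimension n (V.ι ≫ f))
    (h : ∀ z : Z, i z = x → DerSch.HasTorAmplitudeAt (i ≫ f) a b F z) :
    DRing.HasTorAmplitudeIn (X.presheaf.stalk x) (a - d) b
      (DRing.toD ((stalkK x).obj (((Scheme.Modules.pushforward i).mapHomologicalComplex (ComplexShape.up ℤ)).obj F))) := by
  by_cases hx : x ∈ Set.range i.base
  · obtain ⟨z, rfl⟩ := hx
    exact amp_stalk_of_smooth f d _ hd _ ((PushStalk.amp_push_iff i f F a b z).2 (h z rfl))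
  · refine TorAmpComp.amp_of_isZero _ ?_ _ _
    rw [IsZero.iff_id_eq_zero]
    refine HomologicalComplex.hom_ext _ _ fun n => ?_
    haveI : Subsingleton (((stalkK x).obj
        (((Scheme.Modules.pushforward i).mapHomologicalComplex (ComplexShape.up ℤ)).obj F)).X n) :=
      DCat.ClosedPush.subsingleton_stalk_push i (F.X n) x hx
    exact (ModuleCat.isZero_of_subsingleton _).eq_of_src _ _

end Groth.Agent.FlatCx12.AmpStalks

namespace Groth.Agent.FlatCx12.AmpStalks

/-- A smooth morphism is locally smooth of some relative dimension. -/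
theorem exists_smoothOfRelativeDimension {X Y : Scheme.{u}} (f : X ⟶ Y) [Smooth f] (x : X) :
    ∃ (n : ℕ) (V : X.Opens), x ∈ V ∧ SmoothOfRelativeDimension n (V.ι ≫ f) := by
  obtain ⟨U, hU, V, hV, hx, e, hsm⟩ := Smooth.exists_isStandardSmooth f x
  obtain ⟨n, hn⟩ : ∃ n, (f.appLE U V e).hom.IsStandardSmoothOfRelativeDimension n := by
    algebraize [(f.appLE U V e).hom]
    obtain ⟨ι, σ, _, _, ⟨P⟩⟩ := Algebra.IsStandardSmooth.out (R := Γ(Y, U)) (S := Γ(X, V))
    exact ⟨P.dimension, ι, σ, inferInstance, inferInstance, P, rfl⟩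
  refine ⟨n, V, hx, ⟨fun w => ?_⟩⟩
  haveI : IsAffine (V : Scheme.{u}) := hV
  have e' : (⊤ : (V : Scheme.{u}).Opens) ≤ (V.ι ≫ f) ⁻¹ᵁ U := fun z _ => e z.2
  refine ⟨U, hU, ⊤, isAffineOpen_top _, trivial, e', ?_⟩
  have e₁ : V.ι ''ᵁ (⊤ : (V : Scheme.{u}).Opens) = V := by simp
  have key : ∀ (W : X.Opens) (h : W = V) (eW : W ≤ f ⁻¹ᵁ U),
      (f.appLE U W eW).hom.IsStandardSmoothOfRelativeDimension n := fun W h eW => by
    subst h
    exact hn
  have h1 := key _ e₁ (e₁.trans_le e)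
  have : ((V.ι ≫ f).appLE U ⊤ e').hom =
      ((V.ι.appIso ⊤).hom).hom.comp (f.appLE U (V.ι ''ᵁ ⊤) (e₁.trans_le e)).hom := by
    rw [← CommRingCat.hom_comp, Scheme.Hom.appIso_hom', Scheme.Hom.appLE_comp_appLE]
  rw [this]
  exact RingHom.isStandardSmoothOfRelativeDimension_respectsIso.left _
    (V.ι.appIso ⊤).commRingCatIsoToRingEquiv h1

/-- Local finiteness of tor amplitude gives locally finite tor dimension of the direct image. -/
theorem locHasFiniteTorDim_push {Z X Y : Scheme.{u}} (i : Z ⟶ X) [IsClosedImmersion i] (f : X ⟶ Y) [Smooth f]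
    (F : CochainComplex Z.Modules ℤ) (h : DerSch.LocFiniteTorAmplitude (i ≫ f) F) :
    DCoh.LocHasFiniteTorDim
      (DCoh.toD X (((Scheme.Modules.pushforward i).mapHomologicalComplex (ComplexShape.up ℤ)).obj F)) := by
  intro x
  obtain ⟨n, W₀, hx₀, hW₀⟩ := exists_smoothOfRelativeDimension f x
  obtain ⟨W₁, a, b, hx₁, hW₁⟩ : ∃ (W₁ : X.Opens) (a b : ℤ), x ∈ W₁ ∧
      ∀ z : Z, i z ∈ W₁ → DerSch.HasTorAmplitudeAt (i ≫ f) a b F z := by
    by_cases hx : x ∈ Set.range i.base
    · obtain ⟨z₀, rfl⟩ := hx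
      obtain ⟨V, a, b, hz, hV⟩ := h z₀
      obtain ⟨W, hW, hWV⟩ := i.isClosedEmbedding.isInducing.isOpen_iff.1 V.2
      refine ⟨⟨W, hW⟩, a, b, ?_, fun z hz' => hV z ?_⟩
      · exact (Set.ext_iff.1 hWV z₀).2 hz
      · exact (Set.ext_iff.1 hWV z).1 hz'
    · exact ⟨⟨(Set.range i.base)ᶜ, i.isClosedEmbedding.isClosed_range.isOpen_compl⟩, 0, 0, hx,
        fun z hz => absurd ⟨z, rfl⟩ hz⟩
  let W : X.Opens := W₀ ⊓ W₁
  refine ⟨W, a - n, b, ⟨hx₀, hx₁⟩, fun F' hF' => ?_⟩
  obtain ⟨e⟩ := hF'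
  let G := ((Scheme.Modules.pushforward i).mapHomologicalComplex (ComplexShape.up ℤ)).obj F
  let r := Scheme.Modules.restrictFunctor W.ι
  suffices hr : DCoh.HasFlatAmplitudeIn (a - n) b (DCoh.toD (W : Scheme.{u}) ((r.mapHomologicalComplex (ComplexShape.up ℤ)).obj G)) by
    obtain ⟨E, hE, hEf, ⟨j⟩⟩ := hr
    exact ⟨E, hE, hEf, ⟨j ≪≫ (r.mapDerivedCategoryFactors.app G).symm ≪≫ r.mapDerivedCategory.mapIso e.symm ≪≫
      r.mapDerivedCategoryFactors.app F'⟩⟩
  refine flatAmp_of_stalks _ fun w => ?_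
  refine amp_stalk_of_smooth (W.ι ≫ f) n w ⟨n, ⊤, le_rfl, trivial, ?_⟩ _ ?_
  · have hle : W ≤ W₀ := inf_le_left
    rw [show (⊤ : (W : Scheme.{u}).Opens).ι ≫ W.ι ≫ f =
      ((⊤ : (W : Scheme.{u}).Opens).ι ≫ X.homOfLE hle) ≫ W₀.ι ≫ f by simp]
    haveI := hW₀
    exact IsZariskiLocalAtSource.comp (P := @SmoothOfRelativeDimension n) hW₀ _
  · obtain ⟨s⟩ := AmpFibre.nonempty_stalk_restrict f W.ι G w
    have hG : DerSch.HasTorAmplitudeAt f a b G (W.ι w) := by
      by_cases hw : W.ι w ∈ Set.range i.base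
      · obtain ⟨z, hz⟩ := hw
        rw [← hz]
        refine (PushStalk.amp_push_iff i f F a b z).2 (hW₁ z ?_)
        rw [hz]
        exact w.2.2
      · refine TorAmpComp.amp_of_isZero _ ?_ _ _
        rw [IsZero.iff_id_eq_zero]
        refine HomologicalComplex.hom_ext _ _ fun k => ?_
        haveI : Subsingleton (((DerSch.stalkCxOver f (W.ι w)).obj G).X k) :=
          DCat.ClosedPush.subsingleton_stalk_push i (F.X k) _ hw
        exact (ModuleCat.isZero_of_subsingleton _).eq_of_src _ _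
    obtain ⟨E, h1, h2, ⟨j⟩⟩ := hG
    exact ⟨E, h1, h2, ⟨j ≪≫ s⟩⟩

end Groth.Agent.FlatCx12.AmpStalks
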