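import Groth.Agent.FlatCx12.TorAmpComp
import Groth.Agent.DCat.ExtKFlat
import Groth.Agent.DCat.KFlatQis
import Groth.Agent.DCat.NilpotentBC
import Mathlib.RingTheory.Flat.Stability
import Mathlib.Algebra.Category.ModuleCat.Products

/-!
# Tor amplitude over a base ring of a tensor product over an algebra
-/

set_option autoImplicit false
set_option backward.isDefEq.respectTransparency false
set_option backward.defeqAttrib.useBackward true
set_option linter.style.haveILetI false

universe u

open CategoryTheory CategoryTheory.Limits MonoidalCategory TensorProduct HomologicalComplex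

attribute [local instance] HasDerivedCategory.standard

namespace Groth.Agent.FlatCx12.AmpTensor

open Groth.Agent.DCat

section Tot

variable {A : Type u} [CommRing A]

/-- `H^i(K ⊗^L N)` can be computed by a K-flat resolution of `N`. -/
theorem zero_iff_tot (K : DRing.Cx A) (N : ModuleCat.{u} A) {L : DRing.Cx A} (hL : IsKFlatFor (modT A) L)
    (c : L ⟶ (HomologicalComplex.single (ModuleCat.{u} A) (ComplexShape.up ℤ) 0).obj N) [QuasiIso c] (i : ℤ) :
    TorAmpComp.Z N (DRing.toD K) i ↔ (tot (modT A) K L).ExactAt i := by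
  haveI := DCat.hasLTensor N
  obtain ⟨P, c', hP, -, hc', -⟩ := exists_kflat K
  haveI := hc'
  refine (isZero_ltensor_iff N hP (asIso (DerivedCategory.Q.map c')) i).trans ?_
  obtain ⟨e₁⟩ := exists_tot_single_iso (T := modT A) P N
  haveI := hP.quasiIso_map (T := modT A) c
  haveI := hL.quasiIso_map (T := modT A) c'
  let ψ : tot (modT A) P L ⟶ DRing.tensorCx P N :=
    (totSymm P L).hom ≫ totMap₁ (modT A) c P ≫ (totSymm _ P).hom ≫ e₁.inv
  exact ((exactAt_iff_of_quasiIsoAt ψ i).symm).trans (exactAt_iff_of_quasiIsoAt (totMap₁ (modT A) c' L) i)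

/-- Total complexes of flat modules are termwise flat. -/
theorem flat_tot {P Q : DRing.Cx A} (hP : DRing.TermwiseFlat P) (hQ : DRing.TermwiseFlat Q) :
    DRing.TermwiseFlat (tot (modT A) P Q) := fun n => by
  classical
  haveI : ∀ k, Module.Flat A (P.X k) := hP
  haveI : ∀ k, Module.Flat A (Q.X k) := hQ
  let hc := isColimitMapTot (modT A) (𝟭 (ModuleCat.{u} A)) P Q n
  let e := IsColimit.coconePointUniqueUpToIso hc (colimit.isColimit _) ≪≫
    ModuleCat.coprodIsoDirectSum (fun i : TotIdx n => ((modT A).obj (P.X i.1.1)).obj (Q.X i.1.2))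
  haveI : ∀ i : TotIdx n, Module.Flat A (((modT A).obj (P.X i.1.1)).obj (Q.X i.1.2)) := fun i =>
    inferInstanceAs (Module.Flat A (P.X i.1.1 ⊗[A] Q.X i.1.2))
  exact Module.Flat.of_linearEquiv e.toLinearEquiv

end Tot

section Bound

variable {B : Type u} [CommRing B]

lemma exactAt_tensor_ext₃ (P : DRing.Cx B) (hPf : DRing.TermwiseFlat P) {S : ShortComplex (ModuleCat.{u} B)}
    (hS : S.ShortExact) (i : ℤ) (h₂ : (DRing.tensorCx P S.X₂).ExactAt i)
    (h₁ : (DRing.tensorCx P S.X₁).ExactAt (i + 1)) : (DRing.tensorCx P S.X₃).ExactAt i := by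
  let f : DRing.tensorCx P S.X₁ ⟶ DRing.tensorCx P S.X₂ :=
    (NatTrans.mapHomologicalComplex ((tensoringRight (ModuleCat.{u} B)).map S.f) _).app P
  let g : DRing.tensorCx P S.X₂ ⟶ DRing.tensorCx P S.X₃ :=
    (NatTrans.mapHomologicalComplex ((tensoringRight (ModuleCat.{u} B)).map S.g) _).app P
  have w : f ≫ g = 0 := by
    refine HomologicalComplex.hom_ext _ _ fun n => ?_
    show P.X n ◁ S.f ≫ P.X n ◁ S.g = 0
    rw [← MonoidalCategory.whiskerLeft_comp, S.zero]
    exact MonoidalPreadditive.whiskerLeft_zero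
  have hT : (ShortComplex.mk f g w).ShortExact := shortExact_of_degreewise_shortExact _ fun n => by
    haveI := hPf n
    haveI := preservesFiniteLimits_flip_of_flat (P.X n)
    haveI : PreservesFiniteLimits (tensorLeft (P.X n)) :=
      preservesFiniteLimits_of_natIso (BraidedCategory.tensorLeftIsoTensorRight (P.X n)).symm
    exact hS.map_of_exact (tensorLeft (P.X n))
  rw [exactAt_iff_isZero_homology] at h₁ h₂ ⊢
  exact (hT.homology_exact₃ i (i + 1) rfl).isZero_of_both_zeros (h₂.eq_of_src _ _) (h₁.eq_of_tgt _ _)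

/-- Tensoring a flat complex with cohomology in `[c, d]` by a module of tor dimension `≤ m`. -/
theorem exactAt_tensor_amp {P : DRing.Cx B} (hPf : DRing.TermwiseFlat P) {c d : ℤ}
    (hP : ∀ i, i < c ∨ d < i → P.ExactAt i) : ∀ (m : ℕ) (C : ModuleCat.{u} B), TorAmpComp.D (A := B) m C →
      ∀ i : ℤ, i < c - m ∨ d < i → (DRing.tensorCx P C).ExactAt i := by
  intro m
  induction m with
  | zero =>
    intro C h i hi
    haveI : Module.Flat B C := Tor15.flat_of_dim_zero h
    haveI := preservesFiniteLimits_flip_of_flat C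
    exact ((P.exactAt_iff i).1 (hP i (by omega))).map (tensorRight C)
  | succ m ih =>
    intro C h i hi
    obtain ⟨K, F, _, _, _, _, _, j, q, hjq, hq, hj⟩ := TorAmpComp.exists_free_pres (A := B) C
    let S : ShortComplex (ModuleCat.{u} B) := ShortComplex.mk (ModuleCat.ofHom j : ModuleCat.of B K ⟶ _)
      (ModuleCat.ofHom q : ModuleCat.of B F ⟶ C)
      (ModuleCat.hom_ext (LinearMap.ext fun x => hjq.apply_apply_eq_zero x))
    have hS : S.ShortExact :=
      { exact := (ShortComplex.ShortExact.moduleCat_exact_iff_function_exact S).2 hjq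
        mono_f := (ModuleCat.mono_iff_injective _).2 hj
        epi_g := (ModuleCat.epi_iff_surjective _).2 hq }
    haveI := preservesFiniteLimits_flip_of_flat (ModuleCat.of B F)
    refine exactAt_tensor_ext₃ P hPf hS i
      (((P.exactAt_iff i).1 (hP i (by omega))).map (tensorRight (ModuleCat.of B F))) ?_
    exact ih (ModuleCat.of B K) (fun N _ _ => Tor15.dim_shift m j q hjq hq hj (h N)) (i + 1)
      (by push_cast at hi ⊢; omega)

end Bound

section Main

variable {A B : Type u} [CommRing A] [CommRing B] (φ : A →+* B)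

/-- `C ⊗ tot (K, L) ≅ tot (C ⊗ K, L)`. -/
noncomputable def tensorTotIso (C : ModuleCat.{u} B) (K L : DRing.Cx B) :
    ((tensorLeft C).mapHomologicalComplex (ComplexShape.up ℤ)).obj (tot (modT B) K L) ≅
      tot (modT B) (((tensorLeft C).mapHomologicalComplex (ComplexShape.up ℤ)).obj K)
        (((𝟭 (ModuleCat.{u} B)).mapHomologicalComplex (ComplexShape.up ℤ)).obj L) :=
  mapTotIso (modT B) (modT B) (tensorLeft C) (𝟭 _) (tensorLeft C) (fun a b => (α_ C a b).symm)
    (fun f b => associator_inv_naturality_middle C f b) (fun a _ _ g => associator_inv_naturality_right C a g) K L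

/-- Tor amplitude over the base after tensoring over the algebra with a module of finite tor dimension. -/
theorem amp_tensor (C : ModuleCat.{u} B) {m : ℕ} (hC : TorAmpComp.D (A := B) m C) (K : DRing.Cx B)
    (hKf : DRing.TermwiseFlat K) {c d : ℤ}
    (h : DRing.HasTorAmplitudeIn A c d
      (DRing.toD (((ModuleCat.restrictScalars.{u} φ).mapHomologicalComplex (ComplexShape.up ℤ)).obj K))) :
    DRing.HasTorAmplitudeIn A (c - m) d
      (DRing.toD (((ModuleCat.restrictScalars.{u} φ).mapHomologicalComplex (ComplexShape.up ℤ)).obj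
        (((tensorLeft C).mapHomologicalComplex (ComplexShape.up ℤ)).obj K))) := by
  let r := ModuleCat.restrictScalars.{u} φ
  refine TorAmpComp.amp_iff_vanish.2 fun N i hi => ?_
  obtain ⟨L, c₀, hL, hLf, hc₀, -⟩ :=
    exists_kflat_le ((HomologicalComplex.single (ModuleCat.{u} A) (ComplexShape.up ℤ) 0).obj N) 0
      (fun n hn => HomologicalComplex.isZero_single_obj_X _ _ _ _ (by omega))
  haveI := hc₀
  let L' := ((ModuleCat.extendScalars.{u, u, u} φ).mapHomologicalComplex (ComplexShape.up ℤ)).obj L
  have hL' : DRing.TermwiseFlat L' := fun n => by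
    letI := φ.toAlgebra
    haveI : Module.Flat A (L.X n) := hLf n
    exact Module.Flat.baseChange A B (L.X n)
  let W := tot (modT B) K L'
  have hW : ∀ j, j < c ∨ d < j → W.ExactAt j := fun j hj => by
    have h1 := ((zero_iff_tot _ N hL c₀ j).1 (TorAmpComp.amp_iff_vanish.1 h N j hj)).of_iso (totExtIso φ K L).symm
    rw [exactAt_iff] at h1 ⊢
    exact (ShortComplex.exact_map_iff_of_faithful (W.sc j) r).1 h1
  refine (zero_iff_tot _ N hL c₀ i).2 ?_
  have h2 : (tot (modT B) (((tensorLeft C).mapHomologicalComplex (ComplexShape.up ℤ)).obj K) L').ExactAt i :=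
    ((exactAt_tensor_amp (flat_tot hKf hL') hW m C hC i hi).of_iso
      ((NatIso.mapHomologicalComplex (BraidedCategory.tensorLeftIsoTensorRight C).symm (ComplexShape.up ℤ)).app W)).of_iso
      (tensorTotIso C K L')
  have h3 : ((r.mapHomologicalComplex (ComplexShape.up ℤ)).obj
      (tot (modT B) (((tensorLeft C).mapHomologicalComplex (ComplexShape.up ℤ)).obj K) L')).ExactAt i := by
    rw [exactAt_iff] at h2 ⊢
    exact h2.map r
  exact h3.of_iso (totExtIso φ _ L)

end Main

end Groth.Agent.FlatCx12.AmpTensor
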