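import Groth.Agent.FlatCx12.AmpTensor
import Groth.Agent.DCat.LTensorCx

/-!
# Tor amplitude over a base ring of derived tensor products over an algebra
-/

set_option autoImplicit false
set_option backward.isDefEq.respectTransparency false
set_option backward.defeqAttrib.useBackward true
set_option linter.style.haveILetI false

universe u

open CategoryTheory CategoryTheory.Limits MonoidalCategory HomologicalComplex

attribute [local instance] HasDerivedCategory.standard

namespace Groth.Agent.FlatCx12.AmpTot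

open Groth.Agent.DCat

variable {A B : Type u} [CommRing A] [CommRing B] (φ : A →+* B)

/-- A bounded flat complex shifts cohomological bounds additively. -/
theorem exactAt_tot_bounded {W E : DRing.Cx B} {a b c d : ℤ} (hW : ∀ i, i < c ∨ d < i → W.ExactAt i)
    (hE : DRing.VanishesOutside E a b) (hEf : DRing.TermwiseFlat E) {i : ℤ} (hi : i < a + c ∨ b + d < i) :
    (tot (modT B) W E).ExactAt i := by
  have hEk : IsKFlatFor (modT B) E := isKFlatFor_of_vanishesAbove E b (fun n hn => hE n (Or.inr hn)) hEf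
  haveI : W.IsLE d := by
    rw [CochainComplex.isLE_iff]
    exact fun j hj => hW j (Or.inr hj)
  haveI : QuasiIso (W.ιTruncLE d) := inferInstance
  haveI : (W.truncLE d).IsGE c := by
    rw [CochainComplex.isGE_iff]
    exact fun j hj => (exactAt_iff_of_quasiIsoAt (W.ιTruncLE d) j).2 (hW j (Or.inl hj))
  haveI := hEk.quasiIso_map (T := modT B) (W.ιTruncLE d)
  haveI := hEk.quasiIso_map (T := modT B) ((W.truncLE d).πTruncGE c)
  refine (exactAt_iff_of_quasiIsoAt (totMap₁ (modT B) (W.ιTruncLE d) E) i).1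
    ((exactAt_iff_of_quasiIsoAt (totMap₁ (modT B) ((W.truncLE d).πTruncGE c) E) i).2 ?_)
  rw [exactAt_iff]
  refine ShortComplex.exact_of_isZero_X₂ _ ?_
  show IsZero ((tot (modT B) ((W.truncLE d).truncGE c) E).X i)
  rw [IsZero.iff_id_eq_zero]
  refine mapBifunctor.hom_ext fun p q hpq => ?_
  have hpq' : p + q = i := hpq
  by_cases hp : p < c ∨ d < p
  · refine IsZero.eq_of_src (Functor.map_isZero ((modT B).flip.obj (E.X q)) ?_) _ _
    by_cases hpc : p < c
    · exact CochainComplex.isZero_of_isStrictlyGE _ c p hpc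
    · exact CochainComplex.isZero_of_isStrictlyLE _ d p (by omega)
  · refine IsZero.eq_of_src (Functor.map_isZero ((modT B).obj _) (hE q ?_)) _ _
    omega

/-- Tor amplitude over the base after tensoring over the algebra with a bounded flat complex. -/
theorem amp_tot (K E : DRing.Cx B) {a b c d : ℤ} (hE : DRing.VanishesOutside E a b) (hEf : DRing.TermwiseFlat E)
    (h : DRing.HasTorAmplitudeIn A c d
      (DRing.toD (((ModuleCat.restrictScalars.{u} φ).mapHomologicalComplex (ComplexShape.up ℤ)).obj K))) :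
    DRing.HasTorAmplitudeIn A (a + c) (b + d)
      (DRing.toD (((ModuleCat.restrictScalars.{u} φ).mapHomologicalComplex (ComplexShape.up ℤ)).obj
        (tot (modT B) K E))) := by
  let r := ModuleCat.restrictScalars.{u} φ
  refine TorAmpComp.amp_iff_vanish.2 fun N i hi => ?_
  obtain ⟨L, c₀, hL, hLf, hc₀, -⟩ :=
    exists_kflat_le ((HomologicalComplex.single (ModuleCat.{u} A) (ComplexShape.up ℤ) 0).obj N) 0
      (fun n hn => HomologicalComplex.isZero_single_obj_X _ _ _ _ (by omega))
  haveI := hc₀
  let L' : DRing.Cx B := ((ModuleCat.extendScalars.{u, u, u} φ).mapHomologicalComplex (ComplexShape.up ℤ)).obj L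
  let W : DRing.Cx B := tot (modT B) K L'
  have hW : ∀ j, j < c ∨ d < j → W.ExactAt j := fun j hj => by
    have h1 := ((AmpTensor.zero_iff_tot _ N hL c₀ j).1 (TorAmpComp.amp_iff_vanish.1 h N j hj)).of_iso
      (totExtIso φ K L).symm
    rw [exactAt_iff] at h1 ⊢
    exact (ShortComplex.exact_map_iff_of_faithful (W.sc j) r).1 h1
  refine (AmpTensor.zero_iff_tot _ N hL c₀ i).2 ?_
  let e : tot (modT B) W E ≅ tot (modT B) (tot (modT B) K E) L' :=
    α_ K L' E ≪≫ whiskerLeftIso K (totSymm L' E) ≪≫ (α_ K E L').symm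
  have h2 := (exactAt_tot_bounded hW hE hEf hi).of_iso e
  have h3 : ((r.mapHomologicalComplex (ComplexShape.up ℤ)).obj (tot (modT B) (tot (modT B) K E) L')).ExactAt i := by
    rw [exactAt_iff] at h2 ⊢
    exact h2.map r
  exact h3.of_iso (totExtIso φ _ L)

/-- Tor amplitude over the base of `K₁ ⊗ L`, for `K₁` of finite amplitude over the algebra and `L` K-flat. -/
theorem amp_tot_of_amp (K₁ L : DRing.Cx B) (hL : IsKFlatFor (modT B) L) {a b c d : ℤ}
    (h₁ : DRing.HasTorAmplitudeIn B a b (DRing.toD K₁))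
    (h : DRing.HasTorAmplitudeIn A c d
      (DRing.toD (((ModuleCat.restrictScalars.{u} φ).mapHomologicalComplex (ComplexShape.up ℤ)).obj L))) :
    DRing.HasTorAmplitudeIn A (a + c) (b + d)
      (DRing.toD (((ModuleCat.restrictScalars.{u} φ).mapHomologicalComplex (ComplexShape.up ℤ)).obj
        (tot (modT B) K₁ L))) := by
  obtain ⟨E, hE, hEf, ⟨e⟩⟩ := h₁
  let r := ModuleCat.restrictScalars.{u} φ
  let Φ : DRing.Cx B ⥤ Dual.D A := (modT B).map₂CochainComplex.flip.obj L ⋙
    r.mapHomologicalComplex (ComplexShape.up ℤ) ⋙ DerivedCategory.Q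
  have hΦ : (HomologicalComplex.quasiIso (ModuleCat.{u} B) (ComplexShape.up ℤ)).IsInvertedBy Φ := fun P Q s hs => by
    haveI : QuasiIso s := (HomologicalComplex.mem_quasiIso_iff s).1 hs
    haveI := hL.quasiIso_map (T := modT B) s
    exact Localization.inverts DerivedCategory.Q (HomologicalComplex.quasiIso (ModuleCat.{u} A) (ComplexShape.up ℤ))
      ((r.mapHomologicalComplex (ComplexShape.up ℤ)).map (totMap₁ (modT B) s L))
      ((HomologicalComplex.mem_quasiIso_iff _).2 inferInstance)
  let ε := (Localization.fac Φ hΦ DerivedCategory.Q)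
  refine TorAmpComp.amp_iso ?_ (amp_tot φ L E hE hEf h)
  exact DerivedCategory.Q.mapIso ((r.mapHomologicalComplex (ComplexShape.up ℤ)).mapIso (totSymm L E)) ≪≫
    (ε.app E).symm ≪≫ (Localization.lift Φ hΦ DerivedCategory.Q).mapIso e ≪≫ ε.app K₁

end Groth.Agent.FlatCx12.AmpTot
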