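import Groth.Agent.FlatCx12.AmpTot
import Groth.Agent.FlatCx12.AmpThick
import Groth.Agent.DCat.PullTot

/-!
# Tor amplitude of relative derived tensor products
-/

set_option autoImplicit false
set_option backward.isDefEq.respectTransparency false
set_option backward.defeqAttrib.useBackward true
set_option linter.style.haveILetI false

universe u

open CategoryTheory CategoryTheory.Limits AlgebraicGeometry HomologicalComplex

attribute [local instance] HasDerivedCategory.standard

namespace Groth.Agent.FlatCx12.AmpTotScheme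

open Groth.Agent.DCat Groth.Agent.ModStalk

variable {X Y Z : Scheme.{u}} (f : X ⟶ Y) (g : Y ⟶ Z)

/-- Amplitude over the base of `f^*L ⊗ F`. -/
theorem amp_pull_tot (F : CochainComplex X.Modules ℤ) (L : CochainComplex Y.Modules ℤ)
    (hL : IsKFlatFor (shT Y) L) {a b c d : ℤ} (x : X) (hF : DerSch.HasTorAmplitudeAt f a b F x)
    (hG : DerSch.HasTorAmplitudeAt g c d L (f.base x)) :
    DerSch.HasTorAmplitudeAt (f ≫ g) (a + c) (b + d)
      (tot (shT X) (((Scheme.Modules.pullback f).mapHomologicalComplex (ComplexShape.up ℤ)).obj L) F) x := by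
  let y := f.base x
  let φ := (g.stalkMap y).hom
  let σ := (f.stalkMap x).hom
  let rσ := (ModuleCat.restrictScalars.{u} σ).mapHomologicalComplex (ComplexShape.up ℤ)
  let rφ := (ModuleCat.restrictScalars.{u} φ).mapHomologicalComplex (ComplexShape.up ℤ)
  let Ly := (stalkK y).obj L
  let Fx := (stalkK x).obj F
  have hLy : IsKFlatFor (modT (Y.presheaf.stalk y)) Ly := (isKFlatFor_iff_stalks L).1 hL y
  have h1 : DRing.HasTorAmplitudeIn (Y.presheaf.stalk y) a b (DRing.toD (rσ.obj Fx)) :=
    TorAmpComp.amp_iso (DerivedCategory.Q.mapIso (Hom.isoOfComponents (fun i => Iso.refl _)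
      (fun p q _ => (Category.id_comp _).trans (Category.comp_id _).symm))) hF
  have h2 : DRing.HasTorAmplitudeIn (Z.presheaf.stalk (g.base y)) c d (DRing.toD (rφ.obj Ly)) :=
    TorAmpComp.amp_iso (DerivedCategory.Q.mapIso (Hom.isoOfComponents (fun i => Iso.refl _)
      (fun p q _ => (Category.id_comp _).trans (Category.comp_id _).symm))) hG
  refine TorAmpComp.amp_iso (DerivedCategory.Q.mapIso ?_) (AmpTot.amp_tot_of_amp φ (rσ.obj Fx) Ly hLy h1 h2)
  have hc : ((f ≫ g).stalkMap x).hom = σ.comp φ := by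
    rw [Scheme.Hom.stalkMap_comp]
    rfl
  let ext := (ModuleCat.extendScalars.{u, u, u} σ).mapHomologicalComplex (ComplexShape.up ℤ)
  let ep : ext.obj Ly ≅ (stalkK x).obj (((Scheme.Modules.pullback f).mapHomologicalComplex (ComplexShape.up ℤ)).obj L) :=
    Hom.isoOfComponents (fun i => (ModStalk.pullbackStalkIso f x).symm.app (L.X i))
      (fun p q _ => ((ModStalk.pullbackStalkIso f x).symm.hom.naturality (L.d p q)).symm)
  let e₁ : rσ.obj (tot (modT (X.presheaf.stalk x)) Fx (ext.obj Ly)) ≅ tot (modT (Y.presheaf.stalk y)) (rσ.obj Fx) Ly :=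
    totExtIso σ Fx Ly
  let e₂ : tot (modT (X.presheaf.stalk x)) Fx (ext.obj Ly) ≅
      (stalkK x).obj (tot (shT X) (((Scheme.Modules.pullback f).mapHomologicalComplex (ComplexShape.up ℤ)).obj L) F) :=
    ((modT (X.presheaf.stalk x)).map₂CochainComplex.obj Fx).mapIso ep ≪≫ totSymm Fx _ ≪≫ (stalkTotIso x _ F).symm
  let ρ := ModuleCat.restrictScalarsComp'.{u} φ σ ((f ≫ g).stalkMap x).hom hc
  exact rφ.mapIso (e₁.symm ≪≫ rσ.mapIso e₂) ≪≫
    Hom.isoOfComponents (fun i => ρ.symm.app _) (fun p q _ => (ρ.symm.hom.naturality _).symm)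

end Groth.Agent.FlatCx12.AmpTotScheme
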