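import Groth.Agent.CohExch.ChartApps
import Groth.Agent.Coherent.CohBC.EulerConst

/-! Semicontinuity and Euler characteristic of fibres from charts, any base. -/

set_option autoImplicit false
set_option backward.isDefEq.respectTransparency false
set_option linter.all false

universe u

open CategoryTheory CategoryTheory.Limits AlgebraicGeometry TopologicalSpace TensorProduct
open Groth.Agent.Coherent Groth.Agent.Coherent.CohBC Groth.Agent.FlatCxLib Groth.Agent.CohExch

namespace Groth.Agent.FlatCx12.ChartSemi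

variable {A : Type u} [CommRing A] (P : ChainComplex (ModuleCat.{u} A) ℤ)
  (hP : ∀ i, Module.Finite A (P.X i) ∧ Module.Free A (P.X i))

include hP in
theorem isOpen_dRank_lt (i : ℤ) (n : ℕ) : IsOpen {x : PrimeSpectrum A | CohIII.dRank P i x < n} := by
  have hP' : ∀ j, Module.Finite A (P.X j) ∧ Module.Flat A (P.X j) := fun j =>
    ⟨(hP j).1, have := (hP j).2; inferInstance⟩
  haveI := (hP (i - 1)).1
  haveI := (hP (i - 1)).2
  haveI := (hP i).1
  haveI := Module.finitePresentation_of_projective A (P.X (i - 1))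
  rw [isOpen_iff_eventually]
  intro x hx
  filter_upwards [(upperSemicontinuous_fibreRank (A := A) (P.X (i - 1) ⧸ LinearMap.range (P.d i (i - 1)).hom) x _ (Nat.lt_succ_self _)),
    (upperSemicontinuous_fibreRank (A := A) (P.X i ⧸ LinearMap.range (P.d (i + 1) i).hom) x _ (Nat.lt_succ_self _)),
    (Module.isLocallyConstant_rankAtStalk (R := A) (M := P.X (i - 1))).eventually_eq x] with y h1 h2 h3
  have ex := dRank_add P hP' (i + 1) i (i - 1) rfl (by omega) x
  have ey := dRank_add P hP' (i + 1) i (i - 1) rfl (by omega) y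
  have hx' : CohIII.dRank P i x < n := hx
  show CohIII.dRank P i y < n
  omega

include hP in
theorem isLocallyConstant_sum_dRank (h1 : Module.Flat A (P.X 0 ⧸ LinearMap.range (P.d 1 0).hom)) (i₀ : ℤ)
    (h₀ : ∀ i < i₀, IsZero (P.X i)) {n : ℕ} (hn : -(n : ℤ) - 1 < i₀) :
    IsLocallyConstant fun x : PrimeSpectrum A =>
      ∑ j ∈ Finset.range (n + 1), (-1 : ℤ) ^ j * (CohIII.dRank P (-(j : ℤ)) x : ℤ) := by
  have hP' : ∀ j, Module.Finite A (P.X j) ∧ Module.Flat A (P.X j) := fun j =>
    ⟨(hP j).1, have := (hP j).2; inferInstance⟩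
  haveI := (hP 0).1
  haveI := (hP 0).2
  haveI := (hP 1).1
  haveI := Module.finitePresentation_of_projective A (P.X 0)
  haveI : Module.FinitePresentation A (P.X 0 ⧸ LinearMap.range (P.d 1 0).hom) :=
    Module.finitePresentation_of_surjective _ (Submodule.mkQ_surjective _)
      (by rw [Submodule.ker_mkQ, LinearMap.range_eq_map]; exact (Module.Finite.fg_top).map _)
  have he : ∀ x, eulerErr P 1 x = (Module.rankAtStalk (R := A) (P.X 0 ⧸ LinearMap.range (P.d 1 0).hom) x : ℤ) -
      (Module.rankAtStalk (P.X 0) x : ℤ) := fun x => by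
    show (fibreRank (P.X 0 ⧸ LinearMap.range (P.d 1 0).hom) x : ℤ) - _ = _
    rw [fibreRank_eq_rankAtStalk]
    rfl
  rw [IsLocallyConstant.iff_eventually_eq]
  intro x
  have hev : ∀ᶠ y in nhds x, (∀ j ∈ Finset.range (n + 1),
      Module.rankAtStalk (P.X (-(j : ℤ))) y = Module.rankAtStalk (P.X (-(j : ℤ))) x) ∧
      Module.rankAtStalk (R := A) (P.X 0 ⧸ LinearMap.range (P.d 1 0).hom) y =
        Module.rankAtStalk (R := A) (P.X 0 ⧸ LinearMap.range (P.d 1 0).hom) x ∧
      Module.rankAtStalk (P.X 0) y = Module.rankAtStalk (P.X 0) x := by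
    refine ((Finset.range (n + 1)).eventually_all.2 fun j _ => ?_).and
      ((Module.isLocallyConstant_rankAtStalk.eventually_eq x).and ?_)
    · have := (hP (-(j : ℤ))).1
      have := (hP (-(j : ℤ))).2
      have := Module.finitePresentation_of_projective A (P.X (-(j : ℤ)))
      exact (Module.isLocallyConstant_rankAtStalk (R := A) (M := P.X (-(j : ℤ)))).eventually_eq x
    · exact (Module.isLocallyConstant_rankAtStalk (R := A) (M := P.X 0)).eventually_eq x
  filter_upwards [hev] with y hy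
  rw [sum_dRank_eq P hP' n y, sum_dRank_eq P hP' n x, he, he, eulerErr_eq_zero P _ y (h₀ _ hn),
    eulerErr_eq_zero P _ x (h₀ _ hn), hy.2.1, hy.2.2]
  simp only [mul_zero, add_zero]
  exact congrArg (· + _) (Finset.sum_congr rfl fun j hj => by rw [hy.1 j hj])

variable {X S : Scheme.{u}} (f : X ⟶ S) [IsProper f] [LocallyOfFinitePresentation f] {F : X.Modules}

theorem isOpen_betti_lt (hF : CohB1.IsFP F) (hfl : FlatMod.IsFlatOver f F) (i n : ℕ) :
    IsOpen {s : S | PerfAux.betti f F s i < n} := by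
  haveI := ConsPropLib.isQCoh_of_isFP hF
  rw [isOpen_iff_forall_mem_open]
  intro s hs
  obtain ⟨C, hsC, -⟩ := exists_chart hF hfl (show s ∈ (⊤ : S.Opens) from trivial)
  refine ⟨C.hU.fromSpec '' {x | CohIII.dRank C.P (-(i : ℤ)) x < n}, ?_,
    C.hU.fromSpec.isOpenEmbedding.isOpenMap _ (isOpen_dRank_lt C.P C.finite_free _ n),
    ⟨C.pt hsC, (show CohIII.dRank C.P (-(i : ℤ)) (C.pt hsC) < n by rw [← C.fiberRank_eq hfl hsC i]; exact hs),
      C.hU.fromSpec_primeIdealOf _⟩⟩
  rintro _ ⟨x, hx, rfl⟩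
  have hxU : C.hU.fromSpec x ∈ C.U := C.hU.range_fromSpec.le ⟨x, rfl⟩
  have e : C.pt hxU = x := C.hU.fromSpec.isOpenEmbedding.injective (C.hU.fromSpec_primeIdealOf _)
  show CohIII.fiberRank f F i (C.hU.fromSpec x) < n
  rw [C.fiberRank_eq hfl hxU i, e]
  exact hx

theorem isLocallyConstant_eulerChar (hF : CohB1.IsFP F) (hfl : FlatMod.IsFlatOver f F) :
    IsLocallyConstant fun s : S => PerfAux.eulerChar f F s := by
  haveI := ConsPropLib.isQCoh_of_isFP hF
  rw [IsLocallyConstant.iff_exists_open]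
  intro y
  obtain ⟨C, hyC, -⟩ := exists_chart hF hfl (show y ∈ (⊤ : S.Opens) from trivial)
  letI := overSections f C.hU
  let n : ℕ := C.data.R.bound.toNat + 1
  let χ : PrimeSpectrum Γ(S, C.U) → ℤ := fun x =>
    ∑ j ∈ Finset.range (n + 1), (-1 : ℤ) ^ j * (CohIII.dRank C.P (-(j : ℤ)) x : ℤ)
  have h1 : Module.Flat Γ(S, C.U) (C.P.X 0 ⧸ LinearMap.range (C.P.d 1 0).hom) := by
    have h := C.flat_neg_one
    unfold Chart.Flat FlatAt at h
    rw [show -(-1 : ℤ) = 1 from rfl, show (1 : ℤ) - 1 = 0 from rfl] at h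
    exact h
  have hlc : IsLocallyConstant χ :=
    isLocallyConstant_sum_dRank C.P C.finite_free h1 (-C.data.R.bound) (fun i hi => C.data.isZero_P i hi) (by omega)
  have hP' : ∀ j, Module.Finite Γ(S, C.U) (C.P.X j) ∧ Module.Flat Γ(S, C.U) (C.P.X j) := fun j =>
    ⟨(C.finite_free j).1, have := (C.finite_free j).2; inferInstance⟩
  have heq : ∀ (z : S) (hz : z ∈ C.U), PerfAux.eulerChar f F z = χ (C.pt hz) := by
    intro z hz
    have hb : ∀ j : ℕ, PerfAux.betti f F z j = CohIII.dRank C.P (-(j : ℤ)) (C.pt hz) :=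
      fun j => (show PerfAux.betti f F z j = CohIII.fiberRank f F j z from rfl).trans (C.fiberRank_eq hfl hz j)
    unfold PerfAux.eulerChar
    rw [finsum_eq_sum_of_support_subset _ (s := Finset.range (n + 1)) fun j hj => ?_]
    · exact Finset.sum_congr rfl fun j _ => by rw [hb]
    · by_contra hc
      simp only [Finset.coe_range, Set.mem_Iio, not_lt] at hc
      refine hj ?_
      show (-1 : ℤ) ^ j * (PerfAux.betti f F z j : ℤ) = 0
      rw [hb, dRank_eq_zero_of_isZero C.P hP' _ _ (C.data.isZero_P _ (by omega)) (C.data.isZero_P _ (by omega)),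
        Nat.cast_zero, mul_zero]
  refine ⟨C.hU.fromSpec '' {z | χ z = χ (C.pt hyC)}, C.hU.fromSpec.isOpenEmbedding.isOpenMap _ (hlc.isOpen_fiber _),
    ⟨C.pt hyC, rfl, C.hU.fromSpec_primeIdealOf _⟩, ?_⟩
  rintro _ ⟨z, hz, rfl⟩
  have hzV : C.hU.fromSpec z ∈ C.U := C.hU.range_fromSpec.le ⟨z, rfl⟩
  rw [heq _ hzV, heq y hyC, show C.pt hzV = z from C.hU.fromSpec.isOpenEmbedding.injective (C.hU.fromSpec_primeIdealOf _)]
  exact hz

end Groth.Agent.FlatCx12.ChartSemi
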