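import Groth.Agent.CohExch.AffineBC0
import Groth.Agent.DCat.ClosedPush
import Groth.Agent.DQCoh.Local

/-! Base change of the direct image along a closed immersion, for all modules. -/

set_option autoImplicit false
set_option backward.isDefEq.respectTransparency false
set_option linter.all false

universe u

open CategoryTheory CategoryTheory.Limits AlgebraicGeometry
open Groth.Agent.DCat Groth.Agent.ModStalk Groth.Agent.Coherent

namespace Groth.Agent.FlatCx12.ClosedBC

variable {X Y X' Y' : Scheme.{u}} {i : X ⟶ Y} {h : Y' ⟶ Y} {i' : X' ⟶ Y'} {g : X' ⟶ X}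

theorem exists_iso_push (hc : IsPullback g i' i h) [IsClosedImmersion i] [IsClosedImmersion i'] (M : X.Modules) :
    ∃ N : X'.Modules, Nonempty ((Scheme.Modules.pullback h).obj ((Scheme.Modules.pushforward i).obj M) ≅
      (Scheme.Modules.pushforward i').obj N) := by
  haveI := QCohLoc.isQCoh_structureModule X
  haveI := CohExch.isIso_bc0_of_affine hc (Coh.structureModule X)
  let A := (Scheme.Modules.pullback h).obj ((Scheme.Modules.pushforward i).obj M)
  let iA := (Scheme.Modules.pushforward i)
  let pM := iA.obj M
  -- `i_* M = i_* O ⊗ i_* M`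
  let e₁ : ((shT Y).obj (iA.obj (Coh.structureModule X))).obj pM ≅ pM :=
    asIso (ClosedPush.projMap i (Coh.structureModule X) pM) ≪≫
      iA.mapIso ((DQCoh.unitNatIso X).app _) ≪≫
      iA.mapIso (asIso ((Scheme.Modules.pullbackPushforwardAdjunction i).counit.app M))
  let e₂ : (Scheme.Modules.pullback h).obj (iA.obj (Coh.structureModule X)) ≅
      (Scheme.Modules.pushforward i').obj ((Scheme.Modules.pullback g).obj (Coh.structureModule X)) :=
    asIso (CohBC.bc0 i h i' g hc.w (Coh.structureModule X))
  exact ⟨_, ⟨(Scheme.Modules.pullback h).mapIso e₁.symm ≪≫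
    PullTensor.pullTensorIso h _ _ ≪≫ ((shT Y').mapIso e₂).app A ≪≫
    asIso (ClosedPush.projMap i' _ A)⟩⟩

theorem isIso_unit (hc : IsPullback g i' i h) [IsClosedImmersion i] [IsClosedImmersion i'] (M : X.Modules) :
    IsIso ((Scheme.Modules.pullbackPushforwardAdjunction i').unit.app
      ((Scheme.Modules.pullback h).obj ((Scheme.Modules.pushforward i).obj M))) := by
  obtain ⟨N, ⟨e⟩⟩ := exists_iso_push hc M
  let adj := Scheme.Modules.pullbackPushforwardAdjunction i'
  haveI : IsIso (adj.unit.app ((Scheme.Modules.pushforward i').obj N)) := IsIso.of_isIso_fac_right (adj.right_triangle_components N)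
  exact ((NatTrans.isIso_app_iff_of_iso adj.unit e).2 inferInstance)

/-- `h^* i_* ≅ i'_* g^*`. -/
theorem nonempty_pullback_push (hc : IsPullback g i' i h) [IsClosedImmersion i] [IsClosedImmersion i'] :
    Nonempty (Scheme.Modules.pushforward i ⋙ Scheme.Modules.pullback h ≅
      Scheme.Modules.pullback g ⋙ Scheme.Modules.pushforward i') := by
  let F := Scheme.Modules.pushforward i ⋙ Scheme.Modules.pullback h
  let η := Functor.whiskerLeft F (Scheme.Modules.pullbackPushforwardAdjunction i').unit
  haveI : ∀ M, IsIso (η.app M) := isIso_unit hc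
  haveI : IsIso η := NatIso.isIso_of_isIso_app η
  haveI : IsIso (Scheme.Modules.pullbackPushforwardAdjunction i).counit := NatIso.isIso_of_isIso_app _
  exact ⟨(Functor.rightUnitor _).symm ≪≫ asIso η ≪≫
    Functor.associator (Scheme.Modules.pushforward i) (Scheme.Modules.pullback h) _ ≪≫
    Functor.isoWhiskerLeft (Scheme.Modules.pushforward i)
      ((Functor.associator _ _ _).symm ≪≫ Functor.isoWhiskerRight
        (Scheme.Modules.pullbackComp i' h ≪≫ Scheme.Modules.pullbackCongr hc.w.symm ≪≫
          (Scheme.Modules.pullbackComp g i).symm) _ ≪≫ Functor.associator _ _ _) ≪≫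
    (Functor.associator _ _ _).symm ≪≫
    Functor.isoWhiskerRight (asIso (Scheme.Modules.pullbackPushforwardAdjunction i).counit) _ ≪≫
    Functor.leftUnitor _⟩

end Groth.Agent.FlatCx12.ClosedBC
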