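import Groth.Agent.FlatCx12.DevissageBC
import Groth.Agent.FlatMorDevissage.Localize
import Groth.Agent.FlatMorDevissage.FibresDomain

/-!
# Base change of complete devissages
-/

set_option autoImplicit false
set_option backward.isDefEq.respectTransparency false
set_option linter.style.haveILetI false

universe u

open TensorProduct Function

namespace Groth.Agent.FlatCx12.DevissageComplete

open FlatMorDevissage

/-- Quotients by generated submodules are compatible with base change. -/
theorem isBaseChange_quotient {B B' M M' : Type u} [CommRing B] [CommRing B'] [Algebra B B'] [AddCommGroup M]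
    [Module B M] [AddCommGroup M'] [Module B' M'] [Module B M'] [IsScalarTower B B' M']
    (f : M →ₗ[B] M') (hf : IsBaseChange B' f) (L : Submodule B M) (L' : Submodule B' M')
    (hL' : L' = Submodule.span B' (f '' (L : Set M))) :
    ∃ q : (M ⧸ L) →ₗ[B] (M' ⧸ L'), IsBaseChange B' q := by
  let q : (M ⧸ L) →ₗ[B] (M' ⧸ L') := L.liftQ ((L'.mkQ.restrictScalars B).comp f) fun m hm =>
    (Submodule.Quotient.mk_eq_zero L').2 (hL' ▸ Submodule.subset_span ⟨m, hm, rfl⟩)
  refine ⟨q, IsBaseChange.of_lift_unique q ?_⟩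
  intro Q _ _ _ _ g
  letI : AddCommGroup Q := Module.addCommMonoidToAddCommGroup B' (M := Q)
  let lg : M' →ₗ[B'] Q := hf.lift (g ∘ₗ L.mkQ)
  have hlg : ∀ m, lg (f m) = g (Submodule.Quotient.mk m) := hf.lift_eq (g ∘ₗ L.mkQ)
  have hle : L' ≤ LinearMap.ker lg := by
    rw [hL', Submodule.span_le]
    rintro _ ⟨m, hm, rfl⟩
    show lg (f m) = 0
    rw [hlg, (Submodule.Quotient.mk_eq_zero L).2 hm, map_zero]
  refine ⟨Submodule.liftQ L' lg hle, ?_, fun g' hg' => ?_⟩
  · exact Submodule.linearMap_qext _ (LinearMap.ext hlg)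
  refine Submodule.linearMap_qext _ (hf.algHom_ext _ _ fun m => ?_)
  exact (LinearMap.congr_fun hg' (Submodule.Quotient.mk m)).trans (hlg m).symm

section Contract

variable {R R' B B' : Type u} [CommRing R] [CommRing R'] [CommRing B] [CommRing B'] [Algebra R R']
  [Algebra R B] [Algebra R' B'] [Algebra R B'] [Algebra B B'] [IsScalarTower R R' B'] [IsScalarTower R B B']
  [Algebra.IsPushout R R' B B']

/-- The extended primes lie over each other in a flat base change square. -/
theorem comap_map_map [Module.Flat R B] (p : Ideal R) (p' : Ideal R') [p'.LiesOver p] :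
    (p'.map (algebraMap R' B')).comap (algebraMap B B') = p.map (algebraMap R B) := by
  refine le_antisymm (fun b hb => ?_) ?_
  · have hle : p ≤ p'.comap (algebraMap R R') := (p'.over_def p).le
    let φ : (R ⧸ p) →ₐ[R] (R' ⧸ p') := Ideal.quotientMapₐ p' (Algebra.ofId R R') hle
    have hφ : Injective φ := Ideal.quotientMap_injective' (H := hle) (p'.over_def p).ge
    have hinj : Injective (Algebra.TensorProduct.map φ (AlgHom.id R B)) :=
      Module.Flat.rTensor_preserves_injective_linearMap (M := B) φ.toLinearMap hφ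
    let Ψ : B' →+* (R' ⧸ p') ⊗[R] B :=
      (Algebra.TensorProduct.map (IsScalarTower.toAlgHom R R' (R' ⧸ p')) (AlgHom.id R B)).toRingHom.comp
        (Algebra.IsPushout.equiv R R' B B').symm.toRingEquiv.toRingHom
    have hk : p'.map (algebraMap R' B') ≤ RingHom.ker Ψ := by
      refine Ideal.map_le_iff_le_comap.2 fun r hr => ?_
      show Algebra.TensorProduct.map (IsScalarTower.toAlgHom R R' (R' ⧸ p')) (AlgHom.id R B)
        ((Algebra.IsPushout.equiv R R' B B').symm (algebraMap R' B' r)) = 0
      rw [AlgEquiv.commutes, Algebra.TensorProduct.algebraMap_apply, Algebra.TensorProduct.map_tmul,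
        IsScalarTower.toAlgHom_apply, Ideal.Quotient.algebraMap_eq, Algebra.algebraMap_self, RingHom.id_apply,
        Ideal.Quotient.eq_zero_iff_mem.2 hr, zero_tmul]
    have hb' : Ψ (algebraMap B B' b) = 0 := hk hb
    have hs : (Algebra.IsPushout.equiv R R' B B').symm (algebraMap B B' b) = (1 : R') ⊗ₜ[R] b := by
      rw [AlgEquiv.symm_apply_eq, Algebra.IsPushout.equiv_tmul, map_one, one_mul]
    have h1 : (1 : R ⧸ p) ⊗ₜ[R] b = 0 := hinj (by
      rw [map_zero, Algebra.TensorProduct.map_tmul, map_one]
      refine Eq.trans ?_ hb'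
      show _ = Algebra.TensorProduct.map _ _ ((Algebra.IsPushout.equiv R R' B B').symm (algebraMap B B' b))
      rw [hs, Algebra.TensorProduct.map_tmul, map_one])
    have h2 := congrArg (TensorProduct.quotTensorEquivQuotSMul B p) h1
    rw [map_zero, show (1 : R ⧸ p) = Ideal.Quotient.mk p 1 from (map_one _).symm,
      TensorProduct.quotTensorEquivQuotSMul_mk_tmul, one_smul, Submodule.Quotient.mk_eq_zero,
      Ideal.smul_top_eq_map] at h2
    exact h2
  · rw [Ideal.map_le_iff_le_comap, Ideal.comap_comap, ← IsScalarTower.algebraMap_eq,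
      IsScalarTower.algebraMap_eq R R' B', ← Ideal.comap_comap]
    exact (p'.over_def p).le.trans (Ideal.comap_mono Ideal.le_comap_map)

end Contract

section Data

attribute [local instance] Algebra.TensorProduct.rightAlgebra

variable {R S : Type u} [CommRing R] [CommRing S] [Algebra R S] {N : Type u} [AddCommGroup N] [Module S N]
  {p : Ideal R} [p.IsPrime] (D : FlatCA.CompleteDevissage R S N p) (R' : Type u) [CommRing R'] [Algebra R R']

open Classical in
/-- The ideal cutting off the tail of the rings carrying the modules. -/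
noncomputable def IA (i : ℕ) : Ideal (R' ⊗[R] D.A i) := if i < D.n then ⊥ else ⊤

/-- The base changed rings carrying the modules, zero beyond the length. -/
def A' (i : ℕ) : Type u := (R' ⊗[R] D.A i) ⧸ IA D R' i

noncomputable instance ringA (i : ℕ) : CommRing (A' D R' i) :=
  inferInstanceAs (CommRing ((R' ⊗[R] D.A i) ⧸ IA D R' i))

noncomputable instance algR'A (i : ℕ) : Algebra R' (A' D R' i) :=
  inferInstanceAs (Algebra R' ((R' ⊗[R] D.A i) ⧸ IA D R' i))

noncomputable instance algRA (i : ℕ) : Algebra R (A' D R' i) :=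
  inferInstanceAs (Algebra R ((R' ⊗[R] D.A i) ⧸ IA D R' i))

instance towRR'A (i : ℕ) : IsScalarTower R R' (A' D R' i) :=
  inferInstanceAs (IsScalarTower R R' ((R' ⊗[R] D.A i) ⧸ IA D R' i))

noncomputable instance algAA (i : ℕ) : Algebra (D.A i) (A' D R' i) :=
  inferInstanceAs (Algebra (D.A i) ((R' ⊗[R] D.A i) ⧸ IA D R' i))

instance towRAA (i : ℕ) : IsScalarTower R (D.A i) (A' D R' i) :=
  inferInstanceAs (IsScalarTower R (D.A i) ((R' ⊗[R] D.A i) ⧸ IA D R' i))

open Classical in
/-- The ideal cutting out the base changed smooth algebra, or the base beyond the length. -/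
noncomputable def JB (i : ℕ) : Ideal ((R' ⊗[R] D.B i) × R') :=
  if i < D.n then RingHom.ker (AlgHom.fst R' (R' ⊗[R] D.B i) R')
  else RingHom.ker (AlgHom.snd R' (R' ⊗[R] D.B i) R')

/-- The base changed smooth algebras, the base ring beyond the length. -/
def B' (i : ℕ) : Type u := ((R' ⊗[R] D.B i) × R') ⧸ JB D R' i

noncomputable instance ringB (i : ℕ) : CommRing (B' D R' i) :=
  inferInstanceAs (CommRing (((R' ⊗[R] D.B i) × R') ⧸ JB D R' i))

noncomputable instance algR'B (i : ℕ) : Algebra R' (B' D R' i) :=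
  inferInstanceAs (Algebra R' (((R' ⊗[R] D.B i) × R') ⧸ JB D R' i))

noncomputable instance algRB (i : ℕ) : Algebra R (B' D R' i) :=
  ((algebraMap R' (B' D R' i)).comp (algebraMap R R')).toAlgebra

instance towRR'B (i : ℕ) : IsScalarTower R R' (B' D R' i) := .of_algebraMap_eq' rfl

variable {D R'}

theorem IA_eq {i : ℕ} (h : i < D.n) : IA D R' i = ⊥ := if_pos h

theorem subsingleton_A' {i : ℕ} (h : D.n ≤ i) : Subsingleton (A' D R' i) :=
  Ideal.Quotient.subsingleton_iff.2 (if_neg (not_lt.2 h))

theorem JB_eq {i : ℕ} (h : i < D.n) : JB D R' i = RingHom.ker (AlgHom.fst R' (R' ⊗[R] D.B i) R') := if_pos h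

/-- The identification of the smooth algebras below the length. -/
noncomputable def eB {i : ℕ} (h : i < D.n) : B' D R' i ≃ₐ[R'] R' ⊗[R] D.B i :=
  AlgEquiv.ofBijective (Ideal.Quotient.liftₐ (JB D R' i) (AlgHom.fst R' (R' ⊗[R] D.B i) R')
      fun _ ha => RingHom.mem_ker.1 ((JB_eq h).le ha))
    ⟨(injective_iff_map_eq_zero _).2 fun x hx => by
        obtain ⟨x, rfl⟩ := Ideal.Quotient.mk_surjective x
        exact Ideal.Quotient.eq_zero_iff_mem.2 ((JB_eq h).ge hx),
      fun y => ⟨Ideal.Quotient.mk _ (y, 0), rfl⟩⟩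

/-- The identification beyond the length. -/
noncomputable def eTail {i : ℕ} (h : D.n ≤ i) : B' D R' i ≃ₐ[R'] R' :=
  AlgEquiv.ofBijective (Ideal.Quotient.liftₐ (JB D R' i) (AlgHom.snd R' (R' ⊗[R] D.B i) R')
      fun _ ha => RingHom.mem_ker.1 ((show JB D R' i = _ from if_neg (not_lt.2 h)).le ha))
    ⟨(injective_iff_map_eq_zero _).2 fun x hx => by
        obtain ⟨x, rfl⟩ := Ideal.Quotient.mk_surjective x
        exact Ideal.Quotient.eq_zero_iff_mem.2 ((show JB D R' i = _ from if_neg (not_lt.2 h)).ge hx),
      fun y => ⟨Ideal.Quotient.mk _ (0, y), rfl⟩⟩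

variable (D R')

/-- The structure map from the smooth algebras. -/
noncomputable def psi (i : ℕ) : B' D R' i →ₐ[R'] A' D R' i :=
  Ideal.Quotient.liftₐ (JB D R' i) ((Ideal.Quotient.mkₐ R' (IA D R' i)).comp
    ((Algebra.TensorProduct.map (AlgHom.id R' R') (IsScalarTower.toAlgHom R (D.B i) (D.A i))).comp
      (AlgHom.fst R' (R' ⊗[R] D.B i) R'))) fun a ha => by
    rcases lt_or_ge i D.n with h | h
    · show Ideal.Quotient.mk (IA D R' i) (Algebra.TensorProduct.map (AlgHom.id R' R')
        (IsScalarTower.toAlgHom R (D.B i) (D.A i)) (AlgHom.fst R' (R' ⊗[R] D.B i) R' a)) = 0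
      rw [RingHom.mem_ker.1 ((JB_eq h).le ha), map_zero, map_zero]
    · exact (subsingleton_A' h).elim _ _

/-- The map from the smooth algebras to the next ring. -/
noncomputable def psi' (i : ℕ) : B' D R' i →ₐ[R'] A' D R' (i + 1) :=
  Ideal.Quotient.liftₐ (JB D R' i) ((Ideal.Quotient.mkₐ R' (IA D R' (i + 1))).comp
    ((Algebra.TensorProduct.map (AlgHom.id R' R') (IsScalarTower.toAlgHom R (D.B i) (D.A (i + 1)))).comp
      (AlgHom.fst R' (R' ⊗[R] D.B i) R'))) fun a ha => by
    rcases lt_or_ge i D.n with h | h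
    · show Ideal.Quotient.mk (IA D R' (i + 1)) (Algebra.TensorProduct.map (AlgHom.id R' R')
        (IsScalarTower.toAlgHom R (D.B i) (D.A (i + 1))) (AlgHom.fst R' (R' ⊗[R] D.B i) R' a)) = 0
      rw [RingHom.mem_ker.1 ((JB_eq h).le ha), map_zero, map_zero]
    · exact (subsingleton_A' (le_trans h (Nat.le_succ i))).elim _ _

/-- The structure map. -/
noncomputable instance algBA (i : ℕ) : Algebra (B' D R' i) (A' D R' i) := (psi D R' i).toRingHom.toAlgebra

/-- The structure map to the next ring. -/
noncomputable instance algBA' (i : ℕ) : Algebra (B' D R' i) (A' D R' (i + 1)) :=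
  (psi' D R' i).toRingHom.toAlgebra

instance towBA (i : ℕ) : IsScalarTower R' (B' D R' i) (A' D R' i) :=
  .of_algebraMap_eq fun r => ((psi D R' i).commutes r).symm

instance towBA' (i : ℕ) : IsScalarTower R' (B' D R' i) (A' D R' (i + 1)) :=
  .of_algebraMap_eq fun r => ((psi' D R' i).commutes r).symm

/-- The original smooth algebra acting on the base changed rings. -/
noncomputable instance algB (i : ℕ) : Algebra (D.B i) (A' D R' i) :=
  ((algebraMap (D.A i) (A' D R' i)).comp (algebraMap (D.B i) (D.A i))).toAlgebra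

/-- The original smooth algebra acting on the next base changed rings. -/
noncomputable instance algB' (i : ℕ) : Algebra (D.B i) (A' D R' (i + 1)) :=
  ((algebraMap (D.A (i + 1)) (A' D R' (i + 1))).comp (algebraMap (D.B i) (D.A (i + 1)))).toAlgebra

instance towB (i : ℕ) : IsScalarTower (D.B i) (D.A i) (A' D R' i) := .of_algebraMap_eq' rfl

instance towB' (i : ℕ) : IsScalarTower (D.B i) (D.A (i + 1)) (A' D R' (i + 1)) := .of_algebraMap_eq' rfl

/-- The base changed modules. -/
def M' (i : ℕ) : Type u := A' D R' i ⊗[D.A i] D.M i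

noncomputable instance groupM (i : ℕ) : AddCommGroup (M' D R' i) :=
  inferInstanceAs (AddCommGroup (A' D R' i ⊗[D.A i] D.M i))

noncomputable instance modAM (i : ℕ) : Module (A' D R' i) (M' D R' i) :=
  inferInstanceAs (Module (A' D R' i) (A' D R' i ⊗[D.A i] D.M i))

noncomputable instance modA (i : ℕ) : Module (D.A i) (M' D R' i) :=
  inferInstanceAs (Module (D.A i) (A' D R' i ⊗[D.A i] D.M i))

instance towAM (i : ℕ) : IsScalarTower (D.A i) (A' D R' i) (M' D R' i) :=
  inferInstanceAs (IsScalarTower (D.A i) (A' D R' i) (A' D R' i ⊗[D.A i] D.M i))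

/-- The action of the base changed smooth algebra on the modules. -/
noncomputable instance modBM (i : ℕ) : Module (B' D R' i) (M' D R' i) :=
  Module.compHom _ (algebraMap (B' D R' i) (A' D R' i))

instance towBM (i : ℕ) : IsScalarTower (B' D R' i) (A' D R' i) (M' D R' i) :=
  .of_algebraMap_smul fun _ _ => rfl

/-- The action of the previous smooth algebra on the modules. -/
noncomputable instance modBM' (i : ℕ) : Module (B' D R' i) (M' D R' (i + 1)) :=
  Module.compHom _ (algebraMap (B' D R' i) (A' D R' (i + 1)))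

instance towBM' (i : ℕ) : IsScalarTower (B' D R' i) (A' D R' (i + 1)) (M' D R' (i + 1)) :=
  .of_algebraMap_smul fun _ _ => rfl

/-- The action of the new base on the modules. -/
noncomputable instance modR'M (i : ℕ) : Module R' (M' D R' i) :=
  Module.compHom _ (algebraMap R' (A' D R' i))

instance towR'BM (i : ℕ) : IsScalarTower R' (B' D R' i) (M' D R' i) :=
  .of_algebraMap_smul fun r x => by
    show algebraMap (B' D R' i) (A' D R' i) (algebraMap R' (B' D R' i) r) • x = algebraMap R' (A' D R' i) r • x
    rw [← IsScalarTower.algebraMap_apply]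

/-- The base change map on the modules. -/
noncomputable def gM (i : ℕ) : D.M i →ₗ[D.A i] M' D R' i := TensorProduct.mk (D.A i) (A' D R' i) (D.M i) 1

/-- The base changed maps from free modules. -/
noncomputable def alpha (i : ℕ) : (Fin (D.r i) → B' D R' i) →ₗ[B' D R' i] M' D R' i :=
  (Pi.basisFun (B' D R' i) (Fin (D.r i))).constr ℕ fun j => gM D R' i (D.α i (Pi.single j 1))

theorem alpha_single (i : ℕ) (j : Fin (D.r i)) :
    alpha D R' i (Pi.single j 1) = gM D R' i (D.α i (Pi.single j 1)) := by
  rw [← Pi.basisFun_apply (B' D R' i) (Fin (D.r i)) j]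
  exact (Pi.basisFun (B' D R' i) (Fin (D.r i))).constr_basis ℕ _ j

variable {D R'}

theorem pushA {i : ℕ} (h : i < D.n) : Algebra.IsPushout R R' (D.A i) (A' D R' i) := by
  haveI : Algebra.IsPushout R R' (D.A i) (R' ⊗[R] D.A i) := TensorProduct.isPushout
  refine Algebra.IsPushout.of_equiv (S' := R' ⊗[R] D.A i)
    ((Ideal.quotientEquivAlgOfEq R' (IA_eq h)).trans (AlgEquiv.quotientBot R' _)).symm (RingHom.ext fun _ => ?_)
  exact ((Ideal.quotientEquivAlgOfEq R' (IA_eq h)).trans (AlgEquiv.quotientBot R' _)).injective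
    ((AlgEquiv.apply_symm_apply _ _).trans rfl)

/-- The algebra structure on the base changed smooth algebra below the length. -/
@[reducible] noncomputable def algBB {i : ℕ} (h : i < D.n) : Algebra (D.B i) (B' D R' i) :=
  ((eB (R' := R') h).symm.toRingEquiv.toRingHom.comp
    (algebraMap (D.B i) (R' ⊗[R] D.B i))).toAlgebra

theorem psi_eq {i : ℕ} (h : i < D.n) (x : B' D R' i) :
    psi D R' i x = Ideal.Quotient.mk (IA D R' i)
      (Algebra.TensorProduct.map (AlgHom.id R' R') (IsScalarTower.toAlgHom R (D.B i) (D.A i)) (eB h x)) := by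
  obtain ⟨x, rfl⟩ := Ideal.Quotient.mk_surjective x
  rfl

theorem psi'_eq {i : ℕ} (h : i < D.n) (x : B' D R' i) :
    psi' D R' i x = Ideal.Quotient.mk (IA D R' (i + 1))
      (Algebra.TensorProduct.map (AlgHom.id R' R') (IsScalarTower.toAlgHom R (D.B i) (D.A (i + 1))) (eB h x)) := by
  obtain ⟨x, rfl⟩ := Ideal.Quotient.mk_surjective x
  rfl

theorem towRB {i : ℕ} (h : i < D.n) :
    letI := algBB (R' := R') h
    IsScalarTower R (D.B i) (B' D R' i) := by
  letI := algBB (R' := R') h
  refine .of_algebraMap_eq fun r => (eB h).injective ?_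
  show _ = eB h ((eB (R' := R') h).symm (algebraMap (D.B i) (R' ⊗[R] D.B i) (algebraMap R (D.B i) r)))
  rw [AlgEquiv.apply_symm_apply, ← IsScalarTower.algebraMap_apply R (D.B i),
    IsScalarTower.algebraMap_apply R R' (B' D R' i), AlgEquiv.commutes, ← IsScalarTower.algebraMap_apply R R']

theorem pushB {i : ℕ} (h : i < D.n) :
    letI := algBB (R' := R') h
    haveI := towRB (R' := R') h
    Algebra.IsPushout R R' (D.B i) (B' D R' i) := by
  letI := algBB (R' := R') h
  haveI := towRB (R' := R') h
  haveI : Algebra.IsPushout R R' (D.B i) (R' ⊗[R] D.B i) := TensorProduct.isPushout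
  exact Algebra.IsPushout.of_equiv (S' := R' ⊗[R] D.B i) (eB h).symm (RingHom.ext fun _ => rfl)

theorem towBBA {i : ℕ} (h : i < D.n) :
    letI := algBB (R' := R') h
    IsScalarTower (D.B i) (B' D R' i) (A' D R' i) := by
  letI := algBB (R' := R') h
  refine .of_algebraMap_eq fun b => ?_
  show _ = psi D R' i ((eB h).symm (algebraMap (D.B i) (R' ⊗[R] D.B i) b))
  rw [psi_eq h, AlgEquiv.apply_symm_apply]
  rfl

theorem towBBA' {i : ℕ} (h : i < D.n) :
    letI := algBB (R' := R') h
    IsScalarTower (D.B i) (B' D R' i) (A' D R' (i + 1)) := by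
  letI := algBB (R' := R') h
  refine .of_algebraMap_eq fun b => ?_
  show _ = psi' D R' i ((eB h).symm (algebraMap (D.B i) (R' ⊗[R] D.B i) b))
  rw [psi'_eq h, AlgEquiv.apply_symm_apply]
  rfl

theorem isBaseChange_gM (i : ℕ) : IsBaseChange (A' D R' i) (gM D R' i) :=
  TensorProduct.isBaseChange (D.A i) (D.M i) (A' D R' i)

/-- The original smooth algebra acting on the modules. -/
noncomputable instance modB (i : ℕ) : Module (D.B i) (M' D R' i) :=
  Module.compHom _ (algebraMap (D.B i) (A' D R' i))

instance towB_M (i : ℕ) : IsScalarTower (D.B i) (A' D R' i) (M' D R' i) :=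
  .of_algebraMap_smul fun _ _ => rfl

instance towBAM (i : ℕ) : IsScalarTower (D.B i) (D.A i) (M' D R' i) :=
  .of_algebraMap_smul fun b x => (IsScalarTower.algebraMap_smul (A' D R' i) (algebraMap (D.B i) (D.A i) b) x).symm

/-- The original previous smooth algebra acting on the modules. -/
noncomputable instance modB' (i : ℕ) : Module (D.B i) (M' D R' (i + 1)) :=
  Module.compHom _ (algebraMap (D.B i) (A' D R' (i + 1)))

instance towB_M' (i : ℕ) : IsScalarTower (D.B i) (A' D R' (i + 1)) (M' D R' (i + 1)) :=
  .of_algebraMap_smul fun _ _ => rfl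

instance towBAM' (i : ℕ) : IsScalarTower (D.B i) (D.A (i + 1)) (M' D R' (i + 1)) :=
  .of_algebraMap_smul fun b x =>
    (IsScalarTower.algebraMap_smul (A' D R' (i + 1)) (algebraMap (D.B i) (D.A (i + 1)) b) x).symm

theorem towBBM {i : ℕ} (h : i < D.n) :
    letI := algBB (R' := R') h
    IsScalarTower (D.B i) (B' D R' i) (M' D R' i) := by
  letI := algBB (R' := R') h
  haveI := towBBA (R' := R') h
  exact .of_algebraMap_smul fun b x => by
    show algebraMap (B' D R' i) (A' D R' i) (algebraMap (D.B i) (B' D R' i) b) • x = _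
    rw [← IsScalarTower.algebraMap_apply]
    rfl

theorem isBaseChange_B {i : ℕ} (h : i < D.n) :
    letI := algBB (R' := R') h
    haveI := towBBM (R' := R') h
    IsBaseChange (B' D R' i) ((gM D R' i).restrictScalars (D.B i)) := by
  letI := algBB (R' := R') h
  haveI := towRB (R' := R') h
  haveI := towBBA (R' := R') h
  haveI := towBBM (R' := R') h
  haveI := pushA (R' := R') h
  haveI := pushB (R' := R') h
  haveI : Algebra.IsPushout (D.B i) (B' D R' i) (D.A i) (A' D R' i) :=
    DevissageBC.isPushout_top (R := R) (R' := R')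
  exact DevissageBC.isBaseChange_bc (gM D R' i) (isBaseChange_gM i)

/-- The image of the base changed map is generated by the image of the original one. -/
theorem range_alpha {i : ℕ} (h : i < D.n) :
    LinearMap.range (alpha D R' i) =
      Submodule.span (B' D R' i) (gM D R' i '' (LinearMap.range (D.α i) : Set (D.M i))) := by
  letI := algBB (R' := R') h
  haveI := towBBA (R' := R') h
  haveI := towBBM (R' := R') h
  rw [alpha, Module.Basis.constr_range]
  refine le_antisymm (Submodule.span_mono ?_) (Submodule.span_le.2 ?_)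
  · rintro _ ⟨j, rfl⟩
    exact ⟨_, LinearMap.mem_range_self _ _, rfl⟩
  · rintro _ ⟨_, ⟨c, rfl⟩, rfl⟩
    rw [← Finset.univ_sum_single c, map_sum, map_sum]
    refine Submodule.sum_mem _ fun j _ => ?_
    rw [show (Pi.single j (c j) : Fin (D.r i) → D.B i) = c j • Pi.single j 1 by
      rw [← Pi.single_smul', smul_eq_mul, mul_one], map_smul, LinearMap.map_smul_of_tower,
      ← IsScalarTower.algebraMap_smul (B' D R' i) (c j) (gM D R' i (D.α i (Pi.single j 1)))]
    exact Submodule.smul_mem _ _ (Submodule.subset_span ⟨j, rfl⟩)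

theorem alpha_last_surjective : Surjective (alpha D R' (D.n - 1)) := by
  have h : D.n - 1 < D.n := Nat.sub_lt D.pos one_pos
  letI := algBB (R' := R') h
  haveI := towBBA (R' := R') h
  haveI := towBBM (R' := R') h
  rw [← LinearMap.range_eq_top, range_alpha h, LinearMap.range_eq_top.2 D.cokerLast, eq_top_iff]
  rintro x -
  induction x using (isBaseChange_B (R' := R') h).inductionOn with
  | zero => exact zero_mem _
  | tmul m => exact Submodule.subset_span ⟨m, trivial, rfl⟩
  | smul b x hx => exact Submodule.smul_mem _ b hx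
  | add x y hx hy => exact add_mem hx hy

/-- The extensions of the prime stay prime. -/
theorem isPrime_map (p' : Ideal R') [p'.IsPrime] (i : ℕ) : (p'.map (algebraMap R' (B' D R' i))).IsPrime := by
  rcases lt_or_ge i D.n with h | h
  · haveI := D.smooth i h
    haveI : Algebra.Smooth R' (B' D R' i) := Algebra.Smooth.of_equiv (eB h).symm
    exact isPrime_map_of_fibresDomain (fibresDomain_of_algEquiv (eB h).symm
      ((fibresDomain_of_smooth_geomIrred (D.geomIrred i h)).baseChange R')) p'
  · have hb : Bijective (algebraMap R' (B' D R' i)) := by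
      rw [show ⇑(algebraMap R' (B' D R' i)) = (eTail (R' := R') h).symm from
        funext fun r => ((eTail (R' := R') h).symm.commutes r).symm]
      exact (eTail (R' := R') h).symm.bijective
    exact Ideal.map_isPrime_of_surjective hb.2 (by
      rw [(RingHom.injective_iff_ker_eq_bot _).1 hb.1]
      exact bot_le)

end Data

end Groth.Agent.FlatCx12.DevissageComplete
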