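import Groth.Agent.FlatCx12.DevissageBC
import Groth.Agent.EGA43.DimFormula.Sub
import Mathlib.RingTheory.LocalRing.ResidueField.Fiber

/-!
# Points of base changes with trivial residue field extension
-/

set_option autoImplicit false
set_option backward.isDefEq.respectTransparency false
set_option linter.style.haveILetI false

universe u

open TensorProduct Function

namespace Groth.Agent.FlatCx12.DevissagePoints

open FlatMorDevissage

variable {R R' S S' : Type u} [CommRing R] [CommRing R'] [Algebra R R'] [CommRing S] [CommRing S']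
  [Algebra R S] [Algebra R' S'] [Algebra R S'] [Algebra S S'] [IsScalarTower R R' S'] [IsScalarTower R S S']
  [Algebra.IsPushout R R' S S'] (p : Ideal R) [p.IsPrime] (p' : Ideal R') [p'.IsPrime] [hp' : p'.LiesOver p]

attribute [local instance] Algebra.TensorProduct.rightAlgebra

/-- Fibres over points with the same residue field agree. -/
theorem exists_fiber_equiv
    (hκ : Bijective (Ideal.ResidueField.mapₐ p p' (Algebra.ofId R R') hp'.over)) :
    ∃ e : p.Fiber S ≃+* p'.Fiber S', ∀ s : S,
      e (algebraMap S (p.Fiber S) s) = algebraMap S' (p'.Fiber S') (algebraMap S S' s) := by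
  let e₁ := AlgEquiv.ofBijective (Ideal.ResidueField.mapₐ p p' (Algebra.ofId R R') hp'.over) hκ
  let e : p.Fiber S ≃+* p'.Fiber S' :=
    ((Algebra.TensorProduct.congr e₁ (AlgEquiv.refl (R := R) (A₁ := S))).toRingEquiv.trans
      (Algebra.TensorProduct.cancelBaseChange R R' p'.ResidueField p'.ResidueField S).toRingEquiv.symm).trans
      (Algebra.TensorProduct.congr (AlgEquiv.refl (R := R') (A₁ := p'.ResidueField))
        (Algebra.IsPushout.equiv R R' S S')).toRingEquiv
  refine ⟨e, fun s => ?_⟩
  simp [e, Algebra.TensorProduct.right_algebraMap_apply, Algebra.IsPushout.equiv_tmul]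

omit [Algebra R R'] [CommRing R'] [CommRing S'] [Algebra R' S'] [Algebra R S'] [Algebra S S']
  [IsScalarTower R R' S'] [IsScalarTower R S S'] [Algebra.IsPushout R R' S S'] hp' in
/-- The prime of the fibre over a point is the extended ideal. -/
theorem asIdeal_eq_fiberIdeal (w : PrimeSpectrum (p.Fiber S)) (q : Ideal S)
    (hq : (PrimeSpectrum.comap (algebraMap S (p.Fiber S)) w).asIdeal = q) :
    w.asIdeal = FlatCA.fiberIdeal p q := by
  subst hq
  refine le_antisymm (fun z hz => ?_) (Ideal.map_le_iff_le_comap.2 fun s hs => hs)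
  obtain ⟨r, hr, s, e⟩ := Ideal.Fiber.exists_smul_eq_one_tmul p z
  have hs : s ∈ (PrimeSpectrum.comap (algebraMap S (p.Fiber S)) w).asIdeal := by
    show (1 : p.ResidueField) ⊗ₜ[R] s ∈ w.asIdeal
    rw [← e, Algebra.smul_def]
    exact w.asIdeal.mul_mem_left _ hz
  have h1 : r • z ∈ FlatCA.fiberIdeal p (PrimeSpectrum.comap (algebraMap S (p.Fiber S)) w).asIdeal := by
    rw [e]
    exact Ideal.mem_map_of_mem _ hs
  have hu : IsUnit (algebraMap R (p.Fiber S) r) := by
    rw [IsScalarTower.algebraMap_apply R p.ResidueField (p.Fiber S)]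
    exact (Ne.isUnit (fun h => hr (Ideal.algebraMap_residueField_eq_zero.1 h))).map _
  rw [Algebra.smul_def] at h1
  exact (Ideal.unit_mul_mem_iff_mem _ hu).1 h1

section Bij

variable (hκ : Bijective (Ideal.ResidueField.mapₐ p p' (Algebra.ofId R R') hp'.over))
include hκ

/-- A prime of the base change is determined by its two images. -/
theorem eq_of_liesOver (q : Ideal S) (Q₁ Q₂ : Ideal S') [Q₁.IsPrime] [Q₂.IsPrime] [h₁ : Q₁.LiesOver q]
    [h₂ : Q₂.LiesOver q] [h₁' : Q₁.LiesOver p'] [h₂' : Q₂.LiesOver p'] : Q₁ = Q₂ := by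
  obtain ⟨e, he⟩ := exists_fiber_equiv (S := S) (S' := S') p p' hκ
  obtain ⟨w₁, hw₁⟩ := EGA43.FibDepth.exists_prime_over (A := R') (p := p') (p'.Fiber S') ⟨Q₁, ‹_›⟩ h₁'.over
  obtain ⟨w₂, hw₂⟩ := EGA43.FibDepth.exists_prime_over (A := R') (p := p') (p'.Fiber S') ⟨Q₂, ‹_›⟩ h₂'.over
  have key : ∀ (w : PrimeSpectrum (p'.Fiber S')) (Q : Ideal S') [Q.LiesOver q],
      (PrimeSpectrum.comap (algebraMap S' (p'.Fiber S')) w).asIdeal = Q →
      (PrimeSpectrum.comap (algebraMap S (p.Fiber S)) (PrimeSpectrum.comap e.toRingHom w)).asIdeal = q := by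
    intro w Q hQo hQ
    ext s
    rw [hQo.over, ← hQ]
    show e (algebraMap S (p.Fiber S) s) ∈ w.asIdeal ↔ _
    rw [he]
    rfl
  have k₁ := key w₁ Q₁ (congrArg PrimeSpectrum.asIdeal hw₁)
  have k₂ := key w₂ Q₂ (congrArg PrimeSpectrum.asIdeal hw₂)
  have h : PrimeSpectrum.comap e.toRingHom w₁ = PrimeSpectrum.comap e.toRingHom w₂ :=
    le_antisymm (EGA43.FibDepth.le_of_comap_le (R := S) p (le_of_eq (k₁.trans k₂.symm)))
      (EGA43.FibDepth.le_of_comap_le (R := S) p (le_of_eq (k₂.trans k₁.symm)))
  have hw : w₁ = w₂ := (PrimeSpectrum.comapEquiv e).symm.injective h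
  exact congrArg PrimeSpectrum.asIdeal (hw₁.symm.trans (hw ▸ hw₂))

variable (N : Type u) [AddCommGroup N] [Module S N] [Module R N] [IsScalarTower R S N] [Module.Finite S N]
  (N' : Type u) [AddCommGroup N'] [Module S' N'] [Module R' N'] [IsScalarTower R' S' N']
  [Module S N'] [IsScalarTower S S' N'] (f : N →ₗ[S] N') (hf : IsBaseChange S' f)

include hf in
/-- The local dimension of the support of the fibre module is unchanged. -/
theorem localDim_support (q : Ideal S) [q.IsPrime] (q' : Ideal S') [q'.IsPrime] [hq' : q'.LiesOver q]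
    [hq'' : q'.LiesOver p'] {n : WithBot ℕ∞}
    (h1 : ∃ (ξ : PrimeSpectrum (p.Fiber S)) (hξ : ξ ∈ Module.support (p.Fiber S) (FlatCA.fiberMod p S N)),
      ξ.asIdeal = FlatCA.fiberIdeal p q ∧
      FlatMor.localDim (Module.support (p.Fiber S) (FlatCA.fiberMod p S N)) ⟨ξ, hξ⟩ = n) :
    ∃ (ξ' : PrimeSpectrum (p'.Fiber S')) (hξ' : ξ' ∈ Module.support (p'.Fiber S') (FlatCA.fiberMod p' S' N')),
      ξ'.asIdeal = FlatCA.fiberIdeal p' q' ∧
      FlatMor.localDim (Module.support (p'.Fiber S') (FlatCA.fiberMod p' S' N')) ⟨ξ', hξ'⟩ = n := by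
  obtain ⟨ξ, hξ, hξq, hdim⟩ := h1
  obtain ⟨e, he⟩ := exists_fiber_equiv (S := S) (S' := S') p p' hκ
  haveI : Module.Finite S' N' := Module.Finite.equiv hf.equiv
  let E := PrimeSpectrum.homeomorphOfRingEquiv e
  have hmem : ∀ w : PrimeSpectrum (p.Fiber S), E w ∈ Module.support (p'.Fiber S') (FlatCA.fiberMod p' S' N') ↔
      w ∈ Module.support (p.Fiber S) (FlatCA.fiberMod p S N) := fun w => by
    have ec : PrimeSpectrum.comap (algebraMap S S') (PrimeSpectrum.comap (algebraMap S' (p'.Fiber S')) (E w)) =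
        PrimeSpectrum.comap (algebraMap S (p.Fiber S)) w := by
      ext s
      show e.symm (algebraMap S' (p'.Fiber S') (algebraMap S S' s)) ∈ w.asIdeal ↔ _
      rw [← he, e.symm_apply_apply]
      rfl
    rw [mem_support_fiberMod_iff, mem_support_fiberMod_iff, ← Module.mem_support_iff_of_finite,
      ← Module.mem_support_iff_of_finite, ← hf.equiv.support_eq, FlatCrit.mem_support_baseChange_iff, ec]
  obtain ⟨w', hw'⟩ := EGA43.FibDepth.exists_prime_over (A := R') (p := p') (p'.Fiber S') ⟨q', ‹_›⟩ hq''.over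
  have hw : E ξ = w' := by
    refine E.symm.injective (((E.symm_apply_apply ξ).trans ?_))
    have hq : (PrimeSpectrum.comap (algebraMap S (p.Fiber S)) (E.symm w')).asIdeal = q := by
      ext s
      rw [hq'.over, ← show (PrimeSpectrum.comap (algebraMap S' (p'.Fiber S')) w').asIdeal = q' from
        congrArg PrimeSpectrum.asIdeal hw']
      show e (algebraMap S (p.Fiber S) s) ∈ w'.asIdeal ↔ _
      rw [he]
      rfl
    exact PrimeSpectrum.ext (hξq.trans (asIdeal_eq_fiberIdeal p _ q hq).symm)
  refine ⟨E ξ, (hmem ξ).2 hξ, asIdeal_eq_fiberIdeal p' _ q' (hw ▸ congrArg PrimeSpectrum.asIdeal hw'), ?_⟩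
  exact (EGA43.DimFormula.localDim_homeomorph (E.subtype fun w => (hmem w).symm) ⟨ξ, hξ⟩).symm.trans hdim

omit [Module R N] [IsScalarTower R S N] [Module.Finite S N] [Module R' N'] [IsScalarTower R' S' N'] in
/-- Residue fields of points over the same residue field agree. -/
theorem bijective_residueField (q : Ideal S) [q.IsPrime] (q' : Ideal S') [q'.IsPrime] [hq : q'.LiesOver q]
    [hq'' : q'.LiesOver p'] :
    Bijective (Ideal.ResidueField.mapₐ q q' (Algebra.ofId S S') hq.over) := by
  let φ := Ideal.ResidueField.mapₐ q q' (Algebra.ofId S S') hq.over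
  refine ⟨φ.toRingHom.injective, fun x => ?_⟩
  have key : ∀ y : S', ∃ a, φ a = algebraMap S' q'.ResidueField y := by
    intro y
    obtain ⟨w, rfl⟩ := (Algebra.IsPushout.equiv R R' S S').surjective y
    induction w using TensorProduct.induction_on with
    | zero => exact ⟨0, by simp⟩
    | add a b ha hb =>
      obtain ⟨a', ha'⟩ := ha
      obtain ⟨b', hb'⟩ := hb
      exact ⟨a' + b', by rw [map_add, map_add, map_add, ha', hb']⟩
    | tmul r' s =>
      obtain ⟨c, hc⟩ := hκ.2 (algebraMap R' p'.ResidueField r')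
      obtain ⟨a, b, hb, rfl⟩ := IsFractionRing.div_surjective (R ⧸ p) c
      obtain ⟨a, rfl⟩ := Ideal.Quotient.mk_surjective a
      obtain ⟨b, rfl⟩ := Ideal.Quotient.mk_surjective b
      rw [Ideal.algebraMap_quotient_residueField_mk, Ideal.algebraMap_quotient_residueField_mk, map_div₀,
        AlgHom.commutes, AlgHom.commutes, IsScalarTower.algebraMap_apply R R' p'.ResidueField,
        IsScalarTower.algebraMap_apply R R' p'.ResidueField] at hc
      have hb0 : algebraMap R' p'.ResidueField (algebraMap R R' b) ≠ 0 := fun h => by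
        rw [Ideal.algebraMap_residueField_eq_zero] at h
        have hbp : b ∈ p := by
          rw [hp'.over]
          exact h
        exact nonZeroDivisors.ne_zero hb (Ideal.Quotient.eq_zero_iff_mem.2 hbp)
      rw [div_eq_iff hb0, ← map_mul, ← sub_eq_zero, ← map_sub, Ideal.algebraMap_residueField_eq_zero,
        hq''.over] at hc
      have hbq : algebraMap S' q'.ResidueField (algebraMap R' S' (algebraMap R R' b)) ≠ 0 := fun h => by
        apply hb0
        rw [Ideal.algebraMap_residueField_eq_zero] at h ⊢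
        rw [hq''.over]
        exact h
      refine ⟨algebraMap S q.ResidueField (algebraMap R S a) / algebraMap S q.ResidueField (algebraMap R S b) *
        algebraMap S q.ResidueField s, ?_⟩
      have hc' := Ideal.algebraMap_residueField_eq_zero.2 (Ideal.mem_comap.1 hc)
      rw [map_sub, map_sub, sub_eq_zero, map_mul, map_mul] at hc'
      rw [map_mul, map_div₀, AlgHom.commutes, AlgHom.commutes, AlgHom.commutes, Algebra.IsPushout.equiv_tmul,
        map_mul, IsScalarTower.algebraMap_apply S S' q'.ResidueField,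
        IsScalarTower.algebraMap_apply S S' q'.ResidueField, IsScalarTower.algebraMap_apply S S' q'.ResidueField,
        ← IsScalarTower.algebraMap_apply R S S', ← IsScalarTower.algebraMap_apply R S S',
        IsScalarTower.algebraMap_apply R R' S', IsScalarTower.algebraMap_apply R R' S', hc',
        mul_div_assoc, div_self hbq, mul_one]
  obtain ⟨a, b, -, rfl⟩ := IsFractionRing.div_surjective (S' ⧸ q') x
  obtain ⟨a, rfl⟩ := Ideal.Quotient.mk_surjective a
  obtain ⟨b, rfl⟩ := Ideal.Quotient.mk_surjective b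
  obtain ⟨a', ha⟩ := key a
  obtain ⟨b', hb⟩ := key b
  exact ⟨a' / b', by
    show φ _ = _
    rw [map_div₀, ha, hb, Ideal.algebraMap_quotient_residueField_mk, Ideal.algebraMap_quotient_residueField_mk]⟩

end Bij

end Groth.Agent.FlatCx12.DevissagePoints
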