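import Groth.Agent.FlatCx12.DevissageShrink
import Groth.Agent.FlatCx12.DevissagePoints
import Groth.Agent.FlatMorDevissage.Local
import Groth.Agent.FlatMorDevissage.GoodNhd
import Groth.Agent.FlatMorDevissage.StepNhd
import Groth.Agent.FlatMorDevissage.StepMap

/-!
# One-step devissages over etale neighbourhoods
-/

set_option autoImplicit false
set_option backward.isDefEq.respectTransparency false
set_option linter.style.haveILetI false

universe u

open TensorProduct Function Topology

namespace Groth.Agent.FlatCx12.DevissageEtale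

open FlatMorDevissage

attribute [local instance] Algebra.TensorProduct.rightAlgebra

/-- The module of a one-step devissage is everywhere supported on the fibre of the smooth algebra. -/
theorem annihilator_le_of_devissage {R S : Type u} [CommRing R] [CommRing S] [Algebra R S]
    {N : Type u} [AddCommGroup N] [Module S N] [Module R N] [IsScalarTower R S N] [Module.Finite S N]
    {p : Ideal R} [p.IsPrime] {C D G : Type u} [CommRing C] [CommRing D] [Algebra S C] [Algebra R C]
    [IsScalarTower R S C] [Algebra R D] [Algebra D C] [IsScalarTower R D C] [AddCommGroup G] [Module C G]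
    [Module S G] [IsScalarTower S C G] [Module D G] [IsScalarTower D C G] {n : ℕ}
    (h : FlatCA.IsOneStepDevissage R S N p C D G n) :
    Module.annihilator D G ≤ p.map (algebraMap R D) := by
  obtain ⟨⟨e⟩, hsurj, -, hfin, -, hsm, hgi, hdim⟩ := h
  haveI := smooth_of_smoothRelDim hsm
  haveI : (p.map (algebraMap R D)).IsPrime :=
    isPrime_map_of_fibresDomain (fibresDomain_of_smooth_geomIrred hgi) p
  haveI := hfin
  haveI : Algebra.IsIntegral S C :=
    haveI : Module.Finite S C := Module.Finite.of_surjective (Algebra.linearMap S C) hsurj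
    inferInstance
  by_contra hI
  have h1 := krullDim_primesOverGE_lt (p := p) (krullDim_primesOverGE_le (p := p) hsm) hI
  rw [supportDim_fiberMod, LinearEquiv.annihilator_eq e, annihilator_eq_comap (B := S) (A := C),
    krullDim_primesOverGE_comap, ← krullDim_primesOverGE_comap (B := D), ← annihilator_eq_comap] at hdim
  exact h1.ne hdim

/-- Dimension and local dimension of the support when the support dominates the fibre of the smooth algebra. -/
theorem dim_support {R S : Type u} [CommRing R] [CommRing S] [Algebra R S] [Algebra.FiniteType R S]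
    (N : Type u) [AddCommGroup N] [Module S N] [Module R N] [IsScalarTower R S N] [Module.Finite S N]
    (p : Ideal R) [p.IsPrime] (q : Ideal S) [q.IsPrime] [q.LiesOver p]
    (C D G : Type u) [CommRing C] [CommRing D] [Algebra S C] [Algebra R C] [IsScalarTower R S C]
    [Algebra R D] [Algebra D C] [IsScalarTower R D C] [AddCommGroup G] [Module C G] [Module S G]
    [IsScalarTower S C G] [Module D G] [IsScalarTower D C G] (n : ℕ) (e : N ≃ₗ[S] G)
    (hsurj : Surjective (algebraMap S C)) [Module.Finite D C] (hsm : FlatCA.SmoothRelDim n R D)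
    (hdom : FibresDomain R D) (hann : Module.annihilator D G ≤ p.map (algebraMap R D))
    (z : Ideal C) [z.IsPrime] (y : Ideal D) [y.IsPrime] [z.LiesOver q] [z.LiesOver y] [y.LiesOver p]
    (h3 : ∀ (z₁ : Ideal C) [z₁.IsPrime], z₁.LiesOver y → z₁ = z) :
    Module.supportDim (p.Fiber S) (FlatCA.fiberMod p S N) = n ∧
      ∃ (ξ : PrimeSpectrum (p.Fiber S)) (hξ : ξ ∈ Module.support (p.Fiber S) (FlatCA.fiberMod p S N)),
        ξ.asIdeal = FlatCA.fiberIdeal p q ∧
        FlatMor.localDim (Module.support (p.Fiber S) (FlatCA.fiberMod p S N)) ⟨ξ, hξ⟩ = n := by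
  haveI := smooth_of_smoothRelDim hsm
  haveI hPD : (p.map (algebraMap R D)).IsPrime := isPrime_map_of_fibresDomain hdom p
  haveI : IsDomain (p.Fiber D) := hdom p.ResidueField
  haveI : Algebra.IsIntegral S C :=
    haveI : Module.Finite S C := Module.Finite.of_surjective (Algebra.linearMap S C) hsurj
    inferInstance
  haveI : Algebra.FiniteType p.ResidueField (p.Fiber S) :=
    EGA43.FibDepth.finiteType_fibre (A := R) (R := S) p (p.Fiber S)
  haveI : Module.Finite (p.Fiber S) (FlatCA.fiberMod p S N) := Module.Finite.base_change _ _ _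
  have hND : ((Module.annihilator C G).comap (algebraMap D C)) ≤ p.map (algebraMap R D) := by
    rw [← annihilator_eq_comap]
    exact hann
  have hD : ∀ I : Ideal D, I ≤ p.map (algebraMap R D) → primesOverGE p I = primesOverGE p (⊥ : Ideal D) :=
    fun I hI => Set.ext fun w => and_congr_right fun hw =>
      iff_of_true (hI.trans (Ideal.map_le_iff_le_comap.2 hw.ge)) bot_le
  have hn : Order.krullDim (primesOverGE p (⊥ : Ideal D)) = n := by
    rw [← ringKrullDim_fiber, ringKrullDim_fiber_eq hsm p]
  have hsupp : Module.supportDim (p.Fiber S) (FlatCA.fiberMod p S N) = n := by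
    rw [supportDim_fiberMod, LinearEquiv.annihilator_eq e, annihilator_eq_comap (B := S) (A := C),
      krullDim_primesOverGE_comap, ← krullDim_primesOverGE_comap (B := D), hD _ hND, hn]
  refine ⟨hsupp, ?_⟩
  obtain ⟨P, hJP, hP, hPc⟩ :=
    Ideal.exists_ideal_over_prime_of_isIntegral (p.map (algebraMap R D)) (Module.annihilator C G) hND
  have hξy : p.map (algebraMap R D) ≤ y := Ideal.map_le_iff_le_comap.2 (le_of_eq (y.over_def p))
  obtain ⟨Z, hPZ, hZ, hZc⟩ := Ideal.exists_ideal_over_prime_of_isIntegral y P (hPc.le.trans hξy)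
  obtain rfl : Z = z := h3 Z ⟨hZc.symm⟩
  haveI : (P.comap (algebraMap S C)).IsPrime := Ideal.IsPrime.comap _
  have hPp : (P.comap (algebraMap S C)).comap (algebraMap R S) = p := by
    rw [Ideal.comap_comap, ← IsScalarTower.algebraMap_eq, IsScalarTower.algebraMap_eq R D C,
      ← Ideal.comap_comap, hPc]
    exact le_antisymm ((Ideal.comap_mono hξy).trans_eq (y.over_def p).symm) Ideal.le_comap_map
  have hPN : Module.annihilator S N ≤ P.comap (algebraMap S C) := by
    rw [LinearEquiv.annihilator_eq e, annihilator_eq_comap (B := S) (A := C)]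
    exact Ideal.comap_mono hJP
  obtain ⟨Q, hQ⟩ := EGA43.FibDepth.exists_prime_over (A := R) (p := p) (p.Fiber S)
    ⟨P.comap (algebraMap S C), inferInstance⟩ hPp.symm
  obtain ⟨x, hx⟩ := EGA43.FibDepth.exists_prime_over (A := R) (p := p) (p.Fiber S) ⟨q, inferInstance⟩
    (q.over_def p)
  have hQx : Q ≤ x := by
    refine EGA43.FibDepth.le_of_comap_le (R := S) p ?_
    rw [hQ, hx]
    exact (Ideal.comap_mono hPZ).trans (Z.over_def q).ge
  have hs : ∀ v, Q ≤ v → v ∈ Module.support (p.Fiber S) (FlatCA.fiberMod p S N) := by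
    intro v hv
    refine (mem_support_fiberMod_iff N p v).2 (hPN.trans ?_)
    refine le_trans ?_ (Ideal.comap_mono hv)
    exact (congrArg PrimeSpectrum.asIdeal hQ).ge
  have hdim : ringKrullDim (p.Fiber S ⧸ Q.asIdeal) = n := by
    rw [ringKrullDim_quotient, krullDim_fibre_subset (I := P.comap (algebraMap S C))
      (PrimeSpectrum.zeroLocus (Q.asIdeal : Set (p.Fiber S))) fun v => ?_, krullDim_primesOverGE_comap,
      ← krullDim_primesOverGE_comap (B := D), hPc, hD _ le_rfl, hn]
    rw [PrimeSpectrum.mem_zeroLocus, SetLike.coe_subset_coe]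
    refine ⟨fun h => (congrArg PrimeSpectrum.asIdeal hQ).ge.trans (Ideal.comap_mono h), fun h => ?_⟩
    exact EGA43.FibDepth.le_of_comap_le (R := S) p ((congrArg PrimeSpectrum.asIdeal hQ).le.trans h)
  refine ⟨x, hs x hQx, DevissageShrink.fiberIdeal_eq p x q (congrArg PrimeSpectrum.asIdeal hx),
    le_antisymm ?_ ?_⟩
  · refine ((iInf_le _ ⟨⊤, trivial⟩).trans IsInducing.subtypeVal.topologicalKrullDim_le).trans ?_
    rw [DevissageShrink.topologicalKrullDim_support, hsupp]
  · have := le_localDim (k := p.ResidueField) _ Q x hs hQx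
    rwa [hdim] at this

/-- The module stays everywhere supported on the fibre after etale localisation. -/
theorem annihilator_le_of_etale {R R' D D' G G' : Type u} [CommRing R] [CommRing R'] [CommRing D] [CommRing D']
    [Algebra R R'] [Algebra.QuasiFinite R R'] [Algebra R D] [Algebra R' D'] [Algebra R D'] [Algebra D D']
    [IsScalarTower R R' D'] [IsScalarTower R D D'] [Module.Flat D D'] [AddCommGroup G] [Module D G]
    [Module.Finite D G] [AddCommGroup G'] [Module D' G'] [Module D G'] [IsScalarTower D D' G']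
    (g : G →ₗ[D] G') (hg : IsBaseChange D' g) (p : Ideal R) [p.IsPrime] (p' : Ideal R') [p'.IsPrime]
    [p'.LiesOver p] [(p.map (algebraMap R D)).IsPrime] [(p'.map (algebraMap R' D')).IsPrime]
    (y' : Ideal D') [y'.IsPrime] [y'.LiesOver p'] (hann : Module.annihilator D G ≤ p.map (algebraMap R D)) :
    Module.annihilator D' G' ≤ p'.map (algebraMap R' D') := by
  haveI : Module.Finite D' G' := Module.Finite.equiv hg.equiv
  let ξ' : PrimeSpectrum D' := ⟨p'.map (algebraMap R' D'), inferInstance⟩
  show Module.annihilator D' G' ≤ ξ'.asIdeal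
  rw [← Module.mem_support_iff_of_finite, ← hg.equiv.support_eq, FlatCrit.mem_support_baseChange_iff,
    Module.mem_support_iff_of_finite]
  exact hann.trans (comap_map_eq_of_etale (B := D) p p' y').ge

set_option maxHeartbeats 1000000 in
/-- An etale neighbourhood of the base over which the etale neighbourhood of the smooth algebra has an
open with integral fibres. -/
theorem exists_base_nhd {R D : Type u} [CommRing R] [CommRing D] [Algebra R D] {n : ℕ}
    (hsm : FlatCA.SmoothRelDim n R D) (p : Ideal R) [p.IsPrime] (y : Ideal D) [y.IsPrime] [y.LiesOver p]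
    (hpt : FlatCA.PurelyTranscendental p y) :
    ∃ (R₂ : Type u) (_ : CommRing R₂) (_ : Algebra R R₂) (p₂ : Ideal R₂) (_ : p₂.IsPrime)
      (T : Type u) (_ : CommRing T) (_ : Algebra R T) (_ : Algebra R₂ T) (_ : Algebra D T)
      (_ : IsScalarTower R R₂ T) (_ : IsScalarTower R D T)
      (t : T) (D₂ : Type u) (_ : CommRing D₂) (_ : Algebra T D₂) (_ : Algebra D D₂) (_ : Algebra R₂ D₂)
      (_ : IsScalarTower D T D₂) (_ : IsScalarTower R₂ T D₂) (y₂ : Ideal D₂) (_ : y₂.IsPrime),
      FlatCA.IsEtaleNhd R R₂ p p₂ ∧ Algebra.IsPushout R R₂ D T ∧ IsLocalization.Away t D₂ ∧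
      FlatCA.IsEtaleNhd D D₂ y y₂ ∧ y₂.LiesOver p₂ ∧ FibresDomain R₂ D₂ := by
  haveI := smooth_of_smoothRelDim hsm
  obtain ⟨R₁, _, _, p₁, _, w, hR₁, hgood, havoid⟩ := exists_goodAt hsm p y hpt
  obtain ⟨hR₁e, hR₁o, hR₁b⟩ := id hR₁
  haveI : Algebra.IsPushout R R₁ D (R₁ ⊗[R] D) := TensorProduct.isPushout
  obtain ⟨y₁, hy₁, hy₁y, hy₁p⟩ := exists_prime_isPushout (S' := R₁ ⊗[R] D) p p₁ hR₁b y
  have hw : w ∉ y₁ := havoid y₁ hy₁p hy₁y.over.symm
  obtain ⟨f, hf, hlift⟩ := exists_notMem_forall_lift p₁ y₁ w hw
  let R₂ := Localization.Away f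
  obtain ⟨p₂, hp₂, hR₂⟩ := isEtaleNhd_away (L := R₂) f p₁ hf
  let X := R₁ ⊗[R] D
  let T := R₂ ⊗[R₁] X
  let D₂ := Localization.Away ((1 : R₂) ⊗ₜ[R₁] w : T)
  haveI : IsScalarTower R₁ X D₂ := .of_algebraMap_eq fun r => by
    rw [IsScalarTower.algebraMap_apply R₁ T D₂, IsScalarTower.algebraMap_apply X T D₂,
      ← IsScalarTower.algebraMap_apply R₁ X T]
  haveI : IsScalarTower R₁ R₂ D₂ := .of_algebraMap_eq fun r => by
    rw [IsScalarTower.algebraMap_apply R₁ T D₂, IsScalarTower.algebraMap_apply R₂ T D₂,
      ← IsScalarTower.algebraMap_apply R₁ R₂ T]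
  obtain ⟨y₂, hy₂, hX₂, hy₂p⟩ := exists_prime_away_tensor p₁ p₂ hR₂ y₁ hw D₂
  have hdom : FibresDomain R₂ D₂ :=
    fibresDomain_away_good w hgood R₂ f (IsLocalization.Away.algebraMap_isUnit f) hlift
  have hDX : FlatCA.IsEtaleNhd D X y y₁ :=
    haveI := hR₁e
    ⟨etale_rightAlgebra, hy₁y,
      (DevissagePoints.bijective_residueField (S := D) (S' := X) p p₁ hR₁b y y₁)⟩
  letI : Algebra D T := ((algebraMap X T).comp (algebraMap D X)).toAlgebra
  haveI : IsScalarTower D X T := .of_algebraMap_eq' rfl
  haveI : IsScalarTower R R₁ T := inferInstance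
  haveI : IsScalarTower R X T := .of_algebraMap_eq fun r => by
    rw [IsScalarTower.algebraMap_apply R R₁ T, IsScalarTower.algebraMap_apply R₁ X T,
      ← IsScalarTower.algebraMap_apply R R₁ X]
  haveI : IsScalarTower R D T := .of_algebraMap_eq fun r => by
    rw [IsScalarTower.algebraMap_apply D X T, ← IsScalarTower.algebraMap_apply R D X,
      ← IsScalarTower.algebraMap_apply R X T]
  haveI : IsScalarTower D X D₂ := .of_algebraMap_eq fun d => by
    rw [IsScalarTower.algebraMap_apply D T D₂, IsScalarTower.algebraMap_apply D X T,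
      ← IsScalarTower.algebraMap_apply X T D₂]
  haveI : Algebra.IsPushout R₁ R₂ X T := TensorProduct.isPushout
  refine ⟨R₂, inferInstance, inferInstance, p₂, hp₂, T, inferInstance, inferInstance, inferInstance,
    inferInstance, inferInstance, inferInstance, (1 : R₂) ⊗ₜ[R₁] w, D₂, inferInstance, inferInstance,
    inferInstance, inferInstance, inferInstance, inferInstance, y₂, hy₂, isEtaleNhd_comp hR₁ hR₂,
    (Algebra.IsPushout.comp_iff R R₁ D X (T := R₂) (T' := T)).2 inferInstance, inferInstance, isEtaleNhd_comp hDX hX₂, hy₂p, hdom⟩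

end Groth.Agent.FlatCx12.DevissageEtale
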