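import Groth.Agent.FlatCx12.DevissageBC
import Groth.Agent.FlatMorDevissage.Transport
import Groth.Agent.FlatMorDevissage.NhdLemmas
import Groth.Agent.FlatMorDevissage.FibresDomain
import Groth.Agent.EGA43.DimFormula.Sub
import Mathlib.RingTheory.LocalRing.ResidueField.Fiber

/-!
# Standard shrinkings of devissages: the basic lemmas
-/

set_option autoImplicit false
set_option backward.isDefEq.respectTransparency false
set_option linter.style.haveILetI false

universe u

open TensorProduct Function Topology

namespace Groth.Agent.FlatCx12.DevissageShrink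

open FlatMorDevissage

/-- An element of the base with pulled back open inside a given open at the only point. -/
theorem exists_notMem_dvd {D C : Type u} [CommRing D] [CommRing C] [Algebra D C] [Algebra.IsIntegral D C]
    (y : Ideal D) [y.IsPrime] (z : Ideal C) [z.IsPrime]
    (h3 : ∀ (z₁ : Ideal C) [z₁.IsPrime], z₁.LiesOver y → z₁ = z) (u : C) (hu : u ∉ z) :
    ∃ w ∉ y, u ∣ algebraMap D C w := by
  by_contra! h
  have hle : (Ideal.span {u}).comap (algebraMap D C) ≤ y := fun w hw => by
    by_contra hwy
    exact h w hwy (Ideal.mem_span_singleton.1 hw)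
  obtain ⟨Q, hQu, hQ, hQy⟩ := Ideal.exists_ideal_over_prime_of_isIntegral y (Ideal.span {u}) hle
  exact hu ((h3 Q ⟨hQy.symm⟩).le (hQu (Ideal.mem_span_singleton_self u)))

/-- Localizations away from elements with the same open. -/
theorem away_of_isUnit {A L : Type u} [CommRing A] [CommRing L] [Algebra A L] {r s : A}
    [IsLocalization.Away r L] (hs : IsUnit (algebraMap A L s)) {k : ℕ} (hr : r ∣ s ^ k) :
    IsLocalization.Away s L := by
  obtain ⟨c, hc⟩ := hr
  have h1 : IsLocalization (Submonoid.powers r ⊔ Submonoid.powers s) L := by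
    refine IsLocalization.of_le (Submonoid.powers r) _ le_sup_left fun n hn => ?_
    obtain ⟨_, ⟨a, rfl⟩, _, ⟨b, rfl⟩, rfl⟩ := Submonoid.mem_sup.1 hn
    rw [map_mul, map_pow, map_pow]
    exact ((IsLocalization.Away.algebraMap_isUnit r).pow a).mul (hs.pow b)
  refine (IsLocalization.iff_of_le_of_exists_dvd (Submonoid.powers s) _ le_sup_right fun n hn => ?_).2 h1
  obtain ⟨_, ⟨a, rfl⟩, _, ⟨b, rfl⟩, rfl⟩ := Submonoid.mem_sup.1 hn
  exact ⟨s ^ (k * a + b), ⟨_, rfl⟩, ⟨c ^ a, by dsimp only; rw [pow_add, pow_mul, hc, mul_pow]; ring⟩⟩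

section Extend

variable {A L : Type u} [CommRing A] [CommRing L] [Algebra A L] (a : A) [IsLocalization.Away a L]
  (P : Ideal A) [P.IsPrime]

include a in
theorem isPrime_map (ha : a ∉ P) : (P.map (algebraMap A L)).IsPrime :=
  IsLocalization.isPrime_of_isPrime_disjoint (Submonoid.powers a) L P ‹_›
    ((Ideal.disjoint_powers_iff_notMem a (Ideal.IsPrime.isRadical ‹_›)).2 ha)

include a in
theorem comap_map (ha : a ∉ P) : (P.map (algebraMap A L)).comap (algebraMap A L) = P :=
  IsLocalization.under_map_of_isPrime_disjoint (Submonoid.powers a) L ‹_›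
    ((Ideal.disjoint_powers_iff_notMem a (Ideal.IsPrime.isRadical ‹_›)).2 ha)

include a in
omit [P.IsPrime] in
theorem eq_map_of_comap (Q : Ideal L) (hQ : Q.comap (algebraMap A L) = P) : Q = P.map (algebraMap A L) := by
  rw [← hQ]
  exact (IsLocalization.map_under (Submonoid.powers a) L Q).symm

include a in
theorem bijective_residueField (P' : Ideal L) [P'.IsPrime] [P'.LiesOver P] :
    Bijective (Ideal.ResidueField.mapₐ P P' (Algebra.ofId A L) (P'.over_def P)) :=
  (RingHom.surjectiveOnStalks_of_isLocalization (M := Submonoid.powers a) L).residueFieldMap_bijective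
    P P' (P'.over_def P)

end Extend

/-- Extended primes lie over each other. -/
theorem liesOver_map {B A B' A' : Type u} [CommRing B] [CommRing A] [CommRing B'] [CommRing A'] [Algebra B A]
    [Algebra B B'] [Algebra A A'] [Algebra B' A'] [Algebra B A'] [IsScalarTower B A A'] [IsScalarTower B B' A']
    (b : B) [IsLocalization.Away b B'] (a : A) [IsLocalization.Away a A'] (PB : Ideal B) (PA : Ideal A)
    [PA.IsPrime] [PA.LiesOver PB] (ha : a ∉ PA) :
    (PA.map (algebraMap A A')).LiesOver (PB.map (algebraMap B B')) := by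
  refine ⟨(eq_map_of_comap b PB _ ?_).symm⟩
  rw [Ideal.under_def, Ideal.comap_comap, ← IsScalarTower.algebraMap_eq, IsScalarTower.algebraMap_eq B A A',
    ← Ideal.comap_comap, comap_map a PA ha]
  exact (PA.over_def PB).symm

/-- The extended prime is the only one over the extended prime. -/
theorem eq_map_of_liesOver {B A B' A' : Type u} [CommRing B] [CommRing A] [CommRing B'] [CommRing A']
    [Algebra B A] [Algebra B B'] [Algebra A A'] [Algebra B' A'] [Algebra B A'] [IsScalarTower B A A']
    [IsScalarTower B B' A'] (b : B) [IsLocalization.Away b B'] (a : A) [IsLocalization.Away a A']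
    (PB : Ideal B) [PB.IsPrime] (PA : Ideal A) (hb : b ∉ PB)
    (h3 : ∀ (z₁ : Ideal A) [z₁.IsPrime], z₁.LiesOver PB → z₁ = PA)
    (Q : Ideal A') [Q.IsPrime] (hQ : Q.LiesOver (PB.map (algebraMap B B'))) :
    Q = PA.map (algebraMap A A') := by
  refine eq_map_of_comap a PA Q (h3 _ ⟨?_⟩)
  rw [Ideal.under_def, Ideal.comap_comap, ← IsScalarTower.algebraMap_eq, IsScalarTower.algebraMap_eq B B' A',
    ← Ideal.comap_comap]
  exact (comap_map b PB hb).symm.trans (congrArg _ hQ.over)

/-- Local dimensions are unchanged along open embeddings. -/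
theorem localDim_of_isOpenEmbedding {A B : Type u} [TopologicalSpace A] [TopologicalSpace B] {e : A → B}
    (he : IsOpenEmbedding e) (a : A) : FlatMor.localDim A a = FlatMor.localDim B (e a) := by
  refine le_antisymm (le_iInf fun ⟨V, hV⟩ => iInf_le_of_le ⟨⟨e ⁻¹' V, V.isOpen.preimage he.continuous⟩, hV⟩ ?_)
    (le_iInf fun ⟨U, hU⟩ => iInf_le_of_le ⟨⟨e '' U, he.isOpenMap _ U.isOpen⟩, ⟨a, hU, rfl⟩⟩ ?_)
  · exact (he.isEmbedding.restrictPreimage (V : Set B)).isInducing.topologicalKrullDim_le
  · exact (IsHomeomorph.topologicalKrullDim_eq _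
      (he.isEmbedding.homeomorphImage (U : Set A)).isHomeomorph).ge

section Smooth

variable {R R' B B' : Type u} [CommRing R] [CommRing R'] [CommRing B] [CommRing B'] [Algebra R R']
  [Algebra R B] [Algebra R' B'] [Algebra R B'] [Algebra B B'] [IsScalarTower R R' B'] [IsScalarTower R B B']
  (g : R) [IsLocalization.Away g R'] (b : B) [IsLocalization.Away b B']

include g b in
theorem smoothRelDim_away {n : ℕ} (h : FlatCA.SmoothRelDim n R B) : FlatCA.SmoothRelDim n R' B' := by
  haveI : Algebra.Etale R R' := Algebra.Etale.of_isLocalizationAway g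
  haveI : Algebra.Etale B B' := Algebra.Etale.of_isLocalizationAway b
  exact smoothRelDim_of_etale (R := R) (B := B) h

include g b in
theorem smooth_away [Algebra.Smooth R B] : Algebra.Smooth R' B' := by
  haveI : Algebra.Etale R R' := Algebra.Etale.of_isLocalizationAway g
  haveI : Algebra.Etale B B' := Algebra.Etale.of_isLocalizationAway b
  haveI : Algebra.Smooth R B' := Algebra.Smooth.comp R B B'
  haveI : Algebra.FormallyUnramified R R' := inferInstance
  exact { formallySmooth := Algebra.FormallySmooth.of_restrictScalars R R' B'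
          finitePresentation := Algebra.FinitePresentation.of_restrict_scalars_finitePresentation R R' B' }

include g b in
/-- The fibres of a shrinking are domains when they are nonempty. -/
theorem fibresDomain_away (h : FibresDomain R B)
    (hd : ∀ p₀ : Ideal R, p₀.IsPrime → g ∉ p₀ → ∃ Q : Ideal B, Q.IsPrime ∧
      Q.comap (algebraMap R B) = p₀ ∧ b ∉ Q) : FibresDomain R' B' := by
  intro K _ _
  letI : Algebra R K := ((algebraMap R' K).comp (algebraMap R R')).toAlgebra
  haveI : IsScalarTower R R' K := .of_algebraMap_eq' rfl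
  haveI := h K
  haveI : TensorProduct.CompatibleSMul R R' K B' :=
    IsLocalization.tensorProduct_compatibleSMul (Submonoid.powers g) R' K B'
  have hker : g ∉ RingHom.ker (algebraMap R K) := fun hm =>
    (((IsLocalization.Away.algebraMap_isUnit (S := R') g)).map (algebraMap R' K)).ne_zero (by
      rw [← IsScalarTower.algebraMap_apply]; exact hm)
  obtain ⟨Q, hQ, hQover, hbQ⟩ := hd _ (RingHom.ker_isPrime _) hker
  have hne : (1 : K) ⊗ₜ[R] b ≠ 0 := one_tmul_ne_zero_of_notMem K Q hQover hbQ
  haveI : IsDomain (Localization.Away ((1 : K) ⊗ₜ[R] b)) :=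
    IsLocalization.isDomain_localization (powers_le_nonZeroDivisors_of_noZeroDivisors hne)
  haveI : IsDomain (K ⊗[R] B') :=
    (IsLocalization.Away.tensorProductEquivTMulRight R K b B').toMulEquiv.isDomain _
  exact (Algebra.TensorProduct.equivOfCompatibleSMul R R' R' K B').toMulEquiv.isDomain _

end Smooth

attribute [local instance] Algebra.TensorProduct.rightAlgebra

/-- The prime of a fibre over a point is the extended ideal. -/
theorem fiberIdeal_eq {R S : Type u} [CommRing R] [CommRing S] [Algebra R S] (p : Ideal R) [p.IsPrime]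
(w : PrimeSpectrum (p.Fiber S)) (q : Ideal S)
    (hq : (PrimeSpectrum.comap (algebraMap S (p.Fiber S)) w).asIdeal = q) :
    w.asIdeal = FlatCA.fiberIdeal p q := by
  subst hq
  refine le_antisymm (fun z hz => ?_) (Ideal.map_le_iff_le_comap.2 fun s hs => hs)
  obtain ⟨r, hr, s, e⟩ := Ideal.Fiber.exists_smul_eq_one_tmul p z
  have hs : s ∈ (PrimeSpectrum.comap (algebraMap S (p.Fiber S)) w).asIdeal := by
    show (1 : p.ResidueField) ⊗ₜ[R] s ∈ w.asIdeal
    rw [← e, Algebra.smul_def]
    exact w.asIdeal.mul_mem_left _ hz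
  have h1 : r • z ∈ FlatCA.fiberIdeal p (PrimeSpectrum.comap (algebraMap S (p.Fiber S)) w).asIdeal := by
    rw [e]
    exact Ideal.mem_map_of_mem _ hs
  have hu : IsUnit (algebraMap R (p.Fiber S) r) := by
    rw [IsScalarTower.algebraMap_apply R p.ResidueField (p.Fiber S)]
    exact (Ne.isUnit (fun h => hr (Ideal.algebraMap_residueField_eq_zero.1 h))).map _
  rw [Algebra.smul_def] at h1
  exact (Ideal.unit_mul_mem_iff_mem _ hu).1 h1

section Support

variable {R R' S S' : Type u} [CommRing R] [CommRing R'] [Algebra R R'] [CommRing S] [CommRing S'] [Algebra R S]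
  [Algebra R' S'] [Algebra R S'] [Algebra S S'] [IsScalarTower R R' S'] [IsScalarTower R S S']
  (p : Ideal R) [p.IsPrime] (p' : Ideal R') [p'.IsPrime] [hp' : p'.LiesOver p]
  (hinj : ∀ Q : Ideal R', Q.IsPrime → Q.comap (algebraMap R R') = p → Q = p')
  (hop : IsOpenEmbedding (PrimeSpectrum.comap (algebraMap S S')))

include hinj hop in
/-- The fibre of an open part is open in the fibre. -/
theorem exists_fiber_openEmbedding :
    ∃ E : PrimeSpectrum (p'.Fiber S') → PrimeSpectrum (p.Fiber S), IsOpenEmbedding E ∧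
      ∀ w, PrimeSpectrum.comap (algebraMap S (p.Fiber S)) (E w) =
        PrimeSpectrum.comap (algebraMap S S') (PrimeSpectrum.comap (algebraMap S' (p'.Fiber S')) w) := by
  let F : Set (PrimeSpectrum S) := PrimeSpectrum.comap (algebraMap R S) ⁻¹' {⟨p, ‹_›⟩}
  let F' : Set (PrimeSpectrum S') := PrimeSpectrum.comap (algebraMap R' S') ⁻¹' {⟨p', ‹_›⟩}
  have hFF : F' = PrimeSpectrum.comap (algebraMap S S') ⁻¹' F := by
    ext Q
    constructor
    · intro hQ
      refine PrimeSpectrum.ext ?_
      show (Q.asIdeal.comap (algebraMap S S')).comap (algebraMap R S) = p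
      rw [Ideal.comap_comap, ← IsScalarTower.algebraMap_eq, IsScalarTower.algebraMap_eq R R' S',
        ← Ideal.comap_comap, show Q.asIdeal.comap (algebraMap R' S') = p' from congrArg PrimeSpectrum.asIdeal hQ]
      exact (p'.over_def p).symm
    · intro hQ
      refine PrimeSpectrum.ext (hinj _ (Ideal.IsPrime.comap _) ?_)
      show (Q.asIdeal.comap (algebraMap R' S')).comap (algebraMap R R') = p
      rw [Ideal.comap_comap, ← IsScalarTower.algebraMap_eq, IsScalarTower.algebraMap_eq R S S',
        ← Ideal.comap_comap]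
      exact congrArg PrimeSpectrum.asIdeal hQ
  let h := PrimeSpectrum.preimageHomeomorphFiber R S ⟨p, ‹_›⟩
  let h' := PrimeSpectrum.preimageHomeomorphFiber R' S' ⟨p', ‹_›⟩
  have hr : IsOpenEmbedding (F.restrictPreimage (PrimeSpectrum.comap (algebraMap S S'))) :=
    hop.restrictPreimage F
  refine ⟨h ∘ F.restrictPreimage (PrimeSpectrum.comap (algebraMap S S')) ∘ (Homeomorph.setCongr hFF) ∘ h'.symm,
    h.isOpenEmbedding.comp (hr.comp ((Homeomorph.setCongr hFF).isOpenEmbedding.comp h'.symm.isOpenEmbedding)),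
    fun w => ?_⟩
  have e1 : ∀ v, (h.symm v : PrimeSpectrum S) = PrimeSpectrum.comap (algebraMap S (p.Fiber S)) v :=
    fun v => rfl
  rw [← e1]
  show ((h.symm (h _)) : PrimeSpectrum S) = _
  rw [h.symm_apply_apply]
  rfl

variable (N : Type u) [AddCommGroup N] [Module S N] [Module R N] [IsScalarTower R S N] [Module.Finite S N]
  (N' : Type u) [AddCommGroup N'] [Module S' N'] [Module R' N'] [IsScalarTower R' S' N']
  [Module S N'] [IsScalarTower S S' N'] (f : N →ₗ[S] N') (hf : IsBaseChange S' f)

include hinj hop hf in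
/-- The support of the fibre module of an open part. -/
theorem exists_support_openEmbedding :
    ∃ E : PrimeSpectrum (p'.Fiber S') → PrimeSpectrum (p.Fiber S), IsOpenEmbedding E ∧
      (∀ w, PrimeSpectrum.comap (algebraMap S (p.Fiber S)) (E w) =
        PrimeSpectrum.comap (algebraMap S S') (PrimeSpectrum.comap (algebraMap S' (p'.Fiber S')) w)) ∧
      E ⁻¹' Module.support (p.Fiber S) (FlatCA.fiberMod p S N) =
        Module.support (p'.Fiber S') (FlatCA.fiberMod p' S' N') := by
  obtain ⟨E, hE, hcomp⟩ := exists_fiber_openEmbedding p p' hinj hop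
  haveI : Module.Finite S' N' := Module.Finite.equiv hf.equiv
  refine ⟨E, hE, hcomp, Set.ext fun w => ?_⟩
  rw [Set.mem_preimage, mem_support_fiberMod_iff, mem_support_fiberMod_iff, ← Module.mem_support_iff_of_finite,
    ← Module.mem_support_iff_of_finite, ← hf.equiv.support_eq, FlatCrit.mem_support_baseChange_iff, hcomp]

include hinj hop hf in
/-- The local dimension of the support on an open part. -/
theorem localDim_support (q : Ideal S) [q.IsPrime] (q' : Ideal S') [q'.IsPrime] [hq' : q'.LiesOver q]
    [hq'' : q'.LiesOver p'] {n : WithBot ℕ∞}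
    (h1 : ∃ (ξ : PrimeSpectrum (p.Fiber S)) (hξ : ξ ∈ Module.support (p.Fiber S) (FlatCA.fiberMod p S N)),
      ξ.asIdeal = FlatCA.fiberIdeal p q ∧
      FlatMor.localDim (Module.support (p.Fiber S) (FlatCA.fiberMod p S N)) ⟨ξ, hξ⟩ = n) :
    ∃ (ξ' : PrimeSpectrum (p'.Fiber S')) (hξ' : ξ' ∈ Module.support (p'.Fiber S') (FlatCA.fiberMod p' S' N')),
      ξ'.asIdeal = FlatCA.fiberIdeal p' q' ∧
      FlatMor.localDim (Module.support (p'.Fiber S') (FlatCA.fiberMod p' S' N')) ⟨ξ', hξ'⟩ = n := by
  obtain ⟨ξ, hξ, hξq, hdim⟩ := h1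
  obtain ⟨E, hE, hcomp, hsupp⟩ := exists_support_openEmbedding p p' hinj hop N N' f hf
  obtain ⟨w, hw⟩ := EGA43.FibDepth.exists_prime_over (A := R') (p := p') (p'.Fiber S') ⟨q', ‹_›⟩ hq''.over
  have hwq : (PrimeSpectrum.comap (algebraMap S' (p'.Fiber S')) w).asIdeal = q' := congrArg PrimeSpectrum.asIdeal hw
  have hEw : E w = ξ := by
    refine PrimeSpectrum.ext ((fiberIdeal_eq p (E w) q ?_).trans hξq.symm)
    rw [hcomp]
    show Ideal.comap _ (PrimeSpectrum.comap (algebraMap S' (p'.Fiber S')) w).asIdeal = q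
    rw [hwq]
    exact hq'.over.symm
  have hmem : w ∈ E ⁻¹' Module.support (p.Fiber S) (FlatCA.fiberMod p S N) := by rw [Set.mem_preimage, hEw]; exact hξ
  refine ⟨w, hsupp ▸ hmem, fiberIdeal_eq p' w q' hwq, ?_⟩
  have key : ∀ (T : Set (PrimeSpectrum (p'.Fiber S')))
      (hT : E ⁻¹' Module.support (p.Fiber S) (FlatCA.fiberMod p S N) = T) (hwT : w ∈ T),
      FlatMor.localDim T ⟨w, hwT⟩ = n := by
    rintro T rfl hwT
    rw [localDim_of_isOpenEmbedding (hE.restrictPreimage _) ⟨w, hwT⟩, ← hdim]
    congr 1
    exact Subtype.ext hEw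
  exact key _ hsupp _

/-- The Krull dimension of the support of a finite module as a space. -/
theorem topologicalKrullDim_support {A M : Type u} [CommRing A] [AddCommGroup M] [Module A M] [Module.Finite A M] :
    topologicalKrullDim (Module.support A M) = Module.supportDim A M := by
  rw [Module.supportDim_eq_ringKrullDim_quotient_annihilator,
    ← PrimeSpectrum.topologicalKrullDim_eq_ringKrullDim, Module.support_eq_zeroLocus]
  have hs := PrimeSpectrum.isClosedEmbedding_comap_of_surjective (A ⧸ Module.annihilator A M)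
    (Ideal.Quotient.mk (Module.annihilator A M)) Ideal.Quotient.mk_surjective
  have hr : Set.range (PrimeSpectrum.comap (Ideal.Quotient.mk (Module.annihilator A M))) =
      PrimeSpectrum.zeroLocus (Module.annihilator A M : Set A) := by
    rw [range_comap_of_surjective _ _ Ideal.Quotient.mk_surjective, Ideal.mk_ker]
  exact (IsHomeomorph.topologicalKrullDim_eq _
    (hs.isEmbedding.toHomeomorph.trans (Homeomorph.setCongr hr)).isHomeomorph).symm

include hinj hop hf in
/-- The dimension of the support on an open part through a point of maximal local dimension. -/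
theorem supportDim_eq [Algebra.FiniteType R S] (q : Ideal S) [q.IsPrime] (q' : Ideal S') [q'.IsPrime]
    [q'.LiesOver q] [q'.LiesOver p'] {n : WithBot ℕ∞}
    (hn : Module.supportDim (p.Fiber S) (FlatCA.fiberMod p S N) = n)
    (h1 : ∃ (ξ : PrimeSpectrum (p.Fiber S)) (hξ : ξ ∈ Module.support (p.Fiber S) (FlatCA.fiberMod p S N)),
      ξ.asIdeal = FlatCA.fiberIdeal p q ∧
      FlatMor.localDim (Module.support (p.Fiber S) (FlatCA.fiberMod p S N)) ⟨ξ, hξ⟩ = n) :
    Module.supportDim (p'.Fiber S') (FlatCA.fiberMod p' S' N') = n := by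
  haveI : Module.Finite S' N' := Module.Finite.equiv hf.equiv
  haveI : Module.Finite (p'.Fiber S') (FlatCA.fiberMod p' S' N') := Module.Finite.base_change _ _ _
  haveI : Module.Finite (p.Fiber S) (FlatCA.fiberMod p S N) := Module.Finite.base_change _ _ _
  obtain ⟨E, hE, -, hsupp⟩ := exists_support_openEmbedding p p' hinj hop N N' f hf
  obtain ⟨ξ', hξ', -, hd⟩ := localDim_support p p' hinj hop N N' f hf q q' h1
  rw [← topologicalKrullDim_support] at hn ⊢
  refine le_antisymm ?_ ?_
  · rw [← hsupp, ← hn]
    exact (hE.isEmbedding.restrictPreimage _).isInducing.topologicalKrullDim_le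
  · rw [← hd]
    exact (iInf_le _ ⟨⊤, trivial⟩).trans IsInducing.subtypeVal.topologicalKrullDim_le

end Support

end Groth.Agent.FlatCx12.DevissageShrink
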