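import Groth.Agent.FlatCx12.DevissageShrinkStep
import Groth.Agent.FlatCx12.DevissageComplete
import Groth.Agent.FlatMorDevissage.Localize

/-!
# Standard shrinkings of complete devissages
-/

set_option autoImplicit false
set_option backward.isDefEq.respectTransparency false
set_option linter.style.haveILetI false

universe u

open TensorProduct Function

namespace Groth.Agent.FlatCx12.DevissageShrink

open FlatMorDevissage

/-- A prime of a tensor product over two primes over the same prime. -/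
theorem exists_prime_tensor {R A B : Type u} [CommRing R] [CommRing A] [CommRing B] [Algebra R A] [Algebra R B]
    (p : Ideal R) [p.IsPrime] (P : Ideal A) [P.IsPrime] [P.LiesOver p] (Q : Ideal B) [Q.IsPrime] [Q.LiesOver p] :
    ∃ W : Ideal (A ⊗[R] B), W.IsPrime ∧
      W.comap (Algebra.TensorProduct.includeLeft : A →ₐ[R] A ⊗[R] B).toRingHom = P := by
  letI : Algebra p.ResidueField P.ResidueField :=
    (Ideal.ResidueField.mapₐ p P (Algebra.ofId R A) (P.over_def p)).toRingHom.toAlgebra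
  letI : Algebra p.ResidueField Q.ResidueField :=
    (Ideal.ResidueField.mapₐ p Q (Algebra.ofId R B) (Q.over_def p)).toRingHom.toAlgebra
  haveI : IsScalarTower R p.ResidueField P.ResidueField := .of_algebraMap_eq fun r =>
    ((Ideal.ResidueField.mapₐ p P (Algebra.ofId R A) (P.over_def p)).commutes r).symm
  haveI : IsScalarTower R p.ResidueField Q.ResidueField := .of_algebraMap_eq fun r =>
    ((Ideal.ResidueField.mapₐ p Q (Algebra.ofId R B) (Q.over_def p)).commutes r).symm
  let φ : A ⊗[R] B →ₐ[R] P.ResidueField ⊗[p.ResidueField] Q.ResidueField :=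
    Algebra.TensorProduct.lift
      (((Algebra.TensorProduct.includeLeft :
        P.ResidueField →ₐ[p.ResidueField] P.ResidueField ⊗[p.ResidueField] Q.ResidueField).restrictScalars R).comp
        (IsScalarTower.toAlgHom R A P.ResidueField))
      (((Algebra.TensorProduct.includeRight :
        Q.ResidueField →ₐ[p.ResidueField] P.ResidueField ⊗[p.ResidueField] Q.ResidueField).restrictScalars R).comp
        (IsScalarTower.toAlgHom R B Q.ResidueField)) fun _ _ => .all _ _
  haveI : Nontrivial (P.ResidueField ⊗[p.ResidueField] Q.ResidueField) :=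
    Algebra.TensorProduct.nontrivial_of_algebraMap_injective_of_isDomain _ _ _ (algebraMap p.ResidueField P.ResidueField).injective (algebraMap p.ResidueField Q.ResidueField).injective
  obtain ⟨W₀⟩ : Nonempty (PrimeSpectrum (P.ResidueField ⊗[p.ResidueField] Q.ResidueField)) := inferInstance
  refine ⟨W₀.asIdeal.comap φ.toRingHom, Ideal.IsPrime.comap _, ?_⟩
  rw [Ideal.comap_comap]
  ext a
  have h : φ (a ⊗ₜ (1 : B)) = algebraMap A P.ResidueField a ⊗ₜ (1 : Q.ResidueField) := by
    simp [φ]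
  show φ (a ⊗ₜ (1 : B)) ∈ W₀.asIdeal ↔ a ∈ P
  rw [h]
  refine ⟨fun hm => ?_, fun h0 => by rw [Ideal.algebraMap_residueField_eq_zero.2 h0, zero_tmul]; exact zero_mem _⟩
  by_contra hne
  exact W₀.isPrime.ne_top (Ideal.eq_top_of_isUnit_mem _ hm ((Ne.isUnit (Ideal.algebraMap_residueField_eq_zero.not.2 hne)).map
    (Algebra.TensorProduct.includeLeft :
      P.ResidueField →ₐ[p.ResidueField] P.ResidueField ⊗[p.ResidueField] Q.ResidueField)))

/-- Elements fit for a standard shrinking of a complete devissage. -/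
structure ShrinkData {R S : Type u} [CommRing R] [CommRing S] [Algebra R S] {N : Type u} [AddCommGroup N]
    [Module S N] {p : Ideal R} [p.IsPrime] {q : Ideal S} [q.IsPrime] {D : FlatCA.CompleteDevissage R S N p}
    (At : FlatCA.CompleteDevissageAt R S N p q D) where
  g : R
  hX : S
  b : ∀ i, D.B i
  notMem : g ∉ p
  notMemX : hX ∉ q
  notMemB : ∀ i, b i ∉ At.qB i
  dvdX : algebraMap R S g ∣ hX
  dvdB : ∀ i, algebraMap R (D.B i) g ∣ b i
  linkX : ∃ k, algebraMap S (D.A 0) hX ∣ algebraMap (D.B 0) (D.A 0) (b 0) ^ k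
  linkX' : ∃ k, algebraMap (D.B 0) (D.A 0) (b 0) ∣ algebraMap S (D.A 0) hX ^ k
  link : ∀ i, i + 1 < D.n →
    ∃ k, algebraMap (D.B i) (D.A (i + 1)) (b i) ∣ algebraMap (D.B (i + 1)) (D.A (i + 1)) (b (i + 1)) ^ k
  link' : ∀ i, i + 1 < D.n →
    ∃ k, algebraMap (D.B (i + 1)) (D.A (i + 1)) (b (i + 1)) ∣ algebraMap (D.B i) (D.A (i + 1)) (b i) ^ k
  fibre : ∀ i, i < D.n → ∀ p₀ : Ideal R, p₀.IsPrime → g ∉ p₀ → ∃ Q : Ideal (D.B i), Q.IsPrime ∧
    Q.comap (algebraMap R (D.B i)) = p₀ ∧ b i ∉ Q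

section Data

variable {R S : Type u} [CommRing R] [CommRing S] [Algebra R S] {N : Type u} [AddCommGroup N] [Module S N]
  {p : Ideal R} [p.IsPrime] {q : Ideal S} [q.IsPrime] {D : FlatCA.CompleteDevissage R S N p}
  {At : FlatCA.CompleteDevissageAt R S N p q D} (σ : ShrinkData At)

namespace ShrinkData

/-- The shrunken base. -/
abbrev R' : Type u := Localization.Away σ.g

/-- The shrunken smooth algebras. -/
def B' (i : ℕ) : Type u := Localization.Away (σ.b i)

noncomputable instance ringB (i : ℕ) : CommRing (σ.B' i) :=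
  inferInstanceAs (CommRing (Localization.Away (σ.b i)))

noncomputable instance algBB (i : ℕ) : Algebra (D.B i) (σ.B' i) :=
  inferInstanceAs (Algebra (D.B i) (Localization.Away (σ.b i)))

noncomputable instance algRB (i : ℕ) : Algebra R (σ.B' i) :=
  ((algebraMap (D.B i) (σ.B' i)).comp (algebraMap R (D.B i))).toAlgebra

instance towRBB (i : ℕ) : IsScalarTower R (D.B i) (σ.B' i) := .of_algebraMap_eq' rfl

instance awayB (i : ℕ) : IsLocalization.Away (σ.b i) (σ.B' i) :=
  inferInstanceAs (IsLocalization.Away (σ.b i) (Localization.Away (σ.b i)))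

theorem isUnit_g {L : Type u} [CommRing L] [Algebra R L] {A : Type u} [CommRing A] [Algebra R A] [Algebra A L]
    [IsScalarTower R A L] {x : A} (h : algebraMap R A σ.g ∣ x) (hx : IsUnit (algebraMap A L x)) :
    IsUnit (algebraMap R L σ.g) := by
  rw [IsScalarTower.algebraMap_apply R A L]
  exact isUnit_of_dvd_unit (map_dvd _ h) hx

noncomputable instance algR'B (i : ℕ) : Algebra σ.R' (σ.B' i) :=
  (awayLift σ.g (σ.isUnit_g (σ.dvdB i) (IsLocalization.Away.algebraMap_isUnit (S := σ.B' i) (σ.b i)))).toAlgebra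

instance towRR'B (i : ℕ) : IsScalarTower R σ.R' (σ.B' i) :=
  .of_algebraMap_eq fun r => (awayLift_algebraMap σ.g _ r).symm

/-- The element inverted in the ring carrying the module. -/
noncomputable def a (i : ℕ) : D.A i := algebraMap (D.B i) (D.A i) (σ.b i)

/-- The localised rings. -/
def LA (i : ℕ) : Type u := Localization.Away (σ.a i)

noncomputable instance ringLA (i : ℕ) : CommRing (σ.LA i) :=
  inferInstanceAs (CommRing (Localization.Away (σ.a i)))

noncomputable instance algALA (i : ℕ) : Algebra (D.A i) (σ.LA i) :=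
  inferInstanceAs (Algebra (D.A i) (Localization.Away (σ.a i)))

instance awayA (i : ℕ) : IsLocalization.Away (σ.a i) (σ.LA i) :=
  inferInstanceAs (IsLocalization.Away (σ.a i) (Localization.Away (σ.a i)))

noncomputable instance algBLA (i : ℕ) : Algebra (D.B i) (σ.LA i) :=
  ((algebraMap (D.A i) (σ.LA i)).comp (algebraMap (D.B i) (D.A i))).toAlgebra

instance towBALA (i : ℕ) : IsScalarTower (D.B i) (D.A i) (σ.LA i) := .of_algebraMap_eq' rfl

theorem isUnit_b (i : ℕ) : IsUnit (algebraMap (D.B i) (σ.LA i) (σ.b i)) :=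
  IsLocalization.Away.algebraMap_isUnit (σ.a i)

noncomputable instance algB'LA (i : ℕ) : Algebra (σ.B' i) (σ.LA i) :=
  (awayLift (σ.b i) (σ.isUnit_b i)).toAlgebra

instance towBB'LA (i : ℕ) : IsScalarTower (D.B i) (σ.B' i) (σ.LA i) :=
  .of_algebraMap_eq fun r => (awayLift_algebraMap (σ.b i) (σ.isUnit_b i) r).symm

noncomputable instance algR'LA (i : ℕ) : Algebra σ.R' (σ.LA i) :=
  ((algebraMap (σ.B' i) (σ.LA i)).comp (algebraMap σ.R' (σ.B' i))).toAlgebra

instance towR'B'LA (i : ℕ) : IsScalarTower σ.R' (σ.B' i) (σ.LA i) := .of_algebraMap_eq' rfl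

noncomputable instance algRLA (i : ℕ) : Algebra R (σ.LA i) :=
  ((algebraMap (D.A i) (σ.LA i)).comp (algebraMap R (D.A i))).toAlgebra

instance towRALA (i : ℕ) : IsScalarTower R (D.A i) (σ.LA i) := .of_algebraMap_eq' rfl

instance towRR'LA (i : ℕ) : IsScalarTower R σ.R' (σ.LA i) := .of_algebraMap_eq fun r => by
  rw [IsScalarTower.algebraMap_apply σ.R' (σ.B' i) (σ.LA i), ← IsScalarTower.algebraMap_apply R σ.R' (σ.B' i),
    IsScalarTower.algebraMap_apply R (D.B i) (σ.B' i), ← IsScalarTower.algebraMap_apply (D.B i) (σ.B' i) (σ.LA i),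
    IsScalarTower.algebraMap_apply (D.B i) (D.A i) (σ.LA i), ← IsScalarTower.algebraMap_apply R (D.B i) (D.A i),
    ← IsScalarTower.algebraMap_apply]

/-- The auxiliary rings for the tail. -/
abbrev W (i : ℕ) : Type u := σ.LA i × (σ.LA i ⊗[σ.R'] σ.B' (i - 1))

open Classical in
/-- The ideal separating the steps from the tail. -/
noncomputable def J (i : ℕ) : Ideal (σ.W i) :=
  if i < D.n then RingHom.ker (AlgHom.fst σ.R' (σ.LA i) (σ.LA i ⊗[σ.R'] σ.B' (i - 1)))
  else RingHom.ker (AlgHom.snd σ.R' (σ.LA i) (σ.LA i ⊗[σ.R'] σ.B' (i - 1)))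

/-- The shrunken rings carrying the modules. -/
def A' (i : ℕ) : Type u := σ.W i ⧸ σ.J i

noncomputable instance ringA (i : ℕ) : CommRing (σ.A' i) := inferInstanceAs (CommRing (σ.W i ⧸ σ.J i))

noncomputable instance algR'A (i : ℕ) : Algebra σ.R' (σ.A' i) :=
  inferInstanceAs (Algebra σ.R' (σ.W i ⧸ σ.J i))

/-- The map from the localised rings. -/
noncomputable def ι (i : ℕ) : σ.LA i →ₐ[σ.R'] σ.A' i :=
  (Ideal.Quotient.mkₐ σ.R' (σ.J i)).comp
    (AlgHom.prod (AlgHom.id σ.R' (σ.LA i)) Algebra.TensorProduct.includeLeft)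

noncomputable instance algLAA (i : ℕ) : Algebra (σ.LA i) (σ.A' i) := (σ.ι i).toRingHom.toAlgebra

instance towR'LAA (i : ℕ) : IsScalarTower σ.R' (σ.LA i) (σ.A' i) :=
  .of_algebraMap_eq fun r => ((σ.ι i).commutes r).symm

noncomputable instance algAA (i : ℕ) : Algebra (D.A i) (σ.A' i) :=
  ((algebraMap (σ.LA i) (σ.A' i)).comp (algebraMap (D.A i) (σ.LA i))).toAlgebra

instance towALAA (i : ℕ) : IsScalarTower (D.A i) (σ.LA i) (σ.A' i) := .of_algebraMap_eq' rfl

noncomputable instance algRA (i : ℕ) : Algebra R (σ.A' i) :=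
  ((algebraMap (D.A i) (σ.A' i)).comp (algebraMap R (D.A i))).toAlgebra

instance towRAA (i : ℕ) : IsScalarTower R (D.A i) (σ.A' i) := .of_algebraMap_eq' rfl

instance towRR'A (i : ℕ) : IsScalarTower R σ.R' (σ.A' i) := .of_algebraMap_eq fun r => by
  rw [IsScalarTower.algebraMap_apply σ.R' (σ.LA i) (σ.A' i), ← IsScalarTower.algebraMap_apply R σ.R' (σ.LA i),
    IsScalarTower.algebraMap_apply R (D.A i) (σ.LA i), ← IsScalarTower.algebraMap_apply (D.A i) (σ.LA i) (σ.A' i),
    ← IsScalarTower.algebraMap_apply]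

noncomputable instance algB'A (i : ℕ) : Algebra (σ.B' i) (σ.A' i) :=
  ((algebraMap (σ.LA i) (σ.A' i)).comp (algebraMap (σ.B' i) (σ.LA i))).toAlgebra

instance towB'LAA (i : ℕ) : IsScalarTower (σ.B' i) (σ.LA i) (σ.A' i) := .of_algebraMap_eq' rfl

instance towR'B'A (i : ℕ) : IsScalarTower σ.R' (σ.B' i) (σ.A' i) := .of_algebraMap_eq fun r => by
  rw [IsScalarTower.algebraMap_apply (σ.B' i) (σ.LA i) (σ.A' i), ← IsScalarTower.algebraMap_apply σ.R' (σ.B' i),
    ← IsScalarTower.algebraMap_apply]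

noncomputable instance algBA (i : ℕ) : Algebra (D.B i) (σ.A' i) :=
  ((algebraMap (D.A i) (σ.A' i)).comp (algebraMap (D.B i) (D.A i))).toAlgebra

instance towBAA (i : ℕ) : IsScalarTower (D.B i) (D.A i) (σ.A' i) := .of_algebraMap_eq' rfl

instance towBB'A (i : ℕ) : IsScalarTower (D.B i) (σ.B' i) (σ.A' i) := .of_algebraMap_eq fun r => by
  rw [IsScalarTower.algebraMap_apply (σ.B' i) (σ.LA i) (σ.A' i), ← IsScalarTower.algebraMap_apply (D.B i) (σ.B' i),
    IsScalarTower.algebraMap_apply (D.B i) (D.A i) (σ.LA i), ← IsScalarTower.algebraMap_apply (D.A i) (σ.LA i),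
    ← IsScalarTower.algebraMap_apply]

theorem J_eq {i : ℕ} (h : i < D.n) :
    σ.J i = RingHom.ker (AlgHom.fst σ.R' (σ.LA i) (σ.LA i ⊗[σ.R'] σ.B' (i - 1))) := if_pos h

/-- The rings of the tail. -/
noncomputable def eSnd {i : ℕ} (h : D.n ≤ i) : σ.A' i ≃ₐ[σ.R'] σ.LA i ⊗[σ.R'] σ.B' (i - 1) :=
  AlgEquiv.ofBijective (Ideal.Quotient.liftₐ (σ.J i) (AlgHom.snd σ.R' (σ.LA i) (σ.LA i ⊗[σ.R'] σ.B' (i - 1)))
      fun _ ha => RingHom.mem_ker.1 ((show σ.J i = _ from if_neg (not_lt.2 h)).le ha))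
    ⟨(injective_iff_map_eq_zero _).2 fun x hx => by
        obtain ⟨x, rfl⟩ := Ideal.Quotient.mk_surjective x
        exact Ideal.Quotient.eq_zero_iff_mem.2 ((show σ.J i = _ from if_neg (not_lt.2 h)).ge hx),
      fun y => ⟨Ideal.Quotient.mk _ (0, y), rfl⟩⟩

theorem bijective_ι {i : ℕ} (h : i < D.n) : Bijective (σ.ι i) :=
  ⟨(injective_iff_map_eq_zero _).2 fun _ hx => RingHom.mem_ker.1 ((σ.J_eq h).le (Ideal.Quotient.eq_zero_iff_mem.1 hx)),
    fun y => by
      obtain ⟨y, rfl⟩ := Ideal.Quotient.mk_surjective y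
      exact ⟨y.1, Ideal.Quotient.eq.2 ((σ.J_eq h).ge (RingHom.mem_ker.2 (sub_self y.1)))⟩⟩

theorem awayA' {i : ℕ} (h : i < D.n) : IsLocalization.Away (σ.a i) (σ.A' i) :=
  IsLocalization.isLocalization_of_algEquiv (Submonoid.powers (σ.a i))
    ({ RingEquiv.ofBijective (σ.ι i).toRingHom (σ.bijective_ι h) with commutes' := fun _ => rfl } :
      σ.LA i ≃ₐ[D.A i] σ.A' i)

theorem isUnit_step {i : ℕ} (h : i + 1 < D.n) :
    IsUnit (algebraMap (D.A (i + 1)) (σ.A' (i + 1)) (algebraMap (D.B i) (D.A (i + 1)) (σ.b i))) := by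
  haveI := σ.awayA' h
  obtain ⟨k, hk⟩ := σ.link i h
  refine isUnit_of_dvd_unit (map_dvd _ hk) ?_
  rw [map_pow]
  exact (IsLocalization.Away.algebraMap_isUnit (σ.a (i + 1))).pow k

open Classical in
/-- The map to the next ring. -/
noncomputable def next (i : ℕ) : σ.B' i →ₐ[σ.R'] σ.A' (i + 1) :=
  if h : i + 1 < D.n then
    AlgHom.mk' (IsLocalization.Away.lift (σ.b i)
        (g := (algebraMap (D.A (i + 1)) (σ.A' (i + 1))).comp (algebraMap (D.B i) (D.A (i + 1)))) (σ.isUnit_step h))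
      (fun c x => by
        rw [Algebra.smul_def, map_mul, Algebra.smul_def]
        refine congrArg (· * _) ?_
        refine RingHom.congr_fun (IsLocalization.ringHom_ext (Submonoid.powers σ.g) (j := (IsLocalization.Away.lift (σ.b i)
          (g := (algebraMap (D.A (i + 1)) (σ.A' (i + 1))).comp (algebraMap (D.B i) (D.A (i + 1)))) (σ.isUnit_step h)).comp
            (algebraMap σ.R' (σ.B' i))) (k := algebraMap σ.R' (σ.A' (i + 1))) (RingHom.ext fun r => ?_)) c
        simp only [RingHom.comp_apply]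
        rw [← IsScalarTower.algebraMap_apply R σ.R', IsScalarTower.algebraMap_apply R (D.B i) (σ.B' i),
          IsLocalization.Away.lift_eq, RingHom.comp_apply, ← IsScalarTower.algebraMap_apply R (D.B i),
          ← IsScalarTower.algebraMap_apply R (D.A (i + 1)), ← IsScalarTower.algebraMap_apply R σ.R'])
  else ((σ.eSnd (not_lt.1 h)).symm.toAlgHom).comp
    (Algebra.TensorProduct.includeRight : σ.B' i →ₐ[σ.R'] σ.LA (i + 1) ⊗[σ.R'] σ.B' i)


noncomputable instance algNext (i : ℕ) : Algebra (σ.B' i) (σ.A' (i + 1)) := (σ.next i).toRingHom.toAlgebra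

instance towR'B'next (i : ℕ) : IsScalarTower σ.R' (σ.B' i) (σ.A' (i + 1)) :=
  .of_algebraMap_eq fun r => ((σ.next i).commutes r).symm

noncomputable instance algBnext (i : ℕ) : Algebra (D.B i) (σ.A' (i + 1)) :=
  ((algebraMap (σ.B' i) (σ.A' (i + 1))).comp (algebraMap (D.B i) (σ.B' i))).toAlgebra

instance towBB'next (i : ℕ) : IsScalarTower (D.B i) (σ.B' i) (σ.A' (i + 1)) := .of_algebraMap_eq' rfl

theorem towBAnext {i : ℕ} (h : i + 1 < D.n) : IsScalarTower (D.B i) (D.A (i + 1)) (σ.A' (i + 1)) := by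
  refine .of_algebraMap_eq fun x => ?_
  show σ.next i (algebraMap (D.B i) (σ.B' i) x) = _
  unfold next
  rw [dif_pos h]
  show IsLocalization.Away.lift (σ.b i) (g := (algebraMap (D.A (i + 1)) (σ.A' (i + 1))).comp (algebraMap (D.B i) (D.A (i + 1)))) (σ.isUnit_step h) (algebraMap (D.B i) (σ.B' i) x) = _
  rw [IsLocalization.Away.lift_eq]
  rfl

theorem pushA {i : ℕ} (h : i < D.n) : Algebra.IsPushout (D.B i) (σ.B' i) (D.A i) (σ.A' i) := by
  haveI := σ.awayA' h
  haveI : IsLocalization (Algebra.algebraMapSubmonoid (D.A i) (Submonoid.powers (σ.b i))) (σ.A' i) := by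
    rw [Algebra.algebraMapSubmonoid, Submonoid.map_powers]
    exact (inferInstance : IsLocalization.Away (σ.a i) (σ.A' i))
  exact (Algebra.isPushout_of_isLocalization (Submonoid.powers (σ.b i)) (σ.B' i) (D.A i) (σ.A' i)).symm

theorem pushNext {i : ℕ} (h : i + 1 < D.n) :
    haveI := σ.towBAnext h
    Algebra.IsPushout (D.B i) (σ.B' i) (D.A (i + 1)) (σ.A' (i + 1)) := by
  haveI := σ.towBAnext h
  haveI := σ.awayA' h
  obtain ⟨k, hk⟩ := σ.link' i h
  haveI : IsLocalization.Away (algebraMap (D.B i) (D.A (i + 1)) (σ.b i)) (σ.A' (i + 1)) :=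
    away_of_isUnit (r := σ.a (i + 1)) (σ.isUnit_step h) hk
  haveI : IsLocalization (Algebra.algebraMapSubmonoid (D.A (i + 1)) (Submonoid.powers (σ.b i))) (σ.A' (i + 1)) := by
    rw [Algebra.algebraMapSubmonoid, Submonoid.map_powers]
    exact (inferInstance : IsLocalization.Away (algebraMap (D.B i) (D.A (i + 1)) (σ.b i)) (σ.A' (i + 1)))
  exact (Algebra.isPushout_of_isLocalization (Submonoid.powers (σ.b i)) (σ.B' i) (D.A (i + 1)) (σ.A' (i + 1))).symm

theorem isUnit_X : IsUnit (algebraMap (D.A 0) (σ.A' 0) (algebraMap S (D.A 0) σ.hX)) := by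
  haveI := σ.awayA' D.pos
  obtain ⟨k, hk⟩ := σ.linkX
  refine isUnit_of_dvd_unit (map_dvd _ hk) ?_
  rw [map_pow]
  exact (IsLocalization.Away.algebraMap_isUnit (σ.a 0)).pow k

/-- The extended prime of the base. -/
abbrev p' : Ideal σ.R' := p.map (algebraMap R σ.R')

instance isPrime_p' : σ.p'.IsPrime := isPrime_map σ.g p σ.notMem

instance over_p' : σ.p'.LiesOver p := ⟨(comap_map σ.g p σ.notMem).symm⟩

theorem notMem_map (i : ℕ) : σ.b i ∉ p.map (algebraMap R (D.B i)) := fun h =>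
  σ.notMemB i (Ideal.map_le_iff_le_comap.2 (le_of_eq (At.overB i).over) h)

theorem map_p' (i : ℕ) :
    σ.p'.map (algebraMap σ.R' (σ.B' i)) = (p.map (algebraMap R (D.B i))).map (algebraMap (D.B i) (σ.B' i)) := by
  rw [p', Ideal.map_map, Ideal.map_map, ← IsScalarTower.algebraMap_eq, ← IsScalarTower.algebraMap_eq]

instance hp' (i : ℕ) : (σ.p'.map (algebraMap σ.R' (σ.B' i))).IsPrime := by
  rw [σ.map_p']
  exact isPrime_map (σ.b i) _ (σ.notMem_map i)

/-- The points of the shrunken smooth algebras. -/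
noncomputable def qB' (i : ℕ) : Ideal (σ.B' i) := (At.qB i).map (algebraMap (D.B i) (σ.B' i))

instance isPrime_qB' (i : ℕ) : (σ.qB' i).IsPrime :=
  haveI := At.hqB i
  isPrime_map (σ.b i) _ (σ.notMemB i)

instance over_qB (i : ℕ) : (σ.qB' i).LiesOver (At.qB i) :=
  haveI := At.hqB i
  ⟨(comap_map (σ.b i) _ (σ.notMemB i)).symm⟩

instance over_qB' (i : ℕ) : (σ.qB' i).LiesOver σ.p' :=
  haveI := At.hqB i
  haveI := At.overB i
  liesOver_map σ.g (σ.b i) p (At.qB i) (σ.notMemB i)

theorem notMemA (i : ℕ) : σ.a i ∉ At.qA i := fun h => σ.notMemB i <| by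
  rw [(At.overA i).over]
  exact h

theorem exists_qA' (i : ℕ) : ∃ P : Ideal (σ.A' i), P.IsPrime ∧ P.LiesOver (σ.qB' i) ∧ P.LiesOver (At.qA i) := by
  haveI := At.hqA i
  haveI := At.hqB i
  haveI := At.overA i
  let P₀ : Ideal (σ.LA i) := (At.qA i).map (algebraMap (D.A i) (σ.LA i))
  haveI : P₀.IsPrime := isPrime_map (σ.a i) _ (σ.notMemA i)
  haveI hP₀ : P₀.LiesOver (σ.qB' i) := liesOver_map (σ.b i) (σ.a i) (At.qB i) (At.qA i) (σ.notMemA i)
  suffices h : ∃ P : Ideal (σ.A' i), P.IsPrime ∧ P.comap (algebraMap (σ.LA i) (σ.A' i)) = P₀ by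
    obtain ⟨P, hP, hc⟩ := h
    refine ⟨P, hP, ⟨?_⟩, ⟨?_⟩⟩
    · rw [Ideal.under_def, IsScalarTower.algebraMap_eq (σ.B' i) (σ.LA i) (σ.A' i), ← Ideal.comap_comap, hc]
      exact hP₀.over
    · rw [Ideal.under_def, IsScalarTower.algebraMap_eq (D.A i) (σ.LA i) (σ.A' i), ← Ideal.comap_comap, hc]
      exact (comap_map (σ.a i) _ (σ.notMemA i)).symm
  rcases lt_or_ge i D.n with h | h
  · let e := RingEquiv.ofBijective (σ.ι i).toRingHom (σ.bijective_ι h)
    refine ⟨P₀.comap e.symm.toRingHom, Ideal.IsPrime.comap _, ?_⟩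
    ext x
    show e.symm (e x) ∈ P₀ ↔ _
    rw [e.symm_apply_apply]
  · haveI : P₀.LiesOver σ.p' := Ideal.LiesOver.trans P₀ (σ.qB' i) σ.p'
    obtain ⟨W, hW, hWc⟩ := exists_prime_tensor σ.p' P₀ (σ.qB' (i - 1))
    refine ⟨W.comap (σ.eSnd h).toAlgHom.toRingHom, Ideal.IsPrime.comap _, ?_⟩
    rw [← hWc]
    rfl

/-- The points of the shrunken rings. -/
noncomputable def qA' (i : ℕ) : Ideal (σ.A' i) := (σ.exists_qA' i).choose

instance isPrime_qA' (i : ℕ) : (σ.qA' i).IsPrime := (σ.exists_qA' i).choose_spec.1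

instance over_qA' (i : ℕ) : (σ.qA' i).LiesOver (σ.qB' i) := (σ.exists_qA' i).choose_spec.2.1

instance over_qA (i : ℕ) : (σ.qA' i).LiesOver (At.qA i) := (σ.exists_qA' i).choose_spec.2.2

theorem qStep {i : ℕ} (h : i + 1 < D.n) :
    (σ.qA' (i + 1)).comap (algebraMap (σ.B' i) (σ.A' (i + 1))) = σ.qB' i := by
  haveI := σ.towBAnext h
  refine eq_map_of_comap (σ.b i) (At.qB i) _ ?_
  rw [Ideal.comap_comap, ← IsScalarTower.algebraMap_eq, IsScalarTower.algebraMap_eq (D.B i) (D.A (i + 1)),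
    ← Ideal.comap_comap]
  exact (congrArg _ (σ.over_qA (i + 1)).over.symm).trans (At.qStep i h)

theorem uniq {i : ℕ} (h : i < D.n) (P : Ideal (σ.A' i)) [P.IsPrime] (hP : P.LiesOver (σ.qB' i)) :
    P = σ.qA' i := by
  haveI := σ.awayA' h
  haveI := At.hqA i
  haveI := At.hqB i
  have key : ∀ (P : Ideal (σ.A' i)) [P.IsPrime], P.LiesOver (σ.qB' i) →
      P = (At.qA i).map (algebraMap (D.A i) (σ.A' i)) := fun P _ hP =>
    eq_map_of_liesOver (B := D.B i) (σ.b i) (σ.a i) (At.qB i) (At.qA i) (σ.notMemB i) (At.uniq i h) P hP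
  rw [key P hP, key (σ.qA' i) inferInstance]

/-- The shrunken modules. -/
def M' (i : ℕ) : Type u := σ.A' i ⊗[D.A i] D.M i

noncomputable instance groupM (i : ℕ) : AddCommGroup (σ.M' i) :=
  inferInstanceAs (AddCommGroup (σ.A' i ⊗[D.A i] D.M i))

noncomputable instance modAM (i : ℕ) : Module (σ.A' i) (σ.M' i) :=
  inferInstanceAs (Module (σ.A' i) (σ.A' i ⊗[D.A i] D.M i))

noncomputable instance modA (i : ℕ) : Module (D.A i) (σ.M' i) :=
  inferInstanceAs (Module (D.A i) (σ.A' i ⊗[D.A i] D.M i))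

instance towAM (i : ℕ) : IsScalarTower (D.A i) (σ.A' i) (σ.M' i) :=
  inferInstanceAs (IsScalarTower (D.A i) (σ.A' i) (σ.A' i ⊗[D.A i] D.M i))

noncomputable instance modB'M (i : ℕ) : Module (σ.B' i) (σ.M' i) :=
  Module.compHom _ (algebraMap (σ.B' i) (σ.A' i))

instance towB'M (i : ℕ) : IsScalarTower (σ.B' i) (σ.A' i) (σ.M' i) := .of_algebraMap_smul fun _ _ => rfl

noncomputable instance modB'M' (i : ℕ) : Module (σ.B' i) (σ.M' (i + 1)) :=
  Module.compHom _ (algebraMap (σ.B' i) (σ.A' (i + 1)))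

instance towB'M' (i : ℕ) : IsScalarTower (σ.B' i) (σ.A' (i + 1)) (σ.M' (i + 1)) :=
  .of_algebraMap_smul fun _ _ => rfl

noncomputable instance modR'M (i : ℕ) : Module σ.R' (σ.M' i) :=
  Module.compHom _ (algebraMap σ.R' (σ.A' i))

instance towR'B'M (i : ℕ) : IsScalarTower σ.R' (σ.B' i) (σ.M' i) :=
  .of_algebraMap_smul fun r x => by
    show algebraMap (σ.B' i) (σ.A' i) (algebraMap σ.R' (σ.B' i) r) • x = algebraMap σ.R' (σ.A' i) r • x
    rw [← IsScalarTower.algebraMap_apply]

noncomputable instance modBM (i : ℕ) : Module (D.B i) (σ.M' i) :=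
  Module.compHom _ (algebraMap (D.B i) (σ.A' i))

instance towBA'M (i : ℕ) : IsScalarTower (D.B i) (σ.A' i) (σ.M' i) := .of_algebraMap_smul fun _ _ => rfl

instance towBAM (i : ℕ) : IsScalarTower (D.B i) (D.A i) (σ.M' i) :=
  .of_algebraMap_smul fun b x => (IsScalarTower.algebraMap_smul (σ.A' i) (algebraMap (D.B i) (D.A i) b) x).symm

instance towBB'M (i : ℕ) : IsScalarTower (D.B i) (σ.B' i) (σ.M' i) :=
  .of_algebraMap_smul fun b x => by
    show algebraMap (σ.B' i) (σ.A' i) (algebraMap (D.B i) (σ.B' i) b) • x = _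
    rw [← IsScalarTower.algebraMap_apply]
    rfl

/-- The localisation maps of the modules. -/
noncomputable def gM (i : ℕ) : D.M i →ₗ[D.A i] σ.M' i := TensorProduct.mk (D.A i) (σ.A' i) (D.M i) 1

theorem isBaseChange_gM (i : ℕ) : IsBaseChange (σ.A' i) (σ.gM i) :=
  TensorProduct.isBaseChange (D.A i) (D.M i) (σ.A' i)

theorem isLocalizedModule_gM {i : ℕ} (h : i < D.n) : IsLocalizedModule (Submonoid.powers (σ.a i)) (σ.gM i) :=
  haveI := σ.awayA' h
  (isLocalizedModule_iff_isBaseChange (Submonoid.powers (σ.a i)) (σ.A' i) _).2 (σ.isBaseChange_gM i)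

theorem isBaseChange_B {i : ℕ} (h : i < D.n) : IsBaseChange (σ.B' i) ((σ.gM i).restrictScalars (D.B i)) :=
  haveI := σ.pushA h
  DevissageBC.isBaseChange_bc (σ.gM i) (σ.isBaseChange_gM i)

/-- The shrunken maps from free modules. -/
noncomputable def alpha (i : ℕ) : (Fin (D.r i) → σ.B' i) →ₗ[σ.B' i] σ.M' i :=
  (Pi.basisFun (σ.B' i) (Fin (D.r i))).constr ℕ fun j => σ.gM i (D.α i (Pi.single j 1))

theorem alpha_single (i : ℕ) (j : Fin (D.r i)) :
    σ.alpha i (Pi.single j 1) = σ.gM i (D.α i (Pi.single j 1)) := by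
  rw [← Pi.basisFun_apply (σ.B' i) (Fin (D.r i)) j]
  exact (Pi.basisFun (σ.B' i) (Fin (D.r i))).constr_basis ℕ _ j

theorem range_alpha (i : ℕ) :
    LinearMap.range (σ.alpha i) =
      Submodule.span (σ.B' i) (σ.gM i '' (LinearMap.range (D.α i) : Set (D.M i))) := by
  rw [alpha, Module.Basis.constr_range]
  refine le_antisymm (Submodule.span_mono ?_) (Submodule.span_le.2 ?_)
  · rintro _ ⟨j, rfl⟩
    exact ⟨_, LinearMap.mem_range_self _ _, rfl⟩
  · rintro _ ⟨_, ⟨c, rfl⟩, rfl⟩
    rw [← Finset.univ_sum_single c, map_sum, map_sum]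
    refine Submodule.sum_mem _ fun j _ => ?_
    rw [show (Pi.single j (c j) : Fin (D.r i) → D.B i) = c j • Pi.single j 1 by
      rw [← Pi.single_smul', smul_eq_mul, mul_one], map_smul, LinearMap.map_smul_of_tower,
      ← IsScalarTower.algebraMap_smul (σ.B' i) (c j) (σ.gM i (D.α i (Pi.single j 1)))]
    exact Submodule.smul_mem _ _ (Submodule.subset_span ⟨j, rfl⟩)

theorem alpha_last_surjective : Surjective (σ.alpha (D.n - 1)) := by
  rw [← LinearMap.range_eq_top, range_alpha, LinearMap.range_eq_top.2 D.cokerLast, eq_top_iff]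
  rintro x -
  induction x using (σ.isBaseChange_B (Nat.sub_lt D.pos one_pos)).inductionOn with
  | zero => exact zero_mem _
  | tmul m => exact Submodule.subset_span ⟨m, trivial, rfl⟩
  | smul b x hx => exact Submodule.smul_mem _ b hx
  | add x y hx hy => exact add_mem hx hy

end ShrinkData

end Data

set_option maxHeartbeats 2000000 in
/-- The standard shrinking given by admissible elements. -/
theorem exists_shrinking_complete
    {R S : Type u} [CommRing R] [CommRing S] [Algebra R S] [Algebra.FiniteType R S]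
    {N : Type u} [AddCommGroup N] [Module S N] [Module.Finite S N]
    {p : Ideal R} [p.IsPrime] {q : Ideal S} [q.IsPrime] {D : FlatCA.CompleteDevissage R S N p}
    {At : FlatCA.CompleteDevissageAt R S N p q D} (σ : ShrinkData At) :
    ∃ (_ : Algebra σ.R' (Localization.Away σ.hX)) (_ : IsScalarTower R σ.R' (Localization.Away σ.hX))
      (_ : Module σ.R' (LocalizedModule (Submonoid.powers σ.hX) N))
      (_ : IsScalarTower σ.R' (Localization.Away σ.hX) (LocalizedModule (Submonoid.powers σ.hX) N))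
      (_ : (q.map (algebraMap S (Localization.Away σ.hX))).IsPrime)
      (D' : FlatCA.CompleteDevissage σ.R' (Localization.Away σ.hX) (LocalizedModule (Submonoid.powers σ.hX) N) σ.p')
      (At' : FlatCA.CompleteDevissageAt σ.R' (Localization.Away σ.hX) (LocalizedModule (Submonoid.powers σ.hX) N) σ.p'
        (q.map (algebraMap S (Localization.Away σ.hX))) D')
      (aA : ∀ i : Fin D.n, Algebra (D.A i) (D'.A i)) (rA : ∀ i : Fin D.n, Algebra R (D'.A i))
      (_t1 : ∀ i : Fin D.n, IsScalarTower R σ.R' (D'.A i)) (_t2 : ∀ i : Fin D.n, IsScalarTower R (D.A i) (D'.A i))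
      (aB : ∀ i : Fin D.n, Algebra (D.B i) (D'.B i)) (rB : ∀ i : Fin D.n, Algebra R (D'.B i))
      (_t3 : ∀ i : Fin D.n, IsScalarTower R σ.R' (D'.B i)) (_t4 : ∀ i : Fin D.n, IsScalarTower R (D.B i) (D'.B i))
      (bA : ∀ i : Fin D.n, Algebra (D.B i) (D'.A i)) (_t5 : ∀ i : Fin D.n, IsScalarTower (D.B i) (D.A i) (D'.A i))
      (_t6 : ∀ i : Fin D.n, IsScalarTower (D.B i) (D'.B i) (D'.A i))
      (bA' : ∀ i : Fin D.n, Algebra (D.B i) (D'.A (i + 1)))
      (_t7 : ∀ i : Fin D.n, IsScalarTower (D.B i) (D'.B i) (D'.A (i + 1)))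
      (sA : Algebra S (D'.A 0)) (_t8 : IsScalarTower S (Localization.Away σ.hX) (D'.A 0))
      (mA : ∀ i : Fin D.n, Module (D.A i) (D'.M i)) (_t9 : ∀ i : Fin D.n, IsScalarTower (D.A i) (D'.A i) (D'.M i))
      (gM : ∀ i : Fin D.n, D.M i →ₗ[D.A i] D'.M i),
      D'.n = D.n ∧ D'.r = D.r ∧ At'.d = At.d ∧
        (letI := aA ⟨0, D.pos⟩; IsScalarTower S (D.A 0) (D'.A 0)) ∧
      (∀ x : N, D'.isoN (LocalizedModule.mkLinearMap (Submonoid.powers σ.hX) N x) = gM ⟨0, D.pos⟩ (D.isoN x)) ∧
      (∀ (i : Fin D.n) (h : (i : ℕ) + 1 < D.n),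
        letI := aA ⟨i + 1, h⟩; IsScalarTower (D.B i) (D.A (i + 1)) (D'.A (i + 1))) ∧
        ∀ i : Fin D.n,
          σ.a i ∉ At.qA i ∧ σ.b i ∉ At.qB i ∧
          IsLocalization.Away (σ.a i) (D'.A i) ∧ IsLocalization.Away (σ.b i) (D'.B i) ∧
          IsLocalizedModule (Submonoid.powers (σ.a i)) (gM i) ∧
          (At'.qA i).LiesOver (At.qA i) ∧ (At'.qB i).LiesOver (At.qB i) ∧
          LinearMap.range (D'.α i) =
            Submodule.span (D'.B i) ((gM i) '' (LinearMap.range (D.α i) : Set (D.M i))) := by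
  have hu : IsUnit (algebraMap R (Localization.Away σ.hX) σ.g) :=
    σ.isUnit_g σ.dvdX (IsLocalization.Away.algebraMap_isUnit σ.hX)
  letI : Algebra σ.R' (Localization.Away σ.hX) := (awayLift σ.g hu).toAlgebra
  haveI : IsScalarTower R σ.R' (Localization.Away σ.hX) :=
    .of_algebraMap_eq fun r => (awayLift_algebraMap σ.g hu r).symm
  letI : Module σ.R' (LocalizedModule (Submonoid.powers σ.hX) N) :=
    Module.compHom _ (algebraMap σ.R' (Localization.Away σ.hX))
  haveI : IsScalarTower σ.R' (Localization.Away σ.hX) (LocalizedModule (Submonoid.powers σ.hX) N) :=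
    .of_algebraMap_smul fun _ _ => rfl
  haveI hq' : (q.map (algebraMap S (Localization.Away σ.hX))).IsPrime := isPrime_map σ.hX q σ.notMemX
  letI : Algebra S (σ.A' 0) := ((algebraMap (D.A 0) (σ.A' 0)).comp (algebraMap S (D.A 0))).toAlgebra
  haveI : IsScalarTower S (D.A 0) (σ.A' 0) := .of_algebraMap_eq' rfl
  letI : Algebra (Localization.Away σ.hX) (σ.A' 0) :=
    (awayLift σ.hX (show IsUnit (algebraMap S (σ.A' 0) σ.hX) from σ.isUnit_X)).toAlgebra
  haveI : IsScalarTower S (Localization.Away σ.hX) (σ.A' 0) :=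
    .of_algebraMap_eq fun r => (awayLift_algebraMap σ.hX (L := σ.A' 0) σ.isUnit_X r).symm
  haveI : IsScalarTower R S (σ.A' 0) := .of_algebraMap_eq fun r => by
    rw [IsScalarTower.algebraMap_apply S (D.A 0) (σ.A' 0), ← IsScalarTower.algebraMap_apply R S (D.A 0),
      ← IsScalarTower.algebraMap_apply]
  haveI : IsScalarTower R (Localization.Away σ.hX) (σ.A' 0) := .of_algebraMap_eq fun r => by
    rw [IsScalarTower.algebraMap_apply R S (Localization.Away σ.hX),
      ← IsScalarTower.algebraMap_apply S (Localization.Away σ.hX) (σ.A' 0), ← IsScalarTower.algebraMap_apply]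
  haveI : IsScalarTower σ.R' (Localization.Away σ.hX) (σ.A' 0) := tower_of_away σ.g
  haveI := σ.awayA' D.pos
  obtain ⟨k, hk⟩ := σ.linkX'
  haveI : IsLocalization.Away (algebraMap S (D.A 0) σ.hX) (σ.A' 0) := away_of_isUnit (r := σ.a 0) σ.isUnit_X hk
  haveI : IsLocalization (Algebra.algebraMapSubmonoid (D.A 0) (Submonoid.powers σ.hX)) (σ.A' 0) := by
    rw [Algebra.algebraMapSubmonoid, Submonoid.map_powers]
    exact (inferInstance : IsLocalization.Away (algebraMap S (D.A 0) σ.hX) (σ.A' 0))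
  haveI : Algebra.IsPushout S (Localization.Away σ.hX) (D.A 0) (σ.A' 0) :=
    (Algebra.isPushout_of_isLocalization (Submonoid.powers σ.hX) (Localization.Away σ.hX) (D.A 0) (σ.A' 0)).symm
  letI : Module (Localization.Away σ.hX) (σ.M' 0) :=
    Module.compHom _ (algebraMap (Localization.Away σ.hX) (σ.A' 0))
  haveI : IsScalarTower (Localization.Away σ.hX) (σ.A' 0) (σ.M' 0) := .of_algebraMap_smul fun _ _ => rfl
  letI : Module S (σ.M' 0) := Module.compHom _ (algebraMap S (σ.A' 0))
  haveI : IsScalarTower S (σ.A' 0) (σ.M' 0) := .of_algebraMap_smul fun _ _ => rfl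
  haveI : IsScalarTower S (D.A 0) (σ.M' 0) := .of_algebraMap_smul fun s x =>
    (IsScalarTower.algebraMap_smul (σ.A' 0) (algebraMap S (D.A 0) s) x).symm
  haveI : IsScalarTower S (Localization.Away σ.hX) (σ.M' 0) := .of_algebraMap_smul fun s x => by
    show algebraMap (Localization.Away σ.hX) (σ.A' 0) (algebraMap S (Localization.Away σ.hX) s) • x = _
    rw [← IsScalarTower.algebraMap_apply]
    rfl
  have hN : IsBaseChange (Localization.Away σ.hX) (LocalizedModule.mkLinearMap (Submonoid.powers σ.hX) N) :=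
    IsLocalizedModule.isBaseChange (Submonoid.powers σ.hX) _ _
  have hb : IsBaseChange (Localization.Away σ.hX) ((σ.gM 0).restrictScalars S ∘ₗ D.isoN.toLinearMap) :=
    (DevissageBC.isBaseChange_bc (σ.gM 0) (σ.isBaseChange_gM 0)).comp_equiv D.isoN
  have hcok : ∀ i, i + 1 < D.n →
      Nonempty ((σ.M' i ⧸ LinearMap.range (σ.alpha i)) ≃ₗ[σ.B' i] σ.M' (i + 1)) := by
    intro i hi
    haveI := σ.towBAnext hi
    haveI := σ.pushNext hi
    letI : Module (D.B i) (σ.M' (i + 1)) := Module.compHom _ (algebraMap (D.B i) (σ.A' (i + 1)))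
    haveI : IsScalarTower (D.B i) (D.A (i + 1)) (σ.M' (i + 1)) := .of_algebraMap_smul fun b x => by
      show _ = algebraMap (D.B i) (σ.A' (i + 1)) b • x
      rw [IsScalarTower.algebraMap_apply (D.B i) (D.A (i + 1)) (σ.A' (i + 1)),
        IsScalarTower.algebraMap_smul (σ.A' (i + 1))]
    haveI : IsScalarTower (D.B i) (σ.B' i) (σ.M' (i + 1)) := .of_algebraMap_smul fun b x => by
      show algebraMap (σ.B' i) (σ.A' (i + 1)) (algebraMap (D.B i) (σ.B' i) b) • x = _
      rw [← IsScalarTower.algebraMap_apply]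
      rfl
    obtain ⟨t, ht⟩ := DevissageComplete.isBaseChange_quotient _ (σ.isBaseChange_B (Nat.lt_of_succ_lt hi))
      (LinearMap.range (D.α i)) (LinearMap.range (σ.alpha i)) (σ.range_alpha i)
    have hn : IsBaseChange (σ.B' i) ((σ.gM (i + 1)).restrictScalars (D.B i) ∘ₗ (D.isoCoker i hi).toLinearMap) :=
      (DevissageBC.isBaseChange_bc (σ.gM (i + 1)) (σ.isBaseChange_gM (i + 1))).comp_equiv (D.isoCoker i hi)
    exact ⟨ht.equiv.symm ≪≫ₗ hn.equiv⟩
  have hfib : ∀ i, i < D.n →
      Function.Bijective ((σ.alpha i).baseChange (σ.p'.map (algebraMap σ.R' (σ.B' i))).ResidueField) := by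
    intro i hi
    haveI : (σ.p'.map (algebraMap σ.R' (σ.B' i))).LiesOver (p.map (algebraMap R (D.B i))) :=
      ⟨by rw [Ideal.under_def, σ.map_p', comap_map (σ.b i) _ (σ.notMem_map i)]⟩
    exact bijective_baseChange_residueField (σ.isBaseChange_B hi) (D.α i) (σ.alpha i) (σ.alpha_single i) _ _
      (D.fibreIso i hi)
  let D' : FlatCA.CompleteDevissage σ.R' (Localization.Away σ.hX) (LocalizedModule (Submonoid.powers σ.hX) N) σ.p' :=
    { n := D.n
      pos := D.pos
      A := σ.A'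
      B := σ.B'
      M := σ.M'
      r := D.r
      α := σ.alpha
      surjSA := DevissageBC.surjective_bc (S := S) (C := D.A 0) D.surjSA
      fpSA := DevissageBC.finitePresentation_bc (S := S) (C := D.A 0) D.fpSA
      surjBA' := fun i hi =>
        haveI := σ.towBAnext hi
        haveI := σ.pushNext hi
        DevissageBC.surjective_bc (S := D.B i) (C := D.A (i + 1)) (D.surjBA' i hi)
      fpBA' := fun i hi =>
        haveI := σ.towBAnext hi
        haveI := σ.pushNext hi
        DevissageBC.finitePresentation_bc (S := D.B i) (C := D.A (i + 1)) (D.fpBA' i hi)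
      finiteBA := fun i hi =>
        haveI := σ.pushA hi
        DevissageBC.finite_bc (S := D.B i) (C := D.A i) (D.finiteBA i hi)
      smooth := fun i hi =>
        haveI := D.smooth i hi
        smooth_away σ.g (σ.b i)
      geomIrred := fun i hi =>
        haveI := D.smooth i hi
        geomIrredFibres_of_fibresDomain
          (fibresDomain_away σ.g (σ.b i) (fibresDomain_of_smooth_geomIrred (D.geomIrred i hi)) (σ.fibre i hi))
      finiteM := fun i hi =>
        haveI := D.finiteM i hi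
        Module.Finite.equiv (σ.isBaseChange_gM i).equiv
      isoN := hN.equiv.symm ≪≫ₗ hb.equiv
      isoCoker := fun i hi => (hcok i hi).some
      fibreIso := hfib
      cokerLast := σ.alpha_last_surjective }
  let At' : FlatCA.CompleteDevissageAt σ.R' (Localization.Away σ.hX) (LocalizedModule (Submonoid.powers σ.hX) N) σ.p'
      (q.map (algebraMap S (Localization.Away σ.hX))) D' :=
    { qB := σ.qB'
      qA := σ.qA'
      hqB := σ.isPrime_qB'
      hqA := σ.isPrime_qA'
      overB := σ.over_qB'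
      overA := σ.over_qA'
      pureTrans := fun i hi => by
        haveI := At.hqB i
        haveI := At.overB i
        exact purelyTranscendental_transfer p σ.p' (At.qB i) (σ.qB' i) (bijective_residueField σ.g p _)
          (bijective_residueField (σ.b i) (At.qB i) _) (At.pureTrans i hi)
      uniq := fun i hi P _ hP => σ.uniq hi P hP
      q0 := by
        refine eq_map_of_comap σ.hX q _ ?_
        rw [Ideal.comap_comap]
        show (σ.qA' 0).comap ((algebraMap (Localization.Away σ.hX) (σ.A' 0)).comp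
          (algebraMap S (Localization.Away σ.hX))) = q
        rw [← IsScalarTower.algebraMap_eq, IsScalarTower.algebraMap_eq S (D.A 0), ← Ideal.comap_comap]
        exact (congrArg _ (σ.over_qA 0).over.symm).trans At.q0
      qStep := fun i hi => σ.qStep hi
      d := At.d
      relDim := fun i hi => smoothRelDim_away σ.g (σ.b i) (At.relDim i hi)
      locDim := fun i hi => by
        haveI := At.hqB i
        haveI := At.overB i
        haveI := D.finiteBA i hi
        haveI := D.finiteM i hi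
        haveI : Module.Finite (D.B i) (D.M i) := Module.Finite.trans (D.A i) (D.M i)
        exact localDim_support p σ.p' (fun Q _ hQ => eq_map_of_comap σ.g p Q hQ)
          (PrimeSpectrum.localization_away_isOpenEmbedding (σ.B' i) (σ.b i)) (D.M i) (σ.M' i)
          ((σ.gM i).restrictScalars (D.B i)) (σ.isBaseChange_B hi) (At.qB i) (σ.qB' i) (At.locDim i hi) }
  refine ⟨‹_›, ‹_›, ‹_›, ‹_›, hq', D', At', fun i => ShrinkData.algAA σ i, fun i => ShrinkData.algRA σ i,
    fun i => ShrinkData.towRR'A σ i, fun i => ShrinkData.towRAA σ i, fun i => ShrinkData.algBB σ i,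
    fun i => ShrinkData.algRB σ i, fun i => ShrinkData.towRR'B σ i, fun i => ShrinkData.towRBB σ i,
    fun i => ShrinkData.algBA σ i, fun i => ShrinkData.towBAA σ i, fun i => ShrinkData.towBB'A σ i,
    fun i => ShrinkData.algBnext σ i, fun i => ShrinkData.towBB'next σ i, inferInstance, inferInstance,
    fun i => ShrinkData.modA σ i, fun i => ShrinkData.towAM σ i, fun i => σ.gM i, rfl, rfl, rfl, inferInstance,
    fun x => ?_, fun i h => σ.towBAnext h, fun i => ⟨σ.notMemA i, σ.notMemB i, σ.awayA' i.2, σ.awayB i,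
      σ.isLocalizedModule_gM i.2, σ.over_qA i, σ.over_qB i, σ.range_alpha i⟩⟩
  show hb.equiv (hN.equiv.symm (LocalizedModule.mkLinearMap (Submonoid.powers σ.hX) N x)) = _
  rw [show hN.equiv.symm (LocalizedModule.mkLinearMap (Submonoid.powers σ.hX) N x) =
      (1 : Localization.Away σ.hX) ⊗ₜ[S] x by
    rw [LinearEquiv.symm_apply_eq, IsBaseChange.equiv_tmul, one_smul], IsBaseChange.equiv_tmul, one_smul]
  rfl

end Groth.Agent.FlatCx12.DevissageShrink

namespace Groth.Agent.FlatCx12.DevissageShrink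

open FlatMorDevissage

section Elements

variable {R S : Type u} [CommRing R] [CommRing S] [Algebra R S] {N : Type u} [AddCommGroup N] [Module S N]
  {p : Ideal R} [p.IsPrime] {q : Ideal S} [q.IsPrime] {D : FlatCA.CompleteDevissage R S N p}
  (At : FlatCA.CompleteDevissageAt R S N p q D)

theorem notMem_next {i : ℕ} (h : i + 1 < D.n) {x : D.B i} (hx : x ∉ At.qB i) :
    algebraMap (D.B i) (D.A (i + 1)) x ∉ At.qA (i + 1) := fun hm => hx <| by
  rw [← At.qStep i h]
  exact hm

theorem notMem_up {i : ℕ} {x : D.B i} (hx : x ∉ At.qB i) : algebraMap (D.B i) (D.A i) x ∉ At.qA i :=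
  fun hm => hx <| by rw [(At.overA i).over]; exact hm

/-- Lifting a family of elements to compatible ones. -/
theorem exists_compatible (w : ∀ i, D.B i) (hw : ∀ i, w i ∉ At.qB i)
    (hc : ∀ i, i + 1 < D.n →
      algebraMap (D.B i) (D.A (i + 1)) (w i) ∣ algebraMap (D.B (i + 1)) (D.A (i + 1)) (w (i + 1))) (k : ℕ) :
    ∃ b : ∀ i, D.B i, (∀ i, b i ∉ At.qB i) ∧ b (D.n - 1) = w (D.n - 1) ∧ (∀ i, w i ∣ b i) ∧
      ∀ i, i + 1 < D.n → D.n - 1 ≤ i + k →
        algebraMap (D.B (i + 1)) (D.A (i + 1)) (b (i + 1)) ∣ algebraMap (D.B i) (D.A (i + 1)) (b i) ∧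
        algebraMap (D.B i) (D.A (i + 1)) (b i) ∣ algebraMap (D.B (i + 1)) (D.A (i + 1)) (b (i + 1)) ^ 2 := by
  classical
  induction k with
  | zero => exact ⟨w, hw, rfl, fun i => dvd_rfl, fun i h h' => absurd h' (by omega)⟩
  | succ k ih =>
    obtain ⟨b, hb, hlast, hdvd, hlink⟩ := ih
    by_cases hk : k + 1 ≤ D.n - 1
    swap
    · exact ⟨b, hb, hlast, hdvd, fun i h h' => hlink i h (by omega)⟩
    obtain ⟨i₀, hi₀⟩ : ∃ i₀, i₀ + (k + 1) = D.n - 1 := ⟨D.n - 1 - (k + 1), by omega⟩
    have h₀ : i₀ + 1 < D.n := by omega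
    obtain ⟨x, hx⟩ := D.surjBA' i₀ h₀ (algebraMap (D.B (i₀ + 1)) (D.A (i₀ + 1)) (b (i₀ + 1)))
    have hxq : x ∉ At.qB i₀ := fun hm => notMem_up At (hb (i₀ + 1)) <| by
      rw [← hx]
      rw [← At.qStep i₀ h₀] at hm
      exact hm
    haveI := At.hqB i₀
    refine ⟨Function.update b i₀ (x * w i₀), fun i => ?_, ?_, fun i => ?_, fun i h h' => ?_⟩
    · rcases eq_or_ne i i₀ with rfl | hne
      · rw [Function.update_self]
        exact Ideal.IsPrime.mul_notMem (At.hqB i) hxq (hw i)
      · rw [Function.update_of_ne hne]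
        exact hb i
    · rw [Function.update_of_ne (by omega), hlast]
    · rcases eq_or_ne i i₀ with rfl | hne
      · rw [Function.update_self]
        exact dvd_mul_left _ _
      · rw [Function.update_of_ne hne]
        exact hdvd i
    · rw [Function.update_of_ne (show i + 1 ≠ i₀ by omega)]
      rcases eq_or_ne i i₀ with rfl | hne
      · rw [Function.update_self, map_mul, hx, sq]
        exact ⟨dvd_mul_right _ _, mul_dvd_mul_left _ ((hc i h).trans (map_dvd _ (hdvd (i + 1))))⟩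
      · rw [Function.update_of_ne hne]
        exact hlink i h (by omega)

/-- The elements of a standard shrinking inside given opens. -/
theorem exists_shrinkData (w : ∀ i, D.B i) (hw : ∀ i, w i ∉ At.qB i)
    (hc : ∀ i, i + 1 < D.n →
      algebraMap (D.B i) (D.A (i + 1)) (w i) ∣ algebraMap (D.B (i + 1)) (D.A (i + 1)) (w (i + 1)))
    (u : S) (hu : algebraMap S (D.A 0) u ∣ algebraMap (D.B 0) (D.A 0) (w 0)) :
    ∃ σ : ShrinkData At, u ∣ σ.hX ∧
      σ.b (D.n - 1) = w (D.n - 1) * algebraMap R (D.B (D.n - 1)) σ.g := by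
  classical
  obtain ⟨b, hb, hlast, hdvd, hlink⟩ := exists_compatible At w hw hc (D.n - 1)
  have hex : ∀ i : Fin D.n, ∃ f ∉ p, ∀ p₀ : Ideal R, p₀.IsPrime → f ∉ p₀ →
      ∃ Q : Ideal (D.B i), Q.IsPrime ∧ Q.comap (algebraMap R (D.B i)) = p₀ ∧ b i ∉ Q := fun i => by
    haveI := D.smooth i i.2
    haveI := At.hqB i
    haveI := At.overB i
    exact exists_notMem_forall_lift p (At.qB i) (b i) (hb i)
  choose gs hgs hfib using hex
  let g : R := ∏ i, gs i
  have hg : g ∉ p := fun h => by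
    obtain ⟨i, -, hi⟩ := (Ideal.IsPrime.prod_mem_iff (p := p)).1 h
    exact hgs i hi
  have hgB : ∀ i, algebraMap R (D.B i) g ∉ At.qB i := fun i h => hg (by rw [(At.overB i).over]; exact h)
  obtain ⟨x, hx⟩ := D.surjSA (algebraMap (D.B 0) (D.A 0) (b 0))
  have hgA : ∀ i, algebraMap R (D.A i) g ∉ At.qA i := fun i => by
    rw [IsScalarTower.algebraMap_apply R (D.B i) (D.A i)]
    exact notMem_up At (hgB i)
  obtain ⟨c, hc'⟩ := hu.trans (map_dvd (algebraMap (D.B 0) (D.A 0)) (hdvd 0))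
  haveI := At.hqA 0
  have huA : algebraMap S (D.A 0) u ∉ At.qA 0 := fun h => notMem_up At (hb 0) (hc' ▸ (At.qA 0).mul_mem_right c h)
  have himg : algebraMap S (D.A 0) (x * algebraMap R S g * u) =
      algebraMap (D.B 0) (D.A 0) (b 0 * algebraMap R (D.B 0) g) * algebraMap S (D.A 0) u := by
    rw [map_mul, map_mul, map_mul, hx, ← IsScalarTower.algebraMap_apply, ← IsScalarTower.algebraMap_apply]
  refine ⟨{ g := g, hX := x * algebraMap R S g * u, b := fun i => b i * algebraMap R (D.B i) g,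
            notMem := hg, notMemX := fun h => ?_,
            notMemB := fun i => Ideal.IsPrime.mul_notMem (At.hqB i) (hb i) (hgB i)
            dvdX := ⟨x * u, by ring⟩
            dvdB := fun i => dvd_mul_left _ _
            linkX := ⟨2, ?_⟩
            linkX' := ⟨1, ?_⟩
            link := fun i h => ⟨2, ?_⟩
            link' := fun i h => ⟨1, ?_⟩
            fibre := fun i h p₀ hp₀ hgp₀ => ?_ }, dvd_mul_left _ _, by rw [← hlast]⟩
  · rw [← At.q0, Ideal.mem_comap, himg, map_mul, ← IsScalarTower.algebraMap_apply] at h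
    exact Ideal.IsPrime.mul_notMem (At.hqA 0) (Ideal.IsPrime.mul_notMem (At.hqA 0) (notMem_up At (hb 0)) (hgA 0)) huA h
  · rw [himg, map_mul, ← IsScalarTower.algebraMap_apply]
    exact ⟨algebraMap R (D.A 0) g * c, by rw [hc']; ring⟩
  · rw [pow_one, himg]
    exact dvd_mul_right _ _
  · obtain ⟨-, h2⟩ := hlink i h (by omega)
    obtain ⟨d, hd⟩ := h2
    rw [map_mul, map_mul, ← IsScalarTower.algebraMap_apply, ← IsScalarTower.algebraMap_apply]
    exact ⟨d * algebraMap R (D.A (i + 1)) g, by rw [mul_pow, hd]; ring⟩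
  · obtain ⟨h1, -⟩ := hlink i h (by omega)
    rw [pow_one, map_mul, map_mul, ← IsScalarTower.algebraMap_apply, ← IsScalarTower.algebraMap_apply]
    exact mul_dvd_mul_right h1 _
  · have hgi : gs ⟨i, h⟩ ∉ p₀ := fun h' => hgp₀ (Ideal.mem_of_dvd _ (Finset.dvd_prod_of_mem _ (Finset.mem_univ _)) h')
    obtain ⟨Q, hQ, hQo, hbQ⟩ := hfib ⟨i, h⟩ p₀ hp₀ hgi
    exact ⟨Q, hQ, hQo, Ideal.IsPrime.mul_notMem hQ hbQ fun h' => hgp₀ (hQo ▸ h')⟩

/-- Elements pushing an open at the point down the steps. -/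
theorem exists_below (u : S) (hu : u ∉ q) (k : ℕ) :
    ∃ w : ∀ i, D.B i, (∀ i, w i ∉ At.qB i) ∧
      algebraMap S (D.A 0) u ∣ algebraMap (D.B 0) (D.A 0) (w 0) ∧
      ∀ i, i + 1 < D.n → i < k →
        algebraMap (D.B i) (D.A (i + 1)) (w i) ∣ algebraMap (D.B (i + 1)) (D.A (i + 1)) (w (i + 1)) := by
  classical
  induction k with
  | zero =>
    haveI := D.finiteBA 0 D.pos
    haveI := At.hqB 0
    haveI := At.hqA 0
    obtain ⟨w₀, hw₀, hd⟩ := exists_notMem_dvd (At.qB 0) (At.qA 0) (At.uniq 0 D.pos) (algebraMap S (D.A 0) u)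
      (fun h => hu (by rw [← At.q0]; exact h))
    refine ⟨Function.update (fun _ => 1) 0 w₀, fun i => ?_, ?_, fun i _ h => absurd h (Nat.not_lt_zero i)⟩
    · rcases eq_or_ne i 0 with rfl | hne
      · rw [Function.update_self]
        exact hw₀
      · rw [Function.update_of_ne hne]
        exact fun h => (At.hqB i).ne_top ((Ideal.eq_top_iff_one _).2 h)
    · rw [Function.update_self]
      exact hd
  | succ k ih =>
    obtain ⟨w, hw, hd, hc⟩ := ih
    by_cases hk : k + 1 < D.n
    swap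
    · exact ⟨w, hw, hd, fun i h h' => hc i h (by omega)⟩
    haveI := D.finiteBA (k + 1) hk
    haveI := At.hqB (k + 1)
    haveI := At.hqA (k + 1)
    obtain ⟨w₁, hw₁, hd₁⟩ := exists_notMem_dvd (At.qB (k + 1)) (At.qA (k + 1)) (At.uniq (k + 1) hk)
      (algebraMap (D.B k) (D.A (k + 1)) (w k)) (notMem_next At hk (hw k))
    refine ⟨Function.update w (k + 1) w₁, fun i => ?_, ?_, fun i h h' => ?_⟩
    · rcases eq_or_ne i (k + 1) with rfl | hne
      · rw [Function.update_self]
        exact hw₁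
      · rw [Function.update_of_ne hne]
        exact hw i
    · rw [Function.update_of_ne (show (0 : ℕ) ≠ k + 1 by omega)]
      exact hd
    · rw [Function.update_of_ne (show i ≠ k + 1 by omega)]
      rcases eq_or_ne i k with rfl | hne
      · rw [Function.update_self]
        exact hd₁
      · rw [Function.update_of_ne (show i + 1 ≠ k + 1 by omega)]
        exact hc i h (by omega)

end Elements

end Groth.Agent.FlatCx12.DevissageShrink
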