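import Groth.Agent.FlatCx12.DevissageShrink

/-!
# Standard shrinking of a one-step devissage
-/

set_option autoImplicit false
set_option backward.isDefEq.respectTransparency false
set_option linter.style.haveILetI false

universe u

open TensorProduct Function

namespace Groth.Agent.FlatCx12.DevissageShrink

open FlatMorDevissage

/-- The map of localizations induced by an algebra map. -/
noncomputable def awayLift {A : Type u} [CommRing A] (a : A) {L : Type u} [CommRing L] [Algebra A L]
    (h : IsUnit (algebraMap A L a)) : Localization.Away a →+* L :=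
  IsLocalization.Away.lift a h

theorem awayLift_algebraMap {A : Type u} [CommRing A] (a : A) {L : Type u} [CommRing L] [Algebra A L]
    (h : IsUnit (algebraMap A L a)) (x : A) :
    awayLift a h (algebraMap A (Localization.Away a) x) = algebraMap A L x :=
  IsLocalization.Away.lift_eq a h x

/-- Towers between localizations. -/
theorem tower_of_away {A L M : Type u} [CommRing A] [CommRing L] [CommRing M] (a : A)
    [Algebra A L] [Algebra A M] [Algebra L M] [IsScalarTower A L M] [Algebra (Localization.Away a) L]
    [IsScalarTower A (Localization.Away a) L] [Algebra (Localization.Away a) M]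
    [IsScalarTower A (Localization.Away a) M] : IsScalarTower (Localization.Away a) L M := by
  refine IsScalarTower.of_algebraMap_eq' (IsLocalization.ringHom_ext (Submonoid.powers a) (RingHom.ext fun x => ?_))
  simp only [RingHom.comp_apply, ← IsScalarTower.algebraMap_apply]

set_option maxHeartbeats 2000000 in
/-- A standard shrinking of a one-step devissage at a point. -/
theorem exists_shrinking
    (R S : Type u) [CommRing R] [CommRing S] [Algebra R S] [Algebra.FiniteType R S]
    (N : Type u) [AddCommGroup N] [Module S N] [Module R N] [IsScalarTower R S N] [Module.Finite S N]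
    (p : Ideal R) [p.IsPrime] (q : Ideal S) [q.IsPrime] [q.LiesOver p]
    (C D G : Type u) [CommRing C] [CommRing D] [Algebra S C] [Algebra R C] [IsScalarTower R S C]
    [Algebra R D] [Algebra D C] [IsScalarTower R D C] [AddCommGroup G] [Module C G] [Module S G]
    [IsScalarTower S C G] (n : ℕ)
    (h : FlatCA.IsOneStepDevissage R S N p C D G n)
    (z : Ideal C) [z.IsPrime] (y : Ideal D) [y.IsPrime] [z.LiesOver q] [z.LiesOver y] [y.LiesOver p]
    (h1 : ∃ (ξ : PrimeSpectrum (p.Fiber S)) (hξ : ξ ∈ Module.support (p.Fiber S) (FlatCA.fiberMod p S N)),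
      ξ.asIdeal = FlatCA.fiberIdeal p q ∧
      FlatMor.localDim (Module.support (p.Fiber S) (FlatCA.fiberMod p S N)) ⟨ξ, hξ⟩ = n)
    (h3 : ∀ (z₁ : Ideal C) [z₁.IsPrime], z₁.LiesOver y → z₁ = z)
    (h4 : FlatCA.PurelyTranscendental p y)
    (g : R) (hX : S) (hZ : C) (hY : D) (hgp : g ∉ p) (hXq : hX ∉ q) (hZz : hZ ∉ z) (hYy : hY ∉ y)
    (hgX : algebraMap R S g ∣ hX) (hgY : algebraMap R D g ∣ hY) (himg : algebraMap S C hX = hZ)
    (hdY : algebraMap D C hY ∣ hZ) {k : ℕ} (hdZ : hZ ∣ algebraMap D C hY ^ k)
    (hd : ∀ p₀ : Ideal R, p₀.IsPrime → g ∉ p₀ → ∃ Q : Ideal D, Q.IsPrime ∧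
      Q.comap (algebraMap R D) = p₀ ∧ hY ∉ Q) :
    ∃ (_ : Algebra (Localization.Away g) (Localization.Away hX)) (_ : IsScalarTower R (Localization.Away g) (Localization.Away hX))
        (_ : Algebra (Localization.Away g) (Localization.Away hZ)) (_ : IsScalarTower R (Localization.Away g) (Localization.Away hZ))
        (_ : Algebra (Localization.Away g) (Localization.Away hY)) (_ : IsScalarTower R (Localization.Away g) (Localization.Away hY))
        (_ : Algebra (Localization.Away hX) (Localization.Away hZ)) (_ : IsScalarTower S (Localization.Away hX) (Localization.Away hZ))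
        (_ : IsScalarTower (Localization.Away g) (Localization.Away hX) (Localization.Away hZ))
        (_ : Algebra (Localization.Away hY) (Localization.Away hZ)) (_ : IsScalarTower D (Localization.Away hY) (Localization.Away hZ))
        (_ : IsScalarTower (Localization.Away g) (Localization.Away hY) (Localization.Away hZ))
        (_ : Module (Localization.Away g) (LocalizedModule (Submonoid.powers hX) N)) (_ : IsScalarTower (Localization.Away g) (Localization.Away hX) (LocalizedModule (Submonoid.powers hX) N))
        (_ : Module (Localization.Away hX) (LocalizedModule (Submonoid.powers hZ) G)) (_ : IsScalarTower (Localization.Away hX) (Localization.Away hZ) (LocalizedModule (Submonoid.powers hZ) G))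
        (_ : (Ideal.map (algebraMap R (Localization.Away g)) p).IsPrime) (_ : (Ideal.map (algebraMap D (Localization.Away hY)) y).IsPrime) (_ : (Ideal.map (algebraMap D (Localization.Away hY)) y).LiesOver (Ideal.map (algebraMap R (Localization.Away g)) p)),
        FlatCA.IsOneStepDevissage (Localization.Away g) (Localization.Away hX) (LocalizedModule (Submonoid.powers hX) N) (Ideal.map (algebraMap R (Localization.Away g)) p) (Localization.Away hZ) (Localization.Away hY) (LocalizedModule (Submonoid.powers hZ) G) n ∧
        (∃ (ξ : PrimeSpectrum ((Ideal.map (algebraMap R (Localization.Away g)) p).Fiber (Localization.Away hX)))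
            (hξ : ξ ∈ Module.support ((Ideal.map (algebraMap R (Localization.Away g)) p).Fiber (Localization.Away hX)) (FlatCA.fiberMod (Ideal.map (algebraMap R (Localization.Away g)) p) (Localization.Away hX) (LocalizedModule (Submonoid.powers hX) N))),
          ξ.asIdeal = FlatCA.fiberIdeal (Ideal.map (algebraMap R (Localization.Away g)) p) (Ideal.map (algebraMap S (Localization.Away hX)) q) ∧
          FlatMor.localDim (Module.support ((Ideal.map (algebraMap R (Localization.Away g)) p).Fiber (Localization.Away hX)) (FlatCA.fiberMod (Ideal.map (algebraMap R (Localization.Away g)) p) (Localization.Away hX) (LocalizedModule (Submonoid.powers hX) N))) ⟨ξ, hξ⟩ = n) ∧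
        (Ideal.map (algebraMap C (Localization.Away hZ)) z).LiesOver (Ideal.map (algebraMap S (Localization.Away hX)) q) ∧ (Ideal.map (algebraMap C (Localization.Away hZ)) z).LiesOver (Ideal.map (algebraMap D (Localization.Away hY)) y) ∧
        (∀ (z₂ : Ideal (Localization.Away hZ)) [z₂.IsPrime], z₂.LiesOver (Ideal.map (algebraMap D (Localization.Away hY)) y) → z₂ = Ideal.map (algebraMap C (Localization.Away hZ)) z) ∧
        FlatCA.PurelyTranscendental (Ideal.map (algebraMap R (Localization.Away g)) p) (Ideal.map (algebraMap D (Localization.Away hY)) y) := by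
  obtain ⟨⟨e⟩, hsurj, hfp, hfin, hG, hsm, hgi, hdim⟩ := h
  haveI := hG
  have hu : ∀ {A : Type u} [CommRing A] [Algebra R A] (a : A), algebraMap R A g ∣ a →
      IsUnit (algebraMap R (Localization.Away a) g) := by
    intro A _ _ a ha
    rw [IsScalarTower.algebraMap_apply R A (Localization.Away a)]
    exact isUnit_of_dvd_unit (map_dvd _ ha) (IsLocalization.Away.algebraMap_isUnit a)
  have hgZ : algebraMap R C g ∣ hZ := by
    rw [← himg, IsScalarTower.algebraMap_apply R S C]
    exact map_dvd _ hgX
  letI : Algebra (Localization.Away g) (Localization.Away hX) := (awayLift g (hu hX hgX)).toAlgebra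
  letI : Algebra (Localization.Away g) (Localization.Away hZ) := (awayLift g (hu hZ hgZ)).toAlgebra
  letI : Algebra (Localization.Away g) (Localization.Away hY) := (awayLift g (hu hY hgY)).toAlgebra
  haveI : IsScalarTower R (Localization.Away g) (Localization.Away hX) :=
    .of_algebraMap_eq fun r => (awayLift_algebraMap g (hu hX hgX) r).symm
  haveI : IsScalarTower R (Localization.Away g) (Localization.Away hZ) :=
    .of_algebraMap_eq fun r => (awayLift_algebraMap g (hu hZ hgZ) r).symm
  haveI : IsScalarTower R (Localization.Away g) (Localization.Away hY) :=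
    .of_algebraMap_eq fun r => (awayLift_algebraMap g (hu hY hgY) r).symm
  have hXZ : IsUnit (algebraMap S (Localization.Away hZ) hX) := by
    rw [IsScalarTower.algebraMap_apply S C (Localization.Away hZ), himg]
    exact IsLocalization.Away.algebraMap_isUnit hZ
  have hYZ : IsUnit (algebraMap D (Localization.Away hZ) hY) := by
    rw [IsScalarTower.algebraMap_apply D C (Localization.Away hZ)]
    exact isUnit_of_dvd_unit (map_dvd _ hdY) (IsLocalization.Away.algebraMap_isUnit hZ)
  letI : Algebra (Localization.Away hX) (Localization.Away hZ) := (awayLift hX hXZ).toAlgebra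
  letI : Algebra (Localization.Away hY) (Localization.Away hZ) := (awayLift hY hYZ).toAlgebra
  haveI : IsScalarTower S (Localization.Away hX) (Localization.Away hZ) :=
    .of_algebraMap_eq fun r => (awayLift_algebraMap hX hXZ r).symm
  haveI : IsScalarTower D (Localization.Away hY) (Localization.Away hZ) :=
    .of_algebraMap_eq fun r => (awayLift_algebraMap hY hYZ r).symm
  haveI : IsScalarTower R (Localization.Away hX) (Localization.Away hZ) := .of_algebraMap_eq fun r => by
    rw [IsScalarTower.algebraMap_apply R S (Localization.Away hX), ← IsScalarTower.algebraMap_apply S (Localization.Away hX) (Localization.Away hZ),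
      ← IsScalarTower.algebraMap_apply R S (Localization.Away hZ)]
  haveI : IsScalarTower R D (Localization.Away hZ) := .of_algebraMap_eq fun r => by
    rw [IsScalarTower.algebraMap_apply R C (Localization.Away hZ), IsScalarTower.algebraMap_apply R D C,
      ← IsScalarTower.algebraMap_apply D C (Localization.Away hZ)]
  haveI : IsScalarTower R (Localization.Away hY) (Localization.Away hZ) := .of_algebraMap_eq fun r => by
    rw [IsScalarTower.algebraMap_apply R D (Localization.Away hY), ← IsScalarTower.algebraMap_apply D (Localization.Away hY) (Localization.Away hZ),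
      ← IsScalarTower.algebraMap_apply R D (Localization.Away hZ)]
  haveI : IsScalarTower (Localization.Away g) (Localization.Away hX) (Localization.Away hZ) := tower_of_away g
  haveI : IsScalarTower (Localization.Away g) (Localization.Away hY) (Localization.Away hZ) := tower_of_away g
  letI : Module (Localization.Away g) (LocalizedModule (Submonoid.powers hX) N) :=
    Module.compHom _ (algebraMap (Localization.Away g) (Localization.Away hX))
  haveI : IsScalarTower (Localization.Away g) (Localization.Away hX) (LocalizedModule (Submonoid.powers hX) N) :=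
    .of_algebraMap_smul fun _ _ => rfl
  letI : Module (Localization.Away hX) (LocalizedModule (Submonoid.powers hZ) G) :=
    Module.compHom _ (algebraMap (Localization.Away hX) (Localization.Away hZ))
  haveI : IsScalarTower (Localization.Away hX) (Localization.Away hZ) (LocalizedModule (Submonoid.powers hZ) G) :=
    .of_algebraMap_smul fun _ _ => rfl
  haveI hp' : (p.map (algebraMap R (Localization.Away g))).IsPrime := isPrime_map g p hgp
  haveI hy' : (y.map (algebraMap D (Localization.Away hY))).IsPrime := isPrime_map hY y hYy
  haveI hq' : (q.map (algebraMap S (Localization.Away hX))).IsPrime := isPrime_map hX q hXq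
  haveI hpp : (p.map (algebraMap R (Localization.Away g))).LiesOver p := ⟨(comap_map g p hgp).symm⟩
  haveI hyy : (y.map (algebraMap D (Localization.Away hY))).LiesOver y := ⟨(comap_map hY y hYy).symm⟩
  haveI hqq : (q.map (algebraMap S (Localization.Away hX))).LiesOver q := ⟨(comap_map hX q hXq).symm⟩
  haveI hyp : (y.map (algebraMap D (Localization.Away hY))).LiesOver (p.map (algebraMap R (Localization.Away g))) :=
    liesOver_map g hY p y hYy
  haveI hqp : (q.map (algebraMap S (Localization.Away hX))).LiesOver (p.map (algebraMap R (Localization.Away g))) :=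
    liesOver_map g hX p q hXq
  haveI : IsLocalization (Algebra.algebraMapSubmonoid C (Submonoid.powers hX)) (Localization.Away hZ) := by
    rw [Algebra.algebraMapSubmonoid, Submonoid.map_powers, himg]
    infer_instance
  haveI : Algebra.IsPushout S (Localization.Away hX) C (Localization.Away hZ) :=
    (Algebra.isPushout_of_isLocalization (Submonoid.powers hX) (Localization.Away hX) C (Localization.Away hZ)).symm
  haveI : IsLocalization.Away (algebraMap D C hY) (Localization.Away hZ) := away_of_isUnit (r := hZ)
    (by rw [← IsScalarTower.algebraMap_apply]; exact hYZ) hdZ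
  haveI : IsLocalization (Algebra.algebraMapSubmonoid C (Submonoid.powers hY)) (Localization.Away hZ) := by
    rw [Algebra.algebraMapSubmonoid, Submonoid.map_powers]
    exact (inferInstance : IsLocalization.Away (algebraMap D C hY) (Localization.Away hZ))
  haveI : Algebra.IsPushout D (Localization.Away hY) C (Localization.Away hZ) :=
    (Algebra.isPushout_of_isLocalization (Submonoid.powers hY) (Localization.Away hY) C (Localization.Away hZ)).symm
  haveI : IsScalarTower S C (LocalizedModule (Submonoid.powers hZ) G) :=
    .of_algebraMap_smul fun s x => by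
      induction x using LocalizedModule.induction_on with
      | h m t => rw [LocalizedModule.smul'_mk, algebraMap_smul, LocalizedModule.smul'_mk]
  haveI : IsScalarTower S (Localization.Away hX) (LocalizedModule (Submonoid.powers hZ) G) :=
    .of_algebraMap_smul fun s x => by
      show algebraMap (Localization.Away hX) (Localization.Away hZ) (algebraMap S (Localization.Away hX) s) • x = _
      rw [← IsScalarTower.algebraMap_apply, IsScalarTower.algebraMap_apply S C (Localization.Away hZ),
        IsScalarTower.algebraMap_smul (Localization.Away hZ), algebraMap_smul]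
  have hg' : IsBaseChange (Localization.Away hZ) (LocalizedModule.mkLinearMap (Submonoid.powers hZ) G) :=
    IsLocalizedModule.isBaseChange (Submonoid.powers hZ) _ _
  have hf : IsBaseChange (Localization.Away hX) (LocalizedModule.mkLinearMap (Submonoid.powers hX) N) :=
    IsLocalizedModule.isBaseChange (Submonoid.powers hX) _ _
  have hb := (DevissageBC.isBaseChange_bc (S := S) (S' := Localization.Away hX) _ hg').comp_equiv e
  have hinj : ∀ Q : Ideal (Localization.Away g), Q.IsPrime → Q.comap (algebraMap R (Localization.Away g)) = p →
      Q = p.map (algebraMap R (Localization.Away g)) := fun Q _ hQ => eq_map_of_comap g p Q hQ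
  have hop := PrimeSpectrum.localization_away_isOpenEmbedding (Localization.Away hX) hX
  haveI := smooth_of_smoothRelDim hsm
  refine ⟨_, ‹_›, _, ‹_›, _, ‹_›, _, ‹_›, ‹_›, _, ‹_›, ‹_›, _, ‹_›, _, ‹_›, hp', hy', hyp,
    ⟨⟨hf.equiv.symm ≪≫ₗ hb.equiv⟩,
      DevissageBC.surjective_bc (S := S) (C := C) hsurj,
      DevissageBC.finitePresentation_bc (S := S) (C := C) hfp,
      DevissageBC.finite_bc (S := D) (C := C) hfin,
      Module.Finite.equiv hg'.equiv,
      smoothRelDim_away g hY hsm,
      geomIrredFibres_of_fibresDomain (fibresDomain_away g hY (fibresDomain_of_smooth_geomIrred hgi) hd),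
      supportDim_eq p _ hinj hop N (LocalizedModule (Submonoid.powers hX) N) _ hf q
        (q.map (algebraMap S (Localization.Away hX))) hdim h1⟩,
    localDim_support p _ hinj hop N (LocalizedModule (Submonoid.powers hX) N) _ hf q
      (q.map (algebraMap S (Localization.Away hX))) h1,
    liesOver_map hX hZ q z hZz, liesOver_map hY hZ y z hZz,
    fun z₂ _ hz₂ => eq_map_of_liesOver hY hZ y z hYy h3 z₂ hz₂,
    purelyTranscendental_transfer p (p.map (algebraMap R (Localization.Away g))) y
      (y.map (algebraMap D (Localization.Away hY))) (bijective_residueField g p _)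
      (bijective_residueField hY y _) h4⟩

/-- The choice of the shrinking elements. -/
theorem exists_shrinking_elements
    {R S C D : Type u} [CommRing R] [CommRing S] [CommRing C] [CommRing D] [Algebra R S] [Algebra S C]
    [Algebra R C] [IsScalarTower R S C] [Algebra R D] [Algebra D C] [IsScalarTower R D C] [Algebra.Smooth R D]
    (hsurj : Surjective (algebraMap S C)) (p : Ideal R) [p.IsPrime] (q : Ideal S) [q.IsPrime]
    (z : Ideal C) [z.IsPrime] (y : Ideal D) [y.IsPrime] [z.LiesOver q] [z.LiesOver y] [y.LiesOver p]
    (w : D) (hw : w ∉ y) (u : S) (hu : algebraMap S C u ∣ algebraMap D C w) :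
    ∃ (g : R) (hX : S), g ∉ p ∧ hX ∉ q ∧ algebraMap S C hX ∉ z ∧ w * algebraMap R D g ∉ y ∧ u ∣ hX ∧
      algebraMap R S g ∣ hX ∧
      algebraMap D C (w * algebraMap R D g) ∣ algebraMap S C hX ∧
      algebraMap S C hX ∣ algebraMap D C (w * algebraMap R D g) ^ 2 ∧
      ∀ p₀ : Ideal R, p₀.IsPrime → g ∉ p₀ → ∃ Q : Ideal D, Q.IsPrime ∧
        Q.comap (algebraMap R D) = p₀ ∧ w * algebraMap R D g ∉ Q := by
  obtain ⟨g, hg, hd⟩ := exists_notMem_forall_lift p y w hw
  obtain ⟨x, hx⟩ := hsurj (algebraMap D C w)
  have hgz : algebraMap R C g ∉ z := fun h => hg <| by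
    rw [y.over_def p, z.over_def y]
    show algebraMap D C (algebraMap R D g) ∈ z
    rwa [← IsScalarTower.algebraMap_apply]
  have hwz : algebraMap D C w ∉ z := fun h => hw (by rw [z.over_def y]; exact h)
  obtain ⟨c, hc⟩ := hu
  have huz : algebraMap S C u ∉ z := fun h => hwz (hc ▸ z.mul_mem_right c h)
  have hZ : algebraMap S C (x * algebraMap R S g * u) ∉ z := by
    rw [map_mul, map_mul, hx, ← IsScalarTower.algebraMap_apply]
    exact Ideal.IsPrime.mul_notMem ‹_› (Ideal.IsPrime.mul_notMem ‹_› hwz hgz) huz
  refine ⟨g, x * algebraMap R S g * u, hg, fun h => hZ ?_, hZ,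
    Ideal.IsPrime.mul_notMem ‹_› hw (fun h => hg (by rw [y.over_def p]; exact h)), dvd_mul_left _ _,
    ⟨x * u, by ring⟩, ?_, ?_, fun p₀ hp₀ hgp₀ => ?_⟩
  · have := (z.over_def q).le h
    exact this
  · rw [map_mul, map_mul, map_mul, hx, ← IsScalarTower.algebraMap_apply, ← IsScalarTower.algebraMap_apply]
    exact dvd_mul_right _ _
  · rw [map_mul, map_mul, map_mul, hx, ← IsScalarTower.algebraMap_apply, ← IsScalarTower.algebraMap_apply]
    exact ⟨algebraMap R C g * c, by rw [hc]; ring⟩
  · obtain ⟨Q, hQ, hQo, hwQ⟩ := hd p₀ hp₀ hgp₀
    exact ⟨Q, hQ, hQo, Ideal.IsPrime.mul_notMem hQ hwQ (fun h => hgp₀ (hQo ▸ h))⟩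

end Groth.Agent.FlatCx12.DevissageShrink
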