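import Groth.Agent.FlatCx12.BC
import Mathlib.Algebra.Homology.HomologicalComplexAbelian
import Mathlib.Algebra.Homology.HomologySequence
import Mathlib.Algebra.Homology.ShortComplex.ModuleCat

/-!
# Finiteness of `T_n(M)` for finite `M`
-/

universe u

set_option backward.isDefEq.respectTransparency false

namespace Groth.Agent.FlatCx12

open TensorProduct Function CategoryTheory CategoryTheory.Limits Groth.Agent.FlatCxLib

variable {A : Type u} [CommRing A] [IsNoetherianRing A] {P : ChainComplex (ModuleCat.{u} A) ℤ}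

theorem finite_T_pi (hP : ∀ i, Module.Flat A (P.X i)) (n : ℤ)
    (hA : Module.Finite A (CohIII.T P n (ModuleCat.of A A))) (r : ℕ) :
    Module.Finite A (CohIII.T P n (ModuleCat.of A (Fin r → A))) := by
  induction r with
  | zero =>
    have : Subsingleton (CohIII.T P n (ModuleCat.of A (Fin 0 → A))) := by
      rw [← ModuleCat.isZero_iff_subsingleton]
      exact (isZero_T_iff (n + 1) n (n - 1) rfl (by omega) _).mpr fun x _ => ⟨0, Subsingleton.elim _ _⟩
    infer_instance
  | succ r ih =>
    let φ : ModuleCat.of A A ⟶ ModuleCat.of A (Fin (r + 1) → A) :=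
      ModuleCat.ofHom (LinearMap.single A (fun _ : Fin (r + 1) => A) 0)
    let ψ : ModuleCat.of A (Fin (r + 1) → A) ⟶ ModuleCat.of A (Fin r → A) :=
      ModuleCat.ofHom (LinearMap.funLeft A A Fin.succ)
    have hφ : ∀ a : A, φ.hom a = Pi.single (M := fun _ : Fin (r + 1) => A) 0 a := fun a => rfl
    have hψ : ∀ (x : Fin (r + 1) → A) (j : Fin r), ψ.hom x j = x j.succ := fun x j => rfl
    have h := TFun_exact (P := P) n hP φ ψ
      (fun a b hab => by
        have h0 := congrFun hab 0
        rwa [hφ, hφ, Pi.single_eq_same, Pi.single_eq_same] at h0)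
      (fun x => ⟨Fin.cons 0 x, funext fun i => by rw [hψ]; exact Fin.cons_succ (α := fun _ => A) _ _ i⟩)
      (fun x => ⟨fun hx => ⟨x 0, by
        funext i
        rw [hφ]
        refine Fin.cases ?_ (fun j => ?_) i
        · exact Pi.single_eq_same _ _
        · rw [Pi.single_eq_of_ne (Fin.succ_ne_zero j), ← hψ x, hx]
          rfl⟩,
        fun ⟨a, ha⟩ => ha ▸ funext fun j => by
          rw [hψ, hφ, Pi.single_eq_of_ne (Fin.succ_ne_zero j)]
          rfl⟩)
    have : IsNoetherian A ((CohIII.TFun P n).obj (ModuleCat.of A A)) :=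
      @isNoetherian_of_isNoetherianRing_of_finite A _ _ _ _ _ hA
    have : IsNoetherian A ((CohIII.TFun P n).obj (ModuleCat.of A (Fin r → A))) :=
      @isNoetherian_of_isNoetherianRing_of_finite A _ _ _ _ _ ih
    have := isNoetherian_of_range_eq_ker _ _ (LinearMap.exact_iff.mp h).symm
    exact (inferInstance : Module.Finite A ((CohIII.TFun P n).obj (ModuleCat.of A (Fin (r + 1) → A))))

theorem finite_T (hP : ∀ i, Module.Flat A (P.X i)) (i₀ : ℤ) (hb : ∀ i < i₀, IsZero (P.X i))
    (hfg : ∀ n : ℤ, Module.Finite A (CohIII.T P n (ModuleCat.of A A))) (n : ℤ) (M : ModuleCat.{u} A)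
    [Module.Finite A M] : Module.Finite A (CohIII.T P n M) := by
  suffices h : ∀ k : ℕ, ∀ n : ℤ, n < i₀ + k → ∀ (M : ModuleCat.{u} A) [Module.Finite A M],
      Module.Finite A (CohIII.T P n M) from h ((n - i₀).toNat + 1) n (by omega) M
  intro k
  induction k with
  | zero =>
    intro n hn M _
    have := ModuleCat.isZero_iff_subsingleton.mp (hb n (by omega))
    have : Subsingleton (CohIII.T P n M) := by
      rw [← ModuleCat.isZero_iff_subsingleton]
      exact (isZero_T_iff (n + 1) n (n - 1) rfl (by omega) _).mpr fun x _ =>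
        ⟨0, Subsingleton.elim _ _⟩
    infer_instance
  | succ k ih =>
    intro n hn M _
    obtain ⟨r, π, hπ⟩ := Module.Finite.exists_fin' A M
    let F := ModuleCat.of A (Fin r → A)
    let K := ModuleCat.of A (LinearMap.ker π)
    let ι : K ⟶ F := ModuleCat.ofHom (LinearMap.ker π).subtype
    let p : F ⟶ M := ModuleCat.ofHom π
    let X : ShortComplex (ChainComplex (ModuleCat.{u} A) ℤ) :=
      ShortComplex.mk (CohIII.tensorMap P ι) (CohIII.tensorMap P p) (by
        refine HomologicalComplex.hom_ext _ _ fun i => ModuleCat.hom_ext ?_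
        show p.hom.lTensor (P.X i) ∘ₗ ι.hom.lTensor (P.X i) = 0
        rw [← LinearMap.lTensor_comp, show p.hom ∘ₗ ι.hom = 0 from LinearMap.ext fun z => z.2,
          LinearMap.lTensor_zero])
    have hX : X.ShortExact := by
      refine HomologicalComplex.shortExact_of_degreewise_shortExact X fun i => ?_
      have := hP i
      exact
        { exact := (ShortComplex.ShortExact.moduleCat_exact_iff_function_exact _).mpr
            (lTensor_exact (P.X i) (LinearMap.exact_subtype_ker_map π) hπ)
          mono_f := (ModuleCat.mono_iff_injective _).mpr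
            (Module.Flat.lTensor_preserves_injective_linearMap _ Subtype.val_injective)
          epi_g := (ModuleCat.epi_iff_surjective _).mpr (LinearMap.lTensor_surjective _ hπ) }
    have hex := (ShortComplex.ShortExact.moduleCat_exact_iff_function_exact _).mp
      (hX.homology_exact₃ n (n - 1) (show n - 1 + 1 = n by omega))
    have : IsNoetherian A (X.X₂.homology n) :=
      @isNoetherian_of_isNoetherianRing_of_finite A _ _ _ _ _ (finite_T_pi hP n (hfg n) r)
    have : IsNoetherian A (X.X₁.homology (n - 1)) :=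
      @isNoetherian_of_isNoetherianRing_of_finite A _ _ _ _ _ (ih (n - 1) (by omega) K)
    have := isNoetherian_of_range_eq_ker _ _ (LinearMap.exact_iff.mp hex).symm
    exact (inferInstance : Module.Finite A (X.X₃.homology n))

theorem finite_homologyQuot_baseChange (hP : ∀ i, Module.Flat A (P.X i)) (i₀ : ℤ)
    (hb : ∀ i < i₀, IsZero (P.X i)) (hfg : ∀ n : ℤ, Module.Finite A (CohIII.T P n (ModuleCat.of A A)))
    (B : Type u) [CommRing B] [Algebra A B] [Module.Finite A B] (q p r : ℤ) (hqp : p + 1 = q) (hpr : r + 1 = p) :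
    Module.Finite B (homologyQuot ((P.d q p).hom.baseChange B) ((P.d p r).hom.baseChange B)) := by
  let K := CohIII.tensorObj P (ModuleCat.of A B)
  have := finite_T hP i₀ hb hfg p (ModuleCat.of A B)
  let f := (P.d q p).hom
  let g := (P.d p r).hom
  let Q := homologyQuot (f.baseChange B) (g.baseChange B)
  let c : LinearMap.ker (g.rTensor B) →ₗ[A] LinearMap.ker (g.baseChange B) :=
    ((TensorProduct.comm A (P.X p) B).toLinearMap ∘ₗ (LinearMap.ker (g.rTensor B)).subtype).codRestrict
      ((LinearMap.ker (g.baseChange B)).restrictScalars A) fun z => by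
        show g.lTensor B (TensorProduct.comm A (P.X p) B z) = 0
        have := z.2
        rw [LinearMap.mem_ker] at this
        rw [LinearMap.lTensor, TensorProduct.map_comm]
        exact (congrArg (TensorProduct.comm A (P.X r) B) this).trans (map_zero _)
  let ψ : LinearMap.ker (g.rTensor B) →ₗ[A] Q := (Submodule.mkQ _).restrictScalars A ∘ₗ c
  let κ : LinearMap.ker (g.rTensor B) →ₗ[A] K.homology p := cls K p r hpr
  have hψ : Surjective ψ := by
    intro y
    obtain ⟨⟨z, hz⟩, rfl⟩ := Submodule.mkQ_surjective _ y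
    refine ⟨⟨(TensorProduct.comm A (P.X p) B).symm z, ?_⟩, ?_⟩
    · rw [LinearMap.mem_ker, LinearMap.rTensor]
      apply (TensorProduct.comm A (P.X r) B).injective
      rw [map_zero, ← TensorProduct.map_comm, LinearEquiv.apply_symm_apply]
      exact hz
    · show Submodule.mkQ _ _ = Submodule.mkQ _ _
      congr 1
      exact Subtype.ext ((TensorProduct.comm A (P.X p) B).apply_symm_apply z)
  have hle : LinearMap.ker κ ≤ LinearMap.ker ψ := by
    intro z hz
    obtain ⟨w, hw⟩ := (cls_eq_zero_iff K q p r hqp hpr z).mp hz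
    refine (Submodule.Quotient.mk_eq_zero _).mpr ⟨TensorProduct.comm A (P.X q) B w, ?_⟩
    show f.lTensor B (TensorProduct.comm A (P.X q) B w) = TensorProduct.comm A (P.X p) B z
    rw [LinearMap.lTensor, TensorProduct.map_comm]
    exact congrArg (TensorProduct.comm A (P.X p) B) hw
  let ψ' : K.homology p →ₗ[A] Q := (LinearMap.ker κ).liftQ ψ hle ∘ₗ
    (κ.quotKerEquivOfSurjective (cls_surjective K p r hpr)).symm.toLinearMap
  have hψ' : Surjective ψ' := by
    intro y
    obtain ⟨z, rfl⟩ := hψ y
    refine ⟨κ z, ?_⟩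
    simp [ψ', LinearMap.quotKerEquivOfSurjective_symm_apply]
  have : Module.Finite A (K.homology p) := ‹_›
  have := Module.Finite.of_surjective ψ' hψ'
  exact Module.Finite.of_restrictScalars_finite A B Q

end Groth.Agent.FlatCx12
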