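import Groth.Agent.HenselLib.Perm
import Groth.Agent.HenselLib.LocalHens
import Groth.Agent.AlgSpLib.SourceRingEtale

/-!
# The hull of a quotient is the quotient of the hull
-/

set_option autoImplicit false
set_option backward.isDefEq.respectTransparency false
universe u

namespace Groth.Agent.FlatCx12.HullSurj

open HenselLib

variable {P S K : Type u} [CommRing P] [CommRing S] [Field K] [Algebra P S] [Algebra P K]
  [Algebra S K] [IsScalarTower P S K]

/-- Maps out of the hull into an algebra henselian at a surjective point. -/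
theorem existsUnique_of_point {R C : Type u} [CommRing R] [CommRing C] [Algebra R C] [Algebra R K]
    (π : C →ₐ[R] K) (hπ : Function.Surjective π) [HenselianRing C (RingHom.ker π)] :
    ∃! g : Hull R K →ₐ[R] C, π.comp g = hullPt R K := by
  let e : (C ⧸ RingHom.ker π) ≃ₐ[R] K := Ideal.quotientKerAlgEquivOfSurjective hπ
  have key : ∀ g : Hull R K →ₐ[R] C, π.comp g = hullPt R K ↔
      (Ideal.Quotient.mkₐ R (RingHom.ker π)).comp g = e.symm.toAlgHom.comp (hullPt R K) := fun g => by
    constructor
    · intro h
      refine AlgHom.ext fun x => e.injective ?_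
      show e (Ideal.Quotient.mk _ (g x)) = e (e.symm (hullPt R K x))
      rw [e.apply_symm_apply]
      exact congr($h x)
    · intro h
      refine AlgHom.ext fun x => ?_
      have := congrArg e (congr($h x))
      show π (g x) = _
      exact this.trans (e.apply_symm_apply _)
  simpa only [key] using hull_universal (RingHom.ker π) e.symm.toAlgHom

theorem hullPt_surjective_of_surjective (hs : Function.Surjective (algebraMap P S))
    (h : Function.Surjective (hullPt S K)) : Function.Surjective (hullPt P K) := by
  intro x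
  obtain ⟨y, rfl⟩ := h x
  obtain ⟨A, a, rfl⟩ := exists_rep y
  rw [hullPt_ι]
  have : (RingHom.ker A.pt).IsPrime := RingHom.ker_isPrime _
  have hat : Algebra.IsEtaleAt S (RingHom.ker A.pt) :=
    Set.eq_univ_iff_forall.1 (Algebra.etaleLocus_eq_univ_iff.mpr
      (inferInstance : Algebra.FormallyEtale S A.Ring))
      (⟨RingHom.ker A.pt, this⟩ : PrimeSpectrum A.Ring)
  obtain ⟨f, hf, hstd⟩ := Algebra.IsEtaleAt.exists_isStandardEtale (R := S) (RingHom.ker A.pt)
  let σf : Localization.Away f →ₐ[S] K :=
    IsLocalization.Away.liftAlgHom f (f := A.pt) (Ne.isUnit hf)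
  obtain ⟨pr, σ, hσ, -⟩ := AlgSpLib.exists_lift_standardEtale (P := P) (A := S)
    (T := Localization.Away f) hs
  obtain ⟨g, hg⟩ := exists_map_of_etale ((σf.restrictScalars P).comp σ)
  obtain ⟨b, hb⟩ := hσ (algebraMap A.Ring _ a)
  refine ⟨g b, ?_⟩
  show ((hullPt P K).comp g) b = _
  rw [hg]
  show σf (σ b) = _
  rw [hb]
  simp [σf]

/-- The canonical map between the hulls of a surjection, with its kernel. -/
theorem exists_surjective (hs : Function.Surjective (algebraMap P S))
    (h : Function.Surjective (hullPt S K)) :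
    ∃ φ : Hull P K →+* Hull S K, Function.Surjective φ ∧
      (∀ r, φ (algebraMap P (Hull P K) r) = algebraMap S (Hull S K) (algebraMap P S r)) ∧
      RingHom.ker φ = (RingHom.ker (algebraMap P S)).map (algebraMap P (Hull P K)) := by
  letI : Algebra P (Hull S K) := ((algebraMap S (Hull S K)).comp (algebraMap P S)).toAlgebra
  haveI : IsScalarTower P S (Hull S K) := IsScalarTower.of_algebraMap_eq' rfl
  let I := RingHom.ker (algebraMap P S)
  let IH := I.map (algebraMap P (Hull P K))
  have hP := hullPt_surjective_of_surjective (K := K) hs h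
  haveI : HenselianRing (Hull S K) (RingHom.ker ((hullPt S K).restrictScalars P)) :=
    henselianRing_hull
  obtain ⟨φ, hφ, -⟩ := existsUnique_of_point ((hullPt S K).restrictScalars P) h
  have hle : IH ≤ RingHom.ker φ := Ideal.map_le_iff_le_comap.2 fun r hr => by
    show φ (algebraMap P _ r) = 0
    rw [φ.commutes, IsScalarTower.algebraMap_apply P S (Hull S K), show algebraMap P S r = 0 from hr,
      map_zero]
  let C := Hull P K ⧸ IH
  let i : S →+* C := RingHom.liftOfSurjective (algebraMap P S) hs
    ⟨(Ideal.Quotient.mk IH).comp (algebraMap P (Hull P K)), fun r hr =>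
      Ideal.Quotient.eq_zero_iff_mem.2 (Ideal.mem_map_of_mem _ hr)⟩
  have hi : ∀ r, i (algebraMap P S r) = Ideal.Quotient.mk IH (algebraMap P _ r) := fun r =>
    RingHom.liftOfRightInverse_comp_apply (algebraMap P S) _ (Function.rightInverse_surjInv hs)
      ⟨(Ideal.Quotient.mk IH).comp (algebraMap P (Hull P K)), fun r hr =>
        Ideal.Quotient.eq_zero_iff_mem.2 (Ideal.mem_map_of_mem _ hr)⟩ r
  letI : Algebra S C := i.toAlgebra
  have hIH : ∀ z ∈ IH, hullPt P K z = 0 := fun z hz => by
    have h1 : hullPt S K (φ z) = 0 := by rw [show φ z = 0 from hle hz, map_zero]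
    exact (congr($hφ z)).symm.trans h1
  let π₀ : C →+* K := Ideal.Quotient.lift IH (hullPt P K).toRingHom hIH
  let π : C →ₐ[S] K := { π₀ with
    commutes' := fun s => by
      obtain ⟨r, rfl⟩ := hs s
      show π₀ (i _) = _
      rw [hi, ← IsScalarTower.algebraMap_apply]
      exact (hullPt P K).commutes r }
  have hπ : Function.Surjective π := fun x => by
    obtain ⟨z, hz⟩ := hP x
    exact ⟨Ideal.Quotient.mk IH z, hz⟩
  have hker : RingHom.ker π = (RingHom.ker (hullPt P K)).map (Ideal.Quotient.mk IH) := by
    refine le_antisymm (fun z hz => ?_) (Ideal.map_le_iff_le_comap.2 fun z hz => hz)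
    obtain ⟨w, rfl⟩ := Ideal.Quotient.mk_surjective z
    exact Ideal.mem_map_of_mem _ hz
  haveI : HenselianRing C (RingHom.ker π) := by
    rw [hker]
    exact henselianRing_quotient _ IH
  obtain ⟨ψ, hψ, -⟩ := existsUnique_of_point π hπ
  let φb : C →+* Hull S K := Ideal.Quotient.lift IH φ.toRingHom hle
  let φbS : C →ₐ[S] Hull S K := { φb with
    commutes' := fun s => by
      obtain ⟨r, rfl⟩ := hs s
      show φb (i _) = _
      rw [hi, ← IsScalarTower.algebraMap_apply]
      exact φ.commutes r }
  have h1 : φbS.comp ψ = AlgHom.id S (Hull S K) :=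
    (existsUnique_of_point (hullPt S K) h).unique
      (AlgHom.ext fun x => by
        show hullPt S K (φb (ψ x)) = _
        obtain ⟨w, hw⟩ := Ideal.Quotient.mk_surjective (ψ x)
        refine Eq.trans ?_ (congr($hψ x))
        show _ = π (ψ x)
        rw [← hw]
        exact congr($hφ w)) (AlgHom.comp_id _)
  let mkP : Hull P K →ₐ[P] C := Ideal.Quotient.mkₐ P IH
  let g2 : Hull P K →ₐ[P] C := { ψ.toRingHom.comp φ.toRingHom with
    commutes' := fun r => by
      show ψ (φ (algebraMap P _ r)) = _
      rw [φ.commutes, IsScalarTower.algebraMap_apply P S (Hull S K), ψ.commutes]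
      exact hi r }
  let πP : C →ₐ[P] K := { π₀ with commutes' := fun r => (hullPt P K).commutes r }
  haveI : HenselianRing C (RingHom.ker πP) := ‹HenselianRing C (RingHom.ker π)›
  have h2 : g2 = mkP :=
    (existsUnique_of_point πP hπ).unique
      (AlgHom.ext fun x => (congr($hψ (φ x))).trans (congr($hφ x))) (AlgHom.ext fun x => rfl)
  refine ⟨φ.toRingHom, fun y => ?_, fun r => φ.commutes r, le_antisymm (fun z hz => ?_) hle⟩
  · obtain ⟨w, hw⟩ := Ideal.Quotient.mk_surjective (ψ y)
    refine ⟨w, ?_⟩
    have := congr($h1 y)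
    change φb (ψ y) = y at this
    rwa [← hw] at this
  · have := congr($h2 z)
    change ψ (φ z) = Ideal.Quotient.mk IH z at this
    rw [show φ z = 0 from hz, map_zero] at this
    exact Ideal.Quotient.eq_zero_iff_mem.1 this.symm

end Groth.Agent.FlatCx12.HullSurj
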