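import Groth.Agent.CAlgH.RelativeCI
import Groth.Agent.CAlgH.CIOpen
import Groth.Agent.FlatMorKoszul.Fibre
import Groth.Agent.FlatMorKoszul.RegularLCI
import Groth.Agent.FlatMorKoszul.Presentation
import Groth.Agent.CAlgH.KoszulH1
import Mathlib.RingTheory.RingHom.Flat

/-!
# Cancellation for Koszul regularity: finite tor dimension and a lci composite
-/

set_option autoImplicit false
set_option backward.isDefEq.respectTransparency false
set_option linter.style.haveILetI false

universe u

open IsLocalRing RingTheory.Sequence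
open Groth.Agent.CAlgH Groth.Agent.CAlgH.KoszulRegular Groth.Agent.FlatMorKoszul

attribute [local instance] HasDerivedCategory.standard

namespace Groth.Agent.FlatCx12.LCICancel

variable {R : Type u} [CommRing R]

/-- An ideal generated by a regular sequence at a prime is Koszul regular near the prime. -/
theorem kAt_of_regular [IsNoetherianRing R] {I P : Ideal R} [P.IsPrime] (hIP : I ≤ P)
    (h : ∃ rs : List (Localization.AtPrime P), Ideal.ofList rs = I.map (algebraMap R (Localization.AtPrime P)) ∧
      IsWeaklyRegular (Localization.AtPrime P) rs) : KAt I P := by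
  obtain ⟨l, hI, hreg⟩ := h
  let A := Localization.AtPrime P
  have hK : KReg l.get := KoszulH1.kreg_of_isWeaklyRegular (by rw [List.ofFn_get]; exact hreg)
  have hmem : ∀ i, ∃ a : I, ∃ u : A, IsUnit u ∧ l.get i * u = algebraMap R A a := fun i => by
    obtain ⟨⟨a, m⟩, hm⟩ := (IsLocalization.mem_map_algebraMap_iff P.primeCompl A).1
      (show l.get i ∈ I.map (algebraMap R A) from hI ▸ Ideal.subset_span (List.get_mem l i))
    exact ⟨a, algebraMap R A m, IsLocalization.map_units A m, hm⟩
  choose a u hu hau using hmem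
  have hspan : Ideal.span (Set.range fun i => algebraMap R A (a i : R)) = Ideal.span (Set.range l.get) := by
    refine le_antisymm (Ideal.span_le.2 ?_) (Ideal.span_le.2 ?_)
    · rintro _ ⟨i, rfl⟩
      show algebraMap R A (a i : R) ∈ Ideal.span (Set.range l.get)
      rw [← hau]
      exact Ideal.mul_mem_right _ _ (Ideal.subset_span ⟨i, rfl⟩)
    · rintro _ ⟨i, rfl⟩
      refine (Ideal.mul_unit_mem_iff_mem _ (hu i)).1 ?_
      rw [hau]
      exact Ideal.subset_span ⟨i, rfl⟩
  refine KAt.of_atPrime hIP (fun i => (a i : R)) (fun i => (a i).2) (kreg_of_span_eq hK hspan) ?_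
  rw [hspan, Set.range_list_get]
  exact hI.symm

/-- Koszul regularity near a prime gives a regular sequence at the prime. -/
theorem regular_of_kAt [IsNoetherianRing R] {I P : Ideal R} [P.IsPrime] (hIP : I ≤ P) (h : KAt I P) :
    ∃ rs : List (Localization.AtPrime P), Ideal.ofList rs = I.map (algebraMap R (Localization.AtPrime P)) ∧
      IsRegular (Localization.AtPrime P) rs := by
  obtain ⟨g, hg, n, f, hfI, hf, hspan⟩ := h
  let A := Localization.AtPrime P
  have hu : IsUnit (algebraMap R A g) := IsLocalization.map_units A (⟨g, hg⟩ : P.primeCompl)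
  have hm : ∀ i, algebraMap R A (f i) ∈ maximalIdeal A := fun i =>
    (IsLocalization.AtPrime.to_map_mem_maximal_iff A P _).2 (hIP (hfI i))
  refine ⟨List.ofFn fun i => algebraMap R A (f i), ?_, RegularIdealLocal.isRegular_of_mem
    (KoszulH1.isWeaklyRegular_of_kreg (fun i => ?_) (kreg_of_isUnit P.primeCompl A hu hf)) fun r hr => ?_⟩
  · rw [map_eq_span_of_isUnit A hu hspan, RegularIdealLocal.ofList_ofFn]
  · rw [IsLocalRing.jacobson_eq_maximalIdeal ⊥ bot_ne_top]
    exact hm i
  · obtain ⟨i, rfl⟩ := List.mem_ofFn.1 hr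
    exact hm i

theorem isWeaklyRegular_map_ringEquiv {A B : Type u} [CommRing A] [CommRing B] (e : A ≃+* B) {rs : List A}
    (h : IsWeaklyRegular A rs) : IsWeaklyRegular B (rs.map e) :=
  (e.toAddEquiv.isWeaklyRegular_congr (as := rs) (bs := rs.map e) (List.forall₂_map_right_iff.2
    (List.forall₂_same.2 fun r _ => fun x => map_mul e r x))).1 h

theorem ofList_map_of_comp {S Q T : Type u} [CommRing S] [CommRing Q] [CommRing T] (π : S →+* Q) (e : Q ≃+* T)
    (f : S →+* T) (h : ∀ s, e (π s) = f s) {J : Ideal S} {rs : List Q} (hrs : Ideal.ofList rs = J.map π) :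
    Ideal.ofList (rs.map e) = J.map f := by
  have hf : (e : Q →+* T).comp π = f := RingHom.ext h
  rw [← hf, ← Ideal.map_map, ← hrs, Ideal.map_ofList]
  rfl

theorem localRingHom_square {B S C : Type u} [CommRing B] [CommRing S] [CommRing C] (α : R →+* B) (ι : R →+* S)
    (σ : B →+* C) (γ : S →+* C) (h : σ.comp α = γ.comp ι) (p : Ideal R) [p.IsPrime] (b : Ideal B) [b.IsPrime]
    (q : Ideal S) [q.IsPrime] (x : Ideal C) [x.IsPrime] (h₁ : p = b.comap α) (h₂ : b = x.comap σ)
    (h₃ : p = q.comap ι) (h₄ : q = x.comap γ) :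
    (Localization.localRingHom b x σ h₂).comp (Localization.localRingHom p b α h₁) =
      (Localization.localRingHom q x γ h₄).comp (Localization.localRingHom p q ι h₃) := by
  refine IsLocalization.ringHom_ext p.primeCompl (RingHom.ext fun a => ?_)
  simp only [RingHom.comp_apply, Localization.localRingHom_to_map]
  exact congrArg _ (RingHom.congr_fun h a)

/-- Localisation of a surjection. -/
theorem localRingHom_surjective {S : Type u} [CommRing S] (φ : R →+* S) (hφ : Function.Surjective φ)
    (p : Ideal R) [p.IsPrime] (b : Ideal S) [b.IsPrime] (hp : p = b.comap φ) :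
    Function.Surjective (Localization.localRingHom p b φ hp) ∧
      RingHom.ker (Localization.localRingHom p b φ hp) =
        (RingHom.ker φ).map (algebraMap R (Localization.AtPrime p)) := by
  have hM : p.primeCompl.map φ = b.primeCompl := by
    ext y
    constructor
    · rintro ⟨x, hx, rfl⟩ hy
      exact hx (show x ∈ p from hp ▸ hy)
    · intro hy
      obtain ⟨x, rfl⟩ := hφ y
      exact ⟨x, fun hx => hy (show φ x ∈ b from (hp ▸ hx : x ∈ b.comap φ)), rfl⟩
  have : IsLocalization (p.primeCompl.map φ) (Localization.AtPrime b) := by rw [hM]; infer_instance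
  exact ⟨IsLocalization.map_surjective_of_surjective (M := p.primeCompl) (S := Localization.AtPrime p)
    (Q := Localization.AtPrime b) hφ, IsLocalization.ker_map (Localization.AtPrime b) φ hM⟩

/-- The cancellation at the level of presentations. -/
theorem kAt_cancel {P B C : Type u} [CommRing P] [IsNoetherianRing P] [CommRing B] [CommRing C]
    (α : P →+* B) (hα : Function.Surjective α) {m : ℕ}
    (β : MvPolynomial (Fin m) B →+* C) (hβ : Function.Surjective β) (x : Ideal C) [x.IsPrime]
    (hTD : letI := (Localization.localRingHom (x.comap (β.comp MvPolynomial.C)) x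
        (β.comp MvPolynomial.C) rfl).toAlgebra
      DRing.HasFiniteTorDim (Localization.AtPrime (x.comap (β.comp MvPolynomial.C))) (Localization.AtPrime x))
    (hγ : KAt (RingHom.ker (β.comp (MvPolynomial.map α))) (x.comap (β.comp (MvPolynomial.map α)))) :
    KAt (RingHom.ker α) ((x.comap (β.comp MvPolynomial.C)).comap α) ∧
      KAt (RingHom.ker β) (x.comap β) := by
  let σ : B →+* C := β.comp MvPolynomial.C
  let b : Ideal B := x.comap σ
  let γ : MvPolynomial (Fin m) P →+* C := β.comp (MvPolynomial.map α)
  have hmap : Function.Surjective (MvPolynomial.map (σ := Fin m) α) := MvPolynomial.map_surjective _ hα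
  have hγs : Function.Surjective γ := hβ.comp hmap
  have : IsNoetherianRing B := isNoetherianRing_of_surjective P B α hα
  let p : Ideal P := b.comap α
  let q : Ideal (MvPolynomial (Fin m) P) := x.comap γ
  let t : Ideal (MvPolynomial (Fin m) B) := x.comap β
  have hσ : σ.comp α = γ.comp MvPolynomial.C := RingHom.ext fun a => by simp [σ, γ]
  have hpq : p = q.comap MvPolynomial.C := by
    show (x.comap σ).comap α = (x.comap γ).comap MvPolynomial.C
    rw [Ideal.comap_comap, Ideal.comap_comap, hσ]
  let Rp := Localization.AtPrime p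
  let Sq := Localization.AtPrime q
  let A := Localization.AtPrime b
  let Cx := Localization.AtPrime x
  let Tt := Localization.AtPrime t
  let fRS := Localization.localRingHom p q MvPolynomial.C hpq
  let fRA := Localization.localRingHom p b α rfl
  let fAC := Localization.localRingHom b x σ rfl
  let fSC := Localization.localRingHom q x γ rfl
  let fST := Localization.localRingHom q t (MvPolynomial.map α) (by
    show x.comap γ = (x.comap β).comap (MvPolynomial.map α)
    rw [Ideal.comap_comap])
  let aRS : Algebra Rp Sq := fRS.toAlgebra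
  let _ : Algebra Rp A := fRA.toAlgebra
  let _ : Algebra A Cx := fAC.toAlgebra
  let _ : Algebra Sq Cx := fSC.toAlgebra
  let _ : Algebra Rp Cx := (fAC.comp fRA).toAlgebra
  let _ : SMul Rp Sq := aRS.toSMul
  let _ : Module Rp Sq := aRS.toModule
  have : IsScalarTower Rp A Cx := .of_algebraMap_eq' rfl
  have : IsScalarTower Rp Sq Cx := .of_algebraMap_eq' (localRingHom_square α MvPolynomial.C σ γ hσ p b q x rfl rfl hpq rfl)
  have : IsLocalHom (algebraMap Rp Sq) := Localization.isLocalHom_localRingHom p q MvPolynomial.C hpq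
  have : IsScalarTower P Rp Sq := .of_algebraMap_eq fun a =>
    ((Localization.localRingHom_to_map p q MvPolynomial.C hpq a).trans
      (IsScalarTower.algebraMap_apply P (MvPolynomial (Fin m) P) Sq a).symm).symm
  have : Module.Flat P Sq :=
    haveI := IsLocalization.flat Sq q.primeCompl
    Module.Flat.trans P (MvPolynomial (Fin m) P) Sq
  have : Module.Flat Rp Sq := (Module.flat_iff_of_isLocalization Rp p.primeCompl Sq).2 this
  have : IsRegularLocalRing (Sq ⧸ (maximalIdeal Rp).map (algebraMap Rp Sq)) := by
    have h := CIOpen.isRegularLocalRing_fib_mvPolynomial m q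
    rw [← Localization.AtPrime.map_eq_maximalIdeal, Ideal.map_map, ← IsScalarTower.algebraMap_eq,
      IsScalarTower.algebraMap_eq P (MvPolynomial (Fin m) P) Sq, ← Ideal.map_map]
    have hq' : q.comap (algebraMap P (MvPolynomial (Fin m) P)) = p := hpq.symm
    unfold EGA4.FibLocRing at h
    rw [IsScalarTower.algebraMap_eq P (MvPolynomial (Fin m) P) (Localization.AtPrime q), ← Ideal.map_map,
      hq'] at h
    exact h
  obtain ⟨hRA, hkerRA⟩ := localRingHom_surjective α hα p b rfl
  obtain ⟨hSC, hkerSC⟩ := localRingHom_surjective γ hγs q x rfl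
  obtain ⟨hST, hkerST⟩ := localRingHom_surjective (MvPolynomial.map α) hmap q t (by
    show x.comap γ = (x.comap β).comap (MvPolynomial.map α)
    rw [Ideal.comap_comap])
  let I : Ideal Rp := RingHom.ker fRA
  let J : Ideal Sq := RingHom.ker fSC
  have hI : I ≠ ⊤ := RingHom.ker_ne_top _
  have hJ : J ≠ ⊤ := RingHom.ker_ne_top _
  have hIJ : I.map (algebraMap Rp Sq) ≤ J := Ideal.map_le_iff_le_comap.2 fun a ha => by
    show fSC (fRS a) = 0
    rw [show fSC (fRS a) = fAC (fRA a) from
      (IsScalarTower.algebraMap_apply Rp Sq Cx a).symm.trans (IsScalarTower.algebraMap_apply Rp A Cx a),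
      show fRA a = 0 from ha, map_zero]
  obtain ⟨rJ, hrJ, hrJreg⟩ := regular_of_kAt (I := RingHom.ker γ) (P := q) (Ideal.comap_mono bot_le) hγ
  obtain ⟨n, hn⟩ := hTD
  obtain ⟨⟨rI, hrI, hrIreg⟩, rQ, hrQ, hrQreg⟩ :=
    RelativeCI.regular_of_dim_of_surjective (R := Rp) (S := Sq) (A := A) (B := Cx) (I := I) (J := J)
      hRA hSC rfl rfl hI hJ hIJ ⟨rJ, hrJ.trans hkerSC.symm, hrJreg⟩ (n + 1)
      (Tor15.dim_of_hasTorDimLE hn _)
  refine ⟨kAt_of_regular (Ideal.comap_mono bot_le) ⟨rI, hrI.trans hkerRA, hrIreg.toIsWeaklyRegular⟩, ?_⟩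
  refine kAt_of_regular (Ideal.comap_mono bot_le) ?_
  have hker : I.map (algebraMap Rp Sq) = RingHom.ker fST := by
    show (RingHom.ker fRA).map fRS = _
    rw [hkerST, hkerRA, MvPolynomial.ker_map, Ideal.map_map, Ideal.map_map]
    congr 1
    exact RingHom.ext fun a => Localization.localRingHom_to_map p q MvPolynomial.C hpq a
  let e : (Sq ⧸ I.map (algebraMap Rp Sq)) ≃+* Tt :=
    (Ideal.quotEquivOfEq hker).trans (RingHom.quotientKerEquivOfSurjective hST)
  have he : ∀ s, e (Ideal.Quotient.mk _ s) = fST s := fun _ => rfl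
  refine ⟨rQ.map e, ?_, isWeaklyRegular_map_ringEquiv e hrQreg.toIsWeaklyRegular⟩
  have hJ' : J.map fST = (RingHom.ker β).map (algebraMap _ Tt) := by
    show (RingHom.ker fSC).map fST = _
    rw [hkerSC, Ideal.map_map, show fST.comp (algebraMap (MvPolynomial (Fin m) P) Sq) =
      (algebraMap (MvPolynomial (Fin m) B) Tt).comp (MvPolynomial.map α) from
        RingHom.ext fun a => Localization.localRingHom_to_map q t (MvPolynomial.map α)
          (by show x.comap γ = (x.comap β).comap (MvPolynomial.map α); rw [Ideal.comap_comap]) a, ← Ideal.map_map,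
      show RingHom.ker γ = (RingHom.ker β).comap (MvPolynomial.map α) from (RingHom.comap_ker _ _).symm,
      Ideal.map_comap_of_surjective _ hmap]
  have h9 := ofList_map_of_comp _ e fST he hrQ
  rw [h9]
  exact hJ'

end Groth.Agent.FlatCx12.LCICancel
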