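import Groth.Agent.FlatCx12.LCICancel
import Groth.Agent.FlatMorPerfect.Local
import Groth.Agent.Synt15.LCIBridge
import Groth.Agent.FlatMorKoszul.Locus
import Mathlib.AlgebraicGeometry.Noetherian

/-!
# A lci composite with finite tor dimension cancels
-/

set_option autoImplicit false
set_option backward.isDefEq.respectTransparency false
set_option linter.style.haveILetI false
set_option synthInstance.maxHeartbeats 100000

universe u

open AlgebraicGeometry CategoryTheory
open Groth.Agent.FlatMorPerfect Groth.Agent.FlatMorKoszul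

attribute [local instance] HasDerivedCategory.standard

namespace Groth.Agent.FlatCx12.LCICancel

theorem ringTD_equiv {A B : Type u} [CommRing A] [CommRing B] (e : A ≃+* B) : RingTD e.toRingHom :=
  ((ringPerf_iff _).1 (ringPerf_equiv e)).2

/-- Koszul cancellation: `f ≫ g` lci and `f` of finite tor dimension on stalks. -/
theorem koszul_cancel {X Y S : Scheme.{u}} (f : X ⟶ Y) (g : Y ⟶ S) [IsLocallyNoetherian S]
    [LocallyOfFiniteType g]
    (hTD : ∀ x : X, letI := (f.stalkMap x).hom.toAlgebra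
      DRing.HasFiniteTorDim (Y.presheaf.stalk (f x)) (X.presheaf.stalk x))
    (h : ∀ x, IsKoszulPt (f ≫ g) x) (x : X) : IsKoszulPt f x ∧ IsKoszulPt g (f x) := by
  haveI := Synt15.locallyOfFiniteType_of_isKoszulPt (f ≫ g) h
  haveI : LocallyOfFiniteType f := locallyOfFiniteType_of_comp f g
  obtain ⟨_, ⟨W, hW, rfl⟩, hxW, -⟩ :=
    S.isBasis_affineOpens.exists_subset_of_mem_open (Set.mem_univ (g (f x))) isOpen_univ
  obtain ⟨_, ⟨V, hV, rfl⟩, hxV, hVW⟩ :=
    Y.isBasis_affineOpens.exists_subset_of_mem_open (show f x ∈ g ⁻¹ᵁ W from hxW) (g ⁻¹ᵁ W).isOpen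
  obtain ⟨_, ⟨U, hU, rfl⟩, hxU, hUV⟩ :=
    X.isBasis_affineOpens.exists_subset_of_mem_open (show x ∈ f ⁻¹ᵁ V from hxV) (f ⁻¹ᵁ V).isOpen
  have hUW : U ≤ (f ≫ g) ⁻¹ᵁ W := fun z hz => hVW (hUV hz)
  haveI : IsNoetherianRing Γ(S, W) := IsLocallyNoetherian.component_noetherian ⟨W, hW⟩
  let aB : Algebra Γ(S, W) Γ(Y, V) := (g.appLE W V hVW).hom.toAlgebra
  let aC : Algebra Γ(Y, V) Γ(X, U) := (f.appLE V U hUV).hom.toAlgebra
  let aAC : Algebra Γ(S, W) Γ(X, U) := ((f ≫ g).appLE W U hUW).hom.toAlgebra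
  haveI : IsScalarTower Γ(S, W) Γ(Y, V) Γ(X, U) := .of_algebraMap_eq' <| by
    show ((f ≫ g).appLE W U hUW).hom = (f.appLE V U hUV).hom.comp (g.appLE W V hVW).hom
    rw [← CommRingCat.hom_comp, Scheme.Hom.appLE_comp_appLE]
  obtain ⟨n, α, hα⟩ := Algebra.FiniteType.iff_quotient_mvPolynomial''.1
    (show Algebra.FiniteType Γ(S, W) Γ(Y, V) from g.finiteType_appLE hW hV hVW)
  obtain ⟨m, β, hβ⟩ := Algebra.FiniteType.iff_quotient_mvPolynomial''.1
    (show Algebra.FiniteType Γ(Y, V) Γ(X, U) from f.finiteType_appLE hV hU hUV)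
  let γ : MvPolynomial (Fin m) (MvPolynomial (Fin n) Γ(S, W)) →ₐ[Γ(S, W)] Γ(X, U) :=
    { toRingHom := β.toRingHom.comp (MvPolynomial.map α.toRingHom)
      commutes' := fun a => by
        show β (MvPolynomial.map α.toRingHom (algebraMap Γ(S, W) _ a)) = algebraMap Γ(S, W) Γ(X, U) a
        rw [IsScalarTower.algebraMap_apply Γ(S, W) (MvPolynomial (Fin n) Γ(S, W)), MvPolynomial.algebraMap_eq,
          MvPolynomial.map_C, IsScalarTower.algebraMap_apply Γ(S, W) Γ(Y, V) Γ(X, U),
          show α.toRingHom (algebraMap Γ(S, W) _ a) = algebraMap Γ(S, W) Γ(Y, V) a from α.commutes a]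
        exact β.commutes _ }
  have hγ : Function.Surjective γ := hβ.comp (MvPolynomial.map_surjective _ hα)
  have hlci : LCI.IsLCI Γ(S, W) Γ(X, U) :=
    Synt15.isLCI_appLE_of_isKoszulPt (f ≫ g) h U W hU hW hUW
  let xx : Ideal Γ(X, U) := (hU.primeIdealOf ⟨x, hxU⟩).asIdeal
  have hk : KAt (RingHom.ker γ.toRingHom) (xx.comap γ.toRingHom) :=
    (isKoszulRegularIdeal_iff _).1 (isKoszulRegularIdeal_ker_two hlci γ hγ) ⟨xx.comap γ.toRingHom, inferInstance⟩
      (Ideal.comap_mono bot_le)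
  let σ : Γ(Y, V) →+* Γ(X, U) := β.toRingHom.comp MvPolynomial.C
  have hσ : σ = (f.appLE V U hUV).hom := RingHom.ext fun a => β.commutes a
  have hb : xx.comap σ = (hV.primeIdealOf ⟨f x, hUV hxU⟩).asIdeal := by
    rw [hσ]; exact comap_primeIdealOf f hU hV hUV hxU
  have hTD' : letI := (Localization.localRingHom (xx.comap σ) xx σ rfl).toAlgebra
      DRing.HasFiniteTorDim (Localization.AtPrime (xx.comap σ)) (Localization.AtPrime xx) := by
    let := (Localization.localRingHom (xx.comap σ) xx σ rfl).toAlgebra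
    rw [hasFiniteTorDim_iff]
    letI : Algebra Γ(X, U) (X.presheaf.stalk x) := TopCat.Presheaf.algebra_section_stalk X.presheaf ⟨x, hxU⟩
    letI : Algebra Γ(Y, V) (Y.presheaf.stalk (f x)) :=
      TopCat.Presheaf.algebra_section_stalk Y.presheaf ⟨f x, hUV hxU⟩
    haveI : IsLocalization.AtPrime (X.presheaf.stalk x) xx := hU.isLocalization_stalk ⟨x, hxU⟩
    haveI : IsLocalization.AtPrime (Y.presheaf.stalk (f x)) (xx.comap σ) := by
      have := hV.isLocalization_stalk ⟨f x, hUV hxU⟩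
      have hpc : (xx.comap σ).primeCompl = (hV.primeIdealOf ⟨f x, hUV hxU⟩).asIdeal.primeCompl := by
        ext a; show a ∉ xx.comap σ ↔ a ∉ _; rw [hb]; rfl
      show IsLocalization (xx.comap σ).primeCompl _
      rw [hpc]; exact this
    let e₁ : Localization.AtPrime (xx.comap σ) ≃+* Y.presheaf.stalk (f x) :=
      (IsLocalization.algEquiv (xx.comap σ).primeCompl (Localization.AtPrime (xx.comap σ))
        (Y.presheaf.stalk (f x))).toRingEquiv
    let e₂ : X.presheaf.stalk x ≃+* Localization.AtPrime xx :=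
      (IsLocalization.algEquiv xx.primeCompl (X.presheaf.stalk x) (Localization.AtPrime xx)).toRingEquiv
    have hst : RingTD (f.stalkMap x).hom := by
      let := (f.stalkMap x).hom.toAlgebra
      exact hasFiniteTorDim_iff.1 (hTD x)
    have hcomp : RingTD (e₂.toRingHom.comp ((f.stalkMap x).hom.comp e₁.toRingHom)) :=
      ((ringTD_equiv e₁).comp hst).comp (ringTD_equiv e₂)
    have he : e₂.toRingHom.comp ((f.stalkMap x).hom.comp e₁.toRingHom) =
        Localization.localRingHom (xx.comap σ) xx σ rfl := by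
      refine IsLocalization.ringHom_ext (xx.comap σ).primeCompl (RingHom.ext fun a => ?_)
      simp only [RingHom.comp_apply, Localization.localRingHom_to_map]
      show e₂ ((f.stalkMap x) (e₁ (algebraMap _ _ a))) = _
      rw [show e₁ (algebraMap _ _ a) = algebraMap Γ(Y, V) (Y.presheaf.stalk (f x)) a from
        (IsLocalization.algEquiv (xx.comap σ).primeCompl _ _).commutes a]
      rw [show (f.stalkMap x) (algebraMap Γ(Y, V) (Y.presheaf.stalk (f x)) a) =
        algebraMap Γ(X, U) (X.presheaf.stalk x) (σ a) by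
          rw [hσ]
          show f.stalkMap x (Y.presheaf.germ V (f x) (hUV hxU) a) = X.presheaf.germ U x hxU (f.appLE V U hUV a)
          rw [Scheme.Hom.germ_stalkMap_apply, Scheme.Hom.appLE]
          exact (TopCat.Presheaf.germ_res_apply _ _ _ _ _).symm]
      exact (IsLocalization.algEquiv xx.primeCompl _ _).commutes (σ a)
    rw [he] at hcomp
    exact hcomp
  obtain ⟨h1, h2⟩ := kAt_cancel α.toRingHom hα β.toRingHom hβ xx hTD' hk
  refine ⟨(isKoszulPt_iff f hU hV hUV hxU rfl β hβ).2 h2,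
    (isKoszulPt_iff g hV hW hVW (hUV hxU) rfl α hα).2 ?_⟩
  rwa [show xx.comap (β.toRingHom.comp MvPolynomial.C) = _ from hb] at h1

end Groth.Agent.FlatCx12.LCICancel
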