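import Mathlib.Algebra.Category.ModuleCat.FilteredColimits
import Mathlib.Algebra.Module.LocalizedModule.Basic
import Mathlib.CategoryTheory.Linear.LinearFunctor
import Mathlib.CategoryTheory.Limits.ConcreteCategory.Basic
import Mathlib.Algebra.Category.ModuleCat.EpiMono
import Mathlib.CategoryTheory.ConcreteCategory.EpiMono

/-!
# A localization as a filtered colimit, and functors preserving filtered colimits
-/

universe u

set_option backward.isDefEq.respectTransparency false

namespace Groth.Agent.FlatCx12

open CategoryTheory CategoryTheory.Limits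

variable {A : Type u} [CommRing A] (S : Submonoid A)

/-- Index category of a localization: `s ⟶ t` is a `u ∈ S` with `s u = t`. -/
structure LocIdx : Type u where
  /-- the element -/
  val : S

instance : Category.{u} (LocIdx S) where
  Hom s t := {u : S // s.val * u = t.val}
  id s := ⟨1, mul_one _⟩
  comp f g := ⟨f.1 * g.1, by rw [← mul_assoc, f.2, g.2]⟩
  id_comp f := Subtype.ext (one_mul _)
  comp_id f := Subtype.ext (mul_one _)
  assoc f g h := Subtype.ext (mul_assoc _ _ _)

instance : IsFiltered (LocIdx S) where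
  nonempty := ⟨⟨1⟩⟩
  cocone_objs s t := by
    exact ⟨⟨s.val * t.val⟩, ⟨t.val, rfl⟩, ⟨s.val, mul_comm _ _⟩, trivial⟩
  cocone_maps {s t} f g := by
    refine ⟨⟨t.val * s.val⟩, ⟨s.val, rfl⟩, Subtype.ext ?_⟩
    show f.1 * s.val = g.1 * s.val
    rw [mul_comm, f.2, mul_comm g.1, g.2]

variable (M : ModuleCat.{u} A)

/-- The diagram with colimit `S⁻¹M`. -/
noncomputable def locDiag : LocIdx S ⥤ ModuleCat.{u} A where
  obj _ := M
  map f := (f.1 : A) • 𝟙 M
  map_id s := by
    show ((1 : S) : A) • 𝟙 M = 𝟙 M
    rw [Submonoid.coe_one, one_smul]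
  map_comp f g := by
    show (((f.1 * g.1 : S) : A) • 𝟙 M) = _
    refine ModuleCat.hom_ext (LinearMap.ext fun m => ?_)
    show ((f.1 : A) * (g.1 : A)) • m = (g.1 : A) • (f.1 : A) • m
    rw [mul_comm, mul_smul]

/-- The map `m ↦ m / s`. -/
noncomputable def locInj (s : S) : M ⟶ ModuleCat.of A (LocalizedModule S M) :=
  ModuleCat.ofHom
    { toFun := fun m => LocalizedModule.mk m s
      map_add' := fun m n => by
        rw [LocalizedModule.mk_add_mk, LocalizedModule.mk_eq]
        exact ⟨1, by simp only [one_smul, Submonoid.smul_def, Submonoid.coe_mul, smul_add, mul_smul]⟩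
      map_smul' := fun a m => (LocalizedModule.smul'_mk a m s).symm }

/-- The cocone with point `S⁻¹M`. -/
noncomputable def locCocone : Cocone (locDiag S M) where
  pt := ModuleCat.of A (LocalizedModule S M)
  ι :=
    { app := fun s => locInj S M s.val
      naturality := fun s t f => by
        refine ModuleCat.hom_ext (LinearMap.ext fun m => ?_)
        show LocalizedModule.mk ((f.1 : A) • m) t.val = LocalizedModule.mk m s.val
        rw [LocalizedModule.mk_eq]
        refine ⟨1, ?_⟩
        rw [one_smul, one_smul, Submonoid.smul_def, Submonoid.smul_def, ← mul_smul]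
        congr 1
        exact_mod_cast f.2 }

/-- `S⁻¹M` is the colimit. -/
noncomputable def isColimitLocCocone : IsColimit (locCocone S M) := by
  have wd : ∀ (c : Cocone (locDiag S M)) (p p' : M × S), p ≈ p' →
      (c.ι.app ⟨p.2⟩).hom p.1 = (c.ι.app ⟨p'.2⟩).hom p'.1 := by
    intro c p p' hp
    obtain ⟨v, hv⟩ := hp
    have h1 : ∀ (s t : S) (m : M), (c.ι.app ⟨s * t⟩).hom ((t : A) • m) = (c.ι.app ⟨s⟩).hom m :=
      fun s t m => by
        have := LinearMap.congr_fun (congrArg ModuleCat.Hom.hom
          (c.w (⟨t, rfl⟩ : (⟨s⟩ : LocIdx S) ⟶ ⟨s * t⟩))) m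
        exact this
    rw [← h1 p.2 (p'.2 * v) p.1, ← h1 p'.2 (p.2 * v) p'.1]
    have e : p.2 * (p'.2 * v) = p'.2 * (p.2 * v) := mul_left_comm _ _ _
    rw [e]
    congr 1
    simp only [Submonoid.smul_def] at hv
    rw [Submonoid.coe_mul, Submonoid.coe_mul, mul_comm (p'.2 : A), mul_comm (p.2 : A), mul_smul, mul_smul]
    exact hv
  exact
  { desc := fun c => ModuleCat.ofHom
      { toFun := fun x => LocalizedModule.liftOn x (fun p => (c.ι.app ⟨p.2⟩).hom p.1) (wd c)
        map_add' := fun x y => by
          induction x with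
          | h m s =>
            induction y with
            | h n t =>
              rw [LocalizedModule.mk_add_mk, LocalizedModule.liftOn_mk, LocalizedModule.liftOn_mk,
                LocalizedModule.liftOn_mk]
              refine (map_add (c.ι.app ⟨s * t⟩).hom _ _).trans ?_
              congr 1
              · exact LinearMap.congr_fun (congrArg ModuleCat.Hom.hom
                  (c.w (⟨t, rfl⟩ : (⟨s⟩ : LocIdx S) ⟶ ⟨s * t⟩))) m
              · exact LinearMap.congr_fun (congrArg ModuleCat.Hom.hom
                  (c.w (⟨s, mul_comm _ _⟩ : (⟨t⟩ : LocIdx S) ⟶ ⟨s * t⟩))) n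
        map_smul' := fun a x => by
          induction x with
          | h m s =>
            rw [LocalizedModule.smul'_mk, LocalizedModule.liftOn_mk, LocalizedModule.liftOn_mk]
            exact map_smul (c.ι.app ⟨s⟩).hom a m }
    fac := fun c s => ModuleCat.hom_ext (LinearMap.ext fun m => by
      show LocalizedModule.liftOn (α := c.pt) (LocalizedModule.mk (S := S) (M := M) m s.val) (fun p => (c.ι.app ⟨p.2⟩).hom p.1) (wd c) = _
      rw [LocalizedModule.liftOn_mk]; rfl)
    uniq := fun c g hg => ModuleCat.hom_ext (LinearMap.ext fun (x : LocalizedModule S M) => by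
      induction x with
      | h m s =>
        show g.hom (LocalizedModule.mk m s) = LocalizedModule.liftOn (α := c.pt) (LocalizedModule.mk (S := S) (M := M) m s) (fun p => (c.ι.app ⟨p.2⟩).hom p.1) (wd c)
        rw [LocalizedModule.liftOn_mk]
        exact LinearMap.congr_fun (congrArg ModuleCat.Hom.hom (hg ⟨s⟩)) m) }

theorem isLocalizedModule_map (T : ModuleCat.{u} A ⥤ ModuleCat.{u} A) [T.Additive] [T.Linear A]
    (hT : ∀ (J : Type u) [SmallCategory J] [IsFiltered J], PreservesColimitsOfShape J T) :
    IsLocalizedModule S (T.map (ModuleCat.ofHom (LocalizedModule.mkLinearMap S M) :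
      M ⟶ ModuleCat.of A (LocalizedModule S M))).hom := by
  have := hT (LocIdx S)
  have hc := isColimitOfPreserves T (isColimitLocCocone S M)
  have hl : (ModuleCat.ofHom (LocalizedModule.mkLinearMap S M) : M ⟶ ModuleCat.of A (LocalizedModule S M))
      = locInj S M 1 := ModuleCat.hom_ext (LinearMap.ext fun _ => rfl)
  have hsmul : ∀ (a : A) (y : T.obj M), (T.map (a • 𝟙 M)).hom y = a • y := fun a y => by
    rw [T.map_smul, T.map_id]
    rfl
  refine ⟨fun s => ?_, fun t => ?_, fun {x₁ x₂} hx => ?_⟩
  · rw [Module.End.isUnit_iff]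
    have hb := (Module.End.isUnit_iff _).mp
      (IsLocalizedModule.map_units (LocalizedModule.mkLinearMap S M) s)
    let N := ModuleCat.of A (LocalizedModule S M)
    have h1 : IsIso ((s : A) • 𝟙 N) := (ConcreteCategory.isIso_iff_bijective _).mpr hb
    have h2 : IsIso (T.map ((s : A) • 𝟙 N)) := inferInstance
    rw [T.map_smul, T.map_id] at h2
    exact (ConcreteCategory.isIso_iff_bijective _).mp h2
  · obtain ⟨j, y, hy⟩ := Concrete.isColimit_exists_rep _ hc t
    let s : S := j.val
    refine ⟨(y, s), ?_⟩
    have e : (s : A) • locInj S M s = locInj S M 1 := by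
      refine ModuleCat.hom_ext (LinearMap.ext fun m => ?_)
      show (s : A) • LocalizedModule.mk m s = LocalizedModule.mk m 1
      rw [LocalizedModule.smul'_mk, ← Submonoid.smul_def, LocalizedModule.mk_cancel]
    rw [hl, ← e, T.map_smul, ← hy]
    rfl
  · rw [hl] at hx
    obtain ⟨k, f, g, hfg⟩ := (Concrete.isColimit_rep_eq_iff_exists (F := locDiag S M ⋙ T)
      (i := (⟨1⟩ : LocIdx S)) (j := (⟨1⟩ : LocIdx S)) hc x₁ x₂).mp hx
    refine ⟨f.1, ?_⟩
    have hfg' : (T.map ((f.1 : A) • 𝟙 M)).hom x₁ = (T.map ((g.1 : A) • 𝟙 M)).hom x₂ := hfg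
    rw [hsmul, hsmul] at hfg'
    have : f.1 = g.1 := by
      have a := f.2
      have b := g.2
      rw [one_mul] at a b
      exact a.trans b.symm
    rw [Submonoid.smul_def, Submonoid.smul_def, hfg', this]

end Groth.Agent.FlatCx12
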