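import Groth.Agent.FlatCx12.LocColim
import Mathlib.Algebra.Homology.ShortComplex.ExactFunctor
import Mathlib.Algebra.Homology.ShortComplex.ModuleCat
import Mathlib.Algebra.Category.ModuleCat.ChangeOfRings
import Mathlib.RingTheory.LocalProperties.Exactness
import Mathlib.Algebra.Module.LocalizedModule.Exact

/-!
# Exactness of a linear functor commuting with filtered colimits is local
-/

universe u

set_option backward.isDefEq.respectTransparency false

namespace Groth.Agent.FlatCx12

open CategoryTheory CategoryTheory.Limits Function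

variable {A : Type u} [CommRing A] (T : ModuleCat.{u} A ⥤ ModuleCat.{u} A) [T.Additive] [T.Linear A]
  (hT : ∀ (J : Type u) [SmallCategory J] [IsFiltered J], PreservesColimitsOfShape J T)

section OneS

variable (S : Submonoid A)

/-- `S⁻¹M` over `S⁻¹A`. -/
noncomputable abbrev locObj (M : ModuleCat.{u} A) : ModuleCat.{u} (Localization S) :=
  ModuleCat.of (Localization S) (LocalizedModule S M)

/-- `M → S⁻¹M`. -/
noncomputable abbrev locHom (M : ModuleCat.{u} A) : M ⟶ ModuleCat.of A (LocalizedModule S M) :=
  ModuleCat.ofHom (LocalizedModule.mkLinearMap S M)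

/-- `S⁻¹` of a morphism. -/
noncomputable abbrev locMap {M N : ModuleCat.{u} A} (f : M ⟶ N) : locObj S M ⟶ locObj S N :=
  ModuleCat.ofHom (LocalizedModule.map S f.hom)

/-- `S⁻¹M` over `A`. -/
noncomputable def resIso (M : ModuleCat.{u} A) :
    (ModuleCat.restrictScalars (algebraMap A (Localization S))).obj (locObj S M) ≅
      ModuleCat.of A (LocalizedModule S M) :=
  LinearEquiv.toModuleIso
    (X₁ := (ModuleCat.restrictScalars (algebraMap A (Localization S))).obj (locObj S M))
    { toFun := fun x => x
      invFun := fun x => x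
      map_add' := fun _ _ => rfl
      map_smul' := fun a x =>
        algebraMap_smul (M := LocalizedModule S M) (Localization S) a x
      left_inv := fun _ => rfl
      right_inv := fun _ => rfl }

/-- The localized short complex. -/
noncomputable def locComplex (X : ShortComplex (ModuleCat.{u} A)) :
    ShortComplex (ModuleCat.{u} (Localization S)) :=
  ShortComplex.mk (locMap S X.f) (locMap S X.g) (by
    refine ModuleCat.hom_ext (LinearMap.ext fun (x : LocalizedModule S X.X₁) => ?_)
    induction x with
    | h m s =>
      show LocalizedModule.map S X.g.hom (LocalizedModule.map S X.f.hom (LocalizedModule.mk m s)) = 0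
      rw [LocalizedModule.map_mk, LocalizedModule.map_mk,
        show X.g.hom (X.f.hom m) = 0 from LinearMap.congr_fun (congrArg ModuleCat.Hom.hom X.zero) m,
        LocalizedModule.zero_mk])

theorem locComplex_shortExact (X : ShortComplex (ModuleCat.{u} A)) (hX : X.ShortExact) :
    (locComplex S X).ShortExact where
  exact := (ShortComplex.ShortExact.moduleCat_exact_iff_function_exact _).mpr
    (LocalizedModule.map_exact S _ _
      ((ShortComplex.ShortExact.moduleCat_exact_iff_function_exact _).mp hX.exact))
  mono_f := (ModuleCat.mono_iff_injective _).mpr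
    (LocalizedModule.map_injective S _ ((ModuleCat.mono_iff_injective _).mp hX.mono_f))
  epi_g := (ModuleCat.epi_iff_surjective _).mpr
    (LocalizedModule.map_surjective S _ ((ModuleCat.epi_iff_surjective _).mp hX.epi_g))

include hT in
theorem T_locMap {M N : ModuleCat.{u} A} (f : M ⟶ N) :
    haveI := isLocalizedModule_map S M T hT
    haveI := isLocalizedModule_map S N T hT
    IsLocalizedModule.map S (T.map (locHom S M)).hom
      (T.map (locHom S N)).hom (T.map f).hom =
    ((T.mapIso (resIso S M)).inv ≫
      (ModuleCat.restrictScalars (algebraMap A (Localization S)) ⋙ T).map (locMap S f) ≫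
        (T.mapIso (resIso S N)).hom).hom := by
  have := isLocalizedModule_map S M T hT
  have := isLocalizedModule_map S N T hT
  apply IsLocalizedModule.ext S (T.map (locHom S M)).hom
  · exact IsLocalizedModule.map_units (T.map (locHom S N)).hom
  rw [IsLocalizedModule.map_comp]
  simp only [Functor.comp_map, Functor.mapIso_inv, Functor.mapIso_hom, ← Functor.map_comp]
  rw [← ModuleCat.hom_comp, ← ModuleCat.hom_comp, ← Functor.map_comp, ← Functor.map_comp]
  congr 2
  refine ModuleCat.hom_ext (LinearMap.ext fun m => ?_)
  exact (LocalizedModule.map_mk (S := S) f.hom m 1).symm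

end OneS

include hT in
theorem exact_of_local (X : ShortComplex (ModuleCat.{u} A))
    (h : ∀ (m : Ideal A) [m.IsMaximal], Exact
      ((ModuleCat.restrictScalars (algebraMap A (Localization.AtPrime m)) ⋙ T).map (locMap m.primeCompl X.f)).hom
      ((ModuleCat.restrictScalars (algebraMap A (Localization.AtPrime m)) ⋙ T).map (locMap m.primeCompl X.g)).hom) :
    (X.map T).Exact := by
  rw [ShortComplex.ShortExact.moduleCat_exact_iff_function_exact]
  have hl : ∀ (M : ModuleCat.{u} A) (m : Ideal A) [m.IsPrime], IsLocalizedModule.AtPrime m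
      (T.map (locHom m.primeCompl M)).hom :=
    fun M m _ => isLocalizedModule_map m.primeCompl M T hT
  have : ∀ (P : Ideal A) [P.IsPrime], IsLocalizedModule.AtPrime P (T.map (locHom P.primeCompl X.X₁)).hom := hl X.X₁
  have : ∀ (P : Ideal A) [P.IsPrime], IsLocalizedModule.AtPrime P (T.map (locHom P.primeCompl X.X₂)).hom := hl X.X₂
  have : ∀ (P : Ideal A) [P.IsPrime], IsLocalizedModule.AtPrime P (T.map (locHom P.primeCompl X.X₃)).hom := hl X.X₃
  refine exact_of_isLocalized_maximal
    (fun m _ => T.obj (ModuleCat.of A (LocalizedModule m.primeCompl X.X₁)))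
    (fun m _ => (T.map (locHom m.primeCompl X.X₁)).hom)
    (fun m _ => T.obj (ModuleCat.of A (LocalizedModule m.primeCompl X.X₂)))
    (fun m _ => (T.map (locHom m.primeCompl X.X₂)).hom)
    (fun m _ => T.obj (ModuleCat.of A (LocalizedModule m.primeCompl X.X₃)))
    (fun m _ => (T.map (locHom m.primeCompl X.X₃)).hom)
    (X.map T).f.hom (X.map T).g.hom fun m _ => ?_
  rw [show (X.map T).f = T.map X.f from rfl, show (X.map T).g = T.map X.g from rfl,
    T_locMap T hT, T_locMap T hT]
  have hinv : ∀ (M : ModuleCat.{u} A) y, (T.map (resIso m.primeCompl M).inv).hom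
      ((T.map (resIso m.primeCompl M).hom).hom y) = y := fun M y =>
    (T.mapIso (resIso m.primeCompl M)).toLinearEquiv.symm_apply_apply y
  exact Exact.of_ladder_linearEquiv_of_exact
    (e₁ := (T.mapIso (resIso m.primeCompl X.X₁)).toLinearEquiv)
    (e₂ := (T.mapIso (resIso m.primeCompl X.X₂)).toLinearEquiv)
    (e₃ := (T.mapIso (resIso m.primeCompl X.X₃)).toLinearEquiv)
    (LinearMap.ext fun x => by simp [hinv] <;> rfl)
    (LinearMap.ext fun x => by simp [hinv] <;> rfl) (h m)

include hT in
theorem injective_of_local {M N : ModuleCat.{u} A} (f : M ⟶ N)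
    (h : ∀ (m : Ideal A) [m.IsMaximal], Injective
      ((ModuleCat.restrictScalars (algebraMap A (Localization.AtPrime m)) ⋙ T).map (locMap m.primeCompl f)).hom) :
    Injective (T.map f).hom := by
  have hl : ∀ (M : ModuleCat.{u} A) (m : Ideal A) [m.IsPrime], IsLocalizedModule.AtPrime m
      (T.map (locHom m.primeCompl M)).hom :=
    fun M m _ => isLocalizedModule_map m.primeCompl M T hT
  have : ∀ (P : Ideal A) [P.IsPrime], IsLocalizedModule.AtPrime P (T.map (locHom P.primeCompl M)).hom := hl M
  have : ∀ (P : Ideal A) [P.IsPrime], IsLocalizedModule.AtPrime P (T.map (locHom P.primeCompl N)).hom := hl N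
  refine injective_of_isLocalized_maximal
    (fun m _ => T.obj (ModuleCat.of A (LocalizedModule m.primeCompl M)))
    (fun m _ => (T.map (locHom m.primeCompl M)).hom)
    (fun m _ => T.obj (ModuleCat.of A (LocalizedModule m.primeCompl N)))
    (fun m _ => (T.map (locHom m.primeCompl N)).hom)
    (T.map f).hom fun m _ => ?_
  rw [T_locMap T hT]
  exact ((T.mapIso (resIso m.primeCompl N)).toLinearEquiv.injective.comp (h m)).comp
    (T.mapIso (resIso m.primeCompl M)).toLinearEquiv.symm.injective

include hT in
theorem surjective_of_local {M N : ModuleCat.{u} A} (f : M ⟶ N)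
    (h : ∀ (m : Ideal A) [m.IsMaximal], Surjective
      ((ModuleCat.restrictScalars (algebraMap A (Localization.AtPrime m)) ⋙ T).map (locMap m.primeCompl f)).hom) :
    Surjective (T.map f).hom := by
  have hl : ∀ (M : ModuleCat.{u} A) (m : Ideal A) [m.IsPrime], IsLocalizedModule.AtPrime m
      (T.map (locHom m.primeCompl M)).hom :=
    fun M m _ => isLocalizedModule_map m.primeCompl M T hT
  have : ∀ (P : Ideal A) [P.IsPrime], IsLocalizedModule.AtPrime P (T.map (locHom P.primeCompl M)).hom := hl M
  have : ∀ (P : Ideal A) [P.IsPrime], IsLocalizedModule.AtPrime P (T.map (locHom P.primeCompl N)).hom := hl N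
  refine surjective_of_isLocalized_maximal
    (fun m _ => T.obj (ModuleCat.of A (LocalizedModule m.primeCompl M)))
    (fun m _ => (T.map (locHom m.primeCompl M)).hom)
    (fun m _ => T.obj (ModuleCat.of A (LocalizedModule m.primeCompl N)))
    (fun m _ => (T.map (locHom m.primeCompl N)).hom)
    (T.map f).hom fun m _ => ?_
  rw [T_locMap T hT]
  exact ((T.mapIso (resIso m.primeCompl N)).toLinearEquiv.surjective.comp (h m)).comp
    (T.mapIso (resIso m.primeCompl M)).toLinearEquiv.symm.surjective

end Groth.Agent.FlatCx12
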