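import Groth.Agent.FlatMor12.NLSheaf.Algebra
import Mathlib.RingTheory.Etale.Weakly
import Mathlib.RingTheory.Ideal.Pure

/-!
# Changing the base of the naive cotangent complex along a weakly etale algebra
-/

set_option autoImplicit false
set_option backward.isDefEq.respectTransparency false
universe u

open TensorProduct Algebra

namespace Groth.Agent.FlatCx12.NLBottom

variable (R R' T : Type u) [CommRing R] [CommRing R'] [CommRing T] [Algebra R R'] [Algebra R T]
  [Algebra R' T] [IsScalarTower R R' T]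

/-- The action map `R' ⊗_R T → T`. -/
noncomputable def act : R' ⊗[R] T →ₐ[R'] T :=
  Algebra.TensorProduct.lift (Algebra.ofId R' T) (AlgHom.id R T) fun _ _ => Commute.all _ _

@[simp]
theorem act_tmul (a : R') (t : T) : act R R' T (a ⊗ₜ t) = algebraMap R' T a * t :=
  Algebra.TensorProduct.lift_tmul _ _ _ a t

variable [Algebra.WeaklyEtale R R']

theorem exists_eq_mul {z : R' ⊗[R] T} (hz : act R R' T z = 0) :
    ∃ y, act R R' T y = 0 ∧ z = z * y := by
  let μ : R' ⊗[R] R' →ₐ[R] R' := Algebra.TensorProduct.lmul' R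
  haveI : (RingHom.ker μ).Pure := by
    letI : Algebra (R' ⊗[R] R') R' := μ.toRingHom.toAlgebra
    haveI : Module.Flat (R' ⊗[R] R') R' := Algebra.WeaklyEtale.flat_lmul' R R'
    exact Module.Flat.of_linearEquiv (Ideal.quotientKerAlgEquivOfSurjective (A := R' ⊗[R] R')
      (f := Algebra.ofId (R' ⊗[R] R') R') fun b => ⟨b ⊗ₜ 1, by
        show μ (b ⊗ₜ[R] (1 : R')) = b
        simp [μ]⟩).toLinearEquiv
  let Φ : R' ⊗[R] R' →ₐ[R] R' ⊗[R] T :=
    Algebra.TensorProduct.map (AlgHom.id R R') (IsScalarTower.toAlgHom R R' T)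
  have hΦ : ∀ w, act R R' T (Φ w) = algebraMap R' T (μ w) := fun w => by
    induction w using TensorProduct.induction_on with
    | zero => simp
    | tmul a b => simp [Φ, μ]
    | add a b ha hb => simp only [map_add, ha, hb]
  let J : Ideal (R' ⊗[R] T) := (RingHom.ker μ).map Φ.toRingHom
  have hJ : ∀ x ∈ J, ∃ y, act R R' T y = 0 ∧ x = x * y := by
    intro x hx
    refine Submodule.span_induction ?_ ⟨0, map_zero _, by simp⟩ ?_ ?_ hx
    · rintro _ ⟨d, hd, rfl⟩
      obtain ⟨y, hy, e⟩ := Ideal.exists_eq_mul_of_pure (I := RingHom.ker μ) hd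
      refine ⟨Φ y, by rw [hΦ, show μ y = 0 from hy, map_zero], ?_⟩
      show Φ d = Φ d * Φ y
      rw [← map_mul, ← e]
    · rintro a b _ _ ⟨y₁, h₁, e₁⟩ ⟨y₂, h₂, e₂⟩
      exact ⟨y₁ + y₂ - y₁ * y₂, by simp [h₁, h₂], by linear_combination (1 - y₂) * e₁ + (1 - y₁) * e₂⟩
    · rintro r a _ ⟨y, h, e⟩
      exact ⟨y, h, by rw [smul_eq_mul, mul_assoc, ← e]⟩
  refine hJ z ?_
  have : ∀ w : R' ⊗[R] T, w - (1 : R') ⊗ₜ act R R' T w ∈ J := by
    intro w
    induction w using TensorProduct.induction_on with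
    | zero => simp
    | tmul a t =>
      have e : a ⊗ₜ[R] t - (1 : R') ⊗ₜ act R R' T (a ⊗ₜ[R] t) =
          ((1 : R') ⊗ₜ[R] t) * Φ (a ⊗ₜ[R] 1 - 1 ⊗ₜ[R] a) := by
        simp [Φ, mul_sub, mul_comm t]
      rw [e]
      exact J.mul_mem_left _ (Ideal.mem_map_of_mem _ (by simp [μ]))
    | add a b ha hb =>
      rw [map_add, TensorProduct.tmul_add, add_sub_add_comm]
      exact J.add_mem ha hb
  simpa [hz] using this z

/-- `H¹` of the cotangent complex is unchanged by a weakly etale change of base. -/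
theorem bijective_h1Cotangent_map : Function.Bijective (H1Cotangent.map R R' T T) := by
  let T' := R' ⊗[R] T
  letI : Algebra T T' := Algebra.TensorProduct.rightAlgebra
  haveI : IsScalarTower R T T' := IsScalarTower.of_algebraMap_eq fun r => by
    show algebraMap R (R' ⊗[R] T) r = (1 : R') ⊗ₜ[R] algebraMap R T r
    rw [Algebra.TensorProduct.algebraMap_apply, ← Algebra.TensorProduct.tmul_one_eq_one_tmul]
  letI : Algebra T' T := (act R R' T).toRingHom.toAlgebra
  haveI : IsScalarTower R' T' T := IsScalarTower.of_algebraMap_eq fun r => ((act R R' T).commutes r).symm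
  haveI : IsScalarTower R T' T := IsScalarTower.of_algebraMap_eq fun r => by
    rw [IsScalarTower.algebraMap_apply R R' T', ← IsScalarTower.algebraMap_apply R' T' T,
      ← IsScalarTower.algebraMap_apply R R' T]
  haveI : IsScalarTower T T' T := IsScalarTower.of_algebraMap_eq fun t => by
    show t = act R R' T ((1 : R') ⊗ₜ t)
    simp
  let M : Submonoid T' := (⊥ : Submonoid T).comap (algebraMap T' T).toMonoidHom
  have hM : ∀ m ∈ M, algebraMap T' T m = 1 := fun m hm => Submonoid.mem_bot.1 hm
  haveI : IsLocalization M T :=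
    { map_units := fun m => by rw [hM m.1 m.2]; exact isUnit_one
      surj := fun t => ⟨((1 : R') ⊗ₜ t, 1), by
        show t * algebraMap T' T 1 = act R R' T ((1 : R') ⊗ₜ t)
        simp⟩
      exists_of_eq := fun {x y} h => by
        obtain ⟨w, hw, e⟩ := exists_eq_mul R R' T (z := x - y)
          (show algebraMap T' T (x - y) = 0 by rw [map_sub, h, sub_self])
        refine ⟨⟨1 - w, Submonoid.mem_bot.2 ?_⟩, ?_⟩
        · show algebraMap T' T (1 - w) = 1
          rw [map_sub, map_one, show algebraMap T' T w = 0 from hw, sub_zero]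
        · show (1 - w) * x = (1 - w) * y
          linear_combination e }
  haveI : IsLocalizedModule M (H1Cotangent.map R' R' T' T) := inferInstance
  let ψ : R' ⊗[R] H1Cotangent R T →ₗ[R'] H1Cotangent R' T' :=
    (tensorH1CotangentOfFlat R T R').toLinearMap
  have hψ : ∀ a m, H1Cotangent.map R' R' T' T (ψ (a ⊗ₜ m)) = a • H1Cotangent.map R R' T T m := fun a m => by
    show H1Cotangent.map R' R' T' T (tensorH1CotangentOfFlat R T R' (a ⊗ₜ m)) = _
    rw [Algebra.tensorH1CotangentOfFlat_tmul, LinearMap.map_smul_of_tower, FlatMor12.NLSheaf.map_map]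
  have hsmul : ∀ (s : T') (m : H1Cotangent R' T), s • m = act R R' T s • m := fun s m =>
    (algebraMap_smul T s m).symm
  refine ⟨(injective_iff_map_eq_zero _).2 fun m hm => ?_, fun y => ?_⟩
  · have h0 : H1Cotangent.map R' R' T' T (ψ ((1 : R') ⊗ₜ m)) = 0 := by rw [hψ, hm, smul_zero]
    obtain ⟨s, hs⟩ := (IsLocalizedModule.eq_zero_iff M (H1Cotangent.map R' R' T' T)).1 h0

    let κ₀ : R' ⊗[R] H1Cotangent R T →ₗ[R] H1Cotangent R T :=
      TensorProduct.lift (LinearMap.mk₂ R (fun (a : R') (m : H1Cotangent R T) => algebraMap R' T a • m)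
        (fun a b x => by rw [map_add, add_smul])
        (fun r a x => by
          rw [Algebra.smul_def r a, map_mul, ← IsScalarTower.algebraMap_apply, mul_smul, algebraMap_smul])
        (fun a x y => smul_add _ x y) (fun r a x => smul_comm _ r x))
    let κ : H1Cotangent R' T' →+ H1Cotangent R T :=
      κ₀.toAddMonoidHom.comp (tensorH1CotangentOfFlat R T R').symm.toLinearMap.toAddMonoidHom
    have hκψ : ∀ z, κ (ψ z) = κ₀ z := fun z =>
      congrArg κ₀ ((tensorH1CotangentOfFlat R T R').symm_apply_apply z)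
    have hκ : ∀ (a : R') (t : T) (z : R' ⊗[R] H1Cotangent R T),
        κ ((a ⊗ₜ[R] t : T') • ψ z) = act R R' T (a ⊗ₜ t) • κ (ψ z) := by
      intro a t z
      induction z using TensorProduct.induction_on with
      | zero => simp
      | tmul b x =>
        have e : (a ⊗ₜ[R] t : T') • ψ (b ⊗ₜ x) = ψ ((a * b) ⊗ₜ (t • x)) := by
          show _ • tensorH1CotangentOfFlat R T R' (b ⊗ₜ x) = tensorH1CotangentOfFlat R T R' (_ ⊗ₜ _)
          rw [Algebra.tensorH1CotangentOfFlat_tmul, Algebra.tensorH1CotangentOfFlat_tmul,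
            map_smul (H1Cotangent.map R R' T T')]
          have h1 : ∀ (c : R') (X : H1Cotangent R' T'), c • X = algebraMap R' T' c • X :=
            fun c X => (algebraMap_smul T' c X).symm
          have h2 : ∀ (X : H1Cotangent R' T'), t • X = algebraMap T T' t • X :=
            fun X => (algebraMap_smul T' t X).symm
          rw [h1, h1, h2, smul_smul, smul_smul]
          congr 1
          show (a ⊗ₜ[R] t) * (b ⊗ₜ[R] (1 : T)) = ((a * b) ⊗ₜ[R] (1 : T)) * ((1 : R') ⊗ₜ t)
          simp
        rw [e]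
        rw [hκψ, hκψ]
        show algebraMap R' T (a * b) • t • x = act R R' T (a ⊗ₜ t) • algebraMap R' T b • x
        rw [act_tmul, smul_smul, smul_smul, map_mul]
        congr 1
        ring
      | add z₁ z₂ h₁ h₂ => simp only [map_add, smul_add, h₁, h₂]
    have hκ' : ∀ (w : T') (z : R' ⊗[R] H1Cotangent R T), κ (w • ψ z) = act R R' T w • κ (ψ z) := by
      intro w z
      induction w using TensorProduct.induction_on with
      | zero => simp
      | tmul a t => exact hκ a t z
      | add w₁ w₂ h₁ h₂ => simp only [map_add, add_smul, h₁, h₂]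
    have h1 := hκ' s.1 ((1 : R') ⊗ₜ m)
    rw [show s.1 • ψ ((1 : R') ⊗ₜ m) = 0 from hs, map_zero, show act R R' T s.1 = 1 from hM s.1 s.2,
      one_smul] at h1
    rw [hκψ] at h1
    simpa [κ₀] using h1.symm
  · obtain ⟨⟨z, s⟩, hz⟩ := IsLocalizedModule.surj M (H1Cotangent.map R' R' T' T) y
    rw [Submonoid.smul_def, hsmul, show act R R' T s.1 = 1 from hM s.1 s.2, one_smul] at hz
    obtain ⟨w, rfl⟩ := (tensorH1CotangentOfFlat R T R').surjective z
    subst hz
    induction w using TensorProduct.induction_on with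
    | zero => exact ⟨0, by simp⟩
    | tmul a m =>
      refine ⟨algebraMap R' T a • m, ?_⟩
      rw [map_smul, algebraMap_smul]
      exact (hψ a m).symm
    | add w₁ w₂ h₁ h₂ =>
      obtain ⟨m₁, e₁⟩ := h₁
      obtain ⟨m₂, e₂⟩ := h₂
      exact ⟨m₁ + m₂, by simp [map_add, e₁, e₂]⟩

omit [Algebra.WeaklyEtale R R'] in
theorem bijective_kaehler_map [Algebra.FormallyUnramified R R'] :
    Function.Bijective (KaehlerDifferential.map R R' T T) := by
  refine ⟨(injective_iff_map_eq_zero _).2 fun x hx => ?_,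
    KaehlerDifferential.map_surjective R R' T⟩
  obtain ⟨w, rfl⟩ := (KaehlerDifferential.exact_mapBaseChange_map R R' T x).1 hx
  rw [Subsingleton.elim w 0, map_zero]

end Groth.Agent.FlatCx12.NLBottom
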