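import Groth.Agent.FlatCx12.HullSurj
import Groth.Agent.HenselLib.HullFlat
import Groth.Agent.FlatMor12.NLSheaf.Algebra

/-!
# The first cotangent homology of a hull
-/

set_option autoImplicit false
set_option backward.isDefEq.respectTransparency false
universe u

open TensorProduct Algebra

namespace Groth.Agent.FlatCx12.NLTop

open HenselLib

variable {R S T K : Type u} [CommRing R] [CommRing S] [CommRing T] [Field K] [Algebra R S] [Algebra R T]
  [Algebra S T] [IsScalarTower R S T] [Algebra S K]

theorem flat_of_equiv (e : Hull S K ≃ₐ[S] T) : Module.Flat S T :=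
  Module.Flat.of_linearEquiv e.symm.toLinearEquiv

theorem bijective_h1Cotangent_map_hull (h : Function.Surjective (hullPt S K)) (e : Hull S K ≃ₐ[S] T) :
    Function.Bijective ((H1Cotangent.map R R S T).liftBaseChange T) := by
  let P : Algebra.Extension.{u} R S := (Generators.self R S).toExtension
  haveI : Module.Flat S T := flat_of_equiv e
  letI : Algebra P.Ring K := ((algebraMap S K).comp (algebraMap P.Ring S)).toAlgebra
  haveI : IsScalarTower P.Ring S K := IsScalarTower.of_algebraMap_eq' rfl
  obtain ⟨φ, hφ, hφc, hker⟩ := HullSurj.exists_surjective (P := P.Ring) P.algebraMap_surjective h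
  letI : Algebra R (Hull P.Ring K) :=
    ((algebraMap P.Ring (Hull P.Ring K)).comp (algebraMap R P.Ring)).toAlgebra
  haveI : IsScalarTower R P.Ring (Hull P.Ring K) := IsScalarTower.of_algebraMap_eq' rfl
  let σ : Hull P.Ring K →ₐ[R] T := { e.toRingEquiv.toRingHom.comp φ with
    commutes' := fun r => by
      show e (φ (algebraMap P.Ring _ (algebraMap R P.Ring r))) = _
      rw [hφc, e.commutes, ← IsScalarTower.algebraMap_apply R P.Ring S,
        ← IsScalarTower.algebraMap_apply R S T] }
  have hσ : Function.Surjective σ := e.surjective.comp hφ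
  let Q : Algebra.Extension.{u} R T := .ofSurjective σ hσ
  haveI : FormallySmooth R P.Ring := inferInstanceAs (FormallySmooth R (MvPolynomial _ _))
  haveI : FormallySmooth R Q.Ring := (FormallySmooth.comp R P.Ring (Hull P.Ring K) :)
  let f : P.Hom Q :=
    { toRingHom := algebraMap P.Ring (Hull P.Ring K)
      toRingHom_algebraMap := fun r => rfl
      algebraMap_toRingHom := fun x => by
        show e (φ (algebraMap P.Ring _ x)) = _
        rw [hφc, e.commutes] }
  letI : Algebra P.Ring Q.Ring := (inferInstance : Algebra P.Ring (Hull P.Ring K))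
  have hker' : Q.ker ≤ P.ker.map (algebraMap P.Ring Q.Ring) := fun x hx => by
    have h1 : e (φ x) = 0 := hx
    have h2 : φ x = 0 := e.injective (h1.trans (map_zero e).symm)
    exact hker.le h2
  have hbij : Function.Bijective ((f.mapKer rfl).liftBaseChange Q.Ring) := by
    have hflat : Module.Flat P.Ring Q.Ring := (inferInstance : Module.Flat P.Ring (Hull P.Ring K))
    refine ⟨?_, ?_⟩
    · refine Function.Injective.of_comp (f := fun x : Q.ker => (x : Q.Ring)) ?_
      have e : (fun x : Q.ker => (x : Q.Ring)) ∘ ((f.mapKer rfl).liftBaseChange Q.Ring) =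
          (TensorProduct.rid P.Ring Q.Ring) ∘ (LinearMap.lTensor Q.Ring P.ker.subtype) := by
        funext x
        induction x with
        | zero => simp
        | add x y hx hy =>
          simp only [Function.comp_apply] at hx hy ⊢
          simp only [map_add, Submodule.coe_add, hx, hy]
        | tmul q i =>
          simp only [Function.comp_apply, LinearMap.liftBaseChange_tmul, LinearMap.lTensor_tmul,
            TensorProduct.rid_tmul, Submodule.coe_smul, smul_eq_mul, Submodule.coe_subtype,
            Algebra.smul_def]
          rw [mul_comm]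
          rfl
      rw [e]
      exact (TensorProduct.rid _ _).injective.comp
        (Module.Flat.lTensor_preserves_injective_linearMap _ Subtype.val_injective)
    · rintro ⟨x, hx⟩
      suffices ∃ y, (((f.mapKer rfl).liftBaseChange Q.Ring) y : Q.Ring) = x by
        obtain ⟨y, hy⟩ := this
        exact ⟨y, Subtype.ext hy⟩
      refine Submodule.span_induction ?_ ⟨0, by simp⟩ ?_ ?_ (hker' hx)
      · rintro _ ⟨i, hi, rfl⟩
        exact ⟨1 ⊗ₜ ⟨i, hi⟩, by simp; rfl⟩
      · rintro x y _ _ ⟨a, ha⟩ ⟨c, hc⟩
        exact ⟨a + c, by simp [ha, hc]⟩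
      · rintro r x _ ⟨a, ha⟩
        exact ⟨r • a, by simp [ha]⟩
  have hfe : f.toRingHom.FormallyEtale :=
    RingHom.formallyEtale_algebraMap.2 (inferInstance : FormallyEtale P.Ring (Hull P.Ring K))
  have h1 : Function.Bijective ((Extension.H1Cotangent.map f).liftBaseChange T) :=
    (Extension.tensorH1CotangentOfFormallyEtale f rfl hfe hbij).bijective
  let u : (Generators.self R T).toExtension.Hom Q :=
  { toRingHom := (MvPolynomial.aeval Q.σ).toRingHom
    toRingHom_algebraMap := (MvPolynomial.aeval Q.σ).commutes
    algebraMap_toRingHom := by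
      have : (IsScalarTower.toAlgHom R Q.Ring T).comp (MvPolynomial.aeval Q.σ) =
          IsScalarTower.toAlgHom _ (Generators.self R T).toExtension.Ring _ := by
        ext i
        change _ = algebraMap (Generators.self R T).Ring _ (.X i)
        simp
      exact DFunLike.congr_fun this }
  haveI : FormallySmooth R (Generators.self R T).toExtension.Ring :=
    inferInstanceAs (FormallySmooth R (MvPolynomial _ _))
  have hu : Function.Bijective (Extension.H1Cotangent.map u) := by
    rw [show ⇑(Extension.H1Cotangent.map u) =
      ⇑(Extension.H1Cotangent.equivOfFormallySmooth (Generators.self R T).toExtension Q) from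
      funext fun x => (Extension.H1Cotangent.equivOfFormallySmooth_apply u x).symm]
    exact LinearEquiv.bijective _
  have h2 : (Extension.H1Cotangent.map f).liftBaseChange T =
      Extension.H1Cotangent.map u ∘ₗ (H1Cotangent.map R R S T).liftBaseChange T := by
    ext x : 3
    simp only [AlgebraTensorModule.curry_apply, curry_apply, LinearMap.coe_restrictScalars,
      LinearMap.comp_apply, LinearMap.liftBaseChange_tmul, one_smul]
    rw [H1Cotangent.map, LinearMap.liftBaseChange_tmul, one_smul,
      ← Extension.H1Cotangent.map_comp_apply]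
    exact congr($(Extension.H1Cotangent.map_eq _ _) x)
  rw [h2, LinearMap.coe_comp, Function.Bijective.of_comp_iff' hu] at h1
  exact h1

end Groth.Agent.FlatCx12.NLTop
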