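import Groth.Agent.FlatCx12.NLQIso
import Groth.Agent.FlatCx12.NLBottom
import Groth.Agent.FlatCx12.NLTop
import Groth.Agent.HenselLib.HullWEt
import Groth.Agent.HenselLib.HullFlat

/-!
# Naive cotangent complexes and (strict) henselizations
-/

set_option autoImplicit false
set_option backward.isDefEq.respectTransparency false
universe u

open CategoryTheory CategoryTheory.Limits TensorProduct Algebra
attribute [local instance] HasDerivedCategory.standard

namespace Groth.Agent.FlatCx12.NLHensel

open HenselLib

theorem quasiIso_bcMapSelf_of_hulls (A B A' B' : Type u) [CommRing A] [CommRing B] [CommRing A']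
    [CommRing B'] [Algebra A B] [Algebra A A'] [Algebra B B'] [Algebra A' B'] [Algebra A B']
    [IsScalarTower A A' B'] [IsScalarTower A B B'] {K L : Type u} [CommRing K] [Algebra A K]
    [Field L] [Algebra B L] (hL : Function.Surjective (hullPt B L))
    (eA : Hull A K ≃ₐ[A] A') (eB : Hull B L ≃ₐ[B] B') :
    QuasiIso (NLCx.bcMapSelf A B A' B') := by
  haveI : Algebra.WeaklyEtale A A' := weaklyEtale_of_equiv eA
  haveI : Algebra.FormallyEtale A A' := Algebra.FormallyEtale.of_equiv eA
  haveI : Algebra.FormallyEtale B B' := Algebra.FormallyEtale.of_equiv eB
  haveI : Module.Flat B B' := NLTop.flat_of_equiv eB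
  refine NLQIso.quasiIso_bcMap _ ?_ ?_
  · have e : (H1Cotangent.map A A' B B').liftBaseChange B' =
        (H1Cotangent.map A A' B' B').restrictScalars B' ∘ₗ (H1Cotangent.map A A B B').liftBaseChange B' := by
      ext x : 3
      simp [FlatMor12.NLSheaf.map_map]
    show Function.Bijective ((H1Cotangent.map A A' B B').liftBaseChange B')
    rw [e]
    exact (NLBottom.bijective_h1Cotangent_map A A' B').comp
      (NLTop.bijective_h1Cotangent_map_hull hL eB)
  · have e : (NLCx.bcH0Map A B A' B' : B' ⊗[B] Ω[B⁄A] → Ω[B'⁄A']) =
        KaehlerDifferential.map A A' B' B' ∘ KaehlerDifferential.tensorKaehlerEquivOfFormallyEtale A B B' := by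
      funext z
      induction z with
      | zero => simp
      | add a b ha hb => simp only [Function.comp_apply, map_add] at *; rw [ha, hb]
      | tmul s d =>
        have key : KaehlerDifferential.map A A' B B' d =
            KaehlerDifferential.map A A' B' B' (KaehlerDifferential.map A A B B' d) := by
          have : KaehlerDifferential.map A A' B B' =
              (KaehlerDifferential.map A A' B' B').restrictScalars B ∘ₗ KaehlerDifferential.map A A B B' := by
            refine Derivation.liftKaehlerDifferential_unique _ _ (Derivation.ext fun b => ?_)
            simp only [Derivation.coe_comp, LinearMap.coe_comp, LinearMap.compDer,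
              Function.comp_apply, LinearMap.restrictScalars_apply, KaehlerDifferential.map_D]
            simp [KaehlerDifferential.map_D]
          exact LinearMap.congr_fun this d
        rw [Function.comp_apply, KaehlerDifferential.tensorKaehlerEquivOfFormallyEtale_apply,
          KaehlerDifferential.mapBaseChange_tmul, map_smul, ← key]
        rfl
    rw [e]
    exact (NLBottom.bijective_kaehler_map A A' B').comp
      (KaehlerDifferential.tensorKaehlerEquivOfFormallyEtale A B B').bijective

end Groth.Agent.FlatCx12.NLHensel
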