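import Groth.Agent.FlatMor12.NLBaseChange.Cx
import Groth.Agent.DerCompLib.KoszulPush

/-!
# When the base change map of naive cotangent complexes is a quasi-isomorphism
-/

set_option autoImplicit false
set_option backward.isDefEq.respectTransparency false
set_option synthInstance.maxHeartbeats 200000
universe u

open CategoryTheory CategoryTheory.Limits TensorProduct Algebra.Extension HomologicalComplex
attribute [local instance] HasDerivedCategory.standard

namespace Groth.Agent.FlatCx12.NLQIso

open FlatMor12.NLBaseChange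

variable {R S R' S' : Type u} [CommRing R] [CommRing S] [CommRing R']
    [CommRing S'] [Algebra R S] [Algebra R' S'] [Algebra R R'] [Algebra S S'] [Algebra R S']
    [IsScalarTower R R' S'] [IsScalarTower R S S']
variable {P : Algebra.Extension.{u} R S} {P' : Algebra.Extension.{u} R' S'}

theorem toKaehler_lift (f : P.Hom P') (z : S' ⊗[S] P.CotangentSpace) :
    P'.toKaehler (LinearMap.liftBaseChange S' (CotangentSpace.map f) z) =
      NLCx.bcH0Map R S R' S' (P.toKaehler.baseChange S' z) := by
  have key : ∀ w, P'.toKaehler (CotangentSpace.map f w) =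
      KaehlerDifferential.map R R' S S' (P.toKaehler w) := by
    intro w
    induction w using TensorProduct.induction_on with
    | zero => simp
    | add a b ha hb => simp only [map_add, ha, hb]
    | tmul s d =>
      obtain ⟨d, rfl⟩ := KaehlerDifferential.linearCombination_surjective R P.Ring d
      induction d using Finsupp.induction_linear with
      | zero => simp
      | add a b ha hb => simp only [map_add, TensorProduct.tmul_add, ha, hb]
      | single x r =>
        simp only [Finsupp.linearCombination_single, ← TensorProduct.smul_tmul, CotangentSpace.map_tmul,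
          toKaehler, KaehlerDifferential.mapBaseChange_tmul, KaehlerDifferential.map_D, map_smul,
          f.algebraMap_toRingHom, Hom.toAlgHom_apply]
        simp [f.algebraMap_toRingHom]
  induction z with
  | zero => simp
  | add a b ha hb => simp only [map_add, ha, hb]
  | tmul a m => simp [NLCx.bcH0Map, key]

/-- A criterion on `H⁻¹` and `H⁰`. -/
theorem quasiIso_bcMap (f : P.Hom P') [Module.Flat S S']
    (h₁ : Function.Bijective (LinearMap.liftBaseChange S' (H1Cotangent.map f)))
    (h₀ : Function.Bijective (NLCx.bcH0Map R S R' S')) :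
    QuasiIso (NLCx.bcMap f) := by
  let X₁ := (doubleXIso₀ (ModuleCat.ofHom (P.cotangentComplex.baseChange S'))
    (show (ComplexShape.up ℤ).Rel (-1) 0 by simp))
  let X₀ := (doubleXIso₁ (ModuleCat.ofHom (P.cotangentComplex.baseChange S'))
    (show (ComplexShape.up ℤ).Rel (-1) 0 by simp) (by decide))
  have hd : (NLCx.bcCx P S').d (-1) 0 =
      X₁.hom ≫ ModuleCat.ofHom (P.cotangentComplex.baseChange S') ≫ X₀.inv := double_d _ _ (by decide)
  have hdM : ∀ v, X₀.hom ((NLCx.bcCx P S').d (-1) 0 v) = P.cotangentComplex.baseChange S' (X₁.hom v) := fun v => by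
    rw [hd]
    exact congr($(X₀.inv_hom_id) _)
  have hdN : ∀ w, (e₀ P').hom ((NLCx.cx P').d (-1) 0 w) = P'.cotangentComplex ((e₁ P').hom w) := fun w => by
    simp [cx_d]
  have hf₁ : ∀ v, (e₁ P').hom ((NLCx.bcMap f).f (-1) v) =
      LinearMap.liftBaseChange S' (Cotangent.map f) (X₁.hom v) := fun v => by simp [bcMap_f₁, X₁]; rfl
  have hf₀ : ∀ v, (e₀ P').hom ((NLCx.bcMap f).f 0 v) =
      LinearMap.liftBaseChange S' (CotangentSpace.map f) (X₀.hom v) := fun v => by simp [bcMap_f₀, X₀]; rfl
  have inj : ∀ {A B : ModuleCat.{u} S'} (e : A ≅ B), Function.Injective e.hom := fun e =>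
    ((ConcreteCategory.isIso_iff_bijective e.hom).1 inferInstance).1
  have surj : ∀ {A B : ModuleCat.{u} S'} (e : A ≅ B), Function.Surjective e.hom := fun e =>
    ((ConcreteCategory.isIso_iff_bijective e.hom).1 inferInstance).2
  have hexι : Function.Exact (h1Cotangentι.baseChange S') (P.cotangentComplex.baseChange S') :=
    Module.Flat.lTensor_exact S' exact_hCotangentι_cotangentComplex
  have hexK : Function.Exact (P.cotangentComplex.baseChange S') (P.toKaehler.baseChange S') :=
    lTensor_exact S' exact_cotangentComplex_toKaehler toKaehler_surjective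
  have hcomp : ∀ w, (LinearMap.liftBaseChange S' (H1Cotangent.map f) w).1 =
      LinearMap.liftBaseChange S' (Cotangent.map f) (h1Cotangentι.baseChange S' w) := fun w => by
    induction w with
    | zero => simp
    | add a b ha hb => simp only [map_add, ← ha, ← hb]; rfl
    | tmul a m => simp
  have hιinj : Function.Injective (h1Cotangentι.baseChange S' : S' ⊗[S] P.H1Cotangent → _) :=
    Module.Flat.lTensor_preserves_injective_linearMap _ h1Cotangentι_injective
  refine DerCompLib.quasiIso_of_elements _ (fun i x hx hw => ?_) fun i y hy => ?_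
  · obtain ⟨w, hw⟩ := hw
    rcases eq_or_ne i (-1) with rfl | h1
    · refine ⟨0, ?_⟩
      rw [map_zero]
      apply inj X₁
      rw [map_zero]
      obtain ⟨z, hz⟩ := (hexι (X₁.hom x)).1 (by
        rw [← hdM]; rw [show ((-1 : ℤ) + 1) = 0 from rfl] at hx; rw [hx, map_zero])
      have hx0 : (e₁ P').hom ((NLCx.bcMap f).f (-1) x) = 0 := by
        rw [← hw, show (NLCx.cx P').d (-1 - 1) (-1) = 0 from
          (cx_isZero P' _ (by norm_num) (by norm_num)).eq_of_src _ _]
        simp
      rw [hf₁, ← hz, ← hcomp] at hx0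
      rw [← hz, h₁.1 (a₁ := z) (a₂ := 0) (Subtype.ext (by rw [hx0, map_zero]; rfl)), map_zero]
    rcases eq_or_ne i 0 with rfl | h0
    · rw [show (0 : ℤ) - 1 = -1 from rfl] at *
      have h : P.toKaehler.baseChange S' (X₀.hom x) = 0 := h₀.1 (by
        rw [map_zero, ← toKaehler_lift, ← hf₀, ← hw]
        change P'.toKaehler ((e₀ P').hom ((NLCx.cx P').d (-1) 0 _)) = 0
        rw [hdN]
        exact exact_cotangentComplex_toKaehler.apply_apply_eq_zero _)
      obtain ⟨v, hv⟩ := (hexK _).1 h
      obtain ⟨v, rfl⟩ := surj X₁ v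
      exact ⟨v, inj X₀ (by rw [hdM, hv])⟩
    · exact ⟨0, @Subsingleton.elim _ (ModuleCat.subsingleton_of_isZero
        (isZero_double_X _ _ i h1 h0)) _ _⟩
  · rcases eq_or_ne i (-1) with rfl | h1
    · have hy' : P'.cotangentComplex ((e₁ P').hom y) = 0 := by
        rw [← hdN]; rw [show ((-1 : ℤ) + 1) = 0 from rfl] at hy; rw [hy, map_zero]
      obtain ⟨z, hz⟩ := h₁.2 ⟨(e₁ P').hom y, hy'⟩
      obtain ⟨x, hx⟩ := surj X₁ (h1Cotangentι.baseChange S' z)
      refine ⟨x, ?_, 0, ?_⟩
      · rw [show ((-1 : ℤ) + 1) = 0 from rfl]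
        apply inj X₀
        rw [map_zero, hdM, hx, hexι.apply_apply_eq_zero]
      · rw [map_zero]
        apply inj (e₁ P')
        rw [map_zero, map_sub, hf₁, hx, ← hcomp, hz, sub_self]
    rcases eq_or_ne i 0 with rfl | h0
    · rw [show (0 : ℤ) - 1 = -1 from rfl]
      obtain ⟨q, hq⟩ := h₀.2 (P'.toKaehler ((e₀ P').hom y))
      obtain ⟨x', hx'⟩ := LinearMap.lTensor_surjective S' (toKaehler_surjective (P := P)) q
      obtain ⟨x, rfl⟩ := surj X₀ x'
      subst hx'
      refine ⟨x, ?_, ?_⟩
      · exact (ModuleCat.subsingleton_of_isZero (isZero_double_X _ _ _ (by norm_num) (by norm_num))).elim _ _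
      · obtain ⟨w, hw⟩ := (exact_cotangentComplex_toKaehler ((e₀ P').hom y -
          LinearMap.liftBaseChange S' (CotangentSpace.map f) (X₀.hom x))).1 (by
          rw [map_sub, toKaehler_lift, sub_eq_zero]
          exact hq.symm)
        obtain ⟨w, rfl⟩ := surj (e₁ P') w
        exact ⟨w, inj (e₀ P') (by rw [hdN, hw, map_sub, hf₀])⟩
    · refine ⟨0, map_zero _, 0, ?_⟩
      exact @Subsingleton.elim _ (ModuleCat.subsingleton_of_isZero (cx_isZero P' i h1 h0)) _ _

end Groth.Agent.FlatCx12.NLQIso
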