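import Groth.Agent.FlatCx12.TorAmpComp
import Mathlib.RingTheory.Flat.Equalizer

/-!
# Tor dimension of modules flat over a base, after a base change which is tor-independent over it
-/

set_option autoImplicit false
set_option backward.isDefEq.respectTransparency false
set_option linter.style.haveILetI false

universe u

open TensorProduct Function

namespace Groth.Agent.FlatCx12.TorDimBC

open Groth.Agent.Tor15

/-- The kernel of a surjection of flat modules is flat. -/
theorem flat_kernel {k : Type u} [CommRing k] {K F X : Type u} [AddCommGroup K] [Module k K] [AddCommGroup F]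
    [Module k F] [AddCommGroup X] [Module k X] [Module.Flat k F] [Module.Flat k X] (i : K →ₗ[k] F) (q : F →ₗ[k] X)
    (hiq : Exact i q) (hq : Surjective q) (hi : Injective i) : Module.Flat k K := by
  refine flat_of_dim_zero fun N _ _ => dim_shift 0 (X := X) (N := N) i q hiq hq hi ?_
  obtain ⟨L, P, _, _, _, _, _, i', p', hip', hp', hi'⟩ := TorAmpComp.exists_free_pres (A := k) N
  exact ⟨L, P, inferInstance, inferInstance, inferInstance, inferInstance, inferInstance, i', p', hip', hp', hi',
    torVanish_of_flat⟩

section Indep

variable (k C A A'' A' : Type u) [CommRing k] [CommRing C] [CommRing A] [CommRing A''] [CommRing A'] [Algebra k C]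
  [Algebra k A] [Algebra C A''] [Algebra A A''] [Algebra k A''] [IsScalarTower k C A''] [IsScalarTower k A A'']
  [Algebra.IsPushout k C A A''] [Algebra A'' A'] [Module.Flat A'' A'] [Algebra A A'] [IsScalarTower A A'' A']

include k C A''

/-- An injection with cokernel flat over `k` stays injective after tensoring with `A'`, flat over `C ⊗_k A`. -/
theorem injective_lTensor {K F X : Type u} [AddCommGroup K] [Module A K] [Module k K] [IsScalarTower k A K]
    [AddCommGroup F] [Module A F] [Module k F] [IsScalarTower k A F] [AddCommGroup X] [Module A X] [Module k X]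
    [IsScalarTower k A X] [Module.Flat k X] (i : K →ₗ[A] F) (q : F →ₗ[A] X)
    (hiq : Exact i q) (hq : Surjective q) (hi : Injective i) : Injective (i.lTensor A') := by
  have h1 : Injective ((i.restrictScalars k).lTensor C) :=
    LinearMap.lTensor_injective_of_exact_of_flat (q.restrictScalars k) hq (i.restrictScalars k) hi hiq C
  let eK := Algebra.IsPushout.cancelBaseChange k C A A'' K
  let eF := Algebra.IsPushout.cancelBaseChange k C A A'' F
  have hsymm : ∀ z, eF.symm ((i.restrictScalars k).lTensor C z) = i.lTensor A'' (eK.symm z) := fun z => by
    induction z using TensorProduct.induction_on with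
    | zero => simp only [map_zero]
    | add x y hx hy => simp only [map_add, hx, hy]
    | tmul c m =>
      rw [LinearMap.lTensor_tmul, Algebra.IsPushout.cancelBaseChange_symm_tmul,
        Algebra.IsPushout.cancelBaseChange_symm_tmul, LinearMap.lTensor_tmul]
      rfl
  have h2 : Injective (i.lTensor A'') := fun x y hxy => by
    obtain ⟨x, rfl⟩ := eK.symm.surjective x
    obtain ⟨y, rfl⟩ := eK.symm.surjective y
    rw [← hsymm, ← hsymm] at hxy
    rw [h1 (eF.symm.injective hxy)]
  have h3 : Injective ((i.baseChange A'').lTensor A') :=
    Module.Flat.lTensor_preserves_injective_linearMap _ h2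
  let cK := AlgebraTensorModule.cancelBaseChange A A'' A'' A' K
  let cF := AlgebraTensorModule.cancelBaseChange A A'' A'' A' F
  have hc : ∀ z, i.lTensor A' (cK z) = cF ((i.baseChange A'').lTensor A' z) := fun z => by
    induction z using TensorProduct.induction_on with
    | zero => simp only [map_zero]
    | add x y hx hy => simp only [map_add, hx, hy]
    | tmul m w =>
      induction w using TensorProduct.induction_on with
      | zero => simp only [TensorProduct.tmul_zero, map_zero]
      | add x y hx hy => simp only [TensorProduct.tmul_add, map_add, hx, hy]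
      | tmul b l => simp [cK, cF, LinearMap.baseChange_tmul]
  intro x y hxy
  obtain ⟨x, rfl⟩ := cK.surjective x
  obtain ⟨y, rfl⟩ := cK.surjective y
  rw [hc, hc] at hxy
  rw [h3 (cF.injective hxy)]

variable [Module.Flat k A]

/-- Base change to `A'` keeps the tor dimension of modules flat over `k`. -/
theorem D_baseChange : ∀ (n : ℕ) (B : Type u) [AddCommGroup B] [Module A B] [Module k B] [IsScalarTower k A B]
    [Module.Flat k B], TorAmpComp.D (A := A) n B → TorAmpComp.D (A := A') n (A' ⊗[A] B) := by
  intro n
  induction n with
  | zero =>
    intro B _ _ _ _ _ h N _ _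
    haveI : Module.Flat A B := flat_of_dim_zero h
    exact torVanish_of_flat
  | succ n ih =>
    intro B _ _ _ _ _ h
    obtain ⟨K, F, _, _, _, _, _, i, q, hiq, hq, hi⟩ := TorAmpComp.exists_free_pres (A := A) B
    letI : Module k K := Module.compHom K (algebraMap k A)
    haveI : IsScalarTower k A K := .of_algebraMap_smul fun _ _ => rfl
    letI : Module k F := Module.compHom F (algebraMap k A)
    haveI : IsScalarTower k A F := .of_algebraMap_smul fun _ _ => rfl
    haveI : Module.Flat k F := Module.Flat.trans k A F
    haveI : Module.Flat k K := flat_kernel (i.restrictScalars k) (q.restrictScalars k) hiq hq hi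
    have hex : Exact (i.baseChange A') (q.baseChange A') := lTensor_exact A' hiq hq
    intro N _ _
    exact TorAmpComp.dim_unshift (i.baseChange A') (q.baseChange A') hex (LinearMap.lTensor_surjective A' hq)
      (injective_lTensor k C A A'' A' i q hiq hq hi) n N
      (ih K (fun N _ _ => dim_shift n i q hiq hq hi (h N)) N)

end Indep

/-- Tensoring by a flat module over an algebra keeps the bound of a module over the algebra. -/
theorem dim_tensor {A T : Type u} [CommRing A] [CommRing T] [Algebra A T] (L M : Type u) [AddCommGroup L]
    [Module T L] [Module A L] [IsScalarTower A T L] [Module.Flat T L] [AddCommGroup M] [Module T M] [Module A M]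
    [IsScalarTower A T M] : ∀ (j : ℕ) (N : Type u) [AddCommGroup N] [Module A N],
      Dim (R := A) j M N → Dim (R := A) j (L ⊗[T] M) N := by
  intro j
  induction j with
  | zero =>
    intro N _ _ h
    refine torVanish_symm ?_
    intro K P _ _ _ _ i p hip hp hi
    have h1 : Injective (i.rTensor M) := torVanish_symm h i p hip hp hi
    have h2 : Injective (AlgebraTensorModule.lTensor T M i) := (LinearMap.lTensor_inj_iff_rTensor_inj M i).2 h1
    have h3 := Module.Flat.lTensor_preserves_injective_linearMap (M := L) (AlgebraTensorModule.lTensor T M i) h2
    refine (LinearMap.lTensor_inj_iff_rTensor_inj (L ⊗[T] M) i).1 ?_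
    let eK := AlgebraTensorModule.assoc A T T L M K
    let eP := AlgebraTensorModule.assoc A T T L M P
    have h4 : (AlgebraTensorModule.lTensor T (L ⊗[T] M) i) =
        eP.symm.toLinearMap ∘ₗ ((AlgebraTensorModule.lTensor T M i).lTensor L) ∘ₗ eK.toLinearMap := by
      ext b n q; rfl
    have h5 : Injective (AlgebraTensorModule.lTensor T (L ⊗[T] M) i) := by
      rw [h4]; exact eP.symm.injective.comp (h3.comp eK.injective)
    exact h5
  | succ j ih =>
    intro N _ _ h
    obtain ⟨L', P', _, _, _, _, _, i', p', hip', hp', hi', hd⟩ := h
    exact ⟨L', P', inferInstance, inferInstance, inferInstance, inferInstance, inferInstance, i', p', hip', hp', hi',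
      ih L' hd⟩

end Groth.Agent.FlatCx12.TorDimBC
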