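import Groth.Agent.FlatCx12.RelPCFlatBCScheme
import Groth.Agent.FlatCx12.RelDescRing
import Groth.Agent.FlatCx12.TorDimBC
import Groth.Agent.RelPC.BaseChange

/-!
# Tor-independent base change of pseudo-coherent morphisms
-/

set_option autoImplicit false
set_option backward.isDefEq.respectTransparency false
set_option backward.defeqAttrib.useBackward true
set_option linter.style.haveILetI false

universe u

open CategoryTheory CategoryTheory.Limits AlgebraicGeometry TopologicalSpace TensorProduct Function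

attribute [local instance] HasDerivedCategory.standard
attribute [local instance] MvPolynomial.algebraMvPolynomial

namespace Groth.Agent.FlatCx12.PCIndep

open Groth.Agent.FlatMorPerfect

section Ring

variable (R C P P' : Type u) [CommRing R] [CommRing C] [CommRing P] [CommRing P'] [Algebra R C] [Algebra R P]
  [Algebra C P'] [Algebra P P'] [Algebra R P'] [IsScalarTower R C P'] [IsScalarTower R P P']
  [Algebra.IsPushout R C P P'] [Module.Flat R P]

include R C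

/-- Pseudo-coherence of modules flat over `R` survives base change along `R → C`. -/
theorem pc_baseChange : ∀ (k : ℕ) (M : Type u) [AddCommGroup M] [Module P M] [Module R M] [IsScalarTower R P M]
    [Module.Flat R M], PC P k M → PC P' k (P' ⊗[P] M) := by
  intro k
  induction k with
  | zero =>
    intro M _ _ _ _ _ h
    haveI := pc_zero_iff.1 h
    exact pc_zero_iff.2 inferInstance
  | succ k ih =>
    intro M _ _ _ _ _ h
    obtain ⟨r, g, hg, hK⟩ := pc_succ_iff.1 h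
    have hex := LinearMap.exact_subtype_ker_map g
    haveI : Module.Flat R (Fin r → P) := Module.Flat.trans R P (Fin r → P)
    haveI : Module.Flat R (LinearMap.ker g) :=
      TorDimBC.flat_kernel ((LinearMap.ker g).subtype.restrictScalars R) (g.restrictScalars R) hex hg
        Subtype.val_injective
    refine pc_coker (f := (LinearMap.ker g).subtype.baseChange P') (g := g.baseChange P')
      (lTensor_exact P' hex hg) (LinearMap.lTensor_surjective P' hg)
      (TorDimBC.injective_lTensor R C P P' P' (LinearMap.ker g).subtype g hex hg Subtype.val_injective)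
      (ih (LinearMap.ker g) hK) (pc_free _)

end Ring

/-- Tor-independent base change of pseudo-coherent ring maps. -/
theorem pcHom_baseChange (R C A A' B B' : Type u) [CommRing R] [CommRing C] [CommRing A] [CommRing A'] [CommRing B]
    [CommRing B'] [Algebra R C] [Algebra R A] [Algebra C A'] [Algebra A A'] [Algebra R A'] [IsScalarTower R C A']
    [IsScalarTower R A A'] [Algebra.IsPushout R C A A'] [Algebra A B] [Algebra A' B'] [Algebra B B'] [Algebra A B']
    [IsScalarTower A A' B'] [IsScalarTower A B B'] [Algebra.IsPushout A A' B B'] [Algebra R B] [IsScalarTower R A B]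
    [Module.Flat R A] [Module.Flat R B] (h : MoreMor.IsPseudoCoherentHom A B) :
    MoreMor.IsPseudoCoherentHom A' B' := by
  obtain ⟨n, φ, hφ, h1⟩ := pcHom_iff.1 h
  obtain ⟨φ', hφ', ⟨e⟩⟩ := baseChange_presentation A' B' φ hφ
  letI := φ.toRingHom.toAlgebra
  letI := φ'.toRingHom.toAlgebra
  haveI : IsScalarTower A (MvPolynomial (Fin n) A) B := .of_algHom φ
  haveI : IsScalarTower R (MvPolynomial (Fin n) A) B := .of_algebraMap_eq fun r => by
    rw [IsScalarTower.algebraMap_apply R A B, IsScalarTower.algebraMap_apply R A (MvPolynomial (Fin n) A),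
      ← IsScalarTower.algebraMap_apply A (MvPolynomial (Fin n) A) B]
  haveI : Module.Flat R (MvPolynomial (Fin n) A) := Module.Flat.trans R A _
  haveI : IsScalarTower R (MvPolynomial (Fin n) A) (MvPolynomial (Fin n) A') := .of_algebraMap_eq fun r => by
    rw [IsScalarTower.algebraMap_apply R A (MvPolynomial (Fin n) A),
      IsScalarTower.algebraMap_apply R A' (MvPolynomial (Fin n) A'), IsScalarTower.algebraMap_apply R A A',
      ← IsScalarTower.algebraMap_apply A A' (MvPolynomial (Fin n) A'),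
      ← IsScalarTower.algebraMap_apply A (MvPolynomial (Fin n) A) (MvPolynomial (Fin n) A')]
  haveI : IsScalarTower R C (MvPolynomial (Fin n) A') := .of_algebraMap_eq fun r => by
    rw [IsScalarTower.algebraMap_apply R A' (MvPolynomial (Fin n) A'), IsScalarTower.algebraMap_apply R C A',
      ← IsScalarTower.algebraMap_apply C A' (MvPolynomial (Fin n) A')]
  haveI : Algebra.IsPushout R A C A' := Algebra.IsPushout.symm ‹Algebra.IsPushout R C A A'›
  haveI : Algebra.IsPushout R C (MvPolynomial (Fin n) A) (MvPolynomial (Fin n) A') :=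
    ((Algebra.IsPushout.comp_iff (R := R) (S := A) (R' := C) (S' := A') (T := MvPolynomial (Fin n) A)
      (T' := MvPolynomial (Fin n) A')).2 inferInstance).symm
  exact pcHom_iff.2 ⟨n, φ', hφ', fun k => pc_congr e (pc_baseChange R C _ _ k B (h1 k))⟩

open Groth.Agent.FlatCx12.RelPC Groth.Agent.FlatCx12.RelPCFlatBC Groth.Agent.FlatCx12.RelDescScheme

/-- Base change of a pseudo-coherent morphism between schemes flat over a base, along a change of that base. -/
theorem rel_baseChange_indep {T T' S S' X X' : Scheme.{u}} {f : X ⟶ S} {g : S' ⟶ S} {f' : X' ⟶ S'} {g' : X' ⟶ X}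
    {q : S ⟶ T} {q' : S' ⟶ T'} {t : T' ⟶ T} (hT : IsPullback g q' q t) (hc : IsPullback g' f' f g)
    [Flat q] [Flat (f ≫ q)] [LocallyOfFiniteType f] [LocallyOfFiniteType f']
    (hf : ∀ n : ℤ, DerSch.IsNPseudoCoherent f n) (n : ℤ) : DerSch.IsNPseudoCoherent f' n := by
  refine rel_of_local fun x => ?_
  obtain ⟨T₀, hT₀, hxT₀, -⟩ := Opens.isBasis_iff_nbhd.1 T.isBasis_affineOpens
    (show q (g (f' x)) ∈ (⊤ : T.Opens) from trivial)
  obtain ⟨V, hV, hxV, hVT⟩ := Opens.isBasis_iff_nbhd.1 S.isBasis_affineOpens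
    (show g (f' x) ∈ q ⁻¹ᵁ T₀ from hxT₀)
  have hxU₀ : f (g' x) ∈ V := by
    rw [← Scheme.Hom.comp_apply, hc.w, Scheme.Hom.comp_apply]
    exact hxV
  obtain ⟨U, hU, hxU, hUV⟩ := Opens.isBasis_iff_nbhd.1 X.isBasis_affineOpens
    (show g' x ∈ f ⁻¹ᵁ V from hxU₀)
  have hxT' : t (q' (f' x)) ∈ T₀ := by
    rw [← Scheme.Hom.comp_apply, ← hT.w, Scheme.Hom.comp_apply]
    exact hxT₀
  obtain ⟨T₀', hT₀', hxT₀', hTT⟩ := Opens.isBasis_iff_nbhd.1 T'.isBasis_affineOpens
    (show q' (f' x) ∈ t ⁻¹ᵁ T₀ from hxT')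
  have hV' := isAffineOpen_inf hT hV hT₀ hT₀' hVT hTT
  have hgV : g ⁻¹ᵁ V ⊓ q' ⁻¹ᵁ T₀' ≤ g ⁻¹ᵁ V := inf_le_left
  have hU' := isAffineOpen_inf hc hU hV hV' hUV hgV
  refine ⟨⟨_, hU'⟩, ⟨_, hV'⟩, inf_le_right, ⟨hxU, hxV, hxT₀'⟩, ?_⟩
  refine testOn_iso ((DerivedCategory.singleFunctorIsoCompQ X'.Modules 0).app (Coh.structureModule X')) hU' ?_
  letI := (q.appLE T₀ V hVT).hom.toAlgebra
  letI := (t.appLE T₀ T₀' hTT).hom.toAlgebra
  letI := (g.appLE V _ hgV).hom.toAlgebra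
  letI := (q'.appLE T₀' (g ⁻¹ᵁ V ⊓ q' ⁻¹ᵁ T₀') inf_le_right).hom.toAlgebra
  letI : Algebra Γ(T, T₀) Γ(S', g ⁻¹ᵁ V ⊓ q' ⁻¹ᵁ T₀') :=
    ((g.appLE V _ hgV).hom.comp (q.appLE T₀ V hVT).hom).toAlgebra
  obtain ⟨_, _, _⟩ := exists_square hT hV hT₀ hT₀' hVT hTT rfl hgV inf_le_right
  letI := (f.appLE V U hUV).hom.toAlgebra
  letI := (g'.appLE U (g' ⁻¹ᵁ U ⊓ f' ⁻¹ᵁ (g ⁻¹ᵁ V ⊓ q' ⁻¹ᵁ T₀')) inf_le_left).hom.toAlgebra
  letI := (f'.appLE (g ⁻¹ᵁ V ⊓ q' ⁻¹ᵁ T₀') (g' ⁻¹ᵁ U ⊓ f' ⁻¹ᵁ (g ⁻¹ᵁ V ⊓ q' ⁻¹ᵁ T₀')) inf_le_right).hom.toAlgebra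
  letI : Algebra Γ(S, V) Γ(X', g' ⁻¹ᵁ U ⊓ f' ⁻¹ᵁ (g ⁻¹ᵁ V ⊓ q' ⁻¹ᵁ T₀')) :=
    ((g'.appLE U _ inf_le_left).hom.comp (f.appLE V U hUV).hom).toAlgebra
  obtain ⟨_, _, _⟩ := exists_square hc hU hV hV' hUV hgV rfl inf_le_left inf_le_right
  letI : Algebra Γ(T, T₀) Γ(X, U) := ((f.appLE V U hUV).hom.comp (q.appLE T₀ V hVT).hom).toAlgebra
  haveI : IsScalarTower Γ(T, T₀) Γ(S, V) Γ(X, U) := .of_algebraMap_eq fun _ => rfl
  haveI : Module.Flat Γ(T, T₀) Γ(S, V) := q.flat_appLE hT₀ hV hVT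
  haveI : Module.Flat Γ(T, T₀) Γ(X, U) := by
    have h1 : ((f ≫ q).appLE T₀ U (fun y hy => hVT (hUV hy))).hom.Flat := (f ≫ q).flat_appLE hT₀ hU _
    rw [← Scheme.Hom.appLE_comp_appLE f q T₀ V U hVT hUV] at h1
    exact h1
  obtain ⟨k, π, hπ⟩ := Algebra.FiniteType.iff_quotient_mvPolynomial''.1
    (show Algebra.FiniteType Γ(S, V) Γ(X, U) from f.finiteType_appLE hV hU hUV)
  have hp : MoreMor.IsPseudoCoherentHom Γ(S, V) Γ(X, U) :=
    pcHom_iff.2 ⟨k, π, hπ, Groth.Agent.RelPC.pcs_of_relModuleAll π hπ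
      (RelPCComp.relModuleAll_of_nPC f hf ⟨U, hU⟩ ⟨V, hV⟩ hUV)⟩
  have hp' := pcHom_baseChange Γ(T, T₀) Γ(T', T₀') Γ(S, V) Γ(S', g ⁻¹ᵁ V ⊓ q' ⁻¹ᵁ T₀') Γ(X, U)
    Γ(X', g' ⁻¹ᵁ U ⊓ f' ⁻¹ᵁ (g ⁻¹ᵁ V ⊓ q' ⁻¹ᵁ T₀')) hp
  exact (testOn_iff_sec f' hU' inf_le_right n _ _ (RelPCComp.isSec_structure hU')).2
    (RelDescRing.relModuleAll_of_pcHom hp' n)

end Groth.Agent.FlatCx12.PCIndep
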