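import Groth.Agent.DRingLib.TorDimAmp
import Groth.Agent.DRingLib.PCPerf
import Groth.Agent.FlatMorPerfect.TorDim

/-!
# Perfect modules: pseudo-coherent of finite tor dimension
-/

set_option autoImplicit false
set_option backward.isDefEq.respectTransparency false
set_option backward.defeqAttrib.useBackward true
set_option linter.style.haveILetI false

universe u

open CategoryTheory CategoryTheory.Limits MonoidalCategory
open Groth.Agent.CAlgH.FlatDimension
attribute [local instance] HasDerivedCategory.standard

namespace Groth.Agent.FlatCx12.PerfectModule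

variable {A : Type u} [CommRing A]

/-- A resolution with a flat syzygy bounds the flat dimension. -/
theorem flatDimLE_range (F : ℕ → Type u) [∀ i, AddCommGroup (F i)] [∀ i, Module A (F i)]
    [∀ i, Module.Flat A (F i)] (d : ∀ i, F (i + 1) →ₗ[A] F i)
    (hd : ∀ i, LinearMap.range (d (i + 1)) = LinearMap.ker (d i)) :
    ∀ (j m : ℕ), Module.Flat A (LinearMap.range (d (m + j))) → FlatDimLE A j (LinearMap.range (d m)) := by
  intro j
  induction j with
  | zero => exact fun m h => h
  | succ j ih =>
    intro m h
    have h' : FlatDimLE A j (LinearMap.range (d (m + 1))) :=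
      ih (m + 1) (by rwa [show m + 1 + j = m + (j + 1) by omega])
    exact ⟨_, F (m + 1), inferInstance, inferInstance, inferInstance, inferInstance, inferInstance,
      (LinearMap.range (d (m + 1))).subtype, (d m).rangeRestrict,
      by rw [LinearMap.exact_iff, LinearMap.ker_rangeRestrict, Submodule.range_subtype, hd],
      (d m).surjective_rangeRestrict, Submodule.injective_subtype _, h'⟩

/-- A module of finite flat amplitude has finite flat dimension. -/
theorem exists_flatDimLE_of_amp (M : Type u) [AddCommGroup M] [Module A M] {a b : ℤ}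
    (h : DRing.HasTorAmplitudeIn A a b (Dual.inD A M)) : ∃ n, FlatDimLE A n M := by
  haveI : ∀ N : ModuleCat.{u} A, DRing.HasLTensor A N := fun N => DCat.hasLTensor N
  let Pr := projectiveResolution (ModuleCat.of A M)
  let P : DRing.Cx A := Pr.cochainComplex
  have hf : ∀ m, Module.Flat A (Pr.complex.X m) := fun m => by
    have : Module.Projective A (Pr.complex.X m) := (IsProjective.iff_projective _).2 (Pr.projective m)
    infer_instance
  have hPf : DRing.TermwiseFlat P := fun i => by
    have : Module.Projective A (P.X i) :=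
      (IsProjective.iff_projective _).2 (inferInstanceAs (Projective (Pr.cochainComplex.X i)))
    infer_instance
  have hPb : DRing.VanishesAbove P 0 := fun i hi => CochainComplex.isZero_of_isStrictlyLE Pr.cochainComplex 0 i hi
  let e : DRing.toD P ≅ Dual.inD A M := asIso (DerivedCategory.Q.map Pr.π') ≪≫
    ((DerivedCategory.singleFunctorIsoCompQ (ModuleCat.{u} A) 0).app (ModuleCat.of A M)).symm
  have hK := DCat.isKFlatFor_of_vanishesAbove P 0 hPb hPf
  let dd : ∀ k, Pr.complex.X (k + 1) →ₗ[A] Pr.complex.X k := fun k => (Pr.complex.d (k + 1) k).hom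
  let q : Pr.complex.X 0 →ₗ[A] M := (Pr.π.f 0).hom
  have hd : ∀ k, LinearMap.range (dd (k + 1)) = LinearMap.ker (dd k) := fun k =>
    (Pr.exact_succ k).moduleCat_range_eq_ker
  haveI := hf
  obtain ⟨m, hm⟩ : ∃ m : ℕ, -((m + 2 : ℕ) : ℤ) < a := ⟨(-a).toNat, by omega⟩
  have hflat : Module.Flat A (LinearMap.range (dd m)) := by
    let i : ℤ := -((m + 1 : ℕ) : ℤ)
    let c : P.X i ≅ Pr.complex.X (m + 1) := Pr.cochainComplexXIso i (m + 1)
    let c' : P.X (i - 1) ≅ Pr.complex.X (m + 2) := Pr.cochainComplexXIso (i - 1) (m + 2) (by omega)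
    refine DCat.flat_cokernel_of_exactAt P hPf i
      (fun N => (DCat.isZero_ltensor_iff N hK e _).1 (DCat.vanish_of_flatAmp h N (Or.inl (by omega))))
      (C := ModuleCat.of A (LinearMap.range (dd m)))
      (c.hom ≫ ModuleCat.ofHom (dd m).rangeRestrict) ?_ ?_
    · exact (dd m).surjective_rangeRestrict.comp
        ((ModuleCat.epi_iff_surjective c.hom).1 inferInstance)
    · rw [LinearMap.exact_iff]
      have hc : P.d (i - 1) i = c'.hom ≫ Pr.complex.d (m + 2) (m + 1) ≫ c.inv := by
        rw [Pr.cochainComplex_d _ _ (m + 2) (m + 1)]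
      ext x
      rw [LinearMap.mem_ker, LinearMap.mem_range]
      show (dd m).rangeRestrict (c.hom x) = 0 ↔ _
      rw [← LinearMap.mem_ker, LinearMap.ker_rangeRestrict, ← hd m, LinearMap.mem_range]
      constructor
      · rintro ⟨y, hy⟩
        refine ⟨c'.inv y, ?_⟩
        rw [hc]
        show c.inv ((dd (m + 1)) (c'.hom (c'.inv y))) = x
        rw [Iso.inv_hom_id_apply, hy, Iso.hom_inv_id_apply]
      · rintro ⟨y, rfl⟩
        refine ⟨c'.hom y, ?_⟩
        rw [hc]
        show (dd (m + 1)) (c'.hom y) = c.hom (c.inv ((dd (m + 1)) (c'.hom y)))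
        rw [Iso.inv_hom_id_apply]
  have h1 : FlatDimLE A m (LinearMap.range (dd 0)) :=
    flatDimLE_range (fun k => Pr.complex.X k) dd hd m 0 (by rwa [zero_add])
  refine ⟨m + 1, _, Pr.complex.X 0, inferInstance, inferInstance, inferInstance, inferInstance, inferInstance,
    (LinearMap.range (dd 0)).subtype, q, ?_, (ModuleCat.epi_iff_surjective (Pr.π.f 0)).1 inferInstance,
    Submodule.injective_subtype _, h1⟩
  rw [LinearMap.exact_iff, Submodule.range_subtype]
  exact ((ShortComplex.exact_of_g_is_cokernel (ShortComplex.mk _ _ Pr.complex_d_comp_π_f_zero)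
    Pr.isColimitCokernelCofork).moduleCat_range_eq_ker).symm

/-- A module is perfect if and only if it is pseudo-coherent and of finite tor dimension. -/
theorem isPerfectModule_iff (M : Type u) [AddCommGroup M] [Module A M] :
    DRing.IsPerfectModule A M ↔ DRing.IsPseudoCoherentModule' A M ∧ DRing.HasFiniteTorDim A M := by
  refine (DRingLib.perfect_iff _).trans (and_congr Iff.rfl ⟨fun ⟨a, b, h⟩ => ?_, fun ⟨n, h⟩ => ?_⟩)
  · obtain ⟨n, hn⟩ := exists_flatDimLE_of_amp M h
    exact FlatMorPerfect.hasFiniteTorDim_iff.2 ⟨n, FlatMorPerfect.td_of_flatDimLE hn⟩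
  · exact ⟨_, _, DRingLib.amp_of_torDimLE M h⟩

end Groth.Agent.FlatCx12.PerfectModule
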