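import Groth.Agent.FlatCx12.TDLocal
import Groth.Agent.FlatCx12.AmpFibre
import Groth.Agent.DQCoh.PerfectTor
import Groth.Agent.DQCoh.RHomQCoh
import Groth.Agent.AffSchLib.TildeExact

/-!
# Pseudo-coherent objects with bounded cohomology over local rings of finite tor dimension are perfect
-/

set_option autoImplicit false
set_option backward.isDefEq.respectTransparency false
set_option backward.defeqAttrib.useBackward true
set_option linter.style.haveILetI false
set_option synthInstance.maxHeartbeats 100000

universe u

open CategoryTheory CategoryTheory.Limits DerivedCategory AlgebraicGeometry TensorProduct Function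

attribute [local instance] HasDerivedCategory.standard

namespace Groth.Agent.FlatCx12.PerfectPointwise

open Groth.Agent.FlatMorPerfect Groth.Agent.DCat

variable {R : Type u} [CommRing R]

/-- A bounded above complex of finite free modules, exact below some degree, has finite tor amplitude if all modules
over the localisations at primes have finite tor dimension. -/
theorem exists_amp_of_prime (P : DRing.Cx R) (hP : DRing.TermwiseFiniteFree P) {a c : ℤ} (hac : a ≤ c)
    (hc : DRing.VanishesAbove P c) (hex : ∀ i < a, P.ExactAt i)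
    (hR : ∀ (q : PrimeSpectrum R) (M : Type u) [AddCommGroup M] [Module (Localization.AtPrime q.asIdeal) M],
      ∃ n, TD (Localization.AtPrime q.asIdeal) n M) :
    ∃ a', a' ≤ c ∧ DRing.HasTorAmplitudeIn R a' c (DRing.toD P) := by
  haveI hfree : ∀ i, Module.Free R (P.X i) := fun i => (hP i).2
  haveI hfin : ∀ i, Module.Finite R (P.X i) := fun i => (hP i).1
  have hPf : DRing.TermwiseFlat P := fun i => Module.Flat.of_free
  let Q : ℤ → Type u := fun i => P.X i ⧸ LinearMap.range (P.d (i - 1) i).hom
  have hrange : ∀ j i : ℤ, j + 1 = i → i ≤ a → Nonempty (Q j ≃ₗ[R] LinearMap.range (P.d j i).hom) := by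
    intro j i hji hi
    have h1 : LinearMap.range (P.d (j - 1) j).hom = LinearMap.ker (P.d j i).hom := by
      have h2 := hex j (by omega)
      rw [HomologicalComplex.exactAt_iff' P (j - 1) j i (by simp) (by simp [hji]),
        ShortComplex.moduleCat_exact_iff_range_eq_ker] at h2
      exact h2
    exact ⟨Submodule.quotEquivOfEq _ _ h1 ≪≫ₗ LinearMap.quotKerEquivRange (P.d j i).hom⟩
  have hpc : ∀ (k : ℕ) (i : ℤ), i ≤ a → PC R k (Q i) := by
    intro k
    induction k with
    | zero => exact fun i _ => pc_zero_iff.2 inferInstance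
    | succ k ih =>
      intro i hi
      obtain ⟨e⟩ := hrange (i - 1) i (by omega) hi
      exact pc_coker (f := (LinearMap.range (P.d (i - 1) i).hom).subtype)
        (g := (LinearMap.range (P.d (i - 1) i).hom).mkQ)
        (by rw [LinearMap.exact_iff, Submodule.ker_mkQ, Submodule.range_subtype])
        (Submodule.mkQ_surjective _) (Submodule.injective_subtype _)
        (pc_congr e (ih (i - 1) (by omega))) (pc_free _)
  obtain ⟨n, hn⟩ := TDLocal.exists_td_of_forall_prime (Q a) (fun k => hpc k a le_rfl) fun q => hR q _
  have hdown : ∀ (n : ℕ) (i : ℤ), i ≤ a → TD R n (Q i) → Module.Flat R (Q (i - n)) := by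
    intro n
    induction n with
    | zero =>
      intro i _ h
      rw [show i - ((0 : ℕ) : ℤ) = i by simp]
      exact h.flatDimLE
    | succ n ih =>
      intro i hi h
      obtain ⟨e⟩ := hrange (i - 1) i (by omega) hi
      have h' : TD R n (LinearMap.range (P.d (i - 1) i).hom) :=
        h.ker (j := (LinearMap.range (P.d (i - 1) i).hom).subtype)
          (q := (LinearMap.range (P.d (i - 1) i).hom).mkQ)
          (by rw [LinearMap.exact_iff, Submodule.ker_mkQ, Submodule.range_subtype])
          (Submodule.mkQ_surjective _) (Submodule.injective_subtype _)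
      have := ih (i - 1) (by omega) (td_congr e.symm h')
      rwa [show i - 1 - (n : ℤ) = i - ((n + 1 : ℕ) : ℤ) by push_cast; omega] at this
  haveI : Module.Flat R (Q (a - n)) := hdown n a le_rfl hn
  exact ⟨a - n, by omega, AmpFibreCx.amp_of_truncation P hPf (by omega) hc (fun i hi => hex i (by omega))
    (Module.Flat.of_linearEquiv (ModuleCat.cokernelIsoRangeQuotient (P.d (a - n - 1) (a - n))).toLinearEquiv)⟩

variable {X : Scheme.{u}}

/-- The criterion on schemes. -/
theorem isPerfect_of_psc_of_stalks
    (hX : ∀ (x : X) (M : Type u) [AddCommGroup M] [Module (X.presheaf.stalk x) M],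
      DRing.HasFiniteTorDim (X.presheaf.stalk x) M)
    (E : DCoh.D X) (c : ℤ) [E.IsGE c] (hp : ∀ m : ℤ, DCoh.IsPseudoCoherentD m E) : DCoh.IsPerfect E := by
  refine DQCoh.isPerfect_of_local E fun x => ?_
  obtain ⟨B, k, _, P, d, hx, hd, hP, ⟨e⟩⟩ := AmpFibre.exists_chart hp x
  refine ⟨Spec B, k, inferInstance, hx, ?_⟩
  haveI := AffSchLib.preservesFiniteLimits_tilde B
  haveI := DQCoh.preservesFiniteColimits_tilde B
  haveI := DQCoh.isGE_rd k E c
  have hex : ∀ i < min c d, P.ExactAt i := fun i hi => by
    have hz : IsZero ((DerivedCategory.homologyFunctor (Spec B).Modules i).obj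
        (DCoh.toD (Spec B) (((tilde.functor B).mapHomologicalComplex (ComplexShape.up ℤ)).obj P))) :=
      (DerivedCategory.isZero_of_isGE ((PerfLocal.rd k).obj E) c i (by omega)).of_iso
        ((DerivedCategory.homologyFunctor (Spec B).Modules i).mapIso e)
    have h1 : (((tilde.functor B).mapHomologicalComplex (ComplexShape.up ℤ)).obj P).ExactAt i := by
      rw [HomologicalComplex.exactAt_iff_isZero_homology]
      exact hz.of_iso ((DerivedCategory.homologyFunctorFactors (Spec B).Modules i).app _).symm
    rw [HomologicalComplex.exactAt_iff] at h1 ⊢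
    exact (ShortComplex.exact_map_iff_of_faithful (P.sc i) (tilde.functor B)).1 h1
  obtain ⟨a', ha', hamp⟩ := exists_amp_of_prime P hP (a := min c d) (by omega) hd hex fun q M _ _ => by
    let Lq := Localization.AtPrime q.asIdeal
    let e₁ : X.presheaf.stalk (k q) ≅ CommRingCat.of Lq :=
      asIso (k.stalkMap q) ≪≫ Spec.stalkIso B q
    let σ := e₁.commRingCatIsoToRingEquiv
    letI : Algebra (X.presheaf.stalk (k q)) Lq := σ.toRingHom.toAlgebra
    letI : Module (X.presheaf.stalk (k q)) M := Module.compHom M σ.toRingHom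
    haveI : IsScalarTower (X.presheaf.stalk (k q)) Lq M := .of_algebraMap_smul fun _ _ => rfl
    haveI : IsLocalization (IsUnit.submonoid (X.presheaf.stalk (k q))) Lq :=
      IsLocalization.of_le_isUnit_of_bijective Algebra.algebraMapSubmonoid_isUnit_le_isUnit σ.bijective
    obtain ⟨n, hn⟩ := hasFiniteTorDim_iff.1 (hX (k q) M)
    exact ⟨n, TDLocal.td_localization (IsUnit.submonoid (X.presheaf.stalk (k q))) Lq hn⟩
  obtain ⟨F, hF, hFp, hiso⟩ := DRingLib.exists_finiteProjective ha'
    (DRingLib.pc_of_pc' ⟨P, d, hd, hP, ⟨Iso.refl _⟩⟩ _) hamp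
  exact PCTriangle.perfect_iso (((tilde.functor B).mapDerivedCategoryFactors.app P) ≪≫ e)
    (DQCoh.isPerfect_tildeD ⟨F, a', d, hF, hFp, hiso⟩)

end Groth.Agent.FlatCx12.PerfectPointwise
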