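import Groth.Agent.FlatCx12.PerfectHom
import Groth.Agent.CAlgH3.RegularHom
import Mathlib.RingTheory.KrullDimension.Basic

/-! # Every module over a regular local ring has finite tor dimension -/

set_option autoImplicit false
set_option linter.style.haveILetI false

universe u

open CategoryTheory
attribute [local instance] HasDerivedCategory.standard

namespace Groth.Agent.FlatCx12.RegularTorDim

theorem hasFiniteTorDim (A : Type u) [CommRing A] [IsRegularLocalRing A] (M : Type u) [AddCommGroup M]
    [Module A M] : DRing.HasFiniteTorDim A M := by
  haveI : IsRegularRing A := CAlgH3.isRegularRing_of_isRegularLocalRing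
  have hdim : ringKrullDim A < ⊤ := ringKrullDim_lt_top
  obtain ⟨d, hd⟩ : ∃ d : ℕ, ringKrullDim A ≤ d := by
    cases h : ringKrullDim A using WithBot.recBotCoe with
    | bot => exact ⟨0, bot_le⟩
    | coe m =>
      cases m using ENat.recTopCoe with
      | top => rw [h] at hdim; exact absurd hdim (lt_irrefl _)
      | coe m => exact ⟨m, le_rfl⟩
  refine ⟨d, PerfectHom.torDimLE_of_pd d (fun N => ?_) M⟩
  rw [HasProjectiveDimensionLE, hasProjectiveDimensionLT_iff]
  intro i hi Y e
  have := DRingLib.injDim_of_regular (R := A)
    (fun p => IsRegularRing.isRegularLocalRing_localization p.asIdeal) d hd Y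
  have := HasInjectiveDimensionLT.subsingleton Y (d + 1) i hi N
  exact Subsingleton.elim _ _

end Groth.Agent.FlatCx12.RegularTorDim
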