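import Groth.Agent.FlatCx12.RelPCChart

/-!
# Relative pseudo-coherence on pairs of affine opens

Independence of the chart, locality on source and base, and the global form.
-/

set_option autoImplicit false
set_option backward.isDefEq.respectTransparency false
set_option backward.defeqAttrib.useBackward true
set_option linter.style.haveILetI false
set_option synthInstance.maxHeartbeats 100000
set_option backward.isDefEq.respectTransparency.types false

universe u

open CategoryTheory CategoryTheory.Limits CategoryTheory.Pretriangulated DerivedCategory Opposite TopologicalSpace AlgebraicGeometry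
open Groth.Agent.DCat Groth.Agent.FlatMorPerfect Groth.Agent.FlatCx12.EmbPush Groth.Agent.FlatCx12.RelPCChart

namespace Groth.Agent.FlatCx12.RelPC

attribute [local instance] HasDerivedCategory.standard
attribute [-instance] Int.instConditionallyCompleteLinearOrder

variable {X S : Scheme.{u}} (f : X ⟶ S) (m : ℤ) (K : DCoh.D X)

/-- Some chart of the pair satisfies the test. -/
def TestOn (U : X.Opens) (V : S.Opens) (h : U ≤ f ⁻¹ᵁ V) : Prop :=
  ∃ (n : ℕ) (φ : MvPolynomial (Fin n) Γ(S, V) →+* Γ(X, U)), DerSch.IsChart f U V h φ ∧ DerSch.ChartPC m K U V φ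

variable {f m K}

/-- Every chart satisfies the test as soon as one does. -/
theorem testOn_along {U : X.Opens} (hU : IsAffineOpen U) {V : S.Opens} {h : U ≤ f ⁻¹ᵁ V}
    (ht : TestOn f m K U V h) {P : Type u} [CommRing P] [Algebra Γ(S, V) P] [Module.Flat Γ(S, V) P]
    [Algebra.FinitePresentation Γ(S, V) P] {α : P →+* Γ(X, U)} (hα : Function.Surjective α)
    (hc : α.comp (algebraMap Γ(S, V) P) = (f.appLE V U h).hom) : Along m K U α := by
  obtain ⟨n, φ, ⟨hs, hφ⟩, hp⟩ := ht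
  refine (along_iff (A := Γ(S, V)) hU hα hs ?_).2 ((chartPC_iff m K hU hs).1 hp)
  rw [hc, MvPolynomial.algebraMap_eq, hφ]

/-- One presentation gives a chart. -/
theorem testOn_of_along {U : X.Opens} (hU : IsAffineOpen U) {V : S.Opens} {h : U ≤ f ⁻¹ᵁ V}
    {P : Type u} [CommRing P] [Algebra Γ(S, V) P] [Module.Flat Γ(S, V) P] [Algebra.FinitePresentation Γ(S, V) P]
    {α : P →+* Γ(X, U)} (hα : Function.Surjective α)
    (hc : α.comp (algebraMap Γ(S, V) P) = (f.appLE V U h).hom) (ha : Along m K U α) : TestOn f m K U V h := by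
  obtain ⟨n, π, hπ⟩ := Algebra.FiniteType.iff_quotient_mvPolynomial''.1
    (inferInstance : Algebra.FiniteType Γ(S, V) P)
  have hs : Function.Surjective (α.comp π.toRingHom) := hα.comp hπ
  have hC : (α.comp π.toRingHom).comp MvPolynomial.C = (f.appLE V U h).hom := by
    refine RingHom.ext fun a => ?_
    show α (π (MvPolynomial.C a)) = _
    rw [← MvPolynomial.algebraMap_eq, π.commutes]
    exact RingHom.congr_fun hc a
  refine ⟨n, _, ⟨hs, hC⟩, (chartPC_iff m K hU hs).2 ((along_iff (A := Γ(S, V)) hU hs hα ?_).2 ha)⟩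
  rw [hc, MvPolynomial.algebraMap_eq, hC]

theorem testOn_congr {U U' : X.Opens} (e : U = U') {V V' : S.Opens} (e' : V = V') {h : U ≤ f ⁻¹ᵁ V}
    {h' : U' ≤ f ⁻¹ᵁ V'} : TestOn f m K U V h ↔ TestOn f m K U' V' h' := by
  subst e e'
  exact Iff.rfl

theorem finiteType_of_testOn {U : X.Opens} {V : S.Opens} {h : U ≤ f ⁻¹ᵁ V} (ht : TestOn f m K U V h) :
    (f.appLE V U h).hom.FiniteType := by
  obtain ⟨n, φ, ⟨hs, hφ⟩, -⟩ := ht
  rw [← hφ]
  exact (RingHom.FiniteType.of_surjective φ hs).comp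
    (RingHom.finiteType_algebraMap.2 (inferInstance : Algebra.FiniteType Γ(S, V) (MvPolynomial (Fin n) Γ(S, V))))

/-- The lift of a presentation to a basic open. -/
theorem exists_lift {U : X.Opens} (hU : IsAffineOpen U) {P : Type u} [CommRing P] (φ : P →+* Γ(X, U))
    (hφ : Function.Surjective φ) (t : P) :
    ∃ φ' : Localization.Away t →+* Γ(X, X.basicOpen (φ t)), Function.Surjective φ' ∧
      φ'.comp (algebraMap P (Localization.Away t)) =
        (X.presheaf.map (homOfLE (X.basicOpen_le (φ t))).op).hom.comp φ := by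
  letI := X.presheaf.map (homOfLE (X.basicOpen_le (φ t))).op |>.hom.toAlgebra
  haveI : IsLocalization.Away (φ t) Γ(X, X.basicOpen (φ t)) := hU.isLocalization_basicOpen (φ t)
  refine ⟨IsLocalization.Away.map (Localization.Away t) Γ(X, X.basicOpen (φ t)) φ t, ?_,
    IsLocalization.map_comp _⟩
  intro y
  obtain ⟨⟨a, s⟩, hy⟩ := IsLocalization.surj (Submonoid.powers (φ t)) y
  obtain ⟨k, hk⟩ := s.2
  obtain ⟨b, rfl⟩ := hφ a
  refine ⟨IsLocalization.mk' (Localization.Away t) b (⟨t ^ k, k, rfl⟩ : Submonoid.powers t), ?_⟩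
  rw [IsLocalization.Away.map, IsLocalization.map_mk', IsLocalization.mk'_eq_iff_eq_mul, ← hy]
  congr 2
  exact hk.symm.trans (map_pow φ t k).symm

/-- The test passes to basic opens of the source. -/
theorem testOn_basicOpen {U : X.Opens} (hU : IsAffineOpen U) {V : S.Opens} {h : U ≤ f ⁻¹ᵁ V}
    (ht : TestOn f m K U V h) (g : Γ(X, U)) :
    TestOn f m K (X.basicOpen g) V ((X.basicOpen_le g).trans h) := by
  obtain ⟨n, φ, ⟨hs, hφ⟩, hp⟩ := ht
  obtain ⟨_, hp⟩ := (chartPC_iff m K hU hs).1 hp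
  obtain ⟨t, rfl⟩ := hs g
  obtain ⟨φ', hφ', hc⟩ := exists_lift hU φ hs t
  haveI : Algebra.FinitePresentation Γ(S, V) (Localization.Away t) :=
    haveI := IsLocalization.Away.finitePresentation t (S := Localization.Away t)
    .trans Γ(S, V) (MvPolynomial (Fin n) Γ(S, V)) _
  haveI : Module.Flat Γ(S, V) (Localization.Away t) := .trans Γ(S, V) (MvPolynomial (Fin n) Γ(S, V)) _
  refine testOn_of_along (hU.basicOpen _) hφ' ?_ ((along_localize m K hU φ hs t rfl _ φ' hφ' hc).2 (DQCoh.psc_rd _ hp))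
  rw [IsScalarTower.algebraMap_eq Γ(S, V) (MvPolynomial (Fin n) Γ(S, V)) (Localization.Away t), ← RingHom.comp_assoc, hc,
    MvPolynomial.algebraMap_eq, RingHom.comp_assoc, hφ, ← CommRingCat.hom_comp, Scheme.Hom.appLE_map]

/-- The test is local for covers by basic opens of the source. -/
theorem testOn_of_cover {U : X.Opens} (hU : IsAffineOpen U) {V : S.Opens} {h : U ≤ f ⁻¹ᵁ V}
    (hft : (f.appLE V U h).hom.FiniteType) (s : Set Γ(X, U)) (hs : Ideal.span s = ⊤)
    (ht : ∀ g ∈ s, TestOn f m K (X.basicOpen g) V ((X.basicOpen_le g).trans h)) : TestOn f m K U V h := by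
  algebraize [(f.appLE V U h).hom]
  obtain ⟨n, π, hπ⟩ := Algebra.FiniteType.iff_quotient_mvPolynomial''.1 ‹Algebra.FiniteType Γ(S, V) Γ(X, U)›
  let φ := π.toRingHom
  have hφ : φ.comp MvPolynomial.C = (f.appLE V U h).hom := RingHom.ext fun a => π.commutes a
  haveI := isClosedImmersion_along hU (φ := φ) hπ
  let q := U.toSpecΓ ≫ Spec.map (CommRingCat.ofHom φ)
  haveI := preservesFiniteColimits_iso q
  refine ⟨n, φ, ⟨hπ, hφ⟩, (chartPC_iff m K hU hπ).2 ⟨inferInstance, DQCoh.psc_of_local _ fun y => ?_⟩⟩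
  by_cases hy : y ∈ Set.range q.base
  swap
  · exact psc_outside q q.isClosedEmbedding _ m y hy
  obtain ⟨x, rfl⟩ := hy
  have hx : x.1 ∈ ⨆ g : s, X.basicOpen (g : Γ(X, U)) := by
    rw [(hU.iSup_basicOpen_eq_self_iff (s := s)).2 hs]; exact x.2
  obtain ⟨⟨g, hg⟩, hxg⟩ := Opens.mem_iSup.1 hx
  obtain ⟨t, rfl⟩ := hπ g
  obtain ⟨φ', hφ', hc⟩ := exists_lift hU φ hπ t
  haveI : Algebra.FinitePresentation Γ(S, V) (Localization.Away t) :=
    haveI := IsLocalization.Away.finitePresentation t (S := Localization.Away t)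
    .trans Γ(S, V) (MvPolynomial (Fin n) Γ(S, V)) _
  haveI : Module.Flat Γ(S, V) (Localization.Away t) := .trans Γ(S, V) (MvPolynomial (Fin n) Γ(S, V)) _
  have ha := testOn_along (hU.basicOpen _) (ht _ hg) hφ' (by
    rw [IsScalarTower.algebraMap_eq Γ(S, V) (MvPolynomial (Fin n) Γ(S, V)) (Localization.Away t), ← RingHom.comp_assoc, hc,
      MvPolynomial.algebraMap_eq, RingHom.comp_assoc, hφ, ← CommRingCat.hom_comp, Scheme.Hom.appLE_map]
    rfl)
  refine ⟨_, Spec.map (CommRingCat.ofHom (algebraMap _ (Localization.Away t))), inferInstance, ?_,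
    (along_localize m K hU φ hπ t rfl _ φ' hφ' hc).1 ha⟩
  show q x ∈ Set.range _
  rw [show Set.range _ = (PrimeSpectrum.basicOpen t : Set (PrimeSpectrum _)) from
    PrimeSpectrum.localization_away_comap_range (Localization.Away t) t]
  have h0 : x ∈ U.toSpecΓ ⁻¹ᵁ PrimeSpectrum.basicOpen (φ t) := by
    rw [Scheme.Opens.toSpecΓ_preimage_basicOpen]; exact hxg
  exact h0

/-- Change of base to a basic open. -/
theorem testOn_base {U : X.Opens} (hU : IsAffineOpen U) {V : S.Opens} (hV : IsAffineOpen V) (r : Γ(S, V))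
    (hW : U ≤ f ⁻¹ᵁ S.basicOpen r) (h : U ≤ f ⁻¹ᵁ V) :
    TestOn f m K U (S.basicOpen r) hW ↔ TestOn f m K U V h := by
  letI : Algebra Γ(S, V) Γ(S, S.basicOpen r) := (S.presheaf.map (homOfLE (S.basicOpen_le r)).op).hom.toAlgebra
  haveI : IsLocalization.Away r Γ(S, S.basicOpen r) := hV.isLocalization_basicOpen r
  haveI : Module.Flat Γ(S, V) Γ(S, S.basicOpen r) := IsLocalization.flat _ (Submonoid.powers r)
  haveI := IsLocalization.Away.finitePresentation r (S := Γ(S, S.basicOpen r))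
  have e : (f.appLE (S.basicOpen r) U hW).hom.comp (algebraMap Γ(S, V) Γ(S, S.basicOpen r)) =
      (f.appLE V U h).hom := by
    rw [RingHom.algebraMap_toAlgebra, ← CommRingCat.hom_comp, Scheme.Hom.map_appLE]
  constructor
  · rintro ⟨n, φ, ⟨hs, hφ⟩, hp⟩
    haveI : Module.Flat Γ(S, V) (MvPolynomial (Fin n) Γ(S, S.basicOpen r)) :=
      .trans Γ(S, V) Γ(S, S.basicOpen r) _
    haveI : Algebra.FinitePresentation Γ(S, V) (MvPolynomial (Fin n) Γ(S, S.basicOpen r)) :=
      .trans Γ(S, V) Γ(S, S.basicOpen r) _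
    refine testOn_of_along hU hs ?_ ((chartPC_iff m K hU hs).1 hp)
    rw [IsScalarTower.algebraMap_eq Γ(S, V) Γ(S, S.basicOpen r), ← RingHom.comp_assoc, MvPolynomial.algebraMap_eq, hφ, e]
  · intro ht
    have hft := finiteType_of_testOn ht
    rw [← e] at hft
    obtain ⟨n, π, hπ⟩ := @Algebra.FiniteType.iff_quotient_mvPolynomial'' Γ(S, S.basicOpen r) Γ(X, U) _ _
      (f.appLE (S.basicOpen r) U hW).hom.toAlgebra |>.1 hft.of_comp_finiteType
    letI := (f.appLE (S.basicOpen r) U hW).hom.toAlgebra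
    haveI : Module.Flat Γ(S, V) (MvPolynomial (Fin n) Γ(S, S.basicOpen r)) :=
      .trans Γ(S, V) Γ(S, S.basicOpen r) _
    haveI : Algebra.FinitePresentation Γ(S, V) (MvPolynomial (Fin n) Γ(S, S.basicOpen r)) :=
      .trans Γ(S, V) Γ(S, S.basicOpen r) _
    have hC : π.toRingHom.comp MvPolynomial.C = (f.appLE (S.basicOpen r) U hW).hom :=
      RingHom.ext fun a => π.commutes a
    refine ⟨n, π.toRingHom, ⟨hπ, hC⟩, (chartPC_iff m K hU hπ).2 (testOn_along hU ht hπ ?_)⟩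
    rw [IsScalarTower.algebraMap_eq Γ(S, V) Γ(S, S.basicOpen r), ← RingHom.comp_assoc, MvPolynomial.algebraMap_eq, hC, e]

/-- Moving the test to another pair of affine opens near a point. -/
theorem exists_testOn_nhd (U : X.affineOpens) (V : S.affineOpens) (h : (U : X.Opens) ≤ f ⁻¹ᵁ (V : S.Opens))
    (U' : X.affineOpens) (V' : S.affineOpens) (hU'V' : (U' : X.Opens) ≤ f ⁻¹ᵁ (V' : S.Opens))
    (ht : TestOn f m K U' V' hU'V') (x : X) (hx : x ∈ U.1) (hxU : x ∈ U'.1) :
    ∃ g : Γ(X, U.1), x ∈ X.basicOpen g ∧ TestOn f m K (X.basicOpen g) V ((X.basicOpen_le g).trans h) := by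
    obtain ⟨r, r', hr, hxr⟩ := exists_basicOpen_le_affine_inter V.2 V'.2 (f x) ⟨h hx, hU'V' hxU⟩
    obtain ⟨g₀, hg₀, hxg₀⟩ := U.2.exists_basicOpen_le (V := U.1 ⊓ f ⁻¹ᵁ S.basicOpen r) ⟨x, hx, hxr⟩ hx
    obtain ⟨g, g', hg, hxg⟩ := exists_basicOpen_le_affine_inter (U.2.basicOpen g₀) U'.2 x ⟨hxg₀, hxU⟩
    obtain ⟨g₁, hg₁⟩ := U.2.basicOpen_basicOpen_is_basicOpen g₀ g
    refine ⟨g₁, hg₁ ▸ hxg, ?_⟩
    have hle : X.basicOpen g' ≤ f ⁻¹ᵁ S.basicOpen r :=
      hg ▸ ((X.basicOpen_le g).trans (hg₀.trans inf_le_right))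
    have hle' : X.basicOpen g' ≤ f ⁻¹ᵁ S.basicOpen r' := hr ▸ hle
    have h1 := testOn_basicOpen U'.2 ht g'
    have h2 := (testOn_base (U'.2.basicOpen g') V'.2 r' hle' _).2 h1
    have h3 := (testOn_congr rfl hr (h := hle)).2 h2
    have hle'' : X.basicOpen g' ≤ f ⁻¹ᵁ V.1 := hle.trans fun _ hy => S.basicOpen_le r hy
    exact (testOn_congr (hg₁.trans hg) rfl).2 ((testOn_base (U'.2.basicOpen g') V.2 r hle hle'').1 h3)

/-- The global predicate is the test on all pairs of affine opens. -/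
theorem rel_iff [LocallyOfFiniteType f] :
    DerSch.IsPseudoCoherentRel f m K ↔
      ∀ (U : X.affineOpens) (V : S.affineOpens) (h : (U : X.Opens) ≤ f ⁻¹ᵁ (V : S.Opens)),
        TestOn f m K U V h := by
  constructor
  · rintro ⟨-, 𝒱, h𝒱, hp⟩ U V h
    have key : ∀ x : U.1, ∃ g : Γ(X, U.1), (x : X) ∈ X.basicOpen g ∧
        TestOn f m K (X.basicOpen g) V ((X.basicOpen_le g).trans h) := by
      intro x
      obtain ⟨V', hV', hxV⟩ : ∃ V' ∈ 𝒱, f x.1 ∈ (V' : S.Opens) := by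
        have : f x.1 ∈ (⨆ V ∈ 𝒱, (V : S.Opens)) := by rw [h𝒱]; exact Set.mem_univ _
        simpa [Opens.mem_iSup] using this
      obtain ⟨𝒰, h𝒰, hp'⟩ := hp V' hV'
      obtain ⟨U', hU', hxU⟩ : ∃ U' ∈ 𝒰, (x : X) ∈ (U' : X.Opens) := by
        have : (x : X) ∈ (⨆ U ∈ 𝒰, (U : X.Opens)) := by rw [h𝒰]; exact hxV
        simpa [Opens.mem_iSup] using this
      have hU'V' : (U' : X.Opens) ≤ f ⁻¹ᵁ (V' : S.Opens) :=
        h𝒰 ▸ le_iSup₂ (f := fun U (_ : U ∈ 𝒰) => (U : X.Opens)) U' hU'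
      exact exists_testOn_nhd U V h U' V' hU'V' (hp' U' hU' hU'V') x.1 x.2 hxU
    choose g hxg hg using key
    refine testOn_of_cover U.2 (f.finiteType_appLE V.2 U.2 h) (Set.range g) ?_ (by rintro _ ⟨x, rfl⟩; exact hg x)
    rw [← U.2.self_le_iSup_basicOpen_iff]
    exact fun x hx => Opens.mem_iSup.2 ⟨⟨_, ⟨⟨x, hx⟩, rfl⟩⟩, hxg ⟨x, hx⟩⟩
  · intro hp
    refine ⟨inferInstance, Set.univ, ?_, fun V _ => ⟨{U | (U : X.Opens) ≤ f ⁻¹ᵁ (V : S.Opens)}, ?_,
      fun U _ h => hp U V h⟩⟩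
    · rw [iSup_univ]; exact iSup_affineOpens_eq_top S
    · refine le_antisymm (iSup₂_le fun U hU => hU) fun x hx => ?_
      obtain ⟨U, hU, hxU, hle⟩ := Opens.isBasis_iff_nbhd.1 X.isBasis_affineOpens hx
      exact Opens.mem_iSup.2 ⟨⟨U, hU⟩, Opens.mem_iSup.2 ⟨hle, hxU⟩⟩

/-- The global predicate is local. -/
theorem rel_of_local [LocallyOfFiniteType f]
    (hp : ∀ x : X, ∃ (U : X.affineOpens) (V : S.affineOpens) (h : (U : X.Opens) ≤ f ⁻¹ᵁ (V : S.Opens)),
      x ∈ (U : X.Opens) ∧ TestOn f m K U V h) : DerSch.IsPseudoCoherentRel f m K := by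
  refine rel_iff.2 fun U V h => ?_
  choose U' V' h' hx' ht using fun x : U.1 => hp x.1
  choose g hxg hg using fun x : U.1 => exists_testOn_nhd U V h (U' x) (V' x) (h' x) (ht x) x.1 x.2 (hx' x)
  refine testOn_of_cover U.2 (f.finiteType_appLE V.2 U.2 h) (Set.range g) ?_ (by rintro _ ⟨x, rfl⟩; exact hg x)
  rw [← U.2.self_le_iSup_basicOpen_iff]
  exact fun x hx => Opens.mem_iSup.2 ⟨⟨_, ⟨⟨x, hx⟩, rfl⟩⟩, hxg ⟨x, hx⟩⟩

end Groth.Agent.FlatCx12.RelPC
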