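import Groth.Agent.FlatCx12.RelPCComp

/-!
# Direct images under closed embeddings when the structure sheaf is pseudo-coherent up to one degree
-/

set_option autoImplicit false
set_option backward.isDefEq.respectTransparency false
set_option backward.defeqAttrib.useBackward true
set_option linter.style.haveILetI false
set_option synthInstance.maxHeartbeats 100000
set_option backward.isDefEq.respectTransparency.types false

universe u

open CategoryTheory CategoryTheory.Limits CategoryTheory.Pretriangulated DerivedCategory Opposite TopologicalSpace AlgebraicGeometry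
open Groth.Agent.DCat Groth.Agent.Coherent Groth.Agent.FlatMorPerfect Groth.Agent.FlatCx12.EmbPush

namespace Groth.Agent.FlatCx12.RelPCBound

attribute [local instance] HasDerivedCategory.standard
attribute [-instance] Int.instConditionallyCompleteLinearOrder

variable {X Y : Scheme.{u}} (f : X ⟶ Y)

/-- A finite locally free module in one degree mapping onto top cohomology of finite type, locally. -/
theorem exists_map_top' (K : DCoh.D X) (b : ℤ) (hK : K.IsLE b) (hH : CohB1.IsFT (DCoh.HD K b)) (x : X) :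
    ∃ (W : Scheme.{u}) (k : W ⟶ X) (_ : IsOpenImmersion k) (N : W.Modules)
      (α : (singleFunctor W.Modules b).obj N ⟶ (PerfLocal.rd k).obj K),
      x ∈ k.opensRange ∧ FlatMod.IsFinLocFree N ∧ PullPerf.Apx b α := by
  haveI := hK
  obtain ⟨F, hF, ⟨eF⟩⟩ := K.exists_iso_Q_obj_of_isLE b
  have hd : F.d b (b + 1) = 0 := (F.isZero_of_isStrictlyLE b (b + 1) (by omega)).eq_of_tgt _ _
  haveI : IsIso (F.homologyι b) := F.isIso_homologyι b (b + 1) (by simp) hd
  let eH : DCoh.HD K b ≅ cokernel (F.d (b - 1) b) :=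
    (DerivedCategory.homologyFunctor X.Modules b).mapIso eF ≪≫
      (DerivedCategory.homologyFunctorFactors X.Modules b).app F ≪≫ asIso (F.homologyι b) ≪≫
      (IsColimit.coconePointUniqueUpToIso (cokernelIsCokernel (F.d (b - 1) b))
        (F.opcyclesIsCokernel (b - 1) b (by simp))).symm
  obtain ⟨U, n, p, hxU, hp⟩ := DQCoh.exists_epi_free_nhd _ (Coherent.isFT_of_epi eH.hom hH) x
  let G := Scheme.Modules.restrictFunctor U.ι
  obtain ⟨V, hxV, ψ, hψ⟩ := LocLift.exists_liftAt (FlatMor12.FlatFun.isFinLocFree_freeMod (U : Scheme.{u}) n)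
    p (G.map (cokernel.π (F.d (b - 1) b))) ⟨x, hxU⟩
  let G' := Scheme.Modules.restrictFunctor V.ι
  let M := G'.obj (FlatMod.freeMod (U : Scheme.{u}) n)
  let F' : CochainComplex (V : Scheme.{u}).Modules ℤ := (G'.mapHomologicalComplex (ComplexShape.up ℤ)).obj ((G.mapHomologicalComplex (ComplexShape.up ℤ)).obj F)
  have hd' : F'.d b (b + 1) = 0 := by
    show G'.map (G.map (F.d b (b + 1))) = 0
    rw [hd, Functor.map_zero, Functor.map_zero]
  let ι : (HomologicalComplex.single (V : Scheme.{u}).Modules (ComplexShape.up ℤ) b).obj M ⟶ F' :=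
    HomologicalComplex.mkHomFromSingle ψ (fun k hk => by
      obtain rfl : b + 1 = k := hk
      rw [hd', comp_zero])
  have hepi : Epi (HomologicalComplex.homologyMap ι b) := by
    refine epi_homologyMap_single F' b hd' M ι ?_
    rw [show ι.f b = (HomologicalComplex.singleObjXSelf _ b M).hom ≫ ψ from HomologicalComplex.mkHomFromSingle_f _ _]
    have hc : Epi (ψ ≫ cokernel.π (G'.map (G.map (F.d (b - 1) b)))) := by
      have e : cokernel.π (G'.map (G.map (F.d (b - 1) b))) =
          G'.map (G.map (cokernel.π (F.d (b - 1) b))) ≫ G'.map (PreservesCokernel.iso G (F.d (b - 1) b)).hom ≫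
            (PreservesCokernel.iso G' (G.map (F.d (b - 1) b))).hom := by
        rw [← Category.assoc, ← Functor.map_comp, PreservesCokernel.π_iso_hom, PreservesCokernel.π_iso_hom]
      rw [e, ← Category.assoc, hψ]
      haveI : Epi (G'.map p) := inferInstance
      exact epi_comp _ _
    rw [Category.assoc]
    exact @epi_comp _ _ _ _ _ _ _ _ hc
  haveI hF' : CochainComplex.IsStrictlyLE F' b := (CochainComplex.isStrictlyLE_iff _ _).2 fun i hi =>
    G'.map_isZero (G.map_isZero (F.isZero_of_isStrictlyLE b i hi))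
  haveI hM : CochainComplex.IsStrictlyLE
      ((HomologicalComplex.single (V : Scheme.{u}).Modules (ComplexShape.up ℤ) b).obj M) b :=
    (CochainComplex.isStrictlyLE_iff _ _).2 fun i hi => HomologicalComplex.isZero_single_obj_X _ _ _ _ (by omega)
  have hLE : ∀ (L : CochainComplex (V : Scheme.{u}).Modules ℤ) [L.IsStrictlyLE b] (i : ℤ), b < i →
      IsZero ((DerivedCategory.homologyFunctor (V : Scheme.{u}).Modules i).obj (DerivedCategory.Q.obj L)) :=
    fun L _ i hi =>
      haveI : (DerivedCategory.Q.obj L).IsLE b := (DerivedCategory.isLE_Q_obj_iff _ _).2 inferInstance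
      DerivedCategory.isZero_of_isLE _ b i hi
  have hapx : PullPerf.Apx b (DerivedCategory.Q.map ι) := by
    refine ⟨fun i hi => ?_, ?_⟩
    · exact ⟨0, (hLE _ i hi).eq_of_src _ _, (hLE _ i hi).eq_of_src _ _⟩
    · refine ((MorphismProperty.epimorphisms _).arrow_mk_iso_iff
        (((Functor.mapArrowFunctor _ _).mapIso (DerivedCategory.homologyFunctorFactors _ b)).app (Arrow.mk ι))).2 ?_
      exact hepi
  obtain ⟨c⟩ := PerfLocal.rd_comp V.ι U.ι K
  let eK : DerivedCategory.Q.obj F' ≅ (PerfLocal.rd (V.ι ≫ U.ι)).obj K :=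
    (G'.mapDerivedCategoryFactors.app _).symm ≪≫ (PerfLocal.rd V.ι).mapIso
      ((G.mapDerivedCategoryFactors.app F).symm ≪≫ (PerfLocal.rd U.ι).mapIso eF.symm) ≪≫ c.symm
  let s : (singleFunctor (V : Scheme.{u}).Modules b).obj M ≅
      DerivedCategory.Q.obj ((HomologicalComplex.single (V : Scheme.{u}).Modules (ComplexShape.up ℤ) b).obj M) :=
    (DerivedCategory.singleFunctorIsoCompQ _ b).app M
  exact ⟨V, V.ι ≫ U.ι, inferInstance, M, s.hom ≫ DerivedCategory.Q.map ι ≫ eK.hom, ⟨⟨⟨x, hxU⟩, hxV⟩, rfl⟩,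
    PerfTensor.isFinLocFree_of_iso ((Scheme.Modules.restrictFunctorIsoPullback V.ι).app _).symm
      (PullPerf.isFinLocFree_pullback V.ι (FlatMor12.FlatFun.isFinLocFree_freeMod (U : Scheme.{u}) n)),
    (PullPerf.apx_of_isIso b _).comp (hapx.comp (PullPerf.apx_of_isIso b _))⟩

/-- `f_* O` in degree `0` is `q`-pseudo-coherent, and this is inherited by opens of the target. -/
theorem psc_structure_restrict (hf : Topology.IsClosedEmbedding f.base) {q : ℤ}
    (hO : DCoh.IsPseudoCoherentD q (DCoh.inD Y ((Scheme.Modules.pushforward f).obj (Coh.structureModule X))))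
    (V : Y.Opens) [PreservesFiniteColimits (Scheme.Modules.pushforward (f ∣_ V))] :
    DCoh.IsPseudoCoherentD q (DCoh.inD (V : Scheme.{u}) ((Scheme.Modules.pushforward (f ∣_ V)).obj
      (Coh.structureModule (f ⁻¹ᵁ V).toScheme))) := by
  obtain ⟨b⟩ := nonempty_rd_single V ((Scheme.Modules.pushforward f).obj (Coh.structureModule X))
  exact PCTriangle.psc_iso (b ≪≫ (singleFunctor _ 0).mapIso ((OpenDerived.pushRestrict f V).app _ ≪≫
    (Scheme.Modules.pushforward (f ∣_ V)).mapIso (Scheme.Modules.restrictUnitIso (f ⁻¹ᵁ V).ι)))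
    (DQCoh.psc_rd V.ι hO)

/-- Finite sums. -/
theorem psc_sigma {W : Scheme.{u}} {q : ℤ} : ∀ {n : ℕ} (F : Fin n → W.Modules),
    (∀ i, DCoh.IsPseudoCoherentD q (DCoh.inD W (F i))) → DCoh.IsPseudoCoherentD q (DCoh.inD W (∐ F)) := by
  intro n
  induction n with
  | zero =>
    exact fun F _ => psc_of_isLE' (n := q - 1) (by omega) (DerivedCategory.TStructure.t.isLE_of_isZero
      ((singleFunctor W.Modules 0).map_isZero ((IsZero.iff_id_eq_zero _).2 (Sigma.hom_ext _ _ fun i => i.elim0))) _)
  | succ n ih =>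
    intro F h
    let G : Fin n → W.Modules := fun i => F i.succ
    let p : ∐ F ⟶ ∐ G := Sigma.desc (Fin.cases (0 : F 0 ⟶ ∐ G) fun i => Sigma.ι G i)
    let r : ∐ F ⟶ F 0 := Sigma.desc (Fin.cases (𝟙 (F 0)) fun i => (0 : F i.succ ⟶ F 0))
    let sp : (ShortComplex.mk (Sigma.ι F 0) p (Sigma.ι_desc _ _)).Splitting :=
      { r := r
        s := Sigma.desc fun i => Sigma.ι F i.succ
        f_r := Sigma.ι_desc _ _
        s_g := Sigma.hom_ext _ _ fun i => by simp [p, G]
        id := Sigma.hom_ext _ _ fun i => by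
          induction i using Fin.cases <;> simp [p, r, G] }
    exact PCTriangle.psc_ext sp.shortExact.singleTriangle_distinguished (h 0) (ih G fun i => h i.succ)

/-- A finite locally free module in degree `b` has `(q + b)`-pseudo-coherent direct image. -/
theorem psc_pd_finLocFree [PreservesFiniteColimits (Scheme.Modules.pushforward f)]
    (hf : Topology.IsClosedEmbedding f.base) {q b m : ℤ} (hm : q + b ≤ m)
    (hO : DCoh.IsPseudoCoherentD q (DCoh.inD Y ((Scheme.Modules.pushforward f).obj (Coh.structureModule X))))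
    {M : X.Modules} (hM : FlatMod.IsFinLocFree M) :
    DCoh.IsPseudoCoherentD m ((pd f).obj ((singleFunctor X.Modules b).obj M)) := by
  have h0 : DCoh.IsPseudoCoherentD q (DCoh.inD Y ((Scheme.Modules.pushforward f).obj M)) :=
    DQCoh.psc_of_local _ fun y => by
    by_cases hy : y ∈ Set.range f.base
    swap
    · obtain ⟨W, k, hk, hyk, h⟩ := psc_outside f hf (DCoh.inD X M) q y hy
      exact ⟨W, k, hk, hyk, PCTriangle.psc_iso ((PerfLocal.rd k).mapIso
        (((Scheme.Modules.pushforward f).mapDerivedCategorySingleFunctor 0).app M)) h⟩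
    obtain ⟨x, rfl⟩ := hy
    obtain ⟨U, n, hxU, ⟨e⟩⟩ := hM x
    obtain ⟨V, rfl⟩ := exists_preimage_eq f hf U
    haveI := preservesFiniteColimits_emb _ (isClosedEmbedding_restrict f hf V)
    refine ⟨V, V.ι, inferInstance, by simpa using hxU, ?_⟩
    obtain ⟨a⟩ := nonempty_rd_single V ((Scheme.Modules.pushforward f).obj M)
    refine PCTriangle.psc_iso a.symm ?_
    let G := Scheme.Modules.pushforward (f ∣_ V)
    refine PCTriangle.psc_iso ((singleFunctor _ 0).mapIso ?_)
      (psc_sigma (fun _ : Fin n => G.obj (Coh.structureModule (f ⁻¹ᵁ V).toScheme))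
        fun _ => psc_structure_restrict f hf hO V)
    exact (asIso (sigmaComparison G fun _ : Fin n => Coh.structureModule (f ⁻¹ᵁ V).toScheme)) ≪≫ G.mapIso e.symm ≪≫
      ((OpenDerived.pushRestrict f V).app M).symm
  let F := (Scheme.Modules.pushforward f).obj M
  exact PCTriangle.psc_mono hm (PCTriangle.psc_iso
    ((((DerivedCategory.singleFunctors Y.Modules).shiftIso (-b) b 0 (by omega)).app F) ≪≫
      (((Scheme.Modules.pushforward f).mapDerivedCategorySingleFunctor b).app M).symm)
    (PCTriangle.psc_shift h0 (-b) (q + b) (by omega)))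

/-- Induction on the top degree, both ways. -/
theorem psc_pd_bound_aux (k : ℕ) : ∀ {X Y : Scheme.{u}} (f : X ⟶ Y)
    [PreservesFiniteColimits (Scheme.Modules.pushforward f)] (_ : Topology.IsClosedEmbedding f.base)
    (q : ℤ) (_ : DCoh.IsPseudoCoherentD q (DCoh.inD Y ((Scheme.Modules.pushforward f).obj (Coh.structureModule X))))
    (r m : ℤ) (K : DCoh.D X), K.IsLE (r - 1 + k) → r ≤ m →
    (q + (r - 1 + k) ≤ m → DCoh.IsPseudoCoherentD r K → DCoh.IsPseudoCoherentD m ((pd f).obj K)) ∧
      (q + (r - 1 + k) ≤ r + 1 → DCoh.IsPseudoCoherentD r ((pd f).obj K) → DCoh.IsPseudoCoherentD r K) := by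
  induction k with
  | zero =>
    intro X Y f _ hf q hO r m K hK hrm
    refine ⟨fun _ _ => psc_of_isLE' (n := r - 1 + ((0 : ℕ) : ℤ)) (by omega) (isLE_map _ K _ hK), fun _ _ =>
      psc_of_isLE' (n := r - 1 + ((0 : ℕ) : ℤ)) (by omega) hK⟩
  | succ k ih =>
    intro X Y f _ hf q hO r m K hK hrm
    obtain ⟨b, hb⟩ : ∃ b : ℤ, b = r + k := ⟨_, rfl⟩
    have hKb : K.IsLE b := by rwa [show b = r - 1 + ((k + 1 : ℕ) : ℤ) by push_cast; omega]
    have loc : CohB1.IsFT (DCoh.HD K b) → ∀ y : Y, y ∈ Set.range f.base → ∃ (V : Y.Opens) (_ : y ∈ V)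
        (_ : PreservesFiniteColimits (Scheme.Modules.pushforward (f ∣_ V))) (N : (f ⁻¹ᵁ V).toScheme.Modules)
        (C : DCoh.D (f ⁻¹ᵁ V).toScheme) (α : (singleFunctor _ b).obj N ⟶ (PerfLocal.rd (f ⁻¹ᵁ V).ι).obj K)
        (g : (PerfLocal.rd (f ⁻¹ᵁ V).ι).obj K ⟶ C) (w : C ⟶ ((singleFunctor _ b).obj N)⟦(1 : ℤ)⟧),
        Triangle.mk α g w ∈ distTriang _ ∧ FlatMod.IsFinLocFree N ∧ C.IsLE (r - 1 + k) ∧
          Topology.IsClosedEmbedding (f ∣_ V).base := by
      intro hH y hy
      obtain ⟨x, rfl⟩ := hy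
      obtain ⟨W, j, _, N, α, hxW, hN, ha⟩ := exists_map_top' K b hKb hH x
      obtain ⟨V, hV⟩ := exists_preimage_eq f hf j.opensRange
      let i : (f ⁻¹ᵁ V).toScheme ⟶ X := (f ⁻¹ᵁ V).ι
      have hrange : Set.range i ⊆ Set.range j := by
        rw [Scheme.Opens.range_ι, hV, Scheme.Hom.coe_opensRange]
      let l := IsOpenImmersion.lift j i hrange
      haveI : IsOpenImmersion l :=
        haveI : IsOpenImmersion (l ≫ j) := by rw [IsOpenImmersion.lift_fac]; infer_instance
        IsOpenImmersion.of_comp _ j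
      obtain ⟨c⟩ := PerfLocal.rd_comp l j K
      obtain ⟨c'⟩ := nonempty_rd_congr' (k := l ≫ j) (k' := i) (IsOpenImmersion.lift_fac j i hrange)
      let s := ((Scheme.Modules.restrictFunctor l).mapDerivedCategorySingleFunctor b).app N
      let α' : (singleFunctor _ b).obj ((Scheme.Modules.restrictFunctor l).obj N) ⟶ (PerfLocal.rd i).obj K :=
        s.inv ≫ (PerfLocal.rd l).map α ≫ c.inv ≫ c'.hom.app K
      have ha' : PullPerf.Apx b α' := (PullPerf.apx_of_isIso b _).comp
        ((PerfLocal.apx_rd l ha).comp ((PullPerf.apx_of_isIso b _).comp (PullPerf.apx_of_isIso b _)))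
      obtain ⟨C, g, w, hT⟩ := distinguished_cocone_triangle α'
      have hC : C.IsLE (r - 1 + k) := by
        have := (PullPerf.apx_iff_isLE b _ hT).1 ha'
        rwa [show r - 1 + (k : ℤ) = b - 1 by omega]
      have hg := isClosedEmbedding_restrict f hf V
      exact ⟨V, show x ∈ f ⁻¹ᵁ V by rw [hV]; exact hxW, preservesFiniteColimits_emb _ hg, _, C, α', g, w, hT,
        PerfTensor.isFinLocFree_of_iso ((Scheme.Modules.restrictFunctorIsoPullback l).app _).symm
          (PullPerf.isFinLocFree_pullback l hN), hC, hg⟩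
    refine ⟨fun hq hp => ?_, fun hq hp => ?_⟩
    · have hH : CohB1.IsFT (DCoh.HD K b) :=
        (DQCoh.top_of_psc b K (PCTriangle.psc_mono (show r ≤ b by omega) hp)).1 fun i hi =>
          (DerivedCategory.isLE_iff _ _).1 hKb i hi
      refine DQCoh.psc_of_local _ fun y => ?_
      by_cases hy : y ∈ Set.range f.base
      swap
      · exact psc_outside f hf K m y hy
      obtain ⟨V, hyV, _, N, C, α, g, w, hT, hN, hC, hg⟩ := loc hH y hy
      obtain ⟨e⟩ := nonempty_rd_pd f V K
      refine ⟨V, V.ι, inferInstance, by simpa using hyV, PCTriangle.psc_iso e.symm ?_⟩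
      have hO' := psc_structure_restrict f hf hO V
      refine PCTriangle.psc_ext ((pd (f ∣_ V)).map_distinguished _ hT)
        (psc_pd_finLocFree _ hg (by push_cast at hq; omega) hO' hN)
        ((ih (f ∣_ V) hg q hO' r m C hC hrm).1 (by push_cast at hq; omega) ?_)
      exact PCTriangle.psc_cone hT (PCTriangle.psc_iso
        (((DerivedCategory.singleFunctors _).shiftIso (-b) b 0 (by omega)).app N)
        (PCTriangle.psc_shift (DQCoh.psc_inD_finLocFree (r + 1 - b) hN) (-b) (r + 1) (by omega))) (DQCoh.psc_rd _ hp)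
    · have hle := isLE_map (Scheme.Modules.pushforward f) K b hKb
      have htop := (DQCoh.top_of_psc b _ (PCTriangle.psc_mono (show r ≤ b by omega) hp)).1 fun i hi =>
        (DerivedCategory.isLE_iff _ _).1 hle i hi
      have hH : CohB1.IsFT (DCoh.HD K b) :=
        isFT_of_push f hf _ (Coherent.isFT_of_epi (SuppOpen.hdMapIso (Scheme.Modules.pushforward f) K b).hom htop)
      refine DQCoh.psc_of_local _ fun x => ?_
      obtain ⟨V, hxV, _, N, C, α, g, w, hT, hN, hC, hg⟩ := loc hH (f x) ⟨x, rfl⟩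
      obtain ⟨e⟩ := nonempty_rd_pd f V K
      have hO' := psc_structure_restrict f hf hO V
      refine ⟨f ⁻¹ᵁ V, (f ⁻¹ᵁ V).ι, inferInstance, by simpa using hxV, PCTriangle.psc_ext hT
        (PCTriangle.psc_iso (((DerivedCategory.singleFunctors _).shiftIso (-b) b 0 (by omega)).app N)
          (PCTriangle.psc_shift (DQCoh.psc_inD_finLocFree (r - b) hN) (-b) r (by omega)))
        ((ih (f ∣_ V) hg q hO' r r C hC le_rfl).2 (by push_cast at hq; omega) ?_)⟩
      exact PCTriangle.psc_cone ((pd (f ∣_ V)).map_distinguished _ hT)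
        (psc_pd_finLocFree _ hg (by push_cast at hq; omega) hO' hN) (PCTriangle.psc_iso e (DQCoh.psc_rd V.ι hp))

/-- Direct image, with the bound. -/
theorem psc_pd_bound [PreservesFiniteColimits (Scheme.Modules.pushforward f)] (hf : Topology.IsClosedEmbedding f.base)
    {q : ℤ} (hO : DCoh.IsPseudoCoherentD q (DCoh.inD Y ((Scheme.Modules.pushforward f).obj (Coh.structureModule X))))
    {r m b : ℤ} (hrm : r ≤ m) (hqb : q + b ≤ m) {K : DCoh.D X} [K.IsLE b] (hK : DCoh.IsPseudoCoherentD r K) :
    DCoh.IsPseudoCoherentD m ((pd f).obj K) := by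
  by_cases hb : b < r
  · exact psc_of_isLE' (n := b) (by omega) (isLE_map _ K b inferInstance)
  exact (psc_pd_bound_aux (b + 1 - r).toNat f hf q hO r m K
    (by rwa [show r - 1 + ((b + 1 - r).toNat : ℤ) = b by omega]) hrm).1 (by omega) hK

/-- Pseudo-coherence is detected after direct image, with the bound. -/
theorem psc_of_pd_bound [PreservesFiniteColimits (Scheme.Modules.pushforward f)] (hf : Topology.IsClosedEmbedding f.base)
    {q : ℤ} (hO : DCoh.IsPseudoCoherentD q (DCoh.inD Y ((Scheme.Modules.pushforward f).obj (Coh.structureModule X))))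
    {r b : ℤ} (hqb : q + b ≤ r + 1) {K : DCoh.D X} [K.IsLE b] (hK : DCoh.IsPseudoCoherentD r ((pd f).obj K)) :
    DCoh.IsPseudoCoherentD r K := by
  by_cases hb : b < r
  · exact psc_of_isLE' hb inferInstance
  exact (psc_pd_bound_aux (b + 1 - r).toNat f hf q hO r r K
    (by rwa [show r - 1 + ((b + 1 - r).toNat : ℤ) = b by omega]) le_rfl).2 (by omega) hK

end Groth.Agent.FlatCx12.RelPCBound
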