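import Groth.Prelude.Def_DerSch2
import Groth.Agent.FlatCx12.EmbPush
import Groth.Agent.FlatMorPerfect.Hom
import Groth.Agent.DQCoh.TildePush
import Groth.Agent.DQCoh.PerfectAffine
import Groth.Agent.AffSchLib.TildeExact

/-!
# The chart test of relative pseudo-coherence

Independence of the presentation, change of base by a basic open, and locality on the source.
-/

set_option autoImplicit false
set_option backward.isDefEq.respectTransparency false
set_option backward.defeqAttrib.useBackward true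
set_option linter.style.haveILetI false
set_option synthInstance.maxHeartbeats 100000
set_option backward.isDefEq.respectTransparency.types false

universe u

open CategoryTheory CategoryTheory.Limits CategoryTheory.Pretriangulated DerivedCategory Opposite TopologicalSpace AlgebraicGeometry
open Groth.Agent.DCat Groth.Agent.Coherent Groth.Agent.FlatMorPerfect Groth.Agent.FlatCx12.EmbPush

namespace Groth.Agent.FlatCx12.RelPCChart

attribute [local instance] HasDerivedCategory.standard
attribute [-instance] Int.instConditionallyCompleteLinearOrder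

variable {X Y : Scheme.{u}}

/-- Direct image along an isomorphism is exact. -/
theorem preservesFiniteColimits_iso (f : X ⟶ Y) [IsClosedImmersion f] :
    PreservesFiniteColimits (Scheme.Modules.pushforward f) :=
  preservesFiniteColimits_emb f f.isClosedEmbedding

/-- `O` has pseudo-coherent direct image along `Spec` of a pseudo-coherent ring map. -/
theorem psc_push_structure {R S : CommRingCat.{u}} (φ : R ⟶ S) (h : PCS φ.hom) :
    pscAll (Spec R) (DCoh.inD (Spec R)
      ((Scheme.Modules.pushforward (Spec.map φ)).obj (Coh.structureModule (Spec S)))) := by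
  intro m
  haveI := AffSchLib.preservesFiniteLimits_tilde (R := R)
  obtain ⟨e⟩ := DQCoh.nonempty_tilde_push φ
  let i := (Scheme.Modules.pushforward (Spec.map φ)).mapIso
    ((DQCoh.topStructIso (Spec S)).symm ≪≫ DQCoh.topIso S) ≪≫ e.app (ModuleCat.of S S)
  refine PCTriangle.psc_iso ((singleFunctor _ 0).mapIso i).symm ?_
  refine PCTriangle.psc_iso (((tilde.functor R).mapDerivedCategorySingleFunctor 0).app _) ?_
  refine DQCoh.psc_tildeD (DRingLib.pc_mono (m := -((-m).toNat : ℤ)) (by omega) ?_)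
  letI := φ.hom.toAlgebra
  let l : S ≃ₗ[R] ((ModuleCat.restrictScalars φ.hom).obj (ModuleCat.of S S)) :=
    { toFun := fun s => s, invFun := fun s => s, map_add' := fun _ _ => rfl,
      map_smul' := fun _ _ => rfl, left_inv := fun _ => rfl, right_inv := fun _ => rfl }
  exact pc_congr l (h _)

/-- Direct image along equal morphisms. -/
theorem nonempty_pd_congr {f g : X ⟶ Y} (h : f = g) [PreservesFiniteColimits (Scheme.Modules.pushforward f)]
    [PreservesFiniteColimits (Scheme.Modules.pushforward g)] (K : DCoh.D X) :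
    Nonempty ((pd f).obj K ≅ (pd g).obj K) := by
  subst h
  exact ⟨Iso.refl _⟩

/-- Restriction along an isomorphism is direct image along its inverse. -/
theorem nonempty_rd_iso (e : X ≅ Y) [PreservesFiniteColimits (Scheme.Modules.pushforward e.inv)] (K : DCoh.D Y) :
    Nonempty ((PerfLocal.rd e.hom).obj K ≅ (pd e.inv).obj K) := by
  let η : Scheme.Modules.restrictFunctor e.hom ≅ Scheme.Modules.pushforward e.inv :=
    (Functor.leftUnitor _).symm ≪≫
      Functor.isoWhiskerRight ((Scheme.Modules.pushforwardId Y).symm ≪≫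
        Scheme.Modules.pushforwardCongr e.inv_hom_id.symm ≪≫
        (Scheme.Modules.pushforwardComp e.inv e.hom).symm) _ ≪≫
      Functor.associator _ _ _ ≪≫
      Functor.isoWhiskerLeft _ (Scheme.Modules.restrictFunctorAdjCounitIso e.hom) ≪≫ Functor.rightUnitor _
  let P := DerivedCategory.Q.objPreimage K
  let i := DerivedCategory.Q.objObjPreimageIso K
  exact ⟨(PerfLocal.rd e.hom).mapIso i.symm ≪≫ (Scheme.Modules.restrictFunctor e.hom).mapDerivedCategoryFactors.app P ≪≫
    DerivedCategory.Q.mapIso ((NatIso.mapHomologicalComplex η (ComplexShape.up ℤ)).app P) ≪≫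
    ((Scheme.Modules.pushforward e.inv).mapDerivedCategoryFactors.app P).symm ≪≫ (pd e.inv).mapIso i⟩

/-- Direct image along a closed embedding commutes with restriction along open immersions in a cartesian square. -/
theorem nonempty_square {A B : Scheme.{u}} (q : X ⟶ Y) (a : A ⟶ X) [IsOpenImmersion a] (b : B ⟶ Y)
    [IsOpenImmersion b] (p : A ⟶ B) (w : a ≫ q = p ≫ b) (hr : a.opensRange = q ⁻¹ᵁ b.opensRange)
    (hq : Topology.IsClosedEmbedding q.base) [PreservesFiniteColimits (Scheme.Modules.pushforward q)]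
    [PreservesFiniteColimits (Scheme.Modules.pushforward p)] (K : DCoh.D X) :
    Nonempty ((PerfLocal.rd b).obj ((pd q).obj K) ≅ (pd p).obj ((PerfLocal.rd a).obj K)) := by
  let V := b.opensRange
  let eA : A ≅ (q ⁻¹ᵁ V).toScheme := IsOpenImmersion.isoOfRangeEq a (q ⁻¹ᵁ V).ι
    (by rw [Scheme.Opens.range_ι, ← hr]; rfl)
  let eB : B ≅ V.toScheme := IsOpenImmersion.isoOfRangeEq b V.ι (by rw [Scheme.Opens.range_ι]; rfl)
  have ha : eA.hom ≫ (q ⁻¹ᵁ V).ι = a := IsOpenImmersion.isoOfRangeEq_hom_fac ..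
  have hb : eB.hom ≫ V.ι = b := IsOpenImmersion.isoOfRangeEq_hom_fac ..
  have hp : eA.inv ≫ p = (q ∣_ V) ≫ eB.inv := by
    rw [Iso.eq_comp_inv, Category.assoc, Iso.inv_comp_eq, ← cancel_mono V.ι, Category.assoc, hb,
      Category.assoc, morphismRestrict_ι, ← Category.assoc eA.hom, ha, w]
  haveI := preservesFiniteColimits_emb _ (isClosedEmbedding_restrict q hq V)
  haveI := preservesFiniteColimits_iso eA.inv
  haveI := preservesFiniteColimits_iso eB.inv
  haveI : PreservesFiniteColimits (Scheme.Modules.pushforward (eA.inv ≫ p)) :=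
    preservesFiniteColimits_of_natIso (Scheme.Modules.pushforwardComp eA.inv p)
  haveI : PreservesFiniteColimits (Scheme.Modules.pushforward ((q ∣_ V) ≫ eB.inv)) :=
    preservesFiniteColimits_of_natIso (Scheme.Modules.pushforwardComp _ _)
  obtain ⟨e₁⟩ := PerfLocal.rd_comp eB.hom V.ι ((pd q).obj K)
  obtain ⟨c₁⟩ := nonempty_rd_congr' hb
  obtain ⟨e₂⟩ := nonempty_rd_pd q V K
  obtain ⟨e₃⟩ := nonempty_rd_iso eB ((pd (q ∣_ V)).obj ((PerfLocal.rd (q ⁻¹ᵁ V).ι).obj K))
  obtain ⟨e₄⟩ := nonempty_pd_comp (q ∣_ V) eB.inv ((PerfLocal.rd (q ⁻¹ᵁ V).ι).obj K)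
  obtain ⟨e₅⟩ := nonempty_pd_congr hp ((PerfLocal.rd (q ⁻¹ᵁ V).ι).obj K)
  obtain ⟨e₆⟩ := nonempty_pd_comp eA.inv p ((PerfLocal.rd (q ⁻¹ᵁ V).ι).obj K)
  obtain ⟨e₇⟩ := nonempty_rd_iso eA ((PerfLocal.rd (q ⁻¹ᵁ V).ι).obj K)
  obtain ⟨e₈⟩ := PerfLocal.rd_comp eA.hom (q ⁻¹ᵁ V).ι K
  obtain ⟨c₂⟩ := nonempty_rd_congr' ha
  exact ⟨(c₁.app _).symm ≪≫ e₁ ≪≫ (PerfLocal.rd eB.hom).mapIso e₂ ≪≫ e₃ ≪≫ e₄ ≪≫ e₅.symm ≪≫ e₆.symm ≪≫
    (pd p).mapIso (e₇.symm ≪≫ e₈.symm ≪≫ c₂.app K)⟩

section Along

variable (m : ℤ) (K : DCoh.D X) (U : X.Opens) {P : Type u} [CommRing P]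

/-- The pseudo-coherence test along `U ⟶ Spec P`. -/
def Along (φ : P →+* Γ(X, U)) : Prop :=
  ∃ _ : PreservesFiniteColimits (Scheme.Modules.pushforward (U.toSpecΓ ≫ Spec.map (CommRingCat.ofHom φ))),
    DCoh.IsPseudoCoherentD m
      ((pd (U.toSpecΓ ≫ Spec.map (CommRingCat.ofHom φ))).obj ((PerfLocal.rd U.ι).obj K))

variable {m K U} (hU : IsAffineOpen U) {φ : P →+* Γ(X, U)} (hφ : Function.Surjective φ)

include hU hφ in
theorem isClosedImmersion_along : IsClosedImmersion (U.toSpecΓ ≫ Spec.map (CommRingCat.ofHom φ)) := by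
  haveI : IsIso U.toSpecΓ := hU.isoSpec_hom ▸ inferInstance
  haveI := IsClosedImmersion.spec_of_surjective (CommRingCat.ofHom φ) hφ
  infer_instance

end Along

/-- The chart test, through the derived category. -/
theorem chartPC_iff (m : ℤ) (K : DCoh.D X) {U : X.Opens} (hU : IsAffineOpen U) {V : Y.Opens} {n : ℕ}
    {φ : MvPolynomial (Fin n) Γ(Y, V) →+* Γ(X, U)} (hφ : Function.Surjective φ) :
    DerSch.ChartPC m K U V φ ↔ Along m K U φ := by
  haveI := isClosedImmersion_along hU hφ
  let c := U.toSpecΓ ≫ Spec.map (CommRingCat.ofHom φ)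
  haveI := preservesFiniteColimits_iso c
  have key : ∀ G : CochainComplex X.Modules ℤ, Nonempty (DCoh.toD X G ≅ K) →
      Nonempty (DCoh.toD _ ((DerSch.pushCx (DerSch.chartImm U φ)).obj ((DCoh.restrictCx U).obj G)) ≅
        (pd c).obj ((PerfLocal.rd U.ι).obj K)) := fun G ⟨e⟩ =>
    ⟨((Scheme.Modules.pushforward c).mapDerivedCategoryFactors.app _).symm ≪≫
      (pd c).mapIso (((Scheme.Modules.restrictFunctor U.ι).mapDerivedCategoryFactors.app G).symm ≪≫
        (PerfLocal.rd U.ι).mapIso e)⟩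
  refine ⟨fun h => ⟨inferInstance, ?_⟩, fun ⟨_, h⟩ G hG => ?_⟩
  · have hG : Nonempty (DCoh.toD X (DerivedCategory.Q.objPreimage K) ≅ K) := ⟨DerivedCategory.Q.objObjPreimageIso K⟩
    obtain ⟨e⟩ := key _ hG
    exact PCTriangle.psc_iso e (h _ hG)
  · obtain ⟨e⟩ := key G hG
    exact PCTriangle.psc_iso e.symm h

section Change

variable {m : ℤ} {K : DCoh.D X} {U : X.Opens}

/-- Composing a presentation with a pseudo-coherent surjection. -/
theorem along_comp_iff (hU : IsAffineOpen U) {P P' : Type u} [CommRing P] [CommRing P'] {φ : P →+* Γ(X, U)}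
    (hφ : Function.Surjective φ) {e : P' →+* P} (he : Function.Surjective e) (hpc : PCS e) :
    Along m K U (φ.comp e) ↔ Along m K U φ := by
  haveI := isClosedImmersion_along hU hφ
  haveI := isClosedImmersion_along hU (φ := φ.comp e) (hφ.comp he)
  haveI := IsClosedImmersion.spec_of_surjective (CommRingCat.ofHom e) he
  let c := U.toSpecΓ ≫ Spec.map (CommRingCat.ofHom φ)
  let j := Spec.map (CommRingCat.ofHom e)
  haveI := preservesFiniteColimits_iso c
  haveI := preservesFiniteColimits_iso j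
  haveI := preservesFiniteColimits_iso (U.toSpecΓ ≫ Spec.map (CommRingCat.ofHom (φ.comp e)))
  haveI : PreservesFiniteColimits (Scheme.Modules.pushforward (c ≫ j)) := preservesFiniteColimits_iso _
  have h : c ≫ j = U.toSpecΓ ≫ Spec.map (CommRingCat.ofHom (φ.comp e)) := by
    simp [c, j, ← Spec.map_comp]
  obtain ⟨a⟩ := nonempty_pd_comp c j ((PerfLocal.rd U.ι).obj K)
  obtain ⟨b⟩ := nonempty_pd_congr h ((PerfLocal.rd U.ι).obj K)
  have hj := psc_pd_iff j j.isClosedEmbedding (psc_push_structure _ hpc) m ((pd c).obj ((PerfLocal.rd U.ι).obj K))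
  exact ⟨fun ⟨_, hp⟩ => ⟨inferInstance, hj.1 (PCTriangle.psc_iso (a ≪≫ b).symm hp)⟩,
    fun ⟨_, hp⟩ => ⟨inferInstance, PCTriangle.psc_iso (a ≪≫ b) (hj.2 hp)⟩⟩

/-- Two presentations by polynomial rings over the same base. -/
theorem along_poly_iff (hU : IsAffineOpen U) {A : Type u} [CommRing A] {n k : ℕ}
    {φ : MvPolynomial (Fin n) A →+* Γ(X, U)} (hφ : Function.Surjective φ)
    {ψ : MvPolynomial (Fin k) A →+* Γ(X, U)} (hψ : Function.Surjective ψ)
    (h : φ.comp MvPolynomial.C = ψ.comp MvPolynomial.C) :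
    Along m K U φ ↔ Along m K U ψ := by
  choose g hg using fun i => hφ (ψ (MvPolynomial.X i))
  choose g' hg' using fun i => hψ (φ (MvPolynomial.X i))
  have hs : ∀ {R : Type u} [CommRing R] {l : ℕ} (v : Fin l → R), Function.Surjective (MvPolynomial.eval v) :=
    fun v r => ⟨MvPolynomial.C r, MvPolynomial.eval_C r⟩
  rw [← along_comp_iff hU hφ (hs g) (pcs_eval g),
    ← along_comp_iff hU hψ ((hs g').comp (swapEquiv n k A).surjective)
      (e := (MvPolynomial.eval g').comp (swapEquiv n k A).toRingHom) ((pcs_equiv _).comp (pcs_eval g'))]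
  have e : φ.comp (MvPolynomial.eval g) =
      ψ.comp ((MvPolynomial.eval g').comp (swapEquiv n k A).toRingHom) := by
    refine MvPolynomial.ringHom_ext (fun p => ?_) fun i => ?_
    · induction p using MvPolynomial.induction_on with
      | C a => simpa [swapEquiv] using RingHom.congr_fun h a
      | add p q hp hq => simp_all
      | mul_X p i hp => simp_all [swapEquiv]
    · simp [swapEquiv, hg]
  rw [e]

/-- Two presentations by flat algebras of finite presentation over the same base. -/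
theorem along_iff (hU : IsAffineOpen U) {A : Type u} [CommRing A] {P Q : Type u} [CommRing P] [CommRing Q]
    [Algebra A P] [Algebra A Q] [Module.Flat A P] [Algebra.FinitePresentation A P]
    [Module.Flat A Q] [Algebra.FinitePresentation A Q]
    {α : P →+* Γ(X, U)} (hα : Function.Surjective α) {β : Q →+* Γ(X, U)} (hβ : Function.Surjective β)
    (h : α.comp (algebraMap A P) = β.comp (algebraMap A Q)) :
    Along m K U α ↔ Along m K U β := by
  have hP := PerfectHom.pcHom_of_flat A P
  have hQ := PerfectHom.pcHom_of_flat A Q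
  obtain ⟨n, π, hπ, hp⟩ := pcHom_iff.1 hP
  obtain ⟨k, ρ, hρ, hq⟩ := pcHom_iff.1 hQ
  rw [← along_comp_iff hU hα hπ hp (e := π.toRingHom), ← along_comp_iff hU hβ hρ hq (e := ρ.toRingHom)]
  refine along_poly_iff hU (hα.comp hπ) (hβ.comp hρ) ?_
  refine RingHom.ext fun a => ?_
  show α (π (MvPolynomial.C a)) = β (ρ (MvPolynomial.C a))
  rw [← MvPolynomial.algebraMap_eq, ← MvPolynomial.algebraMap_eq, π.commutes, ρ.commutes]
  exact RingHom.congr_fun h a

end Change

/-- The test on a basic open. -/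
theorem along_localize (m : ℤ) (K : DCoh.D X) {U : X.Opens} (hU : IsAffineOpen U) {P : Type u} [CommRing P]
    (φ : P →+* Γ(X, U)) (hφ : Function.Surjective φ) (t : P) {U' : X.Opens} (hU' : U' = X.basicOpen (φ t)) (hle : U' ≤ U)
    (φ' : Localization.Away t →+* Γ(X, U')) (hφ' : Function.Surjective φ')
    (hc : φ'.comp (algebraMap P (Localization.Away t)) = (X.presheaf.map (homOfLE hle).op).hom.comp φ)
    [PreservesFiniteColimits (Scheme.Modules.pushforward (U.toSpecΓ ≫ Spec.map (CommRingCat.ofHom φ)))] :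
    Along m K U' φ' ↔ DCoh.IsPseudoCoherentD m
      ((PerfLocal.rd (Spec.map (CommRingCat.ofHom (algebraMap P (Localization.Away t))))).obj
        ((pd (U.toSpecΓ ≫ Spec.map (CommRingCat.ofHom φ))).obj ((PerfLocal.rd U.ι).obj K))) := by
  haveI := isClosedImmersion_along hU hφ
  have hU'aff : IsAffineOpen U' := hU' ▸ hU.basicOpen (φ t)
  haveI := isClosedImmersion_along hU'aff hφ'
  let q := U.toSpecΓ ≫ Spec.map (CommRingCat.ofHom φ)
  let p := U'.toSpecΓ ≫ Spec.map (CommRingCat.ofHom φ')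
  let b := Spec.map (CommRingCat.ofHom (algebraMap P (Localization.Away t)))
  haveI := preservesFiniteColimits_iso p
  have w : X.homOfLE hle ≫ q = p ≫ b := by
    simp only [q, p, b, Category.assoc, ← Spec.map_comp, ← CommRingCat.ofHom_comp, hc]
    rw [← Scheme.Opens.toSpecΓ_SpecMap_presheaf_map_assoc U' U hle, ← Spec.map_comp]
    rfl
  have hr : (X.homOfLE hle).opensRange = q ⁻¹ᵁ b.opensRange := by
    have hb : b.opensRange = PrimeSpectrum.basicOpen t :=
      Opens.ext (PrimeSpectrum.localization_away_comap_range (Localization.Away t) t)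
    rw [hb, Scheme.opensRange_homOfLE]
    simp only [q, Scheme.Hom.comp_preimage, PrimeSpectrum.comap_basicOpen, CommRingCat.hom_ofHom]
    refine Eq.trans ?_ (Scheme.Opens.toSpecΓ_preimage_basicOpen U (φ t)).symm
    rw [hU']
  obtain ⟨e⟩ := nonempty_square q (X.homOfLE hle) b p w hr q.isClosedEmbedding ((PerfLocal.rd U.ι).obj K)
  obtain ⟨a⟩ := PerfLocal.rd_comp (X.homOfLE hle) U.ι K
  obtain ⟨c⟩ := nonempty_rd_congr' (X.homOfLE_ι hle)
  let i := (pd p).mapIso (a.symm ≪≫ c.app K)
  exact ⟨fun ⟨_, h⟩ => PCTriangle.psc_iso (e ≪≫ i).symm h, fun h => ⟨inferInstance, PCTriangle.psc_iso (e ≪≫ i) h⟩⟩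

end Groth.Agent.FlatCx12.RelPCChart
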