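import Groth.Agent.FlatCx12.RelPCBound
import Groth.Agent.DRingLib.PCMore

/-!
# Relative pseudo-coherence and composition: the bounded forms
-/

set_option autoImplicit false
set_option backward.isDefEq.respectTransparency false
set_option backward.defeqAttrib.useBackward true
set_option linter.style.haveILetI false
set_option synthInstance.maxHeartbeats 100000
set_option backward.isDefEq.respectTransparency.types false

universe u

open CategoryTheory CategoryTheory.Limits CategoryTheory.Pretriangulated DerivedCategory Opposite TopologicalSpace AlgebraicGeometry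
open Groth.Agent.DCat Groth.Agent.FlatMorPerfect Groth.Agent.FlatCx12.EmbPush Groth.Agent.FlatCx12.RelPCChart
open Groth.Agent.FlatCx12.RelPC Groth.Agent.FlatCx12.RelPCOps Groth.Agent.FlatCx12.RelDescScheme

namespace Groth.Agent.FlatCx12.RelPCCompBound

attribute [local instance] HasDerivedCategory.standard
attribute [-instance] Int.instConditionallyCompleteLinearOrder

local instance preservesFiniteLimits_tilde' (R : CommRingCat.{u}) : PreservesFiniteLimits (tilde.functor R) :=
  AffSchLib.preservesFiniteLimits_tilde R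

variable {X Y Z : Scheme.{u}}

/-- `O` has `-k`-pseudo-coherent direct image along `Spec` of a ring map whose target is such a module. -/
theorem psc_push_structure_bound {R S : CommRingCat.{u}} (φ : R ⟶ S) (k : ℕ) (h : letI := φ.hom.toAlgebra; PC R k S) :
    DCoh.IsPseudoCoherentD (-(k : ℤ)) (DCoh.inD (Spec R)
      ((Scheme.Modules.pushforward (Spec.map φ)).obj (Coh.structureModule (Spec S)))) := by
  obtain ⟨e⟩ := DQCoh.nonempty_tilde_push φ
  let i := (Scheme.Modules.pushforward (Spec.map φ)).mapIso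
    ((DQCoh.topStructIso (Spec S)).symm ≪≫ DQCoh.topIso S) ≪≫ e.app (ModuleCat.of S S)
  refine PCTriangle.psc_iso ((singleFunctor _ 0).mapIso i).symm ?_
  refine PCTriangle.psc_iso (((tilde.functor R).mapDerivedCategorySingleFunctor 0).app _) ?_
  refine DQCoh.psc_tildeD ?_
  letI := φ.hom.toAlgebra
  let l : S ≃ₗ[R] ((ModuleCat.restrictScalars φ.hom).obj (ModuleCat.of S S)) :=
    { toFun := fun s => s, invFun := fun s => s, map_add' := fun _ _ => rfl,
      map_smul' := fun _ _ => rfl, left_inv := fun _ => rfl, right_inv := fun _ => rfl }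
  exact pc_congr l h

theorem isLE_pd_rd {K : DCoh.D X} (b : ℤ) [K.IsLE b] (U : X.Opens) {P : Scheme.{u}} (c : U.toScheme ⟶ P)
    [PreservesFiniteColimits (Scheme.Modules.pushforward c)] :
    ((pd c).obj ((PerfLocal.rd U.ι).obj K)).IsLE b :=
  isLE_map _ _ b (isLE_map (Scheme.Modules.restrictFunctor U.ι) K b inferInstance)

/-- Composing a presentation with a surjection whose target is pseudo-coherent up to one degree. -/
theorem along_comp_bound {r m b : ℤ} {k : ℕ} {K : DCoh.D X} [K.IsLE b] {U : X.Opens} (hU : IsAffineOpen U)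
    {P P' : Type u} [CommRing P] [CommRing P'] {φ : P →+* Γ(X, U)} (hφ : Function.Surjective φ) {e : P' →+* P}
    (he : Function.Surjective e) (hpc : letI := e.toAlgebra; PC P' k P) :
    (r ≤ m → b - k ≤ m → Along r K U φ → Along m K U (φ.comp e)) ∧
      (b - k ≤ r + 1 → Along r K U (φ.comp e) → Along r K U φ) := by
  haveI := isClosedImmersion_along hU hφ
  haveI := isClosedImmersion_along hU (φ := φ.comp e) (hφ.comp he)
  haveI := IsClosedImmersion.spec_of_surjective (CommRingCat.ofHom e) he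
  let c := U.toSpecΓ ≫ Spec.map (CommRingCat.ofHom φ)
  let j := Spec.map (CommRingCat.ofHom e)
  haveI := preservesFiniteColimits_iso c
  haveI := preservesFiniteColimits_iso j
  haveI := preservesFiniteColimits_iso (U.toSpecΓ ≫ Spec.map (CommRingCat.ofHom (φ.comp e)))
  haveI : PreservesFiniteColimits (Scheme.Modules.pushforward (c ≫ j)) := preservesFiniteColimits_iso _
  have h : c ≫ j = U.toSpecΓ ≫ Spec.map (CommRingCat.ofHom (φ.comp e)) := by
    simp [c, j, ← Spec.map_comp]
  obtain ⟨a⟩ := nonempty_pd_comp c j ((PerfLocal.rd U.ι).obj K)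
  obtain ⟨b'⟩ := nonempty_pd_congr h ((PerfLocal.rd U.ι).obj K)
  have hO := psc_push_structure_bound (CommRingCat.ofHom e) k hpc
  haveI := isLE_pd_rd (K := K) b U c
  exact ⟨fun h1 h2 ⟨_, hp⟩ => ⟨inferInstance, PCTriangle.psc_iso (a ≪≫ b')
      (RelPCBound.psc_pd_bound (b := b) j j.isClosedEmbedding hO h1 (by omega) hp)⟩,
    fun h2 ⟨_, hp⟩ => ⟨inferInstance, RelPCBound.psc_of_pd_bound (b := b) j j.isClosedEmbedding hO (by omega)
      (PCTriangle.psc_iso (a ≪≫ b').symm hp)⟩⟩

attribute [local instance] MvPolynomial.algebraMvPolynomial in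
/-- Adding variables. -/
theorem pc_map {R S : Type u} [CommRing R] [CommRing S] (φ : R →+* S) (k : ℕ) (σ : Type) [Finite σ]
    (h : letI := φ.toAlgebra; PC R k S) :
    (letI := (MvPolynomial.map (σ := σ) φ).toAlgebra; PC (MvPolynomial σ R) k (MvPolynomial σ S)) := by
  letI := φ.toAlgebra
  exact pc_congr (Algebra.IsPushout.equiv R (MvPolynomial σ R) S (MvPolynomial σ S)).toLinearEquiv
    (pc_baseChange k S h)

variable (f : X ⟶ Y) (g : Y ⟶ Z) [LocallyOfFiniteType f] [LocallyOfFiniteType g]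

/-- The test over an intermediate base whose structure map is pseudo-coherent up to one degree. -/
theorem testOn_comp_bound {r m b s : ℤ} (hg : DerSch.IsNPseudoCoherent g s) (K : DCoh.D X) [K.IsLE b]
    (U : X.affineOpens) (W : Y.affineOpens) (V : Z.affineOpens) (hUW : (U : X.Opens) ≤ f ⁻¹ᵁ (W : Y.Opens))
    (hWV : (W : Y.Opens) ≤ g ⁻¹ᵁ (V : Z.Opens)) :
    (r ≤ m → b + s ≤ m → TestOn f r K U W hUW → TestOn (f ≫ g) m K U V (fun _ hx => hWV (hUW hx))) ∧
      (b + s ≤ r + 1 → TestOn (f ≫ g) r K U V (fun _ hx => hWV (hUW hx)) → TestOn f r K U W hUW) := by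
  letI := (g.appLE V W hWV).hom.toAlgebra
  letI := (f.appLE W U hUW).hom.toAlgebra
  obtain ⟨n, π, hπ⟩ := Algebra.FiniteType.iff_quotient_mvPolynomial''.1
    (show Algebra.FiniteType Γ(Z, V.1) Γ(Y, W.1) from g.finiteType_appLE V.2 W.2 hWV)
  obtain ⟨l, ψ, hψ⟩ := Algebra.FiniteType.iff_quotient_mvPolynomial''.1
    (show Algebra.FiniteType Γ(Y, W.1) Γ(X, U.1) from f.finiteType_appLE W.2 U.2 hUW)
  let k := (-s).toNat
  have hp : letI := π.toRingHom.toAlgebra; PC (MvPolynomial (Fin n) Γ(Z, V.1)) k Γ(Y, W.1) := by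
    letI := π.toRingHom.toAlgebra
    by_cases hs : 0 < s
    · rw [show k = 0 from Int.toNat_eq_zero.2 (by omega), pc_zero_iff]
      exact Module.Finite.of_surjective (Algebra.linearMap (MvPolynomial (Fin n) Γ(Z, V.1)) Γ(Y, W.1)) hπ
    have ht := testOn_iso (L := DCoh.inD Y (Coh.structureModule Y))
      ((DerivedCategory.singleFunctorIsoCompQ Y.Modules 0).app (Coh.structureModule Y)).symm W.2
      ((Groth.Agent.FlatCx12.RelPC.rel_iff.1 hg) W V hWV)
    have h1 := (Groth.Agent.RelPC.relModule_iff π hπ (ModuleCat.of Γ(Y, W.1) Γ(Y, W.1)) s).1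
      ((testOn_iff_sec g W.2 hWV s _ _ (RelPCComp.isSec_structure W.2)).1 ht)
    let e : ((ModuleCat.restrictScalars.{u} π.toRingHom).obj (ModuleCat.of Γ(Y, W.1) Γ(Y, W.1)))
        ≃ₗ[MvPolynomial (Fin n) Γ(Z, V.1)] Γ(Y, W.1) :=
      { AddEquiv.refl Γ(Y, W.1) with map_smul' := fun a b => rfl }
    exact pc_congr e (DRingLib.pc_mono (by omega) h1)
  have hψC : ψ.toRingHom.comp MvPolynomial.C = (f.appLE W U hUW).hom := RingHom.ext fun a => ψ.commutes a
  have hπC : π.toRingHom.comp MvPolynomial.C = (g.appLE V W hWV).hom := RingHom.ext fun a => π.commutes a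
  let γ := ψ.toRingHom.comp (MvPolynomial.map (σ := Fin l) π.toRingHom)
  have hm : Function.Surjective (MvPolynomial.map (σ := Fin l) π.toRingHom) := MvPolynomial.map_surjective _ hπ
  have hγ : Function.Surjective γ := hψ.comp hm
  have hγC : γ.comp (algebraMap Γ(Z, V.1) (MvPolynomial (Fin l) (MvPolynomial (Fin n) Γ(Z, V.1)))) =
      ((f ≫ g).appLE V U fun _ hx => hWV (hUW hx)).hom := by
    rw [IsScalarTower.algebraMap_eq Γ(Z, V.1) (MvPolynomial (Fin n) Γ(Z, V.1)), MvPolynomial.algebraMap_eq,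
      ← RingHom.comp_assoc, RingHom.comp_assoc _ (MvPolynomial.map π.toRingHom), MvPolynomial.map_comp_C,
      ← RingHom.comp_assoc, hψC, RingHom.comp_assoc, MvPolynomial.algebraMap_eq, hπC, ← CommRingCat.hom_comp,
      Scheme.Hom.appLE_comp_appLE]
  have hpc : letI := (MvPolynomial.map (σ := Fin l) π.toRingHom).toAlgebra
      PC (MvPolynomial (Fin l) (MvPolynomial (Fin n) Γ(Z, V.1))) k (MvPolynomial (Fin l) Γ(Y, W.1)) :=
    pc_map π.toRingHom k (Fin l) hp
  have hk : -(k : ℤ) ≤ s ∨ k = 0 := by omega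
  constructor
  · intro h1 h2 ht
    refine testOn_of_along U.2 hγ hγC ((along_comp_bound (r := r) (m := m) (b := b) (k := k) U.2 hψ hm hpc).1 h1 ?_
      (testOn_along U.2 ht (P := MvPolynomial (Fin l) Γ(Y, W.1)) hψ (by rw [MvPolynomial.algebraMap_eq, hψC])))
    omega
  · intro h2 ht
    refine ⟨l, ψ.toRingHom, ⟨hψ, hψC⟩, (chartPC_iff r K U.2 hψ).2
      ((along_comp_bound (r := r) (m := r) (b := b) (k := k) U.2 hψ hm hpc).2 ?_ (testOn_along U.2 ht hγ hγC))⟩
    omega

theorem exists_affine_triple (x : X) :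
    ∃ (U : X.affineOpens) (W : Y.affineOpens) (V : Z.affineOpens)
      (_ : (U : X.Opens) ≤ f ⁻¹ᵁ (W : Y.Opens)) (_ : (W : Y.Opens) ≤ g ⁻¹ᵁ (V : Z.Opens)), x ∈ (U : X.Opens) := by
  obtain ⟨W, V, hWV, hxW⟩ := exists_affine_pair g (f x)
  obtain ⟨U, hU, hxU, hle⟩ := Opens.isBasis_iff_nbhd.1 X.isBasis_affineOpens (U := f ⁻¹ᵁ W.1) (x := x) hxW
  exact ⟨⟨U, hU⟩, W, V, hle, hWV, hxU⟩

/-- Composition, bounded form. -/
theorem rel_comp_bound {r m b s : ℤ} (hg : DerSch.IsNPseudoCoherent g s) {K : DCoh.D X} [K.IsLE b] (hrm : r ≤ m)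
    (hbs : b + s ≤ m) (h : DerSch.IsPseudoCoherentRel f r K) : DerSch.IsPseudoCoherentRel (f ≫ g) m K := by
  rw [Groth.Agent.FlatCx12.RelPC.rel_iff] at h
  refine rel_of_local fun x => ?_
  obtain ⟨U, W, V, hUW, hWV, hx⟩ := exists_affine_triple f g x
  exact ⟨U, V, _, hx, (testOn_comp_bound f g hg K U W V hUW hWV).1 hrm hbs (h U W hUW)⟩

/-- Cancellation, bounded form. -/
theorem rel_of_comp_bound {r b s : ℤ} (hg : DerSch.IsNPseudoCoherent g s) {K : DCoh.D X} [K.IsLE b]
    (hbs : b + s ≤ r + 1) (h : DerSch.IsPseudoCoherentRel (f ≫ g) r K) : DerSch.IsPseudoCoherentRel f r K := by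
  rw [Groth.Agent.FlatCx12.RelPC.rel_iff] at h
  refine rel_of_local fun x => ?_
  obtain ⟨U, W, V, hUW, hWV, hx⟩ := exists_affine_triple f g x
  exact ⟨U, W, hUW, hx, (testOn_comp_bound (m := r) f g hg K U W V hUW hWV).2 hbs (h U V fun _ hz => hWV (hUW hz))⟩

end Groth.Agent.FlatCx12.RelPCCompBound
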