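import Groth.Agent.RelPC.BaseChange
import Groth.Agent.FlatCx12.RelDescRing
import Mathlib.RingTheory.TensorProduct.MvPolynomial
import Mathlib.RingTheory.Flat.FaithfullyFlat.Algebra

/-!
# Relative pseudo-coherence: flat change of the base ring, and its descent
-/

set_option autoImplicit false
set_option backward.isDefEq.respectTransparency false
set_option backward.defeqAttrib.useBackward true
set_option linter.style.haveILetI false

universe u

open CategoryTheory CategoryTheory.Limits TensorProduct

attribute [local instance] HasDerivedCategory.standard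
attribute [local instance] MvPolynomial.algebraMvPolynomial

namespace Groth.Agent.FlatCx12.RelPCFlatBC

open Groth.Agent.DRingLib Groth.Agent.FlatMorPerfect Groth.Agent.RelPC
open Groth.Agent.CAlgSmall.PCZariski (Ext ExtC nonempty_lbaseChange_iso pc_descend_family)

section Square

variable (R R' A A' : Type u) [CommRing R] [CommRing R'] [CommRing A] [CommRing A'] [Algebra R R'] [Algebra R A]
  [Algebra A A'] [Algebra R' A'] [Algebra R A'] [IsScalarTower R R' A'] [IsScalarTower R A A']
  [hpo : Algebra.IsPushout R R' A A'] {n : ℕ} (α : MvPolynomial (Fin n) R →ₐ[R] A) (hα : Function.Surjective α)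

noncomputable def liftPres : MvPolynomial (Fin n) R' →ₐ[R'] A' :=
  MvPolynomial.aeval fun i => algebraMap A A' (α (MvPolynomial.X i))

omit hpo in
theorem liftPres_map (p : MvPolynomial (Fin n) R) :
    liftPres R R' A A' α (MvPolynomial.map (algebraMap R R') p) = algebraMap A A' (α p) := by
  induction p using MvPolynomial.induction_on with
  | C a => rw [MvPolynomial.map_C, ← MvPolynomial.algebraMap_eq, AlgHom.commutes, ← MvPolynomial.algebraMap_eq,
      AlgHom.commutes, ← IsScalarTower.algebraMap_apply, ← IsScalarTower.algebraMap_apply]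
  | add p q hp hq => simp only [map_add, hp, hq]
  | mul_X p i hp =>
    rw [map_mul, map_mul, map_mul, map_mul, hp, MvPolynomial.map_X]
    exact congrArg _ (MvPolynomial.aeval_X _ i)

include hα hpo in
theorem liftPres_surjective : Function.Surjective (liftPres R R' A A' α) := by
  intro y
  obtain ⟨z, rfl⟩ := (Algebra.IsPushout.equiv R R' A A').surjective y
  induction z using TensorProduct.induction_on with
  | zero => exact ⟨0, by simp only [map_zero]⟩
  | tmul a b =>
    obtain ⟨p, rfl⟩ := hα b
    refine ⟨algebraMap R' _ a * MvPolynomial.map (algebraMap R R') p, ?_⟩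
    rw [map_mul, AlgHom.commutes, liftPres_map, Algebra.IsPushout.equiv_tmul]
  | add a b ha hb =>
    obtain ⟨p, hp⟩ := ha
    obtain ⟨q, hq⟩ := hb
    exact ⟨p + q, by simp only [map_add, hp, hq]⟩

include hpo in
/-- The square of polynomial rings over a cocartesian square is cocartesian. -/
theorem exists_instances (hα : Function.Surjective α) :
    letI : Algebra (MvPolynomial (Fin n) R) A := (α : MvPolynomial (Fin n) R →+* A).toAlgebra
    letI : Algebra (MvPolynomial (Fin n) R') A' := (liftPres R R' A A' α : MvPolynomial (Fin n) R' →+* A').toAlgebra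
    letI : Algebra (MvPolynomial (Fin n) R) A' := ((algebraMap A A').comp (α : MvPolynomial (Fin n) R →+* A)).toAlgebra
    ∃ _ : IsScalarTower (MvPolynomial (Fin n) R) A A',
      ∃ _ : IsScalarTower (MvPolynomial (Fin n) R) (MvPolynomial (Fin n) R') A',
        Algebra.IsPushout (MvPolynomial (Fin n) R) (MvPolynomial (Fin n) R') A A' := by
  letI : Algebra (MvPolynomial (Fin n) R) A := (α : MvPolynomial (Fin n) R →+* A).toAlgebra
  letI : Algebra (MvPolynomial (Fin n) R') A' := (liftPres R R' A A' α : MvPolynomial (Fin n) R' →+* A').toAlgebra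
  letI : Algebra (MvPolynomial (Fin n) R) A' := ((algebraMap A A').comp (α : MvPolynomial (Fin n) R →+* A)).toAlgebra
  haveI hST : IsScalarTower (MvPolynomial (Fin n) R) A A' := .of_algebraMap_eq fun _ => rfl
  haveI : IsScalarTower (MvPolynomial (Fin n) R) (MvPolynomial (Fin n) R') A' :=
    .of_algebraMap_eq fun p => (liftPres_map R R' A A' α p).symm
  haveI : IsScalarTower R (MvPolynomial (Fin n) R) A := .of_algHom α
  haveI : IsScalarTower R' (MvPolynomial (Fin n) R') A' := .of_algHom (liftPres R R' A A' α)
  haveI : IsScalarTower R (MvPolynomial (Fin n) R) A' := .of_algebraMap_eq fun r => by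
    show algebraMap R A' r = algebraMap A A' (α (algebraMap R _ r))
    rw [α.commutes, ← IsScalarTower.algebraMap_apply]
  haveI : IsScalarTower R (MvPolynomial (Fin n) R') A' := .of_algebraMap_eq fun r => by
    rw [IsScalarTower.algebraMap_apply R R' A', IsScalarTower.algebraMap_apply R R' (MvPolynomial (Fin n) R'),
      ← IsScalarTower.algebraMap_apply R' (MvPolynomial (Fin n) R') A']
  exact ⟨hST, inferInstance,
    ((Algebra.IsPushout.comp_iff R (MvPolynomial (Fin n) R) R' (MvPolynomial (Fin n) R')).1 hpo.symm).symm⟩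

include hpo in
/-- Flat change of the base ring. -/
theorem rel_ext_of_flat [Algebra.FiniteType R A] [Module.Flat R R'] (L : DRing.Cx A) {m : ℤ}
    (h : DerCA.IsRelPseudoCoherent R A m (DRing.toD L)) :
    DerCA.IsRelPseudoCoherent R' A' m (DRing.toD ((ExtC A' (algebraMap A A')).obj L)) := by
  obtain ⟨n, α, hα⟩ := exists_presentation (R := R) (A := A)
  letI : Algebra (MvPolynomial (Fin n) R) A := (α : MvPolynomial (Fin n) R →+* A).toAlgebra
  letI : Algebra (MvPolynomial (Fin n) R') A' := (liftPres R R' A A' α : MvPolynomial (Fin n) R' →+* A').toAlgebra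
  letI : Algebra (MvPolynomial (Fin n) R) A' := ((algebraMap A A').comp (α : MvPolynomial (Fin n) R →+* A)).toAlgebra
  obtain ⟨_, _, _⟩ := exists_instances R R' A A' α hα
  haveI : Module.Flat (MvPolynomial (Fin n) R) (MvPolynomial (Fin n) R') := Module.Flat.of_linearEquiv
    (Algebra.IsPushout.equiv R (MvPolynomial (Fin n) R) R' (MvPolynomial (Fin n) R')).toLinearEquiv.symm
  exact (rel_iff (liftPres R R' A A' α) (liftPres_surjective R R' A A' α hα) _ m).2
    (pc_ext_of_flat (MvPolynomial (Fin n) R) (MvPolynomial (Fin n) R') A A' L m ((rel_iff α hα _ m).1 h))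

end Square

section Family

variable {R : Type u} [CommRing R] {ι : Type} [Finite ι] (S : ι → Type u) [∀ i, CommRing (S i)] [∀ i, Algebra R (S i)]
  [∀ i, Module.Flat R (S i)]

/-- The product of a jointly surjective flat finite family is faithfully flat. -/
theorem faithfullyFlat_pi (hsurj : ∀ p : PrimeSpectrum R, ∃ i, p ∈ Set.range (PrimeSpectrum.comap (algebraMap R (S i)))) :
    Module.FaithfullyFlat R (∀ i, S i) := by
  classical
  haveI := Fintype.ofFinite ι
  haveI : Module.Flat R (∀ i, S i) := Module.Flat.of_linearEquiv DFinsupp.linearEquivFunOnFintype.symm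
  refine Module.FaithfullyFlat.of_comap_surjective fun p => ?_
  obtain ⟨i, q, hq⟩ := hsurj p
  exact ⟨PrimeSpectrum.comap (Pi.evalRingHom S i) q, hq⟩

/-- Joint surjectivity on the spectra of polynomial rings. -/
theorem surjective_family_mvPolynomial (σ : Type)
    (hsurj : ∀ p : PrimeSpectrum R, ∃ i, p ∈ Set.range (PrimeSpectrum.comap (algebraMap R (S i))))
    (x : PrimeSpectrum (MvPolynomial σ R)) :
    ∃ i, x ∈ Set.range (PrimeSpectrum.comap (algebraMap (MvPolynomial σ R) (MvPolynomial σ (S i)))) := by
  haveI := faithfullyFlat_pi S hsurj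
  haveI : Module.FaithfullyFlat (MvPolynomial σ R) (MvPolynomial σ (∀ i, S i)) :=
    Module.FaithfullyFlat.of_linearEquiv _ _
      (Algebra.IsPushout.equiv R (MvPolynomial σ R) (∀ i, S i) (MvPolynomial σ (∀ i, S i))).toLinearEquiv.symm
  obtain ⟨Q, rfl⟩ := PrimeSpectrum.comap_surjective_of_faithfullyFlat (B := MvPolynomial σ (∀ i, S i)) x
  obtain ⟨⟨i, q⟩, hq⟩ := (PrimeSpectrum.sigmaToPi_bijective S).2 (PrimeSpectrum.comap MvPolynomial.C Q)
  have hsurjM : Function.Surjective (MvPolynomial.map (σ := σ) (Pi.evalRingHom S i)) :=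
    MvPolynomial.map_surjective _ (Function.surjective_eval i)
  obtain ⟨Q', hQ'⟩ : Q ∈ Set.range (PrimeSpectrum.comap (MvPolynomial.map (σ := σ) (Pi.evalRingHom S i))) := by
    rw [range_comap_of_surjective _ _ hsurjM]
    intro z hz
    rw [SetLike.mem_coe, MvPolynomial.ker_map] at hz
    refine Ideal.map_le_iff_le_comap.2 (fun a ha => ?_) hz
    have h1 := congrArg PrimeSpectrum.asIdeal hq
    show a ∈ (PrimeSpectrum.comap MvPolynomial.C Q).asIdeal
    rw [← h1]
    show Pi.evalRingHom S i a ∈ q.asIdeal
    rw [RingHom.mem_ker.1 ha]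
    exact zero_mem _
  refine ⟨i, Q', ?_⟩
  rw [← hQ', ← PrimeSpectrum.comap_comp_apply]
  congr 1
  exact RingHom.ext fun p => (MvPolynomial.map_map (algebraMap R (∀ i, S i)) (Pi.evalRingHom S i) p).symm

omit [∀ i, Module.Flat R (S i)] in
/-- A module killed by a jointly faithfully flat family vanishes. -/
theorem subsingleton_of_family [Module.FaithfullyFlat R (∀ i, S i)] (M : Type u) [AddCommGroup M] [Module R M]
    (h : ∀ i, Subsingleton (S i ⊗[R] M)) : Subsingleton M := by
  classical
  haveI := Fintype.ofFinite ι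
  haveI : ∀ i, Subsingleton (M ⊗[R] S i) := fun i => (TensorProduct.comm R M (S i)).subsingleton
  haveI : Subsingleton (M ⊗[R] (∀ i, S i)) := (TensorProduct.piRight R R M S).subsingleton
  exact Module.FaithfullyFlat.rTensor_reflects_triviality R (∀ i, S i) M

variable (A : Type u) [CommRing A] [Algebra R A] (A' : ι → Type u) [∀ i, CommRing (A' i)] [∀ i, Algebra A (A' i)]
  [∀ i, Algebra (S i) (A' i)] [∀ i, Algebra R (A' i)] [∀ i, IsScalarTower R (S i) (A' i)]
  [∀ i, IsScalarTower R A (A' i)] [hpo : ∀ i, Algebra.IsPushout R (S i) A (A' i)]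

include hpo in
/-- Descent of relative pseudo-coherence along a jointly surjective flat family of base rings. -/
theorem rel_of_ext_family [Algebra.FiniteType R A]
    (hsurj : ∀ p : PrimeSpectrum R, ∃ i, p ∈ Set.range (PrimeSpectrum.comap (algebraMap R (S i))))
    (L : DRing.Cx A) {m : ℤ}
    (h : ∀ i, DerCA.IsRelPseudoCoherent (S i) (A' i) m (DRing.toD ((ExtC (A' i) (algebraMap A (A' i))).obj L))) :
    DerCA.IsRelPseudoCoherent R A m (DRing.toD L) := by
  classical
  haveI := Fintype.ofFinite ι
  obtain ⟨n, α, hα⟩ := exists_presentation (R := R) (A := A)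
  rw [rel_iff α hα]
  let P := MvPolynomial (Fin n) R
  let P' : ι → Type u := fun i => MvPolynomial (Fin n) (S i)
  haveI hflat : ∀ i, Module.Flat P (P' i) := fun i =>
    Module.Flat.of_linearEquiv (Algebra.IsPushout.equiv R P (S i) (P' i)).toLinearEquiv.symm
  haveI : ∀ i, DRing.HasLBaseChange (algebraMap P (P' i)) := fun i => DCat.hasLBaseChange _
  have hsurjP := surjective_family_mvPolynomial S (Fin n) hsurj
  haveI := faithfullyFlat_pi P' hsurjP
  let M₀ := ((ModuleCat.restrictScalars.{u} (α : P →+* A)).mapHomologicalComplex (ComplexShape.up ℤ)).obj L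
  let e₀ : (DRing.restrictD (α : P →+* A)).obj (DRing.toD L) ≅ DRing.toD M₀ :=
    (ModuleCat.restrictScalars.{u} (α : P →+* A)).mapDerivedCategoryFactors.app L
  have hP : ∀ i, DRing.IsPseudoCoherent (P' i) m (DRing.toD ((ExtC (P' i) (algebraMap P (P' i))).obj M₀)) := fun i => by
    letI : Algebra P A := (α : P →+* A).toAlgebra
    letI : Algebra (P' i) (A' i) := (liftPres R (S i) A (A' i) α : P' i →+* A' i).toAlgebra
    letI : Algebra P (A' i) := ((algebraMap A (A' i)).comp (α : P →+* A)).toAlgebra
    obtain ⟨_, _, _⟩ := exists_instances R (S i) A (A' i) α hα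
    have h1 := (rel_iff (liftPres R (S i) A (A' i) α) (liftPres_surjective R (S i) A (A' i) α hα) _ m).1 (h i)
    exact pc_iso (DerivedCategory.Q.mapIso
      ((NatIso.mapHomologicalComplex (extRestrictIso P (P' i) A (A' i) _ _ _ _ _
        (isCocartesian P (P' i) A (A' i))) (ComplexShape.up ℤ)).app L) ≪≫
      (((ModuleCat.restrictScalars.{u} (algebraMap (P' i) (A' i))).mapDerivedCategoryFactors).app
        (((ModuleCat.extendScalars.{u, u, u} (algebraMap A (A' i))).mapHomologicalComplex (ComplexShape.up ℤ)).obj L)).symm).symm h1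
  choose b hb using fun i => exists_isLE_of_pc (hP i)
  obtain ⟨B, hB⟩ := Finset.exists_le (Finset.univ.image b)
  have hMle : (DRing.toD M₀).IsLE B := by
    refine (DerivedCategory.isLE_iff _ _).2 fun q hq => IsZero.of_iso ?_ (HQ M₀ q)
    refine (ModuleCat.isZero_iff_subsingleton (M := M₀.homology q)).2 (subsingleton_of_family (R := P) P' (M₀.homology q) fun i => ?_)
    refine (Groth.Agent.CAlgSmall.PCZariski.ext_tensor_iff (A := P' i) (M₀.homology q)).1
      (Groth.Agent.CAlgSmall.PCZariski.isZero_ext_homology _ (RingHom.flat_algebraMap_iff.2 (hflat i)) M₀ q ?_)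
    haveI := hb i
    exact (DerivedCategory.isZero_of_isLE _ (b i) q
      (by have := hB _ (Finset.mem_image_of_mem b (Finset.mem_univ i)); omega)).of_iso (HQ _ q).symm
  refine pc_iso e₀.symm (pc_descend_family (fun i => algebraMap P (P' i)) (fun M hM => ?_) m (B + 1 - m).toNat B _
    hMle (by omega) fun i => ?_)
  · exact RelDescRing.finite_of_family P' hsurjP M fun i =>
      (Groth.Agent.CAlgSmall.PCZariski.ext_tensor_iff (A := P' i) M).2 (hM i)
  · obtain ⟨e⟩ := nonempty_lbaseChange_iso (algebraMap P (P' i)) (RingHom.flat_algebraMap_iff.2 (hflat i)) M₀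
    exact pc_iso e.symm (hP i)

end Family

end Groth.Agent.FlatCx12.RelPCFlatBC
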