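import Groth.Agent.FlatCx12.PerfectHom
import Groth.Agent.RelPC.Basic
import Groth.Agent.CAlgH.FlatModel

/-!
# Finitely presented modules flat over the base are pseudo-coherent
-/

set_option autoImplicit false
set_option backward.isDefEq.respectTransparency false
set_option linter.style.haveILetI false

universe u

open CategoryTheory TensorProduct

attribute [local instance] HasDerivedCategory.standard

namespace Groth.Agent.FlatCx12.RelPCFlatModuleRing

open Groth.Agent.FlatMorPerfect

theorem pc_cancel (Q Q' S P M₀ M : Type u) [CommRing Q] [CommRing Q'] [CommRing S] [CommRing P] [Algebra Q Q']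
    [Algebra Q S] [Algebra Q P] [Algebra S P] [Algebra Q' P] [IsScalarTower Q S P] [IsScalarTower Q Q' P]
    [Algebra.IsPushout Q Q' S P] [AddCommGroup M₀] [Module Q M₀] [Module S M₀] [IsScalarTower Q S M₀]
    [AddCommGroup M] [Module S M] [Module P M] [IsScalarTower S P M] [Module Q' M] [IsScalarTower Q' P M]
    (f : M₀ →ₗ[S] M) (hf : IsBaseChange P f) {k : ℕ}
    (h : PC Q' k (TensorProduct Q Q' M₀)) : PC Q' k M :=
  pc_congr ((Algebra.IsPushout.cancelBaseChange Q Q' S P M₀).symm ≪≫ₗ hf.equiv.restrictScalars Q') h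

attribute [local instance] MvPolynomial.algebraMvPolynomial in
/-- A finitely presented module, flat over the base, over a flat algebra of finite presentation is pseudo-coherent. -/
theorem pc_of_flat_fp (R P : Type u) [CommRing R] [CommRing P] [Algebra R P] [Algebra.FinitePresentation R P]
    [Module.Flat R P] (M : Type u) [AddCommGroup M] [Module P M] [Module R M] [IsScalarTower R P M]
    [Module.FinitePresentation P M] [Module.Flat R M] (k : ℕ) : DRing.IsPseudoCoherentModule P (-(k : ℤ)) M := by
  obtain ⟨R₀, _, _, S₀, _, _, _, _, _, _, M₀, _, _, _, _, _, _, f, hR₀, hS₀, _, _, _, hf⟩ :=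
    CAlgH.FlatModel.exists_flat_model R P M
  haveI : IsNoetherianRing R₀ := Algebra.FiniteType.isNoetherianRing ℤ R₀
  obtain ⟨n, π, hπ⟩ := Algebra.FiniteType.iff_quotient_mvPolynomial''.1
    (inferInstance : Algebra.FiniteType R₀ S₀)
  let Q := MvPolynomial (Fin n) R₀
  let Q' := MvPolynomial (Fin n) R
  let ψ : Q' →ₐ[R] P := MvPolynomial.aeval fun i => algebraMap S₀ P (π (MvPolynomial.X i))
  have hψπ : ∀ q : Q, ψ (MvPolynomial.map (algebraMap R₀ R) q) = algebraMap S₀ P (π q) := fun q => by
    induction q using MvPolynomial.induction_on with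
    | C a => rw [MvPolynomial.map_C, ← MvPolynomial.algebraMap_eq, AlgHom.commutes, ← MvPolynomial.algebraMap_eq,
        AlgHom.commutes, ← IsScalarTower.algebraMap_apply, ← IsScalarTower.algebraMap_apply]
    | add p q hp hq => simp only [map_add, hp, hq]
    | mul_X p i hp =>
      rw [map_mul, map_mul, map_mul, map_mul, hp, MvPolynomial.map_X]
      exact congrArg _ (MvPolynomial.aeval_X _ i)
  have hψ : Function.Surjective ψ := by
    intro y
    obtain ⟨z, rfl⟩ := (Algebra.IsPushout.equiv R₀ R S₀ P).surjective y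
    induction z using TensorProduct.induction_on with
    | zero => exact ⟨0, by simp only [map_zero]⟩
    | tmul a b =>
      obtain ⟨q, rfl⟩ := hπ b
      exact ⟨algebraMap R Q' a * MvPolynomial.map (algebraMap R₀ R) q,
        by rw [map_mul, AlgHom.commutes, hψπ, Algebra.IsPushout.equiv_tmul]⟩
    | add a b ha hb =>
      obtain ⟨p, hp⟩ := ha
      obtain ⟨q, hq⟩ := hb
      exact ⟨p + q, by simp only [map_add, hp, hq]⟩
  letI : Algebra Q S₀ := π.toRingHom.toAlgebra
  letI : Algebra Q' P := ψ.toRingHom.toAlgebra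
  letI : Algebra Q P := ((algebraMap S₀ P).comp π.toRingHom).toAlgebra
  haveI : IsScalarTower R₀ Q S₀ := .of_algHom π
  haveI : IsScalarTower R Q' P := .of_algHom ψ
  haveI : IsScalarTower Q S₀ P := .of_algebraMap_eq fun _ => rfl
  haveI : IsScalarTower Q Q' P := .of_algebraMap_eq fun q => (hψπ q).symm
  haveI : IsScalarTower R₀ Q P := .of_algebraMap_eq fun r => by
    show algebraMap R₀ P r = algebraMap S₀ P (π (algebraMap R₀ Q r))
    rw [π.commutes, ← IsScalarTower.algebraMap_apply]
  haveI : IsScalarTower R₀ Q' P := .of_algebraMap_eq fun r => by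
    rw [IsScalarTower.algebraMap_apply R₀ R P, IsScalarTower.algebraMap_apply R₀ R Q',
      ← IsScalarTower.algebraMap_apply R Q' P]
  have hpo : Algebra.IsPushout Q Q' S₀ P :=
    ((Algebra.IsPushout.comp_iff R₀ Q R Q').1
      (Algebra.IsPushout.symm (inferInstance : Algebra.IsPushout R₀ R S₀ P))).symm
  letI : Module Q M₀ := Module.compHom M₀ π.toRingHom
  haveI : IsScalarTower Q S₀ M₀ := IsScalarTower.of_algebraMap_smul fun _ _ => rfl
  haveI : IsScalarTower R₀ Q M₀ := IsScalarTower.of_algebraMap_smul fun r x => by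
    show π (algebraMap R₀ Q r) • x = r • x
    rw [π.commutes, algebraMap_smul]
  haveI : Module.Finite Q M₀ :=
    haveI : Module.Finite Q S₀ := .of_surjective (Algebra.linearMap Q S₀) hπ
    Module.Finite.trans S₀ M₀
  let N := (ModuleCat.restrictScalars.{u} ψ.toRingHom).obj (ModuleCat.of P M)
  have h1 : DRing.IsPseudoCoherentModule Q' (-(k : ℤ)) (TensorProduct Q Q' M₀) :=
    PerfectHom.pc_baseChange R₀ R Q Q' k M₀
  letI : Module Q' M := Module.compHom M ψ.toRingHom
  haveI : IsScalarTower Q' P M := IsScalarTower.of_algebraMap_smul fun _ _ => rfl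
  have h3 : DRing.IsPseudoCoherentModule Q' (-(k : ℤ)) M := pc_cancel Q Q' S₀ P M₀ M f hf h1
  let e' : M ≃ₗ[Q'] N := { AddEquiv.refl M with map_smul' := fun _ _ => rfl }
  have h2 : DRing.IsPseudoCoherentModule Q' (-(k : ℤ)) N := pc_congr e' h3
  exact (Groth.Agent.RelPC.pc_restrict_iff_of_pcs
    (pcHom_pcs (PerfectHom.pcHom_of_flat R P) ψ hψ) (Dual.inD P M) (-(k : ℤ))).1
    (DRingLib.pc_iso (Groth.Agent.RelPC.restrictInD ψ.toRingHom (ModuleCat.of P M)).symm h2)

end Groth.Agent.FlatCx12.RelPCFlatModuleRing
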