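import Groth.Agent.FlatCx12.RelPCModule
import Groth.Agent.FlatCx12.RelPCFlatModuleRing
import Groth.Agent.Props12.FlatOver

/-!
# Flat modules of finite presentation relative to the base are pseudo-coherent relative to it
-/

set_option autoImplicit false
set_option backward.isDefEq.respectTransparency false
set_option backward.defeqAttrib.useBackward true
set_option linter.style.haveILetI false
set_option synthInstance.maxHeartbeats 100000
set_option backward.isDefEq.respectTransparency.types false

universe u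

open CategoryTheory CategoryTheory.Limits DerivedCategory Opposite TopologicalSpace AlgebraicGeometry
open Groth.Agent.DCat Groth.Agent.Coherent Groth.Agent.FlatMorPerfect
open Groth.Agent.FlatCx12.RelPC Groth.Agent.FlatCx12.RelPCOps Groth.Agent.FlatCx12.RelPCTri

namespace Groth.Agent.FlatCx12.RelPCFlatModule

attribute [local instance] HasDerivedCategory.standard
attribute [-instance] Int.instConditionallyCompleteLinearOrder

theorem exists_chart_sections {X S : Scheme.{u}} {f : X ⟶ S} (c : Chart f) (M : X.Modules) [Coh.IsQCoh M] :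
    ∃ N : ModuleCat.{u} Γ(X, (c.U : X.Opens)),
      Nonempty ((mfun c).obj M ≅ (tilde.functor (CommRingCat.of (MvPolynomial (Fin c.n) Γ(S, (c.V : S.Opens))))).obj
        ((ModuleCat.restrictScalars.{u} c.φ).obj N)) ∧ Nonempty (N ≃ₗ[Γ(X, (c.U : X.Opens))] Γ(M, (c.U : X.Opens))) := by
  let hU := c.U.2
  let α := hU.isoSpec
  let φ := CommRingCat.ofHom c.φ
  haveI := Flatn12.isQCoh_restrict_fromSpec' M hU
  let N := moduleSpecΓFunctor.obj (M.restrict hU.fromSpec)
  obtain ⟨t⟩ := DQCoh.nonempty_tilde_push φ
  let i : (mfun c).obj M ≅ (tilde.functor _).obj ((ModuleCat.restrictScalars φ.hom).obj N) :=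
    (Scheme.Modules.pushforwardCongr (show c.imm = α.hom ≫ Spec.map φ by rw [hU.isoSpec_hom])).app _ ≪≫
      ((Scheme.Modules.pushforwardComp α.hom (Spec.map φ)).app _).symm ≪≫
      (Scheme.Modules.pushforward (Spec.map φ)).mapIso ((RelPCModule.restrictIsoPush α.symm).app _).symm ≪≫
      (Scheme.Modules.pushforward (Spec.map φ)).mapIso
        (((Scheme.Modules.restrictFunctorComp α.inv c.U.1.ι).app M).symm ≪≫
          (asIso (M.restrict hU.fromSpec).fromTildeΓ).symm) ≪≫ t.app N
  exact ⟨N, ⟨i⟩, ⟨Flatn12.secEquiv hU M⟩⟩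

theorem psc_of_tilde {P : Type u} [CommRing P] {M : (Spec (CommRingCat.of P)).Modules} {L : ModuleCat.{u} (CommRingCat.of P)}
    (i : M ≅ (tilde.functor (CommRingCat.of P)).obj L) {m : ℤ} (h : DRing.IsPseudoCoherentModule P m L) :
    DCoh.IsPseudoCoherentD m (DCoh.inD (Spec (CommRingCat.of P)) M) := by
  haveI := AffSchLib.preservesFiniteLimits_tilde (R := CommRingCat.of P)
  haveI := DQCoh.preservesFiniteColimits_tilde (CommRingCat.of P)
  refine PCTriangle.psc_iso ((singleFunctor _ 0).mapIso i).symm ?_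
  refine PCTriangle.psc_iso (((tilde.functor (CommRingCat.of P)).mapDerivedCategorySingleFunctor 0).app L) ?_
  exact DQCoh.psc_tildeD h

/-- A flat module of finite presentation relative to the base is pseudo-coherent relative to it. -/
theorem rel_all_of_flat {X S : Scheme.{u}} (f : X ⟶ S) [LocallyOfFiniteType f] (M : X.Modules)
    (hfl : FlatMod.IsFlatOver f M) (h : DerSch.IsPseudoCoherentRel f (-1) (DCoh.inD X M)) (m : ℤ) :
    DerSch.IsPseudoCoherentRel f m (DCoh.inD X M) := by
  obtain ⟨hq, hrel⟩ := (RelPCModule.rel_module_iff f M).2.2.1 h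
  haveI : Coh.IsQCoh M := hq
  rw [rel_iff_chart]
  intro c
  refine PCTriangle.psc_mono (m := -((-m).toNat : ℤ)) (by omega) (PCTriangle.psc_iso (fnSingleIso c M).symm ?_)
  obtain ⟨N, ⟨i⟩, ⟨E⟩⟩ := exists_chart_sections c M
  refine psc_of_tilde i ?_
  let R := Γ(S, (c.V : S.Opens))
  letI : Algebra R Γ(X, (c.U : X.Opens)) := (f.appLE c.V.1 c.U.1 c.le).hom.toAlgebra
  let π : MvPolynomial (Fin c.n) R →ₐ[R] Γ(X, c.U.1) :=
    { toRingHom := c.φ, commutes' := fun a => RingHom.congr_fun c.isChart.2 a }
  have hUV := (Flatn12.isRelFP_iff_forall f M).1 hrel c.U c.V c.le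
  let L := (ModuleCat.restrictScalars.{u} c.φ).obj N
  letI : Module (MvPolynomial (Fin c.n) R) N := Module.compHom N c.φ
  letI : Module R N := Module.compHom N (c.φ.comp MvPolynomial.C)
  haveI : IsScalarTower R (MvPolynomial (Fin c.n) R) N := IsScalarTower.of_algebraMap_smul fun r x => rfl
  haveI : Module.FinitePresentation (MvPolynomial (Fin c.n) R) N :=
    Flatn12.FPVia.of_linearEquiv E.symm ((Flatn12.relFP_iff_fpVia π c.isChart.1).1 hUV)
  haveI : Module.Flat R N := by
    haveI := (Props12.flat_sections_iff f M c.V.2 c.U.2 c.le).2 fun x _ => hfl x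
    letI := EGA43.QcohFlat.overModule f M c.V.1 c.U.1 c.le
    exact Module.Flat.of_linearEquiv
      { E.toAddEquiv with
        map_smul' := fun r x => by
          show E (c.φ (MvPolynomial.C r) • x) = (f.appLE c.V.1 c.U.1 c.le).hom r • E x
          rw [E.map_smul, ← RingHom.comp_apply, c.isChart.2] }
  exact RelPCFlatModuleRing.pc_of_flat_fp R (MvPolynomial (Fin c.n) R) N _

end Groth.Agent.FlatCx12.RelPCFlatModule
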