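import Groth.Agent.FlatCx12.RelPCOps
import Groth.Agent.DQCoh.Tilde
import Groth.Agent.DQCoh.RHomQCoh
import Groth.Prelude.Def_DerCA

/-!
# The ring-level form of relative pseudo-coherence
-/

set_option autoImplicit false
set_option backward.isDefEq.respectTransparency false
set_option backward.defeqAttrib.useBackward true
set_option linter.style.haveILetI false
set_option synthInstance.maxHeartbeats 100000
set_option backward.isDefEq.respectTransparency.types false

universe u

open CategoryTheory CategoryTheory.Limits CategoryTheory.Pretriangulated DerivedCategory Opposite TopologicalSpace AlgebraicGeometry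
open Groth.Agent.DCat Groth.Agent.FlatCx12.EmbPush Groth.Agent.FlatCx12.RelPCChart Groth.Agent.FlatCx12.RelPC
open Groth.Agent.FlatCx12.RelPCOps

namespace Groth.Agent.FlatCx12.RelPCRing

attribute [local instance] HasDerivedCategory.standard
attribute [-instance] Int.instConditionallyCompleteLinearOrder

/-- Direct image of tilde objects along a closed immersion of affine schemes. -/
theorem nonempty_pd_tildeD {R A : CommRingCat.{u}} (φ : R ⟶ A) [PreservesFiniteLimits (tilde.functor R)]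
    [PreservesFiniteLimits (tilde.functor A)] [PreservesFiniteColimits (Scheme.Modules.pushforward (Spec.map φ))]
    (M : Dual.D A) :
    Nonempty ((pd (Spec.map φ)).obj ((DCoh.tildeD A).obj M) ≅ (DCoh.tildeD R).obj ((DRing.restrictD φ.hom).obj M)) := by
  haveI := DQCoh.preservesFiniteColimits_tilde A
  haveI := DQCoh.preservesFiniteColimits_tilde R
  obtain ⟨e⟩ := DQCoh.nonempty_tilde_push φ
  exact nonempty_mdc_sq (B := (Spec (CommRingCat.of A)).Modules) (C := (Spec (CommRingCat.of R)).Modules) (tilde.functor A)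
    (Scheme.Modules.pushforward (Spec.map φ)) (ModuleCat.restrictScalars φ.hom) (tilde.functor R) e M

variable {X S : Scheme.{u}}

/-- The chart test on derived sections. -/
theorem along_iff_pc {U : X.Opens} (hU : IsAffineOpen U) [PreservesFiniteLimits (tilde.functor Γ(X, U))]
    {P : Type u} [CommRing P] (φ : P →+* Γ(X, U)) (hφ : Function.Surjective φ) (m : ℤ) (K : DCoh.D X) (M : Dual.D Γ(X, U))
    [PreservesFiniteColimits (Scheme.Modules.pushforward hU.isoSpec.hom)]
    (e : (DCoh.tildeD Γ(X, U)).obj M ≅ (pd hU.isoSpec.hom).obj ((PerfLocal.rd U.ι).obj K)) :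
    Along m K U φ ↔ DRing.IsPseudoCoherent P m ((DRing.restrictD φ).obj M) := by
  haveI := AffSchLib.preservesFiniteLimits_tilde (R := CommRingCat.of P)
  haveI := IsClosedImmersion.spec_of_surjective (CommRingCat.ofHom φ) hφ
  haveI := isClosedImmersion_along hU hφ
  haveI := preservesFiniteColimits_iso (Spec.map (CommRingCat.ofHom φ))
  haveI := preservesFiniteColimits_iso (U.toSpecΓ ≫ Spec.map (CommRingCat.ofHom φ))
  haveI : PreservesFiniteColimits (Scheme.Modules.pushforward (hU.isoSpec.hom ≫ Spec.map (CommRingCat.ofHom φ))) :=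
    preservesFiniteColimits_of_natIso (Scheme.Modules.pushforwardComp _ _)
  obtain ⟨a⟩ := nonempty_pd_comp hU.isoSpec.hom (Spec.map (CommRingCat.ofHom φ)) ((PerfLocal.rd U.ι).obj K)
  obtain ⟨b⟩ := nonempty_pd_congr (f := hU.isoSpec.hom ≫ Spec.map (CommRingCat.ofHom φ))
    (g := U.toSpecΓ ≫ Spec.map (CommRingCat.ofHom φ)) (by rw [hU.isoSpec_hom]) ((PerfLocal.rd U.ι).obj K)
  obtain ⟨c⟩ := nonempty_pd_tildeD (CommRingCat.ofHom φ) M
  let i := (a ≪≫ b).symm ≪≫ (pd (Spec.map (CommRingCat.ofHom φ))).mapIso e.symm ≪≫ c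
  exact ⟨fun ⟨_, h⟩ => DQCoh.pc_of_psc_tildeD (A := CommRingCat.of P) (PCTriangle.psc_iso i h),
    fun h => ⟨inferInstance, PCTriangle.psc_iso i.symm (DQCoh.psc_tildeD (A := CommRingCat.of P) h)⟩⟩

/-- Derived sections over an affine open. -/
theorem exists_sections {U : X.Opens} (hU : IsAffineOpen U) [PreservesFiniteLimits (tilde.functor Γ(X, U))]
    [PreservesFiniteColimits (Scheme.Modules.pushforward hU.isoSpec.hom)] (K : DCoh.D X) (hK : DCoh.IsQCohD K) :
    ∃ M : Dual.D Γ(X, U),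
      Nonempty ((DCoh.tildeD Γ(X, U)).obj M ≅ (pd hU.isoSpec.hom).obj ((PerfLocal.rd U.ι).obj K)) := by
  obtain ⟨e⟩ := nonempty_rd_iso hU.isoSpec.symm ((PerfLocal.rd U.ι).obj K)
  have h := DQCoh.isQCohD_rd hU.isoSpec.inv (DQCoh.isQCohD_rd U.ι hK)
  obtain ⟨M, ⟨eM⟩⟩ := ((DQCoh.tildeD_main Γ(X, U)).2.2 _).1 h
  exact ⟨M, ⟨eM ≪≫ e⟩⟩

/-- Relative pseudo-coherence in terms of derived sections on all pairs of affine opens. -/
theorem rel_iff_ring (f : X ⟶ S) [LocallyOfFiniteType f]
    [∀ U : X.affineOpens, PreservesFiniteLimits (tilde.functor (X.presheaf.obj (op (U : X.Opens))))]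
    (E : DCoh.D X) (hE : DCoh.IsQCohD E) (m : ℤ) :
    DerSch.IsPseudoCoherentRel f m E ↔
      ∀ (U : X.affineOpens) (V : S.affineOpens) (h : (U : X.Opens) ≤ f ⁻¹ᵁ (V : S.Opens))
        (G : CochainComplex X.Modules ℤ), Nonempty (DCoh.toD X G ≅ E) →
        ∀ M : Dual.D Γ(X, (U : X.Opens)),
          Nonempty ((DCoh.tildeD (X.presheaf.obj (op (U : X.Opens)))).obj M ≅
            DCoh.toD _ ((DerSch.pushCx U.2.isoSpec.hom).obj ((DCoh.restrictCx (U : X.Opens)).obj G))) →
          letI := (f.appLE (V : S.Opens) (U : X.Opens) h).hom.toAlgebra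
          DerCA.IsRelPseudoCoherent Γ(S, (V : S.Opens)) Γ(X, (U : X.Opens)) m M := by
  have key : ∀ (U : X.affineOpens) [PreservesFiniteColimits (Scheme.Modules.pushforward U.2.isoSpec.hom)]
      (G : CochainComplex X.Modules ℤ), Nonempty (DCoh.toD X G ≅ E) →
      Nonempty (DCoh.toD _ ((DerSch.pushCx U.2.isoSpec.hom).obj ((DCoh.restrictCx (U : X.Opens)).obj G)) ≅
        (pd U.2.isoSpec.hom).obj ((PerfLocal.rd U.1.ι).obj E)) := fun U _ G ⟨e⟩ =>
    ⟨((Scheme.Modules.pushforward U.2.isoSpec.hom).mapDerivedCategoryFactors.app _).symm ≪≫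
      (pd U.2.isoSpec.hom).mapIso (((Scheme.Modules.restrictFunctor U.1.ι).mapDerivedCategoryFactors.app G).symm ≪≫
        (PerfLocal.rd U.1.ι).mapIso e)⟩
  rw [rel_iff]
  constructor
  · intro hr U V h G hG M ⟨eM⟩
    haveI := preservesFiniteColimits_iso U.2.isoSpec.hom
    obtain ⟨e⟩ := key U G hG
    obtain ⟨n, φ, hφ, hp⟩ := hr U V h
    letI := (f.appLE (V : S.Opens) (U : X.Opens) h).hom.toAlgebra
    let α : MvPolynomial (Fin n) Γ(S, (V : S.Opens)) →ₐ[Γ(S, (V : S.Opens))] Γ(X, (U : X.Opens)) :=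
      { toRingHom := φ, commutes' := fun a => RingHom.congr_fun hφ.2 a }
    exact ⟨n, α, hφ.1, (along_iff_pc U.2 φ hφ.1 m E M (eM ≪≫ e)).1 ((chartPC_iff m E U.2 hφ.1).1 hp)⟩
  · intro hr U V h
    haveI := preservesFiniteColimits_iso U.2.isoSpec.hom
    obtain ⟨e⟩ := key U _ ⟨DerivedCategory.Q.objObjPreimageIso E⟩
    obtain ⟨M, ⟨eM⟩⟩ := exists_sections U.2 E hE
    letI := (f.appLE (V : S.Opens) (U : X.Opens) h).hom.toAlgebra
    obtain ⟨n, α, hα, hp⟩ := hr U V h _ ⟨DerivedCategory.Q.objObjPreimageIso E⟩ M ⟨eM ≪≫ e.symm⟩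
    exact ⟨n, α.toRingHom, ⟨hα, RingHom.ext fun a => α.commutes a⟩,
      (chartPC_iff m E U.2 hα).2 ((along_iff_pc U.2 α.toRingHom hα m E M eM).2 hp)⟩

end Groth.Agent.FlatCx12.RelPCRing
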