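import Groth.Agent.FlatCx12.RelPCTri
import Groth.Agent.FlatCx12.RelPCQCoh
import Groth.Agent.FlatCx12.RelPCRing
import Groth.Agent.Flatn12.RelFPScheme

/-!
# Modules that are pseudo-coherent relative to a morphism in degrees `≥ -1`
-/

set_option autoImplicit false
set_option backward.isDefEq.respectTransparency false
set_option backward.defeqAttrib.useBackward true
set_option linter.style.haveILetI false
set_option synthInstance.maxHeartbeats 100000
set_option backward.isDefEq.respectTransparency.types false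

universe u

open CategoryTheory CategoryTheory.Limits CategoryTheory.Pretriangulated DerivedCategory Opposite TopologicalSpace AlgebraicGeometry
open Groth.Agent.DCat Groth.Agent.Coherent Groth.Agent.FlatCx12.EmbPush Groth.Agent.FlatCx12.RelPC
open Groth.Agent.FlatCx12.RelPCOps Groth.Agent.FlatCx12.RelPCTri Groth.Agent.FlatCx12.RelPCRing

namespace Groth.Agent.FlatCx12.RelPCModule

attribute [local instance] HasDerivedCategory.standard
attribute [-instance] Int.instConditionallyCompleteLinearOrder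

variable {X S : Scheme.{u}}

/-- Restriction along an isomorphism is direct image along its inverse. -/
noncomputable def restrictIsoPush {Y : Scheme.{u}} (e : X ≅ Y) :
    Scheme.Modules.restrictFunctor e.hom ≅ Scheme.Modules.pushforward e.inv :=
  (Functor.leftUnitor _).symm ≪≫
    Functor.isoWhiskerRight ((Scheme.Modules.pushforwardId Y).symm ≪≫
      Scheme.Modules.pushforwardCongr e.inv_hom_id.symm ≪≫
      (Scheme.Modules.pushforwardComp e.inv e.hom).symm) _ ≪≫
    Functor.associator _ _ _ ≪≫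
    Functor.isoWhiskerLeft _ (Scheme.Modules.restrictFunctorAdjCounitIso e.hom) ≪≫ Functor.rightUnitor _

/-- A quasi-coherent module on a chart. -/
theorem exists_chart_tilde {f : X ⟶ S} (c : Chart f) (M : X.Modules) [Coh.IsQCoh M] :
    ∃ L : ModuleCat.{u} (MvPolynomial (Fin c.n) Γ(S, (c.V : S.Opens))),
      Nonempty ((mfun c).obj M ≅ (tilde.functor (CommRingCat.of _)).obj L) ∧
      (Module.FinitePresentation (MvPolynomial (Fin c.n) Γ(S, (c.V : S.Opens))) L ↔
        Flatn12.FPVia c.φ Γ(M, (c.U : X.Opens))) := by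
  let hU := c.U.2
  let α := hU.isoSpec
  let φ := CommRingCat.ofHom c.φ
  haveI := Flatn12.isQCoh_restrict_fromSpec' M hU
  let N := moduleSpecΓFunctor.obj (M.restrict hU.fromSpec)
  obtain ⟨t⟩ := DQCoh.nonempty_tilde_push φ
  let i : (mfun c).obj M ≅ (tilde.functor _).obj ((ModuleCat.restrictScalars φ.hom).obj N) :=
    (Scheme.Modules.pushforwardCongr (show c.imm = α.hom ≫ Spec.map φ by rw [hU.isoSpec_hom])).app _ ≪≫
      ((Scheme.Modules.pushforwardComp α.hom (Spec.map φ)).app _).symm ≪≫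
      (Scheme.Modules.pushforward (Spec.map φ)).mapIso ((restrictIsoPush α.symm).app _).symm ≪≫
      (Scheme.Modules.pushforward (Spec.map φ)).mapIso
        (((Scheme.Modules.restrictFunctorComp α.inv c.U.1.ι).app M).symm ≪≫
          (asIso (M.restrict hU.fromSpec).fromTildeΓ).symm) ≪≫ t.app N
  refine ⟨_, ⟨i⟩, ?_⟩
  let E := Flatn12.secEquiv hU M
  exact ⟨fun h => Flatn12.FPVia.of_linearEquiv (M := N) E h,
    fun h => Flatn12.FPVia.of_linearEquiv E.symm h⟩

theorem isQCoh_of_isFP {F : X.Modules} (hF : CohB1.IsFP F) : Coh.IsQCoh F := by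
  haveI : SheafOfModules.IsFinitePresentation (R := X.ringCatSheaf) F := hF
  infer_instance

theorem isFT_restrict {Y : Scheme.{u}} (j : Y ⟶ X) [IsOpenImmersion j] (M : X.Modules)
    (h : CohB1.IsFT M) : CohB1.IsFT (M.restrict j) := by
  refine isFT_of_locallyFinGen fun y => ?_
  obtain ⟨U, I, _, s, hyU, hs⟩ := locallyFinGen_of_isFT M h (j y)
  have hle : j ''ᵁ (j ⁻¹ᵁ U) ≤ U := by rw [j.image_preimage_eq_opensRange_inf]; exact inf_le_right
  exact ⟨j ⁻¹ᵁ U, I, inferInstance, _, hyU, genOn_restrict_of_genOn j M (hs.res hle)⟩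

theorem isFT_push {Y : Scheme.{u}} (i : X ⟶ Y) [IsClosedImmersion i] (M : X.Modules) (hM : CohB1.IsFT M) :
    CohB1.IsFT ((Scheme.Modules.pushforward i).obj M) := by
  refine isFT_of_locallyFinGen fun y => ?_
  by_cases hy : y ∈ Set.range i.base
  swap
  · let C : Y.Opens := ⟨(Set.range i.base)ᶜ, i.isClosedEmbedding.isClosed_range.isOpen_compl⟩
    refine ⟨C, PEmpty, inferInstance, fun e => e.elim, hy, fun W hW a z hz => ⟨W, le_rfl, hz, fun e => e.elim, ?_⟩⟩
    haveI : Subsingleton Γ(M, i ⁻¹ᵁ W) := subsingleton_of_le_bot M fun x hx => (hW hx ⟨x, rfl⟩).elim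
    exact Subsingleton.elim (α := Γ(M, i ⁻¹ᵁ W)) _ _
  obtain ⟨x, rfl⟩ := hy
  obtain ⟨U, I, hI, s, hxU, hs⟩ := locallyFinGen_of_isFT M hM x
  obtain ⟨V, rfl⟩ := exists_preimage_eq i i.isClosedEmbedding U
  refine ⟨V, I, hI, s, hxU, fun W hW a z hz => ?_⟩
  by_cases hz' : z ∈ Set.range i.base
  swap
  · let C : Y.Opens := ⟨(Set.range i.base)ᶜ, i.isClosedEmbedding.isClosed_range.isOpen_compl⟩
    refine ⟨W ⊓ C, inf_le_left, ⟨hz, hz'⟩, fun _ => 0, ?_⟩
    haveI : Subsingleton Γ(M, i ⁻¹ᵁ (W ⊓ C)) := subsingleton_of_le_bot M fun x hx => (hx.2 ⟨x, rfl⟩).elim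
    exact Subsingleton.elim (α := Γ(M, i ⁻¹ᵁ (W ⊓ C))) _ _
  obtain ⟨w, rfl⟩ := hz'
  have hWV : i ⁻¹ᵁ W ≤ i ⁻¹ᵁ V := fun p hp => hW hp
  obtain ⟨W₁, hW₁, hwW₁, r, hr⟩ := hs (i ⁻¹ᵁ W) hWV a w hz
  obtain ⟨W₂, rfl⟩ := exists_preimage_eq i i.isClosedEmbedding W₁
  obtain ⟨W₃, hW₃, hwW₃, hle⟩ := Opens.isBasis_iff_nbhd.1 Y.isBasis_affineOpens
    (U := W ⊓ W₂) (x := i w) ⟨hz, hwW₁⟩
  have h₂ : i ⁻¹ᵁ W₃ ≤ i ⁻¹ᵁ W₂ := fun p hp => (hle hp).2
  choose r' hr' using fun j => i.app_surjective W₃ hW₃ (X.presheaf.map (homOfLE h₂).op (r j))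
  refine ⟨W₃, fun p hp => (hle hp).1, hwW₃, r', ?_⟩
  have h := congrArg (resM M h₂) hr
  rw [resM_resM, map_sum] at h
  refine h.trans (Finset.sum_congr rfl fun j _ => ?_)
  rw [resM_smul, resM_resM, ← hr']
  rfl

/-- Degrees `> 0`, `0` and `-1`. -/
theorem rel_module_iff (f : X ⟶ S) [LocallyOfFiniteType f] (M : X.Modules) :
    (∀ m : ℤ, 0 < m → DerSch.IsPseudoCoherentRel f m (DCoh.inD X M)) ∧
      (DerSch.IsPseudoCoherentRel f 0 (DCoh.inD X M) ↔ CohB1.IsFT M) ∧
      (DerSch.IsPseudoCoherentRel f (-1) (DCoh.inD X M) ↔ (Coh.IsQCoh M ∧ Flatn.IsRelFP f M)) := by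
  have hchart : ∀ x : X, ∃ c : Chart f, x ∈ c.U.1 := fun x => by
    obtain ⟨U, V, hle, hx⟩ := exists_affine_pair f x
    algebraize [(f.appLE V U hle).hom]
    obtain ⟨n, π, hπ⟩ := Algebra.FiniteType.iff_quotient_mvPolynomial''.1
      (show Algebra.FiniteType Γ(S, V.1) Γ(X, U.1) from f.finiteType_appLE V.2 U.2 hle)
    exact ⟨⟨U, V, hle, n, π.toRingHom, hπ, RingHom.ext fun a => π.commutes a⟩, hx⟩
  have hfn : ∀ (c : Chart f) (m : ℤ), DCoh.IsPseudoCoherentD m (c.fn.obj (DCoh.inD X M)) ↔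
      DCoh.IsPseudoCoherentD m (DCoh.inD _ ((mfun c).obj M)) := fun c m =>
    ⟨PCTriangle.psc_iso (fnSingleIso c M), PCTriangle.psc_iso (fnSingleIso c M).symm⟩
  refine ⟨fun m hm => (rel_iff_chart m _).2 fun c => (hfn c m).2 (psc_of_isLE' (n := 0) hm inferInstance), ?_, ?_⟩
  · rw [rel_iff_chart]
    constructor
    · intro h
      choose c hc using hchart
      refine isFT_of_locallyFinGen (LocallyFinGen_of_restrict_cover M (fun x => (c x).U.1) ?_ fun x => ?_)
      · exact top_le_iff.1 fun x _ => Opens.mem_iSup.2 ⟨x, hc x⟩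
      · haveI := RelPCChart.isClosedImmersion_along (c x).U.2 (c x).isChart.1
        exact locallyFinGen_of_isFT _ (isFT_of_push (c x).imm (c x).imm.isClosedEmbedding _
          ((DQCoh.psc_inD_iff _).1.1 ((hfn (c x) 0).1 (h (c x)))))
    · intro h c
      haveI := RelPCChart.isClosedImmersion_along c.U.2 c.isChart.1
      exact (hfn c 0).2 ((DQCoh.psc_inD_iff _).1.2 (isFT_push c.imm _ (isFT_restrict c.U.1.ι M h)))
  · rw [rel_iff_chart]
    constructor
    · intro h
      choose c hc using hchart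
      haveI hq : Coh.IsQCoh M := by
        refine isQCoh_of_openImmersion_cover _ (fun x => (c x).U.1.ι) (fun x => ⟨x, ⟨⟨x, hc x⟩, rfl⟩⟩) fun x => ?_
        exact @RelPCQCoh.isQCoh_of_push _ _ (c x).imm (RelPCChart.isClosedImmersion_along (c x).U.2 (c x).isChart.1) _
          (isQCoh_of_isFP ((DQCoh.psc_inD_iff _).2.1 ((hfn (c x) (-1)).1 (h (c x)))))
      refine ⟨hq, Flatn12.isRelFP_of_forall f M fun U V hle => ?_⟩
      algebraize [(f.appLE V U hle).hom]
      obtain ⟨n, π, hπ⟩ := Algebra.FiniteType.iff_quotient_mvPolynomial''.1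
        (show Algebra.FiniteType Γ(S, V.1) Γ(X, U.1) from f.finiteType_appLE V.2 U.2 hle)
      let d : Chart f := ⟨U, V, hle, n, π.toRingHom, hπ, RingHom.ext fun a => π.commutes a⟩
      obtain ⟨L, ⟨i⟩, hL⟩ := exists_chart_tilde d M
      exact ⟨n, π, hπ, hL.1 ((Props12.isFP_tilde_iff (R := CommRingCat.of _) L).1
        ((DQCoh.psc_inD_iff _).2.1 (PCTriangle.psc_iso ((singleFunctor _ 0).mapIso i) ((hfn d (-1)).1 (h d)))))⟩
    · rintro ⟨hq, hrel⟩ c
      haveI : Coh.IsQCoh M := hq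
      have hUV := (Flatn12.isRelFP_iff_forall f M).1 hrel c.U c.V c.le
      letI := (f.appLE c.V.1 c.U.1 c.le).hom.toAlgebra
      let π : MvPolynomial (Fin c.n) Γ(S, c.V.1) →ₐ[Γ(S, c.V.1)] Γ(X, c.U.1) :=
        { toRingHom := c.φ, commutes' := fun a => RingHom.congr_fun c.isChart.2 a }
      obtain ⟨L, ⟨i⟩, hL⟩ := exists_chart_tilde c M
      exact (hfn c (-1)).2 (PCTriangle.psc_iso ((singleFunctor _ 0).mapIso i.symm)
        ((DQCoh.psc_inD_iff _).2.2 ((Props12.isFP_tilde_iff (R := CommRingCat.of _) L).2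
          (hL.2 ((Flatn12.relFP_iff_fpVia π c.isChart.1).1 hUV)))))

end Groth.Agent.FlatCx12.RelPCModule
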