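import Groth.Agent.FlatCx12.RelPCOps

/-! Relative pseudo-coherence along open immersions of the source. -/

set_option autoImplicit false
set_option backward.isDefEq.respectTransparency false
set_option backward.defeqAttrib.useBackward true
set_option linter.style.haveILetI false
set_option synthInstance.maxHeartbeats 100000
set_option backward.isDefEq.respectTransparency.types false

universe u

open CategoryTheory CategoryTheory.Limits CategoryTheory.Pretriangulated DerivedCategory Opposite TopologicalSpace AlgebraicGeometry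
open Groth.Agent.DCat Groth.Agent.FlatMorPerfect Groth.Agent.FlatCx12.EmbPush Groth.Agent.FlatCx12.RelPCChart
open Groth.Agent.FlatCx12.RelPC Groth.Agent.FlatCx12.RelPCOps

namespace Groth.Agent.FlatCx12.RelPCRestrict

attribute [local instance] HasDerivedCategory.standard

variable {X S W : Scheme.{u}} (j : W ⟶ X) [IsOpenImmersion j] (f : X ⟶ S) (m : ℤ) (K : DCoh.D X)

theorem le_preimage_image (U' : W.Opens) : U' ≤ j ⁻¹ᵁ (j ''ᵁ U') := fun x hx => ⟨x, hx, rfl⟩

theorem along_restrict {U' : W.Opens} (hU' : IsAffineOpen U') {P : Type u} [CommRing P]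
    (φ : P →+* Γ(X, j ''ᵁ U')) (hφ : Function.Surjective φ) :
    Along m ((PerfLocal.rd j).obj K) U' ((j.appLE (j ''ᵁ U') U' (le_preimage_image j U')).hom.comp φ) ↔
      Along m K (j ''ᵁ U') φ := by
  have hbij : Function.Bijective (j.appLE (j ''ᵁ U') U' (le_preimage_image j U')).hom := by
    have : IsIso (j.appLE (j ''ᵁ U') U' (le_preimage_image j U')) := by
      rw [← Scheme.Hom.appIso_hom']; infer_instance
    exact ConcreteCategory.bijective_of_isIso (j.appLE (j ''ᵁ U') U' (le_preimage_image j U'))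
  have hφ' : Function.Surjective ((j.appLE (j ''ᵁ U') U' (le_preimage_image j U')).hom.comp φ) := hbij.2.comp hφ
  have hU : IsAffineOpen (j ''ᵁ U') := hU'.image_of_isOpenImmersion j
  let e := j.isoImage U'
  have he : e.hom = j.resLE (j ''ᵁ U') U' (le_preimage_image j U') := by
    rw [← cancel_mono (j ''ᵁ U').ι, Scheme.Hom.isoImage_hom_ι, Scheme.Hom.resLE_comp_ι]
  let c := (j ''ᵁ U').toSpecΓ ≫ Spec.map (CommRingCat.ofHom φ)
  let c' := U'.toSpecΓ ≫ Spec.map (CommRingCat.ofHom ((j.appLE (j ''ᵁ U') U' (le_preimage_image j U')).hom.comp φ))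
  have hc : e.inv ≫ c' = c := by
    rw [Iso.inv_comp_eq, he]
    show U'.toSpecΓ ≫ Spec.map (CommRingCat.ofHom φ ≫ j.appLE (j ''ᵁ U') U' _) = _
    rw [Spec.map_comp, ← Category.assoc, Scheme.Opens.toSpecΓ_SpecMap_appLE, Category.assoc]
  haveI := isClosedImmersion_along hU hφ
  haveI := isClosedImmersion_along hU' hφ'
  haveI := preservesFiniteColimits_iso c
  haveI := preservesFiniteColimits_iso c'
  haveI := preservesFiniteColimits_iso e.inv
  haveI := preservesFiniteColimits_iso (e.inv ≫ c')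
  obtain ⟨a⟩ := PerfLocal.rd_comp U'.ι j K
  obtain ⟨b⟩ := nonempty_rd_congr' (X := X) (show U'.ι ≫ j = e.hom ≫ (j ''ᵁ U').ι from
    (Scheme.Hom.isoImage_hom_ι j U').symm)
  obtain ⟨a'⟩ := PerfLocal.rd_comp e.hom (j ''ᵁ U').ι K
  obtain ⟨d⟩ := nonempty_rd_iso e ((PerfLocal.rd (j ''ᵁ U').ι).obj K)
  obtain ⟨g⟩ := nonempty_pd_comp e.inv c' ((PerfLocal.rd (j ''ᵁ U').ι).obj K)
  obtain ⟨k⟩ := nonempty_pd_congr hc ((PerfLocal.rd (j ''ᵁ U').ι).obj K)
  let E := (pd c').mapIso (a.symm ≪≫ b.app K ≪≫ a' ≪≫ d) ≪≫ g ≪≫ k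
  exact ⟨fun ⟨_, hp⟩ => ⟨inferInstance, PCTriangle.psc_iso E hp⟩,
    fun ⟨_, hp⟩ => ⟨inferInstance, PCTriangle.psc_iso E.symm hp⟩⟩

variable [LocallyOfFiniteType f]

theorem testOn_restrict_iff {U' : W.affineOpens} {V : S.affineOpens}
    (h : (U' : W.Opens) ≤ (j ≫ f) ⁻¹ᵁ (V : S.Opens)) (h' : j ''ᵁ (U' : W.Opens) ≤ f ⁻¹ᵁ (V : S.Opens)) :
    TestOn (j ≫ f) m ((PerfLocal.rd j).obj K) U' V h ↔ TestOn f m K (j ''ᵁ (U' : W.Opens)) V h' := by
  have hU : IsAffineOpen (j ''ᵁ (U' : W.Opens)) := U'.2.image_of_isOpenImmersion j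
  have hiso : IsIso (j.appLE (j ''ᵁ (U' : W.Opens)) U' (le_preimage_image j _)) := by
    rw [← Scheme.Hom.appIso_hom']; infer_instance
  have hbij := ConcreteCategory.bijective_of_isIso (j.appLE (j ''ᵁ (U' : W.Opens)) U' (le_preimage_image j _))
  have hc : f.appLE V (j ''ᵁ (U' : W.Opens)) h' ≫ j.appLE (j ''ᵁ (U' : W.Opens)) U' (le_preimage_image j _) =
      (j ≫ f).appLE V U' h := by
    rw [Scheme.Hom.appLE_comp_appLE]
  constructor
  · intro ht
    algebraize [(f.appLE V (j ''ᵁ (U' : W.Opens)) h').hom]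
    obtain ⟨n, π, hπ⟩ := Algebra.FiniteType.iff_quotient_mvPolynomial''.1
      (show Algebra.FiniteType Γ(S, V) Γ(X, j ''ᵁ (U' : W.Opens)) from f.finiteType_appLE V.2 hU h')
    refine testOn_of_along hU hπ (RingHom.ext fun a => π.commutes a)
      ((along_restrict j m K U'.2 π.toRingHom hπ).1
        (testOn_along U'.2 ht (hbij.2.comp hπ) ?_))
    refine RingHom.ext fun a => ?_
    show j.appLE _ _ _ (π (algebraMap _ _ a)) = _
    rw [π.commutes, ← hc]
    rfl
  · rintro ⟨n, φ, ⟨hs, hφ⟩, hp⟩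
    refine testOn_of_along U'.2 (P := MvPolynomial (Fin n) Γ(S, V)) (hbij.2.comp hs) ?_
      ((along_restrict j m K U'.2 φ hs).2 ((chartPC_iff m K hU hs).1 hp))
    rw [MvPolynomial.algebraMap_eq, RingHom.comp_assoc, hφ, ← CommRingCat.hom_comp, hc]

/-- Relative pseudo-coherence restricts to opens of the source. -/
theorem rel_restrict (h : DerSch.IsPseudoCoherentRel f m K) :
    DerSch.IsPseudoCoherentRel (j ≫ f) m ((PerfLocal.rd j).obj K) := by
  rw [rel_iff] at h ⊢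
  intro U' V hle
  have h' : j ''ᵁ (U' : W.Opens) ≤ f ⁻¹ᵁ (V : S.Opens) := by
    rintro _ ⟨x, hx, rfl⟩; exact hle hx
  exact (testOn_restrict_iff j f m K hle h').2 (h ⟨_, U'.2.image_of_isOpenImmersion j⟩ V h')

/-- Relative pseudo-coherence is local on the source. -/
theorem rel_of_cover {ι : Type*} {Wi : ι → Scheme.{u}} (g : ∀ i, Wi i ⟶ X) [∀ i, IsOpenImmersion (g i)]
    (hcov : ∀ x : X, ∃ (i : ι) (y : Wi i), g i y = x)
    (h : ∀ i, DerSch.IsPseudoCoherentRel (g i ≫ f) m ((PerfLocal.rd (g i)).obj K)) :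
    DerSch.IsPseudoCoherentRel f m K := by
  refine rel_of_local fun x => ?_
  obtain ⟨i, y, rfl⟩ := hcov x
  obtain ⟨U', V, hle, hy⟩ := exists_affine_pair (g i ≫ f) y
  have h' : (g i) ''ᵁ (U' : (Wi i).Opens) ≤ f ⁻¹ᵁ (V : S.Opens) := by
    rintro _ ⟨z, hz, rfl⟩; exact hle hz
  exact ⟨⟨_, U'.2.image_of_isOpenImmersion (g i)⟩, V, h', ⟨y, hy, rfl⟩,
    (testOn_restrict_iff (g i) f m K hle h').1 (rel_iff.1 (h i) U' V hle)⟩

end Groth.Agent.FlatCx12.RelPCRestrict
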