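import Groth.Agent.FlatCx12.RelPCOps
import Groth.Agent.FlatMorThick.Affine
import Groth.Agent.DCat.MVTriangles
import Groth.Prelude.Def_MoreMor
import Mathlib.RingTheory.AdjoinRoot
import Mathlib.AlgebraicGeometry.Morphisms.Finite
import Mathlib.RingTheory.Finiteness.Projective

/-!
# Relative pseudo-coherence and immersions that become closed immersions on a thickening
-/

set_option autoImplicit false
set_option backward.isDefEq.respectTransparency false
set_option backward.defeqAttrib.useBackward true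
set_option linter.style.haveILetI false
set_option synthInstance.maxHeartbeats 100000
set_option backward.isDefEq.respectTransparency.types false

universe u

open CategoryTheory CategoryTheory.Limits CategoryTheory.Pretriangulated DerivedCategory Opposite TopologicalSpace AlgebraicGeometry
open Groth.Agent.DCat Groth.Agent.FlatMorPerfect Groth.Agent.FlatCx12.EmbPush Groth.Agent.FlatCx12.RelPCChart Groth.Agent.FlatCx12.RelPC
open Groth.Agent.FlatCx12.RelPCOps

namespace Groth.Agent.FlatCx12.RelPCThick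

attribute [local instance] HasDerivedCategory.standard
attribute [-instance] Int.instConditionallyCompleteLinearOrder

/-- Derived direct image along a morphism with exact direct image. -/
theorem nonempty_Rpush_pd {X Y : Scheme.{u}} (f : X ⟶ Y) [DCoh.HasRpush f]
    [PreservesFiniteColimits (Scheme.Modules.pushforward f)] (E : DCoh.D X) :
    Nonempty ((DCoh.Rpush f).obj E ≅ (pd f).obj E) := by
  obtain ⟨I, hI, -, ⟨e⟩⟩ := MV.exists_rep E
  exact ⟨(MV.rfIsoAt (Scheme.Modules.pushforward f) e).symm ≪≫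
    ((Scheme.Modules.pushforward f).mapDerivedCategoryFactors.app I).symm ≪≫ (pd f).mapIso e⟩

/-- Nilpotent elements are reached by a finite free extension with a retraction of nil kernel. -/
theorem exists_free_cover {P C : Type u} [CommRing P] [CommRing C] (φ : P →+* C) : ∀ {k : ℕ} (x : Fin k → C),
    (∀ j, IsNilpotent (x j)) → ∃ (F : Type u) (_ : CommRing F) (_ : Algebra P F) (s : F →+* P) (α : F →+* C),
      Module.Free P F ∧ Module.Finite P F ∧ s.comp (algebraMap P F) = RingHom.id P ∧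
        (∀ a, s a = 0 → IsNilpotent a) ∧ α.comp (algebraMap P F) = φ ∧ ∀ j, ∃ a, α a = x j := by
  intro k
  induction k with
  | zero =>
    exact fun x _ => ⟨P, inferInstance, inferInstance, RingHom.id P, φ, inferInstance, inferInstance, rfl,
      fun a ha => by
        have : a = 0 := ha
        rw [this]
        exact IsNilpotent.zero, rfl, fun j => j.elim0⟩
  | succ k ih =>
    intro x hx
    obtain ⟨F, _, _, s, α, hfr, hfi, hs, hnil, hα, hr⟩ := ih (fun j => x j.succ) fun j => hx j.succ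
    obtain ⟨N, hN⟩ := hx 0
    let g : Polynomial F := Polynomial.X ^ (N + 1)
    have hg : g.Monic := Polynomial.monic_X_pow _
    let α' : AdjoinRoot g →+* C := AdjoinRoot.lift α (x 0) (by simp [g, pow_succ, hN])
    let r : AdjoinRoot g →+* F := AdjoinRoot.lift (RingHom.id F) 0 (by simp [g])
    haveI : Module.Free F (AdjoinRoot g) := hg.free_adjoinRoot
    haveI : Module.Finite F (AdjoinRoot g) := hg.finite_adjoinRoot
    refine ⟨AdjoinRoot g, inferInstance, inferInstance, s.comp r, α', Module.Free.trans (S := F),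
      Module.Finite.trans F _, RingHom.ext fun p => ?_, fun a ha => ?_, RingHom.ext fun p => ?_, fun j => ?_⟩
    · show s (r (AdjoinRoot.of g (algebraMap P F p))) = p
      rw [AdjoinRoot.lift_of]
      exact RingHom.congr_fun hs p
    · obtain ⟨q, rfl⟩ := AdjoinRoot.mk_surjective a
      have h0 : IsNilpotent (AdjoinRoot.of g (q.coeff 0)) := by
        refine (hnil _ ?_).map _
        simpa [r, AdjoinRoot.lift_mk, Polynomial.eval₂_at_zero] using ha
      have h1 : IsNilpotent (AdjoinRoot.root g) := ⟨N + 1, by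
        rw [← AdjoinRoot.mk_X, ← map_pow, AdjoinRoot.mk_self]⟩
      rw [← Polynomial.X_mul_divX_add q, map_add, map_mul, AdjoinRoot.mk_X, AdjoinRoot.mk_C]
      exact (Commute.all _ _).isNilpotent_add ((Commute.all _ _).isNilpotent_mul_right h1) h0
    · show α' (AdjoinRoot.of g (algebraMap P F p)) = φ p
      rw [AdjoinRoot.lift_of]
      exact RingHom.congr_fun hα p
    · refine Fin.cases ⟨AdjoinRoot.root g, AdjoinRoot.lift_root _⟩ (fun j => ?_) j
      obtain ⟨a, ha⟩ := hr j
      exact ⟨AdjoinRoot.of g a, (AdjoinRoot.lift_of _).trans ha⟩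

/-- `Spec` of an extension with a retraction of nil kernel is a closed embedding. -/
theorem isClosedEmbedding_spec {P F : Type u} [CommRing P] [CommRing F] (e : P →+* F) (s : F →+* P)
    (hs : s.comp e = RingHom.id P) (hnil : ∀ a, s a = 0 → IsNilpotent a) :
    Topology.IsClosedEmbedding (Spec.map (CommRingCat.ofHom e)).base := by
  have hsurj : Function.Surjective s := fun p => ⟨e p, RingHom.congr_fun hs p⟩
  have hb : Function.Bijective (PrimeSpectrum.comap s) := by
    refine ⟨PrimeSpectrum.comap_injective_of_surjective s hsurj, ?_⟩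
    rw [← Set.range_eq_univ, range_comap_of_surjective _ _ hsurj, Set.eq_univ_iff_forall]
    intro p
    rw [PrimeSpectrum.mem_zeroLocus]
    intro a ha
    obtain ⟨n, hn⟩ := hnil a ha
    exact p.2.mem_of_pow_mem n (by rw [hn]; exact zero_mem _)
  have hh : IsHomeomorph (PrimeSpectrum.comap s) :=
    isHomeomorph_iff_isEmbedding_surjective.2 ⟨(PrimeSpectrum.isClosedEmbedding_comap_of_surjective _ _ hsurj).toIsEmbedding, hb.2⟩
  have h1 : ∀ p, PrimeSpectrum.comap e (PrimeSpectrum.comap s p) = p := fun p => by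
    rw [← PrimeSpectrum.comap_comp_apply, hs, PrimeSpectrum.comap_id]
  show Topology.IsClosedEmbedding (PrimeSpectrum.comap e)
  have h2 : PrimeSpectrum.comap e = hh.homeomorph.symm := funext fun q => by
    obtain ⟨p, rfl⟩ := hb.2 q
    rw [h1]
    exact (hh.homeomorph.symm_apply_apply p).symm
  rw [h2]
  exact hh.homeomorph.symm.isClosedEmbedding

variable {X Y Z S : Scheme.{u}}

/-- Functions vanishing on a thickening are nilpotent. -/
theorem isNilpotent_of_app_eq_zero (t : Z ⟶ X) [Surjective t] {U : X.Opens} (hU : IsAffineOpen U) (a : Γ(X, U))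
    (ha : t.app U a = 0) : IsNilpotent a := by
  refine (Scheme.isNilpotent_iff_basicOpen_eq_bot_of_isCompact hU.isCompact a).2 (bot_unique fun x hx => ?_)
  obtain ⟨z, rfl⟩ := t.surjective x
  have h : z ∈ t ⁻¹ᵁ X.basicOpen a := hx
  rw [Scheme.preimage_basicOpen, ha, Scheme.basicOpen_zero] at h
  exact h.elim

/-- The test after direct image. -/
theorem testOn_thick (q : Y ⟶ S) (i : X ⟶ Y) [IsFinite i] (hi : Topology.IsClosedEmbedding i.base)
    [PreservesFiniteColimits (Scheme.Modules.pushforward i)] (t : Z ⟶ X) [Surjective t] [IsClosedImmersion (t ≫ i)]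
    (m : ℤ) (E : DCoh.D X) (W : Y.affineOpens) (V : S.affineOpens) (hle : (W : Y.Opens) ≤ q ⁻¹ᵁ (V : S.Opens))
    (hle' : i ⁻¹ᵁ (W : Y.Opens) ≤ (i ≫ q) ⁻¹ᵁ (V : S.Opens)) [LocallyOfFiniteType q] :
    TestOn (i ≫ q) m E (i ⁻¹ᵁ (W : Y.Opens)) V hle' ↔ TestOn q m ((pd i).obj E) W V hle := by
  have hU : IsAffineOpen (i ⁻¹ᵁ W.1) := W.2.preimage i
  letI := (q.appLE V W hle).hom.toAlgebra
  obtain ⟨n, π, hπ⟩ := Algebra.FiniteType.iff_quotient_mvPolynomial''.1
    (show Algebra.FiniteType Γ(S, V.1) Γ(Y, W.1) from q.finiteType_appLE V.2 W.2 hle)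
  letI := (i.app W.1).hom.toAlgebra
  haveI : Module.Finite Γ(Y, W.1) Γ(X, i ⁻¹ᵁ W.1) := i.finite_app W.1 W.2
  obtain ⟨k, x, hx⟩ := Algebra.FiniteType.iff_quotient_mvPolynomial''.1
    (inferInstance : Algebra.FiniteType Γ(Y, W.1) Γ(X, i ⁻¹ᵁ W.1))
  have hb : ∀ j, ∃ b, IsNilpotent (x (MvPolynomial.X j) - i.app W.1 b) := fun j => by
    obtain ⟨b, hb⟩ := (t ≫ i).app_surjective W.1 W.2 (t.app _ (x (MvPolynomial.X j)))
    refine ⟨b, isNilpotent_of_app_eq_zero t hU _ ?_⟩
    rw [map_sub, sub_eq_zero, ← hb, Scheme.Hom.comp_app]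
    rfl
  choose b hb using hb
  obtain ⟨F, _, _, s, α, hfr, hfi, hs, hnil, hα, hr⟩ :=
    exists_free_cover ((i.app W.1).hom.comp π.toRingHom) (fun j => x (MvPolynomial.X j) - i.app W.1 (b j)) hb
  have hsurj : Function.Surjective α := fun c => by
    obtain ⟨p, rfl⟩ := hx c
    induction p using MvPolynomial.induction_on with
    | C a =>
      obtain ⟨a', rfl⟩ := hπ a
      exact ⟨algebraMap _ F a', (RingHom.congr_fun hα a').trans (x.commutes _).symm⟩
    | add p q hp hq =>
      obtain ⟨u, hu⟩ := hp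
      obtain ⟨v, hv⟩ := hq
      exact ⟨u + v, by rw [map_add, map_add, hu, hv]⟩
    | mul_X p j hp =>
      obtain ⟨u, hu⟩ := hp
      obtain ⟨v, hv⟩ := hr j
      obtain ⟨w, hw⟩ := hπ (b j)
      refine ⟨u * (v + algebraMap _ F w), ?_⟩
      rw [map_mul, map_mul, map_add, hu, hv, show α (algebraMap _ F w) = i.app W.1 (b j) from
        (RingHom.congr_fun hα w).trans (congrArg (i.app W.1) hw), sub_add_cancel]
  letI : Algebra Γ(S, V.1) F := ((algebraMap (MvPolynomial (Fin n) Γ(S, V.1)) F).comp MvPolynomial.C).toAlgebra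
  haveI : IsScalarTower Γ(S, V.1) (MvPolynomial (Fin n) Γ(S, V.1)) F := .of_algebraMap_eq fun _ => rfl
  haveI := Module.Flat.of_free (R := MvPolynomial (Fin n) Γ(S, V.1)) (M := F)
  haveI : Module.Flat Γ(S, V.1) F := .trans Γ(S, V.1) (MvPolynomial (Fin n) Γ(S, V.1)) _
  haveI : Module.FinitePresentation (MvPolynomial (Fin n) Γ(S, V.1)) F :=
    Module.finitePresentation_of_projective _ _
  haveI : Algebra.FinitePresentation Γ(S, V.1) F := .trans Γ(S, V.1) (MvPolynomial (Fin n) Γ(S, V.1)) _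
  have hC : π.toRingHom.comp MvPolynomial.C = (q.appLE V W hle).hom := RingHom.ext fun a => π.commutes a
  have hc : α.comp (algebraMap Γ(S, V.1) F) = ((i ≫ q).appLE V (i ⁻¹ᵁ W.1) hle').hom := by
    rw [RingHom.algebraMap_toAlgebra, ← RingHom.comp_assoc, hα, RingHom.comp_assoc, hC, ← CommRingCat.hom_comp]
    refine congrArg CommRingCat.Hom.hom ?_
    rw [Scheme.Hom.app_eq_appLE, Scheme.Hom.appLE_comp_appLE]
  let e : MvPolynomial (Fin n) Γ(S, V.1) →+* F := algebraMap _ F
  let j := Spec.map (CommRingCat.ofHom e)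
  have hj := isClosedEmbedding_spec e s hs hnil
  haveI := preservesFiniteColimits_emb j hj
  haveI := isClosedImmersion_along hU hsurj
  haveI := isClosedImmersion_along W.2 (φ := π.toRingHom) hπ
  let a := (i ⁻¹ᵁ W.1).toSpecΓ ≫ Spec.map (CommRingCat.ofHom α)
  let c := W.1.toSpecΓ ≫ Spec.map (CommRingCat.ofHom π.toRingHom)
  haveI := preservesFiniteColimits_iso a
  haveI := preservesFiniteColimits_iso c
  haveI := preservesFiniteColimits_emb _ (isClosedEmbedding_restrict i hi W.1)
  haveI : PreservesFiniteColimits (Scheme.Modules.pushforward (a ≫ j)) :=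
    preservesFiniteColimits_of_natIso (Scheme.Modules.pushforwardComp a j)
  haveI : PreservesFiniteColimits (Scheme.Modules.pushforward ((i ∣_ W.1) ≫ c)) :=
    preservesFiniteColimits_of_natIso (Scheme.Modules.pushforwardComp _ c)
  have hw : a ≫ j = (i ∣_ W.1) ≫ c := by
    simp only [a, j, c, Category.assoc, ← Spec.map_comp]
    rw [← Category.assoc (i ∣_ W.1), ← Scheme.Opens.toSpecΓ_naturality, Category.assoc, ← Spec.map_comp]
    congr 2
    exact CommRingCat.hom_ext hα
  let K := (PerfLocal.rd (i ⁻¹ᵁ W.1).ι).obj E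
  obtain ⟨e₁⟩ := nonempty_pd_comp a j K
  obtain ⟨e₂⟩ := nonempty_pd_congr hw K
  obtain ⟨e₃⟩ := nonempty_pd_comp (i ∣_ W.1) c K
  obtain ⟨e₄⟩ := nonempty_rd_pd i W.1 E
  let eE := e₁ ≪≫ e₂ ≪≫ e₃.symm ≪≫ (pd c).mapIso e₄.symm
  have hO := psc_push_structure (CommRingCat.ofHom e)
    ((pcs_iff rfl).2 fun l => pc_free (M := F) l)
  have hiff := psc_pd_iff j hj hO m ((pd a).obj K)
  constructor
  · intro h
    obtain ⟨_, hp⟩ := testOn_along hU h hsurj hc
    exact ⟨n, π.toRingHom, ⟨hπ, hC⟩, (chartPC_iff m _ W.2 hπ).2 ⟨inferInstance,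
      PCTriangle.psc_iso eE (hiff.2 hp)⟩⟩
  · intro h
    obtain ⟨_, hp⟩ := testOn_along W.2 h (P := MvPolynomial (Fin n) Γ(S, V.1)) (α := π.toRingHom) hπ
      (by rw [MvPolynomial.algebraMap_eq, hC])
    exact testOn_of_along hU hsurj hc ⟨inferInstance, hiff.1 (PCTriangle.psc_iso eE.symm hp)⟩

/-- Relative pseudo-coherence and such immersions. -/
theorem rel_thick_iff (p : X ⟶ S) (q : Y ⟶ S) [LocallyOfFiniteType p] [LocallyOfFiniteType q] (i : X ⟶ Y)
    (w : i ≫ q = p) (t : Z ⟶ X) (ht : MoreMor.IsThickening t) (c : Z ⟶ Y) [IsClosedImmersion c] (htc : t ≫ i = c)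
    [DCoh.HasRpush i] (m : ℤ) (E : DCoh.D X) :
    DerSch.IsPseudoCoherentRel p m E ↔ DerSch.IsPseudoCoherentRel q m ((DCoh.Rpush i).obj E) := by
  subst w htc
  haveI := ht.1
  haveI := ht.2
  haveI : IsAffineHom i := FlatMorThick.isAffineHom_of_comp_surjective t i
  haveI : UniversallyClosed i := UniversallyClosed.of_comp_surjective t i
  haveI : LocallyOfFiniteType i := locallyOfFiniteType_of_comp i q
  haveI : IsIntegralHom i := IsIntegralHom.iff_universallyClosed_and_isAffineHom.2 ⟨inferInstance, inferInstance⟩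
  haveI : IsFinite i := (IsFinite.iff_isIntegralHom_and_locallyOfFiniteType i).2 ⟨inferInstance, inferInstance⟩
  have hi : Topology.IsClosedEmbedding i.base := by
    refine .of_continuous_injective_isClosedMap i.continuous ?_ i.isClosedMap
    intro x y hxy
    obtain ⟨a, rfl⟩ := t.surjective x
    obtain ⟨b, rfl⟩ := t.surjective y
    exact congrArg t ((t ≫ i).isClosedEmbedding.injective hxy)
  haveI := preservesFiniteColimits_emb i hi
  obtain ⟨eR⟩ := nonempty_Rpush_pd i E
  constructor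
  · intro h
    rw [rel_iff] at h
    refine rel_of_local fun y => ?_
    obtain ⟨W, V, hle, hyW⟩ := exists_affine_pair q y
    have h1 := (testOn_thick q i hi t m E W V hle fun x hx => hle hx).1 (h ⟨_, W.2.preimage i⟩ V fun x hx => hle hx)
    obtain ⟨n, φ, hφ, hp⟩ := h1
    refine ⟨W, V, hle, hyW, n, φ, hφ, (chartPC_iff m _ W.2 hφ.1).2 ?_⟩
    obtain ⟨_, hp⟩ := (chartPC_iff m _ W.2 hφ.1).1 hp
    exact ⟨inferInstance, PCTriangle.psc_iso ((pd _).mapIso ((PerfLocal.rd W.1.ι).mapIso eR.symm)) hp⟩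
  · intro h
    rw [rel_iff] at h
    refine rel_of_local fun x => ?_
    obtain ⟨W, V, hle, hxW⟩ := exists_affine_pair q (i x)
    obtain ⟨n, φ, hφ, hp⟩ := h W V hle
    obtain ⟨_, hp⟩ := (chartPC_iff m _ W.2 hφ.1).1 hp
    refine ⟨⟨_, W.2.preimage i⟩, V, fun y hy => hle hy, hxW, (testOn_thick q i hi t m E W V hle _).2
      ⟨n, φ, hφ, (chartPC_iff m _ W.2 hφ.1).2 ?_⟩⟩
    exact ⟨inferInstance, PCTriangle.psc_iso ((pd _).mapIso ((PerfLocal.rd W.1.ι).mapIso eR)) hp⟩

end Groth.Agent.FlatCx12.RelPCThick
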