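import Groth.Agent.FlatCx12.RelPCOps
import Groth.Agent.FlatCx12.PscInduction

/-!
# Relative pseudo-coherence of summands, complexes and truncations
-/

set_option autoImplicit false
set_option backward.isDefEq.respectTransparency false
set_option backward.defeqAttrib.useBackward true
set_option linter.style.haveILetI false
set_option synthInstance.maxHeartbeats 100000
set_option backward.isDefEq.respectTransparency.types false

universe u

open CategoryTheory CategoryTheory.Limits CategoryTheory.Pretriangulated DerivedCategory Opposite TopologicalSpace AlgebraicGeometry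
open Groth.Agent.DCat Groth.Agent.FlatCx12.EmbPush Groth.Agent.FlatCx12.RelPCOps

namespace Groth.Agent.FlatCx12.RelPCTri

attribute [local instance] HasDerivedCategory.standard
attribute [-instance] Int.instConditionallyCompleteLinearOrder

variable {X S : Scheme.{u}} {f : X ⟶ S} (c : Chart f)

/-- The module-level functor of a chart. -/
noncomputable abbrev mfun : X.Modules ⥤ c.space.Modules :=
  Scheme.Modules.restrictFunctor (c.U : X.Opens).ι ⋙ Scheme.Modules.pushforward c.imm

/-- The chart functor on single modules. -/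
noncomputable def fnSingleIso (M : X.Modules) : c.fn.obj (DCoh.inD X M) ≅ DCoh.inD _ ((mfun c).obj M) :=
  (pd c.imm).mapIso (((Scheme.Modules.restrictFunctor (c.U : X.Opens).ι).mapDerivedCategorySingleFunctor 0).app M) ≪≫
    ((Scheme.Modules.pushforward c.imm).mapDerivedCategorySingleFunctor 0).app _

/-- The chart functor on complexes. -/
noncomputable def fnQIso (G : CochainComplex X.Modules ℤ) :
    c.fn.obj (DCoh.toD X G) ≅ DCoh.toD _ (((mfun c).mapHomologicalComplex (ComplexShape.up ℤ)).obj G) :=
  (pd c.imm).mapIso ((Scheme.Modules.restrictFunctor (c.U : X.Opens).ι).mapDerivedCategoryFactors.app G) ≪≫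
    (Scheme.Modules.pushforward c.imm).mapDerivedCategoryFactors.app _

/-- The chart functor and cohomology. -/
noncomputable def fnHomIso (K : DCoh.D X) (i : ℤ) : DCoh.HD (c.fn.obj K) i ≅ (mfun c).obj (DCoh.HD K i) :=
  SuppOpen.hdMapIso (Scheme.Modules.pushforward c.imm) _ i ≪≫ (Scheme.Modules.pushforward c.imm).mapIso
    (SuppOpen.hdMapIso (Scheme.Modules.restrictFunctor (c.U : X.Opens).ι) K i)

variable (f) (m : ℤ)

/-- Summands. -/
theorem rel_summand (E K : DCoh.D X) [HasBinaryBiproduct E K] (h : DerSch.IsPseudoCoherentRel f m (E ⊞ K)) :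
    DerSch.IsPseudoCoherentRel f m E ∧ DerSch.IsPseudoCoherentRel f m K := by
  haveI := h.1
  rw [rel_iff_chart] at h
  refine ⟨(rel_iff_chart m E).2 fun c => ?_, (rel_iff_chart m K).2 fun c => ?_⟩
  · haveI : PreservesBinaryBiproduct E K c.fn := preservesBinaryBiproduct_of_preservesBiproduct c.fn E K
    haveI : HasBinaryBiproduct (c.fn.obj E) (c.fn.obj K) := HasBinaryBiproducts.has_binary_biproduct _ _
    exact PCTriangle.psc_summand m _ _ (PCTriangle.psc_iso (c.fn.mapBiprod E K) (h c))
  · haveI : PreservesBinaryBiproduct E K c.fn := preservesBinaryBiproduct_of_preservesBiproduct c.fn E K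
    haveI : HasBinaryBiproduct (c.fn.obj E) (c.fn.obj K) := HasBinaryBiproducts.has_binary_biproduct _ _
    haveI : HasBinaryBiproduct (c.fn.obj K) (c.fn.obj E) := HasBinaryBiproducts.has_binary_biproduct _ _
    exact PCTriangle.psc_summand m _ _
      (PCTriangle.psc_iso (c.fn.mapBiprod E K ≪≫ biprod.braiding _ _) (h c))

/-- Complexes bounded above. -/
theorem rel_of_terms (F : CochainComplex X.Modules ℤ) (b : ℤ) (hb : ∀ i, b < i → IsZero (F.X i))
    (h : ∀ i, DerSch.IsPseudoCoherentRel f (m - i) (DCoh.inD X (F.X i))) :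
    DerSch.IsPseudoCoherentRel f m (DCoh.toD X F) := by
  haveI := (h 0).1
  refine (rel_iff_chart m _).2 fun c => PCTriangle.psc_iso (fnQIso c F).symm ?_
  refine PscInduction.psc_of_terms m (b - m + 1).toNat _
    (fun i hi => (mfun c).map_isZero (hb i (by omega))) fun i => ?_
  exact PCTriangle.psc_iso (fnSingleIso c (F.X i)) ((rel_iff_chart _ _).1 (h i) c)

/-- Objects bounded above. -/
theorem rel_of_homology (K : DCoh.D X) (b : ℤ) [K.IsLE b]
    (h : ∀ i, DerSch.IsPseudoCoherentRel f (m - i) (DCoh.inD X (DCoh.HD K i))) :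
    DerSch.IsPseudoCoherentRel f m K := by
  haveI := (h 0).1
  refine (rel_iff_chart m _).2 fun c => PscInduction.psc_of_homology m (b - m + 1).toNat _ ?_ fun i => ?_
  · rw [DerivedCategory.isLE_iff]
    exact fun i hi => ((mfun c).map_isZero (DerivedCategory.isZero_of_isLE K b i (by omega))).of_iso (fnHomIso c K i)
  · exact PCTriangle.psc_iso (fnSingleIso c _ ≪≫ (singleFunctor _ 0).mapIso (fnHomIso c K i).symm)
      ((rel_iff_chart _ _).1 (h i) c)

end Groth.Agent.FlatCx12.RelPCTri
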