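import Groth.Agent.DualLib.ShriekBaseChange
import Groth.Agent.DualLib.ShriekIndep
import Groth.Agent.Dual22Lib.FiniteShriek
import Groth.Agent.DualLib.LocDualizing
import Groth.Agent.DualLib.Cover
import Groth.Prelude.Def_Disc
import Mathlib.Algebra.Algebra.Epi
import Mathlib.RingTheory.Finiteness.Basic

/-!
# Degree zero cohomology of upper shriek for flat epimorphisms and finite maps
-/

set_option autoImplicit false
set_option backward.isDefEq.respectTransparency false
set_option backward.defeqAttrib.useBackward true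

universe u

open CategoryTheory CategoryTheory.Limits DerivedCategory MvPolynomial
open scoped TensorProduct

attribute [local instance] HasDerivedCategory.standard

namespace Groth.Agent.FlatCx12.ShriekH0

open DualLib DualLib.Shriek

/-- Cohomology after flat base change. -/
theorem nonempty_HD_lbase {A C : Type u} [CommRing A] [CommRing C] [Algebra A C] [Module.Flat A C]
    (φ : A →+* C) (hφ : φ = algebraMap A C) [DRing.HasLBaseChange φ] (X : Dual.D A) (i : ℤ) :
    Nonempty (Dual.HD C ((DRing.LBaseChange φ).obj X) i ≃ₗ[C] C ⊗[A] Dual.HD A X i) := by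
  subst hφ
  have hflat : (algebraMap A C).Flat := RingHom.flat_algebraMap_iff.2 inferInstance
  haveI := preservesFiniteLimits_flat (A := A) (B := C)
  haveI := preservesFiniteColimits_ext (A := A) (B := C)
  obtain ⟨e⟩ := nonempty_LBaseChange_iso hflat X
  obtain ⟨eM⟩ := nonempty_ext_tensor (B := C) ((homologyFunctor (ModuleCat.{u} A) i).obj X)
  exact ⟨((homologyFunctor (ModuleCat.{u} C) i).mapIso e).toLinearEquiv ≪≫ₗ
    (DCat.SuppOpen.hdMapIso (ModuleCat.extendScalars.{u, u, u} (algebraMap A C)) X i).toLinearEquiv ≪≫ₗ eM⟩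

/-- Base change along a bijection reflects isomorphisms. -/
theorem nonempty_cancel {A C : Type u} [CommRing A] [CommRing C] [Algebra A C]
    (h : Function.Bijective (algebraMap A C)) {M N : Type u} [AddCommGroup M] [Module A M] [AddCommGroup N]
    [Module A N] (e : C ⊗[A] M ≃ₗ[C] C ⊗[A] N) : Nonempty (M ≃ₗ[A] N) := by
  let c : C ≃ₗ[A] A := (LinearEquiv.ofBijective (Algebra.linearMap A C) h).symm
  let f : ∀ (P : Type u) [AddCommGroup P] [Module A P], C ⊗[A] P ≃ₗ[A] P := fun P _ _ =>
    LinearEquiv.rTensor P c ≪≫ₗ TensorProduct.lid A P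
  exact ⟨(f M).symm ≪≫ₗ e.restrictScalars A ≪≫ₗ f N⟩

/-- Degree zero cohomology of upper shriek along a flat epimorphism. -/
theorem nonempty_HD_shriekVia_epi {A B : Type u} [CommRing A] [IsNoetherianRing A] [CommRing B] [Algebra A B]
    [Module.Flat A B] [Algebra.IsEpi A B] (n : ℕ) (ψ : MvPolynomial (Fin n) A →ₐ[A] B)
    (hψ : Function.Surjective ψ) [DRing.HasLBaseChange (algebraMap A (MvPolynomial (Fin n) A))]
    (Rψ : Dual.D (MvPolynomial (Fin n) A) ⥤ Dual.D B) (adj : DRing.restrictD ψ.toRingHom ⊣ Rψ)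
    (M : Dual.D A) (c : ℤ) [M.IsGE c] (i : ℤ) :
    Nonempty (Dual.HD B (Dual2.shriekVia n Rψ M) i ≃ₗ[B] B ⊗[A] Dual.HD A M i) := by
  let T := B ⊗[A] B
  have htmul : ∀ b : B, (1 : B) ⊗ₜ[A] b = b ⊗ₜ[A] (1 : B) := (Algebra.isEpi_iff_forall_one_tmul_eq A B).1 inferInstance
  have hbij : Function.Bijective (algebraMap B T) := by
    refine ⟨Function.LeftInverse.injective (g := Algebra.TensorProduct.lmul' A) fun b => by
      show Algebra.TensorProduct.lmul' A (b ⊗ₜ[A] (1 : B)) = b
      simp, fun z => ?_⟩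
    induction z using TensorProduct.induction_on with
    | zero => exact ⟨0, map_zero _⟩
    | tmul x y =>
      refine ⟨x * y, ?_⟩
      rw [show x ⊗ₜ[A] y = (x ⊗ₜ[A] (1 : B)) * ((1 : B) ⊗ₜ[A] y) by simp, htmul]
      simp [T, Algebra.TensorProduct.algebraMap_apply]
    | add a b ha hb =>
      obtain ⟨a', ha'⟩ := ha
      obtain ⟨b', hb'⟩ := hb
      exact ⟨a' + b', by rw [map_add, ha', hb']⟩
  have hR : (Algebra.TensorProduct.includeRight : B →ₐ[A] T).toRingHom = algebraMap B T :=
    RingHom.ext fun b => htmul b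
  haveI : Module.Finite B T := Module.Finite.of_surjective (Algebra.linearMap B T) hbij.2
  haveI : Module.Flat B T := RingHom.flat_algebraMap_iff.1 (RingHom.Flat.of_bijective hbij)
  let ψ' : MvPolynomial (Fin 0) B →+* T := eval₂Hom (algebraMap B T) fun j => Fin.elim0 j
  have hψ'R : ψ'.comp C = algebraMap B T := RingHom.ext fun b => eval₂Hom_C _ _ _
  have hψ' : Function.Surjective ψ' := fun z => by
    obtain ⟨b, rfl⟩ := hbij.2 z
    exact ⟨C b, eval₂Hom_C _ _ _⟩
  haveI := DCat.hasLBaseChange (algebraMap B (MvPolynomial (Fin 0) B))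
  haveI := DCat.hasLBaseChange (algebraMap A B)
  haveI := DCat.hasLBaseChange (algebraMap B T)
  haveI := DCat.hasLBaseChange (Algebra.TensorProduct.includeRight : B →ₐ[A] T).toRingHom
  obtain ⟨R', ⟨adj'⟩⟩ := exists_rightAdjoint ψ'
  obtain ⟨R'', ⟨adj''⟩⟩ := exists_rightAdjoint (algebraMap B T)
  obtain ⟨e₁⟩ := nonempty_shriekVia_baseChange n ψ hψ Rψ adj 0 ψ' hψ' hψ'R R' adj' M c
  let M' := (DRing.LBaseChange (algebraMap A B)).obj M
  obtain ⟨e₂⟩ := nonempty_shriekVia_finite 0 ψ' hψ'R R' adj' R'' adj'' M'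
  obtain ⟨e₃⟩ := frob_of_bijective (algebraMap B T) hbij R'' adj'' (Q.objPreimage M')
  obtain ⟨e₄⟩ := nonempty_lbase_flat (RingHom.Flat.of_bijective hbij) (Q.objPreimage M')
  let e := e₁ ≪≫ e₂ ≪≫ R''.mapIso (Q.objObjPreimageIso M').symm ≪≫ e₃ ≪≫ e₄.symm ≪≫
    (DRing.LBaseChange (algebraMap B T)).mapIso (Q.objObjPreimageIso M')
  obtain ⟨a⟩ := nonempty_HD_lbase (C := T) _ hR (Dual2.shriekVia n Rψ M) i
  obtain ⟨b⟩ := nonempty_HD_lbase (C := T) (algebraMap B T) rfl M' i
  obtain ⟨d⟩ := nonempty_HD_lbase (C := B) (algebraMap A B) rfl M i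
  obtain ⟨f⟩ := nonempty_cancel hbij
    (a.symm ≪≫ₗ ((homologyFunctor (ModuleCat.{u} T) i).mapIso e).toLinearEquiv ≪≫ₗ b)
  exact ⟨f ≪≫ₗ d⟩

/-- Degree zero cohomology of a complex vanishing in negative degrees, as a kernel. -/
noncomputable def homologyZeroIso {R : Type u} [CommRing R] (K : DRing.Cx R) [K.IsStrictlyGE 0] :
    K.homology 0 ≅ kernel (K.d 0 1) :=
  (K.isoHomologyπ (-1) 0 (by simp) ((K.isZero_of_isStrictlyGE 0 (-1)).eq_of_src _ _)).symm ≪≫
    (K.cyclesIsKernel 0 1 (by simp)).conePointUniqueUpToIso (limit.isLimit _)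

/-- Degree zero cohomology of the right adjoint of restriction on `A`. -/
theorem nonempty_HD_rightAdjoint {A B : Type u} [CommRing A] [CommRing B] [Algebra A B]
    (R : Dual.D A ⥤ Dual.D B) (adj : DRing.restrictD (algebraMap A B) ⊣ R) :
    Nonempty (Dual.HD B (R.obj (Dual.inD A A)) 0 ≃ₗ[B] Disc.Omega A B) := by
  obtain ⟨J, hJ0, hJK, -, ⟨eJ⟩⟩ := DCat.Amplitude.exists_kInjective_rep (Dual.inD A A) 0
  let φ := algebraMap A B
  let F := ModuleCat.coextendScalars.{u, u} φ
  haveI : PreservesLimitsOfSize.{0, 0} F := (ModuleCat.restrictCoextendScalarsAdj φ).rightAdjoint_preservesLimits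
  obtain ⟨v⟩ := nonempty_value adj J
  haveI : CochainComplex.IsStrictlyGE ((coCx φ).obj J) 0 :=
    (CochainComplex.isStrictlyGE_iff _ 0).2 fun i hi =>
      F.map_isZero ((CochainComplex.isStrictlyGE_iff J 0).1 hJ0 i hi)
  let k : kernel (J.d 0 1) ≅ ModuleCat.of A A :=
    (homologyZeroIso J).symm ≪≫ ((homologyFunctorFactors (ModuleCat.{u} A) 0).app J).symm ≪≫
      (homologyFunctor (ModuleCat.{u} A) 0).mapIso eJ ≪≫
      (singleFunctorCompHomologyFunctorIso (ModuleCat.{u} A) 0).app _
  let e : (homologyFunctor (ModuleCat.{u} B) 0).obj (R.obj (Dual.inD A A)) ≅ F.obj (ModuleCat.of A A) :=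
    (homologyFunctor (ModuleCat.{u} B) 0).mapIso (R.mapIso eJ.symm ≪≫ v) ≪≫
      (homologyFunctorFactors (ModuleCat.{u} B) 0).app _ ≪≫ homologyZeroIso _ ≪≫
      (PreservesKernel.iso F (J.d 0 1)).symm ≪≫ F.mapIso k
  let C₀ := (ModuleCat.restrictScalars.{u} φ).obj (ModuleCat.of B B)
  let ap : F.obj (ModuleCat.of A A) → (C₀ →ₗ[A] A) := fun f => f
  let g : F.obj (ModuleCat.of A A) ≃ₗ[B] Disc.Omega A B :=
    { toFun := fun f => ⟨{ toFun := fun b : B => ap f b
                           map_add' := fun x y => map_add (ap f) x y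
                           map_smul' := fun a x => by
                             rw [Algebra.smul_def]
                             exact (ap f).map_smul a x }⟩
      invFun := fun ω =>
        ({ toFun := fun b : B => ω.toLinearMap b
           map_add' := fun x y => map_add ω.toLinearMap x y
           map_smul' := fun a (x : B) => by
             show ω.toLinearMap (algebraMap A B a * x) = a • ω.toLinearMap x
             rw [← Algebra.smul_def, map_smul] } : C₀ →ₗ[A] A)
      left_inv := fun f => rfl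
      right_inv := fun ω => rfl
      map_add' := fun f f' => rfl
      map_smul' := fun b f => Disc.Omega.ext (LinearMap.ext fun (x : B) => by
        show ap f (x * b : B) = ap f (b * x : B)
        rw [mul_comm]) }
  exact ⟨e.toLinearEquiv ≪≫ₗ g⟩

end Groth.Agent.FlatCx12.ShriekH0
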