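import Groth.Agent.FlatCx12.RelDescScheme
import Groth.Agent.DQCoh.RelTorBC
import Groth.Agent.DQCoh.PscNoeth
import Groth.Agent.DQCoh.TildePush
import Groth.Agent.DCat.ClosedPushD
import Groth.Agent.DRingLib.PCDescent
import Groth.Agent.FlatMorThick.FiniteOrder

/-!
# Pseudo-coherence and quasi-coherence descend along finite order thickenings
-/

set_option autoImplicit false
set_option backward.isDefEq.respectTransparency false
set_option backward.defeqAttrib.useBackward true
set_option linter.style.haveILetI false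
set_option synthInstance.maxHeartbeats 100000
set_option backward.isDefEq.respectTransparency.types false

universe u

open CategoryTheory CategoryTheory.Limits CategoryTheory.Pretriangulated DerivedCategory Opposite TopologicalSpace AlgebraicGeometry
open Groth.Agent.DCat Groth.Agent.DQCoh Groth.Agent.FlatCx12.RelDescScheme

namespace Groth.Agent.FlatCx12.ThickDesc

attribute [local instance] HasDerivedCategory.standard
attribute [-instance] Int.instConditionallyCompleteLinearOrder

local instance preservesFiniteLimits_tilde'' (R : CommRingCat.{u}) : PreservesFiniteLimits (tilde.functor R) :=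
  AffSchLib.preservesFiniteLimits_tilde R

/-- Quasi-coherence of the cohomology descends along a nilpotent surjection of rings. -/
theorem isQCohD_of_Lpull {A B : CommRingCat.{u}} (φ : A ⟶ B) (hφ : Function.Surjective φ.hom)
    (hnil : IsNilpotent (RingHom.ker φ.hom)) [DCoh.HasLpull (Spec.map φ)] (K : DCoh.D (Spec A))
    (hK : DCoh.IsQCohD ((DCoh.Lpull (Spec.map φ)).obj K)) : DCoh.IsQCohD K := by
  let f := Spec.map φ
  haveI : IsClosedImmersion f := IsClosedImmersion.spec_of_surjective φ hφ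
  haveI := hasRpush f
  obtain ⟨P, hP, ⟨eP⟩⟩ := PullPerf.exists_kflat_rep K
  haveI := LTensorSheaf.hasLTensorCx P
  let P' := ((Scheme.Modules.pullback f).mapHomologicalComplex (ComplexShape.up ℤ)).obj P
  haveI := LTensorSheaf.hasLTensorCx P'
  let G := DCoh.LTensorCx P
  have hP' : DCoh.IsQCohD (DerivedCategory.Q.obj P') :=
    isQCohD_of_iso ((DCoh.Lpull f).mapIso eP.symm ≪≫ PullPerf.lpullIso f hP) hK
  let T : Dual.D A ⥤ DCoh.D (Spec (CommRingCat.of A)) := DCoh.tildeD A
  let Q : ModuleCat.{u} A → Prop := fun M => DCoh.IsQCohD (G.obj (T.obj ((singleFunctor _ 0).obj M)))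
  have hpush : ∀ N : ModuleCat.{u} B, Q ((ModuleCat.restrictScalars φ.hom).obj N) := fun N => by
    obtain ⟨c⟩ := nonempty_tildeD_Rpush φ
    obtain ⟨η⟩ : Nonempty ((DRing.restrictD φ.hom).obj ((singleFunctor _ 0).obj N) ≅
        (singleFunctor _ 0).obj ((ModuleCat.restrictScalars φ.hom).obj N)) :=
      ⟨((ModuleCat.restrictScalars φ.hom).mapDerivedCategorySingleFunctor 0).app N⟩
    obtain ⟨p⟩ := ClosedPushD.nonempty_projection f P hP ((DCoh.tildeD B).obj ((singleFunctor _ 0).obj N))
    exact isQCohD_of_iso (p.symm ≪≫ G.mapIso (c.app _ ≪≫ T.mapIso η))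
      (isQCohD_Rpush f _ (isQCohD_LTensorCx P' hP' _ (((tildeD_main B).2.2 _).2 ⟨_, ⟨Iso.refl _⟩⟩)))
  have hall : ∀ (n : ℕ) (M : ModuleCat.{u} A), RingHom.ker φ.hom ^ n • (⊤ : Submodule A M) = ⊥ → Q M := by
    intro n
    induction n with
    | zero =>
      intro M hM
      obtain ⟨N, ⟨e⟩⟩ := exists_restrict_of_killed φ.hom hφ M (le_bot_iff.1 (by
        rw [← hM, pow_zero, Ideal.one_eq_top, Submodule.top_smul]; exact le_top))
      exact isQCohD_of_iso (G.mapIso (T.mapIso ((singleFunctor _ 0).mapIso e))) (hpush N)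
    | succ n ih =>
      intro M hM
      let J := RingHom.ker φ.hom
      let N : Submodule A M := J • ⊤
      have hsub : J ^ n • (⊤ : Submodule A N) = ⊥ := by
        refine Submodule.map_injective_of_injective (f := N.subtype) N.injective_subtype ?_
        rw [Submodule.map_smul'', Submodule.map_top, Submodule.range_subtype, Submodule.map_bot,
          ← Submodule.mul_smul, ← pow_succ]
        exact hM
      have hquot : J • (⊤ : Submodule A (M ⧸ N)) = ⊥ := by
        rw [← Submodule.range_mkQ N, ← Submodule.map_top, ← Submodule.map_smul'']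
        exact Submodule.mkQ_map_self N
      obtain ⟨Z, ⟨eZ⟩⟩ := exists_restrict_of_killed φ.hom hφ (ModuleCat.of A (M ⧸ N)) hquot
      let S : ShortComplex (ModuleCat.{u} A) := ShortComplex.mk (ModuleCat.ofHom N.subtype) (ModuleCat.ofHom N.mkQ)
        (ModuleCat.hom_ext (LinearMap.ext fun x => (Submodule.Quotient.mk_eq_zero N).2 x.2))
      have hS : S.ShortExact :=
        { exact := (ShortComplex.moduleCat_exact_iff _).2 fun x hx =>
            ⟨⟨x, (Submodule.Quotient.mk_eq_zero N).1 hx⟩, rfl⟩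
          mono_f := (ModuleCat.mono_iff_injective _).2 N.injective_subtype
          epi_g := (ModuleCat.epi_iff_surjective _).2 N.mkQ_surjective }
      obtain ⟨δ, hδ⟩ := exists_triangle_LTensorCx P hP (T.map_distinguished _ hS.singleTriangle_distinguished)
      exact isQCohD_obj₃.cohIn_obj₂ hδ (ih _ hsub)
        (isQCohD_of_iso (G.mapIso (T.mapIso ((singleFunctor _ 0).mapIso eZ))) (hpush Z))
  obtain ⟨n, hn⟩ := hnil
  obtain ⟨u⟩ := nonempty_unit_LTensor P
  exact isQCohD_of_iso (G.mapIso (genIso A) ≪≫ u ≪≫ eP)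
    (hall n (ModuleCat.of A A) (by rw [hn]; exact Submodule.bot_smul _))

/-- Pseudo-coherence descends along a nilpotent surjection of rings. -/
theorem psc_of_Lpull_affine {A B : CommRingCat.{u}} (φ : A ⟶ B) (hφ : Function.Surjective φ.hom)
    (hnil : IsNilpotent (RingHom.ker φ.hom)) [DCoh.HasLpull (Spec.map φ)] (K : DCoh.D (Spec A))
    (hK : ∀ m : ℤ, DCoh.IsPseudoCoherentD m ((DCoh.Lpull (Spec.map φ)).obj K)) (m : ℤ) :
    DCoh.IsPseudoCoherentD m K := by
  obtain ⟨M, ⟨e⟩⟩ := ((tildeD_main A).2.2 K).1 (isQCohD_of_Lpull φ hφ hnil K (isQCohD_of_psc hK))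
  haveI : DRing.HasLBaseChange φ.hom := hasLBaseChange _
  obtain ⟨c⟩ := nonempty_LBaseChange_tildeD φ
  exact PCTriangle.psc_iso e (psc_tildeD ((DRingLib.pc'_iff.1 (DRingLib.pc'_descend φ.hom hφ hnil M
    (DRingLib.pc'_iff.2 fun n => pc_of_psc_tildeD
      (PCTriangle.psc_iso ((DCoh.Lpull (Spec.map φ)).mapIso e.symm ≪≫ (c.app M).symm) (hK n))))) m))

/-- Pseudo-coherence descends along finite order thickenings. -/
theorem psc_of_Lpull {X X' : Scheme.{u}} (i : X ⟶ X') (hi : MoreMor.IsFiniteOrderThickening i)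
    [DCoh.HasLpull i] (K : DCoh.D X')
    (hK : ∀ m : ℤ, DCoh.IsPseudoCoherentD m ((DCoh.Lpull i).obj K)) (m : ℤ) : DCoh.IsPseudoCoherentD m K := by
  haveI := hi.1.1
  refine psc_of_local K fun x => ?_
  obtain ⟨U, hU, hxU, -⟩ := exists_isAffineOpen_mem_and_subset (x := x) (U := (⊤ : X'.Opens)) trivial
  refine ⟨Spec Γ(X', U), hU.fromSpec, inferInstance, by rwa [hU.opensRange_fromSpec], ?_⟩
  let W := i ⁻¹ᵁ U
  have hW : IsAffineOpen W := hU.preimage i
  let φ := i.appLE U W le_rfl
  have heq : φ = i.app U := (Scheme.Hom.app_eq_appLE i).symm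
  have hφ : Function.Surjective φ.hom := by rw [heq]; exact i.app_surjective U hU
  have hnil : IsNilpotent (RingHom.ker φ.hom) := by
    rw [heq, ← i.ker_apply ⟨U, hU⟩]
    exact FlatMorThick.isNilpotent_ideal hi.2 ⟨U, hU⟩
  haveI := hasLpull (Spec.map φ)
  haveI := hasLpull hU.fromSpec
  haveI := hasLpull hW.fromSpec
  haveI := hasLpull (Spec.map φ ≫ hU.fromSpec)
  haveI := hasLpull (hW.fromSpec ≫ i)
  obtain ⟨a⟩ := nonempty_Lpull_restrict hU.fromSpec K
  obtain ⟨b⟩ := nonempty_Lpull_restrict hW.fromSpec ((DCoh.Lpull i).obj K)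
  obtain ⟨c₁⟩ := nonempty_LpullComp (Spec.map φ) hU.fromSpec
  obtain ⟨c₂⟩ := nonempty_LpullComp hW.fromSpec i
  obtain ⟨d⟩ : Nonempty (DCoh.Lpull (Spec.map φ ≫ hU.fromSpec) ≅ DCoh.Lpull (hW.fromSpec ≫ i)) :=
    ⟨eqToIso (by congr 1; exact IsAffineOpen.SpecMap_appLE_fromSpec i hU hW le_rfl)⟩
  exact psc_of_Lpull_affine φ hφ hnil _ (fun n => PCTriangle.psc_iso (((DCoh.Lpull (Spec.map φ)).mapIso a.symm ≪≫
    c₁.app K ≪≫ d.app K ≪≫ (c₂.app K).symm ≪≫ b).symm) (psc_rd hW.fromSpec (hK n))) m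

end Groth.Agent.FlatCx12.ThickDesc
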