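import Groth.Agent.DRingLib.TorDimAmp
import Groth.Agent.DRingLib.PCPerf
import Groth.Agent.DCat.TotKFlat

/-!
# Tor amplitude over a base ring of complexes of flat modules over an algebra
-/

set_option autoImplicit false
set_option backward.isDefEq.respectTransparency false
set_option backward.defeqAttrib.useBackward true
set_option linter.style.haveILetI false

universe u

open CategoryTheory CategoryTheory.Limits CategoryTheory.Pretriangulated MonoidalCategory TensorProduct HomologicalComplex

attribute [local instance] HasDerivedCategory.standard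

namespace Groth.Agent.FlatCx12.TorAmpComp

open Groth.Agent.DCat Groth.Agent.Tor15

variable {A : Type u} [CommRing A]

/-- `Tor` vanishes above `j` for `X`. -/
def D (j : ℕ) (X : Type u) [AddCommGroup X] [Module A X] : Prop :=
  ∀ (N : Type u) [AddCommGroup N] [Module A N], Dim (R := A) j X N

/-- Free presentations. -/
theorem exists_free_pres (N : Type u) [AddCommGroup N] [Module A N] :
    ∃ (L P : Type u) (_ : AddCommGroup L) (_ : Module A L) (_ : AddCommGroup P) (_ : Module A P)
      (_ : Module.Flat A P) (i : L →ₗ[A] P) (p : P →ₗ[A] N),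
      Function.Exact i p ∧ Function.Surjective p ∧ Function.Injective i :=
  ⟨LinearMap.ker (Finsupp.linearCombination A (id : N → N)), N →₀ A, inferInstance, inferInstance, inferInstance,
    inferInstance, inferInstance, _, Finsupp.linearCombination A (id : N → N), LinearMap.exact_subtype_ker_map _,
    fun n => ⟨Finsupp.single n 1, by simp only [Finsupp.linearCombination_single, one_smul]; rfl⟩,
    Submodule.injective_subtype _⟩

/-- Dimension shifting, the other way. -/
theorem dim_unshift {K F X : Type u} [AddCommGroup K] [Module A K] [AddCommGroup F] [Module A F] [Module.Flat A F]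
    [AddCommGroup X] [Module A X] (i : K →ₗ[A] F) (q : F →ₗ[A] X) (hiq : Function.Exact i q) (hq : Function.Surjective q)
    (hi : Function.Injective i) : ∀ (j : ℕ) (N : Type u) [AddCommGroup N] [Module A N],
      Dim (R := A) j K N → Dim (R := A) (j + 1) X N := by
  intro j
  induction j with
  | zero =>
    intro N _ _ h
    obtain ⟨L, P, _, _, _, _, _, i', p', hip', hp', hi'⟩ := exists_free_pres (A := A) N
    exact ⟨L, P, inferInstance, inferInstance, inferInstance, inferInstance, inferInstance, i', p', hip', hp', hi',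
      torVanish_shift hip' hp' hi' hiq hq hi (torVanish_symm h)⟩
  | succ j ih =>
    intro N _ _ h
    obtain ⟨L', P', _, _, _, _, _, i', p', hip', hp', hi', hd⟩ := h
    exact ⟨L', P', inferInstance, inferInstance, inferInstance, inferInstance, inferInstance, i', p', hip', hp', hi',
      ih L' hd⟩

variable {B : Type u} [CommRing B] [Algebra A B]

/-- A flat module over the algebra inherits the bound of the algebra. -/
theorem dim_transfer (M : Type u) [AddCommGroup M] [Module B M] [Module A M] [IsScalarTower A B M]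
    [Module.Flat B M] : ∀ (j : ℕ) (N : Type u) [AddCommGroup N] [Module A N],
      Dim (R := A) j B N → Dim (R := A) j M N := by
  intro j
  induction j with
  | zero =>
    intro N _ _ h
    refine torVanish_symm ?_
    intro L P _ _ _ _ i p hip hp hi
    have h1 : Function.Injective (i.rTensor B) := torVanish_symm h i p hip hp hi
    have h2 : Function.Injective (i.baseChange B) := by
      show Function.Injective (i.lTensor B)
      exact (LinearMap.lTensor_inj_iff_rTensor_inj B i).2 h1
    have h3 : Function.Injective ((i.baseChange B).lTensor M) :=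
      Module.Flat.lTensor_preserves_injective_linearMap _ h2
    refine (LinearMap.lTensor_inj_iff_rTensor_inj M i).1 ?_
    let eL := TensorProduct.AlgebraTensorModule.cancelBaseChange A B B M L
    let eP := TensorProduct.AlgebraTensorModule.cancelBaseChange A B B M P
    have hc : ∀ z, i.lTensor M (eL z) = eP ((i.baseChange B).lTensor M z) := fun z => by
      induction z using TensorProduct.induction_on with
      | zero => simp only [map_zero]
      | add x y hx hy => simp only [map_add, hx, hy]
      | tmul m w =>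
        induction w using TensorProduct.induction_on with
        | zero => simp only [TensorProduct.tmul_zero, map_zero]
        | add x y hx hy => simp only [TensorProduct.tmul_add, map_add, hx, hy]
        | tmul b l => simp [eL, eP, LinearMap.baseChange_tmul]
    intro x y hxy
    obtain ⟨x, rfl⟩ := eL.surjective x
    obtain ⟨y, rfl⟩ := eL.surjective y
    rw [hc, hc] at hxy
    rw [h3 (eP.injective hxy)]
  | succ j ih =>
    intro N _ _ h
    obtain ⟨L', P', _, _, _, _, _, i', p', hip', hp', hi', hd⟩ := h
    exact ⟨L', P', inferInstance, inferInstance, inferInstance, inferInstance, inferInstance, i', p', hip', hp', hi',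
      ih L' hd⟩

/-- Vanishing of `H^i` of `M ⊗^L N`. -/
def Z (N : ModuleCat.{u} A) (K : Dual.D A) (i : ℤ) : Prop :=
  haveI := DCat.hasLTensor N
  IsZero ((DerivedCategory.homologyFunctor (ModuleCat.{u} A) i).obj ((DRing.LTensor A N).obj K))

theorem amp_iff_vanish {a b : ℤ} {K : Dual.D A} :
    DRing.HasTorAmplitudeIn A a b K ↔ ∀ (N : ModuleCat.{u} A) (i : ℤ), i < a ∨ b < i → Z N K i := by
  haveI : ∀ N : ModuleCat.{u} A, DRing.HasLTensor A N := fun N => DCat.hasLTensor N
  exact ⟨fun h N i hi => DCat.vanish_of_flatAmp h N hi, fun h => DCat.flatAmp_of_vanish h⟩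

theorem Z_pos (N : ModuleCat.{u} A) (X : Type u) [AddCommGroup X] [Module A X] {i : ℤ} (hi : 0 < i) :
    Z N (Dual.inD A X) i := by
  haveI := DCat.hasLTensor N
  obtain ⟨P, hP, -, hPb, ⟨e⟩⟩ := DCat.exists_flat_rep (b := 0) (K := Dual.inD A X)
    fun n hn => DerivedCategory.isZero_of_isLE _ 0 n hn
  refine (DCat.isZero_ltensor_iff N hP e i).2 ?_
  exact HomologicalComplex.ExactAt.of_isZero ((tensorRight N).map_isZero (hPb i hi))

/-- A flat module has amplitude `[0, 0]`. -/
theorem amp_of_flat (X : Type u) [AddCommGroup X] [Module A X] [Module.Flat A X] :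
    DRing.HasTorAmplitudeIn A 0 0 (Dual.inD A X) :=
  ⟨(HomologicalComplex.single (ModuleCat.{u} A) (ComplexShape.up ℤ) 0).obj (ModuleCat.of A X),
    fun i hi => HomologicalComplex.isZero_single_obj_X _ _ _ _ (by omega),
    fun i => by
      by_cases hi : i = 0
      · subst hi
        exact Module.Flat.of_linearEquiv (HomologicalComplex.singleObjXSelf (ComplexShape.up ℤ) 0 _).toLinearEquiv
      · haveI := ModuleCat.subsingleton_of_isZero
          (HomologicalComplex.isZero_single_obj_X (ComplexShape.up ℤ) 0 (ModuleCat.of A X) i hi)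
        infer_instance,
    ⟨((DerivedCategory.singleFunctorIsoCompQ (ModuleCat.{u} A) 0).app (ModuleCat.of A X)).symm⟩⟩

/-- A module of amplitude `[0, 0]` is flat. -/
theorem flat_of_amp (X : Type u) [AddCommGroup X] [Module A X]
    (h : DRing.HasTorAmplitudeIn A 0 0 (Dual.inD A X)) : Module.Flat A X := by
  obtain ⟨E, hE, hEf, ⟨i⟩⟩ := h
  haveI : CochainComplex.IsStrictlyGE E 0 := (CochainComplex.isStrictlyGE_iff _ _).2 fun n hn => hE n (Or.inl hn)
  haveI : CochainComplex.IsStrictlyLE E 0 := (CochainComplex.isStrictlyLE_iff _ _).2 fun n hn => hE n (Or.inr hn)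
  obtain ⟨N, ⟨j⟩⟩ := CochainComplex.exists_iso_single E 0
  haveI : Module.Flat A N :=
    haveI : Module.Flat A (E.X 0) := hEf 0
    let eA : E.X 0 ≅ N :=
      HomologicalComplex.Hom.isoApp j 0 ≪≫ HomologicalComplex.singleObjXSelf (ComplexShape.up ℤ) 0 N
    Module.Flat.of_linearEquiv eA.toLinearEquiv.symm
  let k : (DerivedCategory.singleFunctor (ModuleCat.{u} A) 0).obj N ≅
      (DerivedCategory.singleFunctor (ModuleCat.{u} A) 0).obj (ModuleCat.of A X) :=
    (DerivedCategory.singleFunctorIsoCompQ _ 0).app N ≪≫ DerivedCategory.Q.mapIso j.symm ≪≫ i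
  exact Module.Flat.of_linearEquiv
    ((DerivedCategory.singleFunctor (ModuleCat.{u} A) 0).preimageIso k).toLinearEquiv.symm

/-- The triangle of a presentation. -/
theorem exists_pres_triangle (X : Type u) [AddCommGroup X] [Module A X] :
    ∃ (K F : Type u) (_ : AddCommGroup K) (_ : Module A K) (_ : AddCommGroup F) (_ : Module A F) (_ : Module.Flat A F)
      (i : K →ₗ[A] F) (q : F →ₗ[A] X), Function.Exact i q ∧ Function.Surjective q ∧ Function.Injective i ∧
      ∀ N : ModuleCat.{u} A,
        (∀ n, Z N (Dual.inD A F) n → Z N (Dual.inD A K) (n + 1) → Z N (Dual.inD A X) n) ∧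
        (∀ n, Z N (Dual.inD A X) n → Z N (Dual.inD A F) (n + 1) → Z N (Dual.inD A K) (n + 1)) := by
  obtain ⟨K, F, _, _, _, _, _, i, q, hiq, hq, hi⟩ := exists_free_pres (A := A) X
  let S : ShortComplex (ModuleCat.{u} A) := ShortComplex.mk (ModuleCat.ofHom i) (ModuleCat.ofHom q)
    (ModuleCat.hom_ext (LinearMap.ext fun x => hiq.apply_apply_eq_zero x))
  have hS : S.ShortExact :=
    { exact := (ShortComplex.ShortExact.moduleCat_exact_iff_function_exact S).2 hiq
      mono_f := (ModuleCat.mono_iff_injective _).2 hi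
      epi_g := (ModuleCat.epi_iff_surjective _).2 hq }
  refine ⟨K, F, inferInstance, inferInstance, inferInstance, inferInstance, inferInstance, i, q, hiq, hq, hi,
    fun N => ?_⟩
  haveI := DCat.hasLTensor N
  obtain ⟨h₃, -, h₁⟩ := DCat.ltensor_vanish hS.singleTriangle_distinguished N
  exact ⟨h₃, h₁⟩

theorem amp_of_D : ∀ (n : ℕ) (X : Type u) [AddCommGroup X] [Module A X], D (A := A) n X →
    DRing.HasTorAmplitudeIn A (-(n : ℤ)) 0 (Dual.inD A X) := by
  intro n
  induction n with
  | zero =>
    intro X _ _ h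
    haveI : Module.Flat A X := flat_of_dim_zero h
    simpa using amp_of_flat (A := A) X
  | succ n ih =>
    intro X _ _ h
    obtain ⟨K, F, _, _, _, _, _, i, q, hiq, hq, hi, hT⟩ := exists_pres_triangle (A := A) X
    refine amp_iff_vanish.2 fun N m hm => ?_
    rcases hm with hm | hm
    · refine (hT N).1 m (amp_iff_vanish.1 (amp_of_flat F) N m (Or.inl (by omega))) ?_
      exact amp_iff_vanish.1 (ih K fun N _ _ => dim_shift n i q hiq hq hi (h N)) N (m + 1)
        (Or.inl (by push_cast at hm ⊢; omega))
    · exact Z_pos N X hm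

theorem D_of_amp : ∀ (n : ℕ) (X : Type u) [AddCommGroup X] [Module A X],
    DRing.HasTorAmplitudeIn A (-(n : ℤ)) 0 (Dual.inD A X) → D (A := A) n X := by
  intro n
  induction n with
  | zero =>
    intro X _ _ h N _ _
    haveI : Module.Flat A X := flat_of_amp X (by simpa using h)
    exact torVanish_of_flat
  | succ n ih =>
    intro X _ _ h
    obtain ⟨K, F, _, _, _, _, _, i, q, hiq, hq, hi, hT⟩ := exists_pres_triangle (A := A) X
    have hK : DRing.HasTorAmplitudeIn A (-(n : ℤ)) 0 (Dual.inD A K) := by
      refine amp_iff_vanish.2 fun N m hm => ?_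
      rcases hm with hm | hm
      · have h1 := (hT N).2 (m - 1) (amp_iff_vanish.1 h N (m - 1) (Or.inl (by push_cast at hm ⊢; omega)))
          (by rw [Int.sub_add_cancel]; exact amp_iff_vanish.1 (amp_of_flat F) N m (Or.inl (by omega)))
        rwa [Int.sub_add_cancel] at h1
      · exact Z_pos N K hm
    intro N _ _
    exact dim_unshift i q hiq hq hi n N (ih K hK N)

variable (A B) in
/-- Flat modules over an algebra of finite tor dimension. -/
theorem amp_restrict_flat {n : ℕ} (h : DRing.HasTorAmplitudeIn A (-(n : ℤ)) 0 (Dual.inD A B))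
    (M : Type u) [AddCommGroup M] [Module B M] [Module A M] [IsScalarTower A B M] [Module.Flat B M] :
    DRing.HasTorAmplitudeIn A (-(n : ℤ)) 0 (Dual.inD A M) :=
  amp_of_D n M fun N _ _ => dim_transfer M n N (D_of_amp n B h N)

/-- Shifting. -/
theorem amp_shift {K : Dual.D A} {a b : ℤ} (h : DRing.HasTorAmplitudeIn A a b K) (k a' b' : ℤ) (ha : a' + k = a)
    (hb : b' + k = b) : DRing.HasTorAmplitudeIn A a' b' (K⟦k⟧) := by
  obtain ⟨E, hE, hEf, ⟨e⟩⟩ := h
  exact ⟨E⟦k⟧, fun i hi => hE (i + k) (by omega), fun i => hEf (i + k),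
    ⟨((DerivedCategory.Q (C := ModuleCat.{u} A)).commShiftIso k).app E ≪≫ (shiftFunctor (Dual.D A) k).mapIso e⟩⟩

theorem amp_iso {K L : Dual.D A} {a b : ℤ} (e : K ≅ L) (h : DRing.HasTorAmplitudeIn A a b K) :
    DRing.HasTorAmplitudeIn A a b L := by
  obtain ⟨E, hE, hEf, ⟨i⟩⟩ := h
  exact ⟨E, hE, hEf, ⟨i ≪≫ e⟩⟩

theorem amp_of_isZero (C : DRing.Cx A) (hC : IsZero C) (a b : ℤ) : DRing.HasTorAmplitudeIn A a b (DRing.toD C) :=
  ⟨C, fun i _ => (HomologicalComplex.eval _ _ i).map_isZero hC,
    fun i => by
      haveI : Subsingleton (C.X i) := ModuleCat.subsingleton_of_isZero (M := C.X i)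
        ((HomologicalComplex.eval (ModuleCat.{u} A) (ComplexShape.up ℤ) i).map_isZero hC)
      infer_instance,
    ⟨Iso.refl _⟩⟩

/-- Bounded complexes of flat modules over an algebra of finite tor dimension. -/
theorem amp_restrict_cx {A B : Type u} [CommRing A] [CommRing B] (φ : A →+* B) {n : ℕ}
    (h : DRing.HasTorAmplitudeIn A (-(n : ℤ)) 0
      (Dual.inD A ((ModuleCat.restrictScalars.{u} φ).obj (ModuleCat.of B B))))
    (E : DRing.Cx B) {a b : ℤ} (hE : DRing.VanishesOutside E a b) (hf : DRing.TermwiseFlat E) :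
    DRing.HasTorAmplitudeIn A (a - n) b
      (DRing.toD (((ModuleCat.restrictScalars.{u} φ).mapHomologicalComplex (ComplexShape.up ℤ)).obj E)) := by
  letI := φ.toAlgebra
  have hB : DRing.HasTorAmplitudeIn A (-(n : ℤ)) 0 (Dual.inD A B) := by
    let e : ((ModuleCat.restrictScalars.{u} φ).obj (ModuleCat.of B B)) ≅ ModuleCat.of A B :=
      LinearEquiv.toModuleIso (X₁ := (ModuleCat.restrictScalars.{u} φ).obj (ModuleCat.of B B)) (X₂ := ModuleCat.of A B)
        { AddEquiv.refl B with map_smul' := fun _ _ => rfl }
    exact amp_iso ((DerivedCategory.singleFunctor (ModuleCat.{u} A) 0).mapIso e) h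
  let r := (ModuleCat.restrictScalars.{u} φ).mapHomologicalComplex (ComplexShape.up ℤ)
  let P : DRing.Cx B → Prop := fun C =>
    DRing.VanishesOutside C a b → DRing.HasTorAmplitudeIn A (a - n) b (DRing.toD (r.obj C))
  by_cases hab : a ≤ b
  swap
  · exact amp_of_isZero _ (r.map_isZero ((IsZero.iff_id_eq_zero E).2
      (HomologicalComplex.hom_ext _ _ fun i => (hE i (by omega)).eq_of_src _ _))) _ _
  refine DCat.bounded_induction P (fun X => Module.Flat B X) (fun C hC _ => amp_of_isZero _ (r.map_isZero hC) _ _)
    (fun X hX => haveI := ModuleCat.subsingleton_of_isZero hX; inferInstance)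
    (fun X Y e hX => haveI := hX; Module.Flat.of_linearEquiv e.toLinearEquiv.symm)
    (fun j X hX hv => ?_) (fun S hS h1 h3 hv => ?_) a (b + 1 - a).toNat E (fun i hi => hE i (Or.inl hi))
    (fun i hi => hE i (Or.inr (by omega))) hf hE
  · by_cases hj : j < a ∨ b < j
    · have hz : IsZero X := (hv j hj).of_iso (HomologicalComplex.singleObjXSelf (ComplexShape.up ℤ) j X).symm
      exact amp_of_isZero _ (r.map_isZero ((HomologicalComplex.single _ _ j).map_isZero hz)) _ _
    haveI := hX
    letI : Module A X := Module.compHom X φ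
    haveI : IsScalarTower A B X := IsScalarTower.of_algebraMap_smul fun _ _ => rfl
    have h1 := amp_shift (amp_restrict_flat A B hB X) (-j) (j - n) j (by omega) (by omega)
    obtain ⟨G, hG, hGf, ⟨eG⟩⟩ := h1
    let e' : ((ModuleCat.restrictScalars.{u} φ).obj X) ≅ ModuleCat.of A X :=
      LinearEquiv.toModuleIso (X₁ := (ModuleCat.restrictScalars.{u} φ).obj X) (X₂ := ModuleCat.of A X)
        { AddEquiv.refl X with map_smul' := fun _ _ => rfl }
    exact ⟨G, fun i hi => hG i (by omega), hGf, ⟨eG ≪≫
      (((DerivedCategory.singleFunctors (ModuleCat.{u} A)).shiftIso (-j) j 0 (by omega)).app (ModuleCat.of A X)) ≪≫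
      ((DerivedCategory.singleFunctor (ModuleCat.{u} A) j).mapIso e').symm ≪≫
      (DerivedCategory.singleFunctorIsoCompQ (ModuleCat.{u} A) j).app _ ≪≫
      (DerivedCategory.Q.mapIso ((HomologicalComplex.singleMapHomologicalComplex (ModuleCat.restrictScalars.{u} φ)
        (ComplexShape.up ℤ) j).app X)).symm⟩⟩
  · have hv1 : DRing.VanishesOutside S.X₁ a b := fun i hi => by
      obtain ⟨s⟩ := hS i
      haveI : IsSplitMono (S.f.f i) := IsSplitMono.mk' ⟨s.r, s.f_r⟩
      exact IsZero.of_mono (S.f.f i) (hv i hi)
    have hv3 : DRing.VanishesOutside S.X₃ a b := fun i hi => by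
      obtain ⟨s⟩ := hS i
      haveI : IsSplitEpi (S.g.f i) := IsSplitEpi.mk' ⟨s.s, s.s_g⟩
      exact IsZero.of_epi (S.g.f i) (hv i hi)
    have hS' : (S.map r).ShortExact := shortExact_of_degreewise_shortExact _ fun i =>
      ((hS i).some.map (ModuleCat.restrictScalars.{u} φ)).shortExact
    refine amp_iff_vanish.2 fun N i hi => ?_
    haveI := DCat.hasLTensor N
    exact (DCat.ltensor_vanish (DerivedCategory.triangleOfSES_distinguished hS') N).2.1 i
      (amp_iff_vanish.1 (h1 hv1) N i hi) (amp_iff_vanish.1 (h3 hv3) N i hi)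

end Groth.Agent.FlatCx12.TorAmpComp
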